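import Cfsg.Agent.Lib.Helper9.TCData.X1690.Main

set_option autoImplicit false
set_option maxRecDepth 1000000

namespace Cfsg.Agent.Helper9.TCData.X1690
open Cfsg.Agent.Helper9.TC2

theorem e0_10 : allRange 21027 1585 (fun u => chkE tab 0 u) = true := by decide +kernel

theorem e0_11 : allRange 22612 1589 (fun u => chkE tab 0 u) = true := by decide +kernel

theorem e0_12 : allRange 24201 3091 (fun u => chkE tab 0 u) = true := by decide +kernel

theorem e0_13 : allRange 27292 1575 (fun u => chkE tab 0 u) = true := by decide +kernel

theorem e0_14 : allRange 28867 1633 (fun u => chkE tab 0 u) = true := by decide +kernel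

theorem e0_15 : allRange 30500 1598 (fun u => chkE tab 0 u) = true := by decide +kernel

theorem e0_16 : allRange 32098 2887 (fun u => chkE tab 0 u) = true := by decide +kernel

theorem e0_17 : allRange 34985 2383 (fun u => chkE tab 0 u) = true := by decide +kernel

theorem e0_18 : allRange 37368 1599 (fun u => chkE tab 0 u) = true := by decide +kernel

theorem e0_19 : allRange 38967 1663 (fun u => chkE tab 0 u) = true := by decide +kernel


end Cfsg.Agent.Helper9.TCData.X1690
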