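import Cfsg.Agent.Lib.Helper9.TCData.X1690.Main

set_option autoImplicit false
set_option maxRecDepth 1000000

namespace Cfsg.Agent.Helper9.TCData.X1690
open Cfsg.Agent.Helper9.TC2

theorem e0_100 : allRange 227923 1852 (fun u => chkE tab 0 u) = true := by decide +kernel

theorem e0_101 : allRange 229775 1726 (fun u => chkE tab 0 u) = true := by decide +kernel

theorem e0_102 : allRange 231501 1577 (fun u => chkE tab 0 u) = true := by decide +kernel

theorem e0_103 : allRange 233078 1534 (fun u => chkE tab 0 u) = true := by decide +kernel

theorem e0_104 : allRange 234612 1592 (fun u => chkE tab 0 u) = true := by decide +kernel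

theorem e0_105 : allRange 236204 3697 (fun u => chkE tab 0 u) = true := by decide +kernel

theorem e0_106 : allRange 239901 6069 (fun u => chkE tab 0 u) = true := by decide +kernel

theorem e0_107 : allRange 245970 1636 (fun u => chkE tab 0 u) = true := by decide +kernel

theorem e0_108 : allRange 247606 1651 (fun u => chkE tab 0 u) = true := by decide +kernel

theorem e0_109 : allRange 249257 1604 (fun u => chkE tab 0 u) = true := by decide +kernel


end Cfsg.Agent.Helper9.TCData.X1690
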