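import Cfsg.Agent.Lib.Helper9.TCData.X1690.Main

set_option autoImplicit false
set_option maxRecDepth 1000000

namespace Cfsg.Agent.Helper9.TCData.X1690
open Cfsg.Agent.Helper9.TC2

theorem e6_16 : allRange 36335 2216 (fun u => chkE tab 6 u) = true := by decide +kernel

theorem e6_17 : allRange 38551 2259 (fun u => chkE tab 6 u) = true := by decide +kernel

theorem e6_18 : allRange 40810 2236 (fun u => chkE tab 6 u) = true := by decide +kernel

theorem e6_19 : allRange 43046 2308 (fun u => chkE tab 6 u) = true := by decide +kernel

theorem e6_20 : allRange 45354 2297 (fun u => chkE tab 6 u) = true := by decide +kernel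

theorem e6_21 : allRange 47651 2279 (fun u => chkE tab 6 u) = true := by decide +kernel

theorem e6_22 : allRange 49930 2315 (fun u => chkE tab 6 u) = true := by decide +kernel

theorem e6_23 : allRange 52245 2288 (fun u => chkE tab 6 u) = true := by decide +kernel

theorem e6_24 : allRange 54533 2274 (fun u => chkE tab 6 u) = true := by decide +kernel

theorem e6_25 : allRange 56807 2301 (fun u => chkE tab 6 u) = true := by decide +kernel


end Cfsg.Agent.Helper9.TCData.X1690
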