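import Cfsg.Agent.Lib.Helper9.TCData.X1690.Main

set_option autoImplicit false
set_option maxRecDepth 1000000

namespace Cfsg.Agent.Helper9.TCData.X1690
open Cfsg.Agent.Helper9.TC2

theorem m2_5317 : allRange 228631 43 (fun u => chkFix tab mwordsA u) = true := by decide +kernel

theorem m2_5318 : allRange 228674 43 (fun u => chkFix tab mwordsA u) = true := by decide +kernel

theorem m2_5319 : allRange 228717 43 (fun u => chkFix tab mwordsA u) = true := by decide +kernel

theorem m2_5320 : allRange 228760 43 (fun u => chkFix tab mwordsA u) = true := by decide +kernel

theorem m2_5321 : allRange 228803 43 (fun u => chkFix tab mwordsA u) = true := by decide +kernel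

theorem m2_5322 : allRange 228846 43 (fun u => chkFix tab mwordsA u) = true := by decide +kernel

theorem m2_5323 : allRange 228889 43 (fun u => chkFix tab mwordsA u) = true := by decide +kernel

theorem m2_5324 : allRange 228932 43 (fun u => chkFix tab mwordsA u) = true := by decide +kernel

theorem m2_5325 : allRange 228975 43 (fun u => chkFix tab mwordsA u) = true := by decide +kernel

theorem m2_5326 : allRange 229018 43 (fun u => chkFix tab mwordsA u) = true := by decide +kernel


end Cfsg.Agent.Helper9.TCData.X1690
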