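import Cfsg.Agent.Lib.Helper9.TCData.X1690.Main

set_option autoImplicit false
set_option maxRecDepth 1000000

namespace Cfsg.Agent.Helper9.TCData.X1690
open Cfsg.Agent.Helper9.TC2

theorem m2_5327 : allRange 229061 43 (fun u => chkFix tab mwordsA u) = true := by decide +kernel

theorem m2_5328 : allRange 229104 43 (fun u => chkFix tab mwordsA u) = true := by decide +kernel

theorem m2_5329 : allRange 229147 43 (fun u => chkFix tab mwordsA u) = true := by decide +kernel

theorem m2_5330 : allRange 229190 43 (fun u => chkFix tab mwordsA u) = true := by decide +kernel

theorem m2_5331 : allRange 229233 43 (fun u => chkFix tab mwordsA u) = true := by decide +kernel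

theorem m2_5332 : allRange 229276 43 (fun u => chkFix tab mwordsA u) = true := by decide +kernel

theorem m2_5333 : allRange 229319 43 (fun u => chkFix tab mwordsA u) = true := by decide +kernel

theorem m2_5334 : allRange 229362 43 (fun u => chkFix tab mwordsA u) = true := by decide +kernel

theorem m2_5335 : allRange 229405 43 (fun u => chkFix tab mwordsA u) = true := by decide +kernel

theorem m2_5336 : allRange 229448 43 (fun u => chkFix tab mwordsA u) = true := by decide +kernel


end Cfsg.Agent.Helper9.TCData.X1690
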