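import Cfsg.Agent.Lib.Helper9.TCData.X1690.Main

set_option autoImplicit false
set_option maxRecDepth 1000000

namespace Cfsg.Agent.Helper9.TCData.X1690
open Cfsg.Agent.Helper9.TC2

theorem m2_5337 : allRange 229491 43 (fun u => chkFix tab mwordsA u) = true := by decide +kernel

theorem m2_5338 : allRange 229534 43 (fun u => chkFix tab mwordsA u) = true := by decide +kernel

theorem m2_5339 : allRange 229577 43 (fun u => chkFix tab mwordsA u) = true := by decide +kernel

theorem m2_5340 : allRange 229620 43 (fun u => chkFix tab mwordsA u) = true := by decide +kernel

theorem m2_5341 : allRange 229663 43 (fun u => chkFix tab mwordsA u) = true := by decide +kernel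

theorem m2_5342 : allRange 229706 43 (fun u => chkFix tab mwordsA u) = true := by decide +kernel

theorem m2_5343 : allRange 229749 43 (fun u => chkFix tab mwordsA u) = true := by decide +kernel

theorem m2_5344 : allRange 229792 43 (fun u => chkFix tab mwordsA u) = true := by decide +kernel

theorem m2_5345 : allRange 229835 43 (fun u => chkFix tab mwordsA u) = true := by decide +kernel

theorem m2_5346 : allRange 229878 43 (fun u => chkFix tab mwordsA u) = true := by decide +kernel


end Cfsg.Agent.Helper9.TCData.X1690
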