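import Cfsg.Agent.Lib.Helper9.TCData.X1690.Main

set_option autoImplicit false
set_option maxRecDepth 1000000

namespace Cfsg.Agent.Helper9.TCData.X1690
open Cfsg.Agent.Helper9.TC2

theorem m2_5347 : allRange 229921 43 (fun u => chkFix tab mwordsA u) = true := by decide +kernel

theorem m2_5348 : allRange 229964 43 (fun u => chkFix tab mwordsA u) = true := by decide +kernel

theorem m2_5349 : allRange 230007 43 (fun u => chkFix tab mwordsA u) = true := by decide +kernel

theorem m2_5350 : allRange 230050 43 (fun u => chkFix tab mwordsA u) = true := by decide +kernel

theorem m2_5351 : allRange 230093 43 (fun u => chkFix tab mwordsA u) = true := by decide +kernel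

theorem m2_5352 : allRange 230136 43 (fun u => chkFix tab mwordsA u) = true := by decide +kernel

theorem m2_5353 : allRange 230179 43 (fun u => chkFix tab mwordsA u) = true := by decide +kernel

theorem m2_5354 : allRange 230222 43 (fun u => chkFix tab mwordsA u) = true := by decide +kernel

theorem m2_5355 : allRange 230265 43 (fun u => chkFix tab mwordsA u) = true := by decide +kernel

theorem m2_5356 : allRange 230308 43 (fun u => chkFix tab mwordsA u) = true := by decide +kernel


end Cfsg.Agent.Helper9.TCData.X1690
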