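import Cfsg.Agent.Lib.Helper9.TCData.X1690.Main

set_option autoImplicit false
set_option maxRecDepth 1000000

namespace Cfsg.Agent.Helper9.TCData.X1690
open Cfsg.Agent.Helper9.TC2

theorem m2_5357 : allRange 230351 43 (fun u => chkFix tab mwordsA u) = true := by decide +kernel

theorem m2_5358 : allRange 230394 43 (fun u => chkFix tab mwordsA u) = true := by decide +kernel

theorem m2_5359 : allRange 230437 43 (fun u => chkFix tab mwordsA u) = true := by decide +kernel

theorem m2_5360 : allRange 230480 43 (fun u => chkFix tab mwordsA u) = true := by decide +kernel

theorem m2_5361 : allRange 230523 43 (fun u => chkFix tab mwordsA u) = true := by decide +kernel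

theorem m2_5362 : allRange 230566 43 (fun u => chkFix tab mwordsA u) = true := by decide +kernel

theorem m2_5363 : allRange 230609 43 (fun u => chkFix tab mwordsA u) = true := by decide +kernel

theorem m2_5364 : allRange 230652 43 (fun u => chkFix tab mwordsA u) = true := by decide +kernel

theorem m2_5365 : allRange 230695 43 (fun u => chkFix tab mwordsA u) = true := by decide +kernel

theorem m2_5366 : allRange 230738 43 (fun u => chkFix tab mwordsA u) = true := by decide +kernel


end Cfsg.Agent.Helper9.TCData.X1690
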