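import Cfsg.Agent.Lib.Helper9.TCData.X1690.Main

set_option autoImplicit false
set_option maxRecDepth 1000000

namespace Cfsg.Agent.Helper9.TCData.X1690
open Cfsg.Agent.Helper9.TC2

theorem m2_5367 : allRange 230781 43 (fun u => chkFix tab mwordsA u) = true := by decide +kernel

theorem m2_5368 : allRange 230824 43 (fun u => chkFix tab mwordsA u) = true := by decide +kernel

theorem m2_5369 : allRange 230867 43 (fun u => chkFix tab mwordsA u) = true := by decide +kernel

theorem m2_5370 : allRange 230910 43 (fun u => chkFix tab mwordsA u) = true := by decide +kernel

theorem m2_5371 : allRange 230953 43 (fun u => chkFix tab mwordsA u) = true := by decide +kernel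

theorem m2_5372 : allRange 230996 43 (fun u => chkFix tab mwordsA u) = true := by decide +kernel

theorem m2_5373 : allRange 231039 43 (fun u => chkFix tab mwordsA u) = true := by decide +kernel

theorem m2_5374 : allRange 231082 43 (fun u => chkFix tab mwordsA u) = true := by decide +kernel

theorem m2_5375 : allRange 231125 43 (fun u => chkFix tab mwordsA u) = true := by decide +kernel

theorem m2_5376 : allRange 231168 43 (fun u => chkFix tab mwordsA u) = true := by decide +kernel


end Cfsg.Agent.Helper9.TCData.X1690
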