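import Cfsg.Agent.Lib.Helper9.TCData.X1690.Main

set_option autoImplicit false
set_option maxRecDepth 1000000

namespace Cfsg.Agent.Helper9.TCData.X1690
open Cfsg.Agent.Helper9.TC2

theorem m2_5377 : allRange 231211 43 (fun u => chkFix tab mwordsA u) = true := by decide +kernel

theorem m2_5378 : allRange 231254 43 (fun u => chkFix tab mwordsA u) = true := by decide +kernel

theorem m2_5379 : allRange 231297 43 (fun u => chkFix tab mwordsA u) = true := by decide +kernel

theorem m2_5380 : allRange 231340 43 (fun u => chkFix tab mwordsA u) = true := by decide +kernel

theorem m2_5381 : allRange 231383 43 (fun u => chkFix tab mwordsA u) = true := by decide +kernel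

theorem m2_5382 : allRange 231426 43 (fun u => chkFix tab mwordsA u) = true := by decide +kernel

theorem m2_5383 : allRange 231469 43 (fun u => chkFix tab mwordsA u) = true := by decide +kernel

theorem m2_5384 : allRange 231512 43 (fun u => chkFix tab mwordsA u) = true := by decide +kernel

theorem m2_5385 : allRange 231555 43 (fun u => chkFix tab mwordsA u) = true := by decide +kernel

theorem m2_5386 : allRange 231598 43 (fun u => chkFix tab mwordsA u) = true := by decide +kernel


end Cfsg.Agent.Helper9.TCData.X1690
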