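import Cfsg.Agent.Lib.Helper9.TCData.X1690.Main

set_option autoImplicit false
set_option maxRecDepth 1000000

namespace Cfsg.Agent.Helper9.TCData.X1690
open Cfsg.Agent.Helper9.TC2

theorem m2_5387 : allRange 231641 43 (fun u => chkFix tab mwordsA u) = true := by decide +kernel

theorem m2_5388 : allRange 231684 43 (fun u => chkFix tab mwordsA u) = true := by decide +kernel

theorem m2_5389 : allRange 231727 43 (fun u => chkFix tab mwordsA u) = true := by decide +kernel

theorem m2_5390 : allRange 231770 43 (fun u => chkFix tab mwordsA u) = true := by decide +kernel

theorem m2_5391 : allRange 231813 43 (fun u => chkFix tab mwordsA u) = true := by decide +kernel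

theorem m2_5392 : allRange 231856 43 (fun u => chkFix tab mwordsA u) = true := by decide +kernel

theorem m2_5393 : allRange 231899 43 (fun u => chkFix tab mwordsA u) = true := by decide +kernel

theorem m2_5394 : allRange 231942 43 (fun u => chkFix tab mwordsA u) = true := by decide +kernel

theorem m2_5395 : allRange 231985 43 (fun u => chkFix tab mwordsA u) = true := by decide +kernel

theorem m2_5396 : allRange 232028 43 (fun u => chkFix tab mwordsA u) = true := by decide +kernel


end Cfsg.Agent.Helper9.TCData.X1690
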