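import Cfsg.Agent.Lib.Helper9.TCData.X1690.Main

set_option autoImplicit false
set_option maxRecDepth 1000000

namespace Cfsg.Agent.Helper9.TCData.X1690
open Cfsg.Agent.Helper9.TC2

theorem m2_5407 : allRange 232501 43 (fun u => chkFix tab mwordsA u) = true := by decide +kernel

theorem m2_5408 : allRange 232544 43 (fun u => chkFix tab mwordsA u) = true := by decide +kernel

theorem m2_5409 : allRange 232587 43 (fun u => chkFix tab mwordsA u) = true := by decide +kernel

theorem m2_5410 : allRange 232630 43 (fun u => chkFix tab mwordsA u) = true := by decide +kernel

theorem m2_5411 : allRange 232673 43 (fun u => chkFix tab mwordsA u) = true := by decide +kernel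

theorem m2_5412 : allRange 232716 43 (fun u => chkFix tab mwordsA u) = true := by decide +kernel

theorem m2_5413 : allRange 232759 43 (fun u => chkFix tab mwordsA u) = true := by decide +kernel

theorem m2_5414 : allRange 232802 43 (fun u => chkFix tab mwordsA u) = true := by decide +kernel

theorem m2_5415 : allRange 232845 43 (fun u => chkFix tab mwordsA u) = true := by decide +kernel

theorem m2_5416 : allRange 232888 43 (fun u => chkFix tab mwordsA u) = true := by decide +kernel


end Cfsg.Agent.Helper9.TCData.X1690
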