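import Cfsg.Agent.Lib.Helper9.TCData.X1690.Main

set_option autoImplicit false
set_option maxRecDepth 1000000

namespace Cfsg.Agent.Helper9.TCData.X1690
open Cfsg.Agent.Helper9.TC2

theorem e6_26 : allRange 59108 2275 (fun u => chkE tab 6 u) = true := by decide +kernel

theorem e6_27 : allRange 61383 2434 (fun u => chkE tab 6 u) = true := by decide +kernel

theorem e6_28 : allRange 63817 2301 (fun u => chkE tab 6 u) = true := by decide +kernel

theorem e6_29 : allRange 66118 2299 (fun u => chkE tab 6 u) = true := by decide +kernel

theorem e6_30 : allRange 68417 2367 (fun u => chkE tab 6 u) = true := by decide +kernel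

theorem e6_31 : allRange 70784 2347 (fun u => chkE tab 6 u) = true := by decide +kernel

theorem e6_32 : allRange 73131 2350 (fun u => chkE tab 6 u) = true := by decide +kernel

theorem e6_33 : allRange 75481 2284 (fun u => chkE tab 6 u) = true := by decide +kernel

theorem e6_34 : allRange 77765 2264 (fun u => chkE tab 6 u) = true := by decide +kernel

theorem e6_35 : allRange 80029 2381 (fun u => chkE tab 6 u) = true := by decide +kernel


end Cfsg.Agent.Helper9.TCData.X1690
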