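import Cfsg.Agent.Lib.Helper9.TCData.X1690.Main

set_option autoImplicit false
set_option maxRecDepth 1000000

namespace Cfsg.Agent.Helper9.TCData.X1690
open Cfsg.Agent.Helper9.TC2

theorem m2_5417 : allRange 232931 43 (fun u => chkFix tab mwordsA u) = true := by decide +kernel

theorem m2_5418 : allRange 232974 43 (fun u => chkFix tab mwordsA u) = true := by decide +kernel

theorem m2_5419 : allRange 233017 43 (fun u => chkFix tab mwordsA u) = true := by decide +kernel

theorem m2_5420 : allRange 233060 43 (fun u => chkFix tab mwordsA u) = true := by decide +kernel

theorem m2_5421 : allRange 233103 43 (fun u => chkFix tab mwordsA u) = true := by decide +kernel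

theorem m2_5422 : allRange 233146 43 (fun u => chkFix tab mwordsA u) = true := by decide +kernel

theorem m2_5423 : allRange 233189 43 (fun u => chkFix tab mwordsA u) = true := by decide +kernel

theorem m2_5424 : allRange 233232 43 (fun u => chkFix tab mwordsA u) = true := by decide +kernel

theorem m2_5425 : allRange 233275 43 (fun u => chkFix tab mwordsA u) = true := by decide +kernel

theorem m2_5426 : allRange 233318 43 (fun u => chkFix tab mwordsA u) = true := by decide +kernel


end Cfsg.Agent.Helper9.TCData.X1690
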