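import Cfsg.Agent.Lib.Helper9.TCData.X1690.Main

set_option autoImplicit false
set_option maxRecDepth 1000000

namespace Cfsg.Agent.Helper9.TCData.X1690
open Cfsg.Agent.Helper9.TC2

theorem m2_5427 : allRange 233361 43 (fun u => chkFix tab mwordsA u) = true := by decide +kernel

theorem m2_5428 : allRange 233404 43 (fun u => chkFix tab mwordsA u) = true := by decide +kernel

theorem m2_5429 : allRange 233447 43 (fun u => chkFix tab mwordsA u) = true := by decide +kernel

theorem m2_5430 : allRange 233490 43 (fun u => chkFix tab mwordsA u) = true := by decide +kernel

theorem m2_5431 : allRange 233533 43 (fun u => chkFix tab mwordsA u) = true := by decide +kernel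

theorem m2_5432 : allRange 233576 43 (fun u => chkFix tab mwordsA u) = true := by decide +kernel

theorem m2_5433 : allRange 233619 43 (fun u => chkFix tab mwordsA u) = true := by decide +kernel

theorem m2_5434 : allRange 233662 43 (fun u => chkFix tab mwordsA u) = true := by decide +kernel

theorem m2_5435 : allRange 233705 43 (fun u => chkFix tab mwordsA u) = true := by decide +kernel

theorem m2_5436 : allRange 233748 43 (fun u => chkFix tab mwordsA u) = true := by decide +kernel


end Cfsg.Agent.Helper9.TCData.X1690
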