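import Cfsg.Agent.Lib.Helper9.TCData.X1690.Main

set_option autoImplicit false
set_option maxRecDepth 1000000

namespace Cfsg.Agent.Helper9.TCData.X1690
open Cfsg.Agent.Helper9.TC2

theorem m2_5437 : allRange 233791 43 (fun u => chkFix tab mwordsA u) = true := by decide +kernel

theorem m2_5438 : allRange 233834 43 (fun u => chkFix tab mwordsA u) = true := by decide +kernel

theorem m2_5439 : allRange 233877 43 (fun u => chkFix tab mwordsA u) = true := by decide +kernel

theorem m2_5440 : allRange 233920 43 (fun u => chkFix tab mwordsA u) = true := by decide +kernel

theorem m2_5441 : allRange 233963 43 (fun u => chkFix tab mwordsA u) = true := by decide +kernel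

theorem m2_5442 : allRange 234006 43 (fun u => chkFix tab mwordsA u) = true := by decide +kernel

theorem m2_5443 : allRange 234049 43 (fun u => chkFix tab mwordsA u) = true := by decide +kernel

theorem m2_5444 : allRange 234092 43 (fun u => chkFix tab mwordsA u) = true := by decide +kernel

theorem m2_5445 : allRange 234135 43 (fun u => chkFix tab mwordsA u) = true := by decide +kernel

theorem m2_5446 : allRange 234178 43 (fun u => chkFix tab mwordsA u) = true := by decide +kernel


end Cfsg.Agent.Helper9.TCData.X1690
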