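import Cfsg.Agent.Lib.Helper9.TCData.X1690.Main

set_option autoImplicit false
set_option maxRecDepth 1000000

namespace Cfsg.Agent.Helper9.TCData.X1690
open Cfsg.Agent.Helper9.TC2

theorem m2_5447 : allRange 234221 43 (fun u => chkFix tab mwordsA u) = true := by decide +kernel

theorem m2_5448 : allRange 234264 43 (fun u => chkFix tab mwordsA u) = true := by decide +kernel

theorem m2_5449 : allRange 234307 43 (fun u => chkFix tab mwordsA u) = true := by decide +kernel

theorem m2_5450 : allRange 234350 43 (fun u => chkFix tab mwordsA u) = true := by decide +kernel

theorem m2_5451 : allRange 234393 43 (fun u => chkFix tab mwordsA u) = true := by decide +kernel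

theorem m2_5452 : allRange 234436 43 (fun u => chkFix tab mwordsA u) = true := by decide +kernel

theorem m2_5453 : allRange 234479 43 (fun u => chkFix tab mwordsA u) = true := by decide +kernel

theorem m2_5454 : allRange 234522 43 (fun u => chkFix tab mwordsA u) = true := by decide +kernel

theorem m2_5455 : allRange 234565 43 (fun u => chkFix tab mwordsA u) = true := by decide +kernel

theorem m2_5456 : allRange 234608 43 (fun u => chkFix tab mwordsA u) = true := by decide +kernel


end Cfsg.Agent.Helper9.TCData.X1690
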