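import Cfsg.Agent.Lib.Helper9.TCData.X1690.Main

set_option autoImplicit false
set_option maxRecDepth 1000000

namespace Cfsg.Agent.Helper9.TCData.X1690
open Cfsg.Agent.Helper9.TC2

theorem m2_5457 : allRange 234651 43 (fun u => chkFix tab mwordsA u) = true := by decide +kernel

theorem m2_5458 : allRange 234694 43 (fun u => chkFix tab mwordsA u) = true := by decide +kernel

theorem m2_5459 : allRange 234737 43 (fun u => chkFix tab mwordsA u) = true := by decide +kernel

theorem m2_5460 : allRange 234780 43 (fun u => chkFix tab mwordsA u) = true := by decide +kernel

theorem m2_5461 : allRange 234823 43 (fun u => chkFix tab mwordsA u) = true := by decide +kernel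

theorem m2_5462 : allRange 234866 43 (fun u => chkFix tab mwordsA u) = true := by decide +kernel

theorem m2_5463 : allRange 234909 43 (fun u => chkFix tab mwordsA u) = true := by decide +kernel

theorem m2_5464 : allRange 234952 43 (fun u => chkFix tab mwordsA u) = true := by decide +kernel

theorem m2_5465 : allRange 234995 43 (fun u => chkFix tab mwordsA u) = true := by decide +kernel

theorem m2_5466 : allRange 235038 43 (fun u => chkFix tab mwordsA u) = true := by decide +kernel


end Cfsg.Agent.Helper9.TCData.X1690
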