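import Cfsg.Agent.Lib.Helper9.TCData.X1690.Main

set_option autoImplicit false
set_option maxRecDepth 1000000

namespace Cfsg.Agent.Helper9.TCData.X1690
open Cfsg.Agent.Helper9.TC2

theorem m2_5467 : allRange 235081 43 (fun u => chkFix tab mwordsA u) = true := by decide +kernel

theorem m2_5468 : allRange 235124 43 (fun u => chkFix tab mwordsA u) = true := by decide +kernel

theorem m2_5469 : allRange 235167 43 (fun u => chkFix tab mwordsA u) = true := by decide +kernel

theorem m2_5470 : allRange 235210 43 (fun u => chkFix tab mwordsA u) = true := by decide +kernel

theorem m2_5471 : allRange 235253 43 (fun u => chkFix tab mwordsA u) = true := by decide +kernel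

theorem m2_5472 : allRange 235296 43 (fun u => chkFix tab mwordsA u) = true := by decide +kernel

theorem m2_5473 : allRange 235339 43 (fun u => chkFix tab mwordsA u) = true := by decide +kernel

theorem m2_5474 : allRange 235382 43 (fun u => chkFix tab mwordsA u) = true := by decide +kernel

theorem m2_5475 : allRange 235425 43 (fun u => chkFix tab mwordsA u) = true := by decide +kernel

theorem m2_5476 : allRange 235468 43 (fun u => chkFix tab mwordsA u) = true := by decide +kernel


end Cfsg.Agent.Helper9.TCData.X1690
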