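import Cfsg.Agent.Lib.Helper9.TCData.X1690.Main

set_option autoImplicit false
set_option maxRecDepth 1000000

namespace Cfsg.Agent.Helper9.TCData.X1690
open Cfsg.Agent.Helper9.TC2

theorem m2_5477 : allRange 235511 43 (fun u => chkFix tab mwordsA u) = true := by decide +kernel

theorem m2_5478 : allRange 235554 43 (fun u => chkFix tab mwordsA u) = true := by decide +kernel

theorem m2_5479 : allRange 235597 43 (fun u => chkFix tab mwordsA u) = true := by decide +kernel

theorem m2_5480 : allRange 235640 43 (fun u => chkFix tab mwordsA u) = true := by decide +kernel

theorem m2_5481 : allRange 235683 43 (fun u => chkFix tab mwordsA u) = true := by decide +kernel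

theorem m2_5482 : allRange 235726 43 (fun u => chkFix tab mwordsA u) = true := by decide +kernel

theorem m2_5483 : allRange 235769 43 (fun u => chkFix tab mwordsA u) = true := by decide +kernel

theorem m2_5484 : allRange 235812 43 (fun u => chkFix tab mwordsA u) = true := by decide +kernel

theorem m2_5485 : allRange 235855 43 (fun u => chkFix tab mwordsA u) = true := by decide +kernel

theorem m2_5486 : allRange 235898 43 (fun u => chkFix tab mwordsA u) = true := by decide +kernel


end Cfsg.Agent.Helper9.TCData.X1690
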