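import Cfsg.Agent.Lib.Helper9.TCData.X1690.Main

set_option autoImplicit false
set_option maxRecDepth 1000000

namespace Cfsg.Agent.Helper9.TCData.X1690
open Cfsg.Agent.Helper9.TC2

theorem m2_5487 : allRange 235941 43 (fun u => chkFix tab mwordsA u) = true := by decide +kernel

theorem m2_5488 : allRange 235984 43 (fun u => chkFix tab mwordsA u) = true := by decide +kernel

theorem m2_5489 : allRange 236027 43 (fun u => chkFix tab mwordsA u) = true := by decide +kernel

theorem m2_5490 : allRange 236070 43 (fun u => chkFix tab mwordsA u) = true := by decide +kernel

theorem m2_5491 : allRange 236113 43 (fun u => chkFix tab mwordsA u) = true := by decide +kernel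

theorem m2_5492 : allRange 236156 43 (fun u => chkFix tab mwordsA u) = true := by decide +kernel

theorem m2_5493 : allRange 236199 43 (fun u => chkFix tab mwordsA u) = true := by decide +kernel

theorem m2_5494 : allRange 236242 43 (fun u => chkFix tab mwordsA u) = true := by decide +kernel

theorem m2_5495 : allRange 236285 43 (fun u => chkFix tab mwordsA u) = true := by decide +kernel

theorem m2_5496 : allRange 236328 43 (fun u => chkFix tab mwordsA u) = true := by decide +kernel


end Cfsg.Agent.Helper9.TCData.X1690
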