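import Cfsg.Agent.Lib.Helper9.TCData.X1690.Main

set_option autoImplicit false
set_option maxRecDepth 1000000

namespace Cfsg.Agent.Helper9.TCData.X1690
open Cfsg.Agent.Helper9.TC2

theorem m2_5497 : allRange 236371 43 (fun u => chkFix tab mwordsA u) = true := by decide +kernel

theorem m2_5498 : allRange 236414 43 (fun u => chkFix tab mwordsA u) = true := by decide +kernel

theorem m2_5499 : allRange 236457 43 (fun u => chkFix tab mwordsA u) = true := by decide +kernel

theorem m2_5500 : allRange 236500 43 (fun u => chkFix tab mwordsA u) = true := by decide +kernel

theorem m2_5501 : allRange 236543 43 (fun u => chkFix tab mwordsA u) = true := by decide +kernel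

theorem m2_5502 : allRange 236586 43 (fun u => chkFix tab mwordsA u) = true := by decide +kernel

theorem m2_5503 : allRange 236629 43 (fun u => chkFix tab mwordsA u) = true := by decide +kernel

theorem m2_5504 : allRange 236672 43 (fun u => chkFix tab mwordsA u) = true := by decide +kernel

theorem m2_5505 : allRange 236715 43 (fun u => chkFix tab mwordsA u) = true := by decide +kernel

theorem m2_5506 : allRange 236758 43 (fun u => chkFix tab mwordsA u) = true := by decide +kernel


end Cfsg.Agent.Helper9.TCData.X1690
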