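import Cfsg.Agent.Lib.Helper9.TCData.X1690.Main

set_option autoImplicit false
set_option maxRecDepth 1000000

namespace Cfsg.Agent.Helper9.TCData.X1690
open Cfsg.Agent.Helper9.TC2

theorem m2_5507 : allRange 236801 43 (fun u => chkFix tab mwordsA u) = true := by decide +kernel

theorem m2_5508 : allRange 236844 43 (fun u => chkFix tab mwordsA u) = true := by decide +kernel

theorem m2_5509 : allRange 236887 43 (fun u => chkFix tab mwordsA u) = true := by decide +kernel

theorem m2_5510 : allRange 236930 43 (fun u => chkFix tab mwordsA u) = true := by decide +kernel

theorem m2_5511 : allRange 236973 43 (fun u => chkFix tab mwordsA u) = true := by decide +kernel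

theorem m2_5512 : allRange 237016 43 (fun u => chkFix tab mwordsA u) = true := by decide +kernel

theorem m2_5513 : allRange 237059 43 (fun u => chkFix tab mwordsA u) = true := by decide +kernel

theorem m2_5514 : allRange 237102 43 (fun u => chkFix tab mwordsA u) = true := by decide +kernel

theorem m2_5515 : allRange 237145 43 (fun u => chkFix tab mwordsA u) = true := by decide +kernel

theorem m2_5516 : allRange 237188 43 (fun u => chkFix tab mwordsA u) = true := by decide +kernel


end Cfsg.Agent.Helper9.TCData.X1690
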