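import Cfsg.Agent.Lib.Helper9.TCData.X1690.Main

set_option autoImplicit false
set_option maxRecDepth 1000000

namespace Cfsg.Agent.Helper9.TCData.X1690
open Cfsg.Agent.Helper9.TC2

theorem e6_36 : allRange 82410 2302 (fun u => chkE tab 6 u) = true := by decide +kernel

theorem e6_37 : allRange 84712 2395 (fun u => chkE tab 6 u) = true := by decide +kernel

theorem e6_38 : allRange 87107 2417 (fun u => chkE tab 6 u) = true := by decide +kernel

theorem e6_39 : allRange 89524 2388 (fun u => chkE tab 6 u) = true := by decide +kernel

theorem e6_40 : allRange 91912 2330 (fun u => chkE tab 6 u) = true := by decide +kernel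

theorem e6_41 : allRange 94242 2332 (fun u => chkE tab 6 u) = true := by decide +kernel

theorem e6_42 : allRange 96574 2554 (fun u => chkE tab 6 u) = true := by decide +kernel

theorem e6_43 : allRange 99128 2307 (fun u => chkE tab 6 u) = true := by decide +kernel

theorem e6_44 : allRange 101435 2385 (fun u => chkE tab 6 u) = true := by decide +kernel

theorem e6_45 : allRange 103820 2370 (fun u => chkE tab 6 u) = true := by decide +kernel


end Cfsg.Agent.Helper9.TCData.X1690
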