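import Cfsg.Agent.Lib.Helper9.TCData.X1690.Main

set_option autoImplicit false
set_option maxRecDepth 1000000

namespace Cfsg.Agent.Helper9.TCData.X1690
open Cfsg.Agent.Helper9.TC2

theorem m2_5527 : allRange 237661 43 (fun u => chkFix tab mwordsA u) = true := by decide +kernel

theorem m2_5528 : allRange 237704 43 (fun u => chkFix tab mwordsA u) = true := by decide +kernel

theorem m2_5529 : allRange 237747 43 (fun u => chkFix tab mwordsA u) = true := by decide +kernel

theorem m2_5530 : allRange 237790 43 (fun u => chkFix tab mwordsA u) = true := by decide +kernel

theorem m2_5531 : allRange 237833 43 (fun u => chkFix tab mwordsA u) = true := by decide +kernel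

theorem m2_5532 : allRange 237876 43 (fun u => chkFix tab mwordsA u) = true := by decide +kernel

theorem m2_5533 : allRange 237919 43 (fun u => chkFix tab mwordsA u) = true := by decide +kernel

theorem m2_5534 : allRange 237962 43 (fun u => chkFix tab mwordsA u) = true := by decide +kernel

theorem m2_5535 : allRange 238005 43 (fun u => chkFix tab mwordsA u) = true := by decide +kernel

theorem m2_5536 : allRange 238048 43 (fun u => chkFix tab mwordsA u) = true := by decide +kernel


end Cfsg.Agent.Helper9.TCData.X1690
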