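import Cfsg.Agent.Lib.Helper9.TCData.X1690.Main

set_option autoImplicit false
set_option maxRecDepth 1000000

namespace Cfsg.Agent.Helper9.TCData.X1690
open Cfsg.Agent.Helper9.TC2

theorem m2_5537 : allRange 238091 43 (fun u => chkFix tab mwordsA u) = true := by decide +kernel

theorem m2_5538 : allRange 238134 43 (fun u => chkFix tab mwordsA u) = true := by decide +kernel

theorem m2_5539 : allRange 238177 43 (fun u => chkFix tab mwordsA u) = true := by decide +kernel

theorem m2_5540 : allRange 238220 43 (fun u => chkFix tab mwordsA u) = true := by decide +kernel

theorem m2_5541 : allRange 238263 43 (fun u => chkFix tab mwordsA u) = true := by decide +kernel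

theorem m2_5542 : allRange 238306 43 (fun u => chkFix tab mwordsA u) = true := by decide +kernel

theorem m2_5543 : allRange 238349 43 (fun u => chkFix tab mwordsA u) = true := by decide +kernel

theorem m2_5544 : allRange 238392 43 (fun u => chkFix tab mwordsA u) = true := by decide +kernel

theorem m2_5545 : allRange 238435 43 (fun u => chkFix tab mwordsA u) = true := by decide +kernel

theorem m2_5546 : allRange 238478 43 (fun u => chkFix tab mwordsA u) = true := by decide +kernel


end Cfsg.Agent.Helper9.TCData.X1690
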