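import Cfsg.Agent.Lib.Helper9.TCData.X1690.Main

set_option autoImplicit false
set_option maxRecDepth 1000000

namespace Cfsg.Agent.Helper9.TCData.X1690
open Cfsg.Agent.Helper9.TC2

theorem m2_5547 : allRange 238521 43 (fun u => chkFix tab mwordsA u) = true := by decide +kernel

theorem m2_5548 : allRange 238564 43 (fun u => chkFix tab mwordsA u) = true := by decide +kernel

theorem m2_5549 : allRange 238607 43 (fun u => chkFix tab mwordsA u) = true := by decide +kernel

theorem m2_5550 : allRange 238650 43 (fun u => chkFix tab mwordsA u) = true := by decide +kernel

theorem m2_5551 : allRange 238693 43 (fun u => chkFix tab mwordsA u) = true := by decide +kernel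

theorem m2_5552 : allRange 238736 43 (fun u => chkFix tab mwordsA u) = true := by decide +kernel

theorem m2_5553 : allRange 238779 43 (fun u => chkFix tab mwordsA u) = true := by decide +kernel

theorem m2_5554 : allRange 238822 43 (fun u => chkFix tab mwordsA u) = true := by decide +kernel

theorem m2_5555 : allRange 238865 43 (fun u => chkFix tab mwordsA u) = true := by decide +kernel

theorem m2_5556 : allRange 238908 43 (fun u => chkFix tab mwordsA u) = true := by decide +kernel


end Cfsg.Agent.Helper9.TCData.X1690
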