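import Cfsg.Agent.Lib.Helper9.TCData.X1690.Main

set_option autoImplicit false
set_option maxRecDepth 1000000

namespace Cfsg.Agent.Helper9.TCData.X1690
open Cfsg.Agent.Helper9.TC2

theorem m2_5557 : allRange 238951 43 (fun u => chkFix tab mwordsA u) = true := by decide +kernel

theorem m2_5558 : allRange 238994 43 (fun u => chkFix tab mwordsA u) = true := by decide +kernel

theorem m2_5559 : allRange 239037 43 (fun u => chkFix tab mwordsA u) = true := by decide +kernel

theorem m2_5560 : allRange 239080 43 (fun u => chkFix tab mwordsA u) = true := by decide +kernel

theorem m2_5561 : allRange 239123 43 (fun u => chkFix tab mwordsA u) = true := by decide +kernel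

theorem m2_5562 : allRange 239166 43 (fun u => chkFix tab mwordsA u) = true := by decide +kernel

theorem m2_5563 : allRange 239209 43 (fun u => chkFix tab mwordsA u) = true := by decide +kernel

theorem m2_5564 : allRange 239252 43 (fun u => chkFix tab mwordsA u) = true := by decide +kernel

theorem m2_5565 : allRange 239295 43 (fun u => chkFix tab mwordsA u) = true := by decide +kernel

theorem m2_5566 : allRange 239338 43 (fun u => chkFix tab mwordsA u) = true := by decide +kernel


end Cfsg.Agent.Helper9.TCData.X1690
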