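import Cfsg.Agent.Lib.Helper9.TCData.X1690.Main

set_option autoImplicit false
set_option maxRecDepth 1000000

namespace Cfsg.Agent.Helper9.TCData.X1690
open Cfsg.Agent.Helper9.TC2

theorem m2_5567 : allRange 239381 43 (fun u => chkFix tab mwordsA u) = true := by decide +kernel

theorem m2_5568 : allRange 239424 43 (fun u => chkFix tab mwordsA u) = true := by decide +kernel

theorem m2_5569 : allRange 239467 43 (fun u => chkFix tab mwordsA u) = true := by decide +kernel

theorem m2_5570 : allRange 239510 43 (fun u => chkFix tab mwordsA u) = true := by decide +kernel

theorem m2_5571 : allRange 239553 43 (fun u => chkFix tab mwordsA u) = true := by decide +kernel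

theorem m2_5572 : allRange 239596 43 (fun u => chkFix tab mwordsA u) = true := by decide +kernel

theorem m2_5573 : allRange 239639 43 (fun u => chkFix tab mwordsA u) = true := by decide +kernel

theorem m2_5574 : allRange 239682 43 (fun u => chkFix tab mwordsA u) = true := by decide +kernel

theorem m2_5575 : allRange 239725 43 (fun u => chkFix tab mwordsA u) = true := by decide +kernel

theorem m2_5576 : allRange 239768 43 (fun u => chkFix tab mwordsA u) = true := by decide +kernel


end Cfsg.Agent.Helper9.TCData.X1690
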