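import Cfsg.Agent.Lib.Helper9.TCData.X1690.Main

set_option autoImplicit false
set_option maxRecDepth 1000000

namespace Cfsg.Agent.Helper9.TCData.X1690
open Cfsg.Agent.Helper9.TC2

theorem m2_5577 : allRange 239811 43 (fun u => chkFix tab mwordsA u) = true := by decide +kernel

theorem m2_5578 : allRange 239854 43 (fun u => chkFix tab mwordsA u) = true := by decide +kernel

theorem m2_5579 : allRange 239897 43 (fun u => chkFix tab mwordsA u) = true := by decide +kernel

theorem m2_5580 : allRange 239940 43 (fun u => chkFix tab mwordsA u) = true := by decide +kernel

theorem m2_5581 : allRange 239983 43 (fun u => chkFix tab mwordsA u) = true := by decide +kernel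

theorem m2_5582 : allRange 240026 43 (fun u => chkFix tab mwordsA u) = true := by decide +kernel

theorem m2_5583 : allRange 240069 43 (fun u => chkFix tab mwordsA u) = true := by decide +kernel

theorem m2_5584 : allRange 240112 43 (fun u => chkFix tab mwordsA u) = true := by decide +kernel

theorem m2_5585 : allRange 240155 43 (fun u => chkFix tab mwordsA u) = true := by decide +kernel

theorem m2_5586 : allRange 240198 43 (fun u => chkFix tab mwordsA u) = true := by decide +kernel


end Cfsg.Agent.Helper9.TCData.X1690
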