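import Cfsg.Agent.Lib.Helper9.TCData.X1690.Main

set_option autoImplicit false
set_option maxRecDepth 1000000

namespace Cfsg.Agent.Helper9.TCData.X1690
open Cfsg.Agent.Helper9.TC2

theorem m2_5587 : allRange 240241 43 (fun u => chkFix tab mwordsA u) = true := by decide +kernel

theorem m2_5588 : allRange 240284 43 (fun u => chkFix tab mwordsA u) = true := by decide +kernel

theorem m2_5589 : allRange 240327 43 (fun u => chkFix tab mwordsA u) = true := by decide +kernel

theorem m2_5590 : allRange 240370 43 (fun u => chkFix tab mwordsA u) = true := by decide +kernel

theorem m2_5591 : allRange 240413 43 (fun u => chkFix tab mwordsA u) = true := by decide +kernel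

theorem m2_5592 : allRange 240456 43 (fun u => chkFix tab mwordsA u) = true := by decide +kernel

theorem m2_5593 : allRange 240499 43 (fun u => chkFix tab mwordsA u) = true := by decide +kernel

theorem m2_5594 : allRange 240542 43 (fun u => chkFix tab mwordsA u) = true := by decide +kernel

theorem m2_5595 : allRange 240585 43 (fun u => chkFix tab mwordsA u) = true := by decide +kernel

theorem m2_5596 : allRange 240628 43 (fun u => chkFix tab mwordsA u) = true := by decide +kernel


end Cfsg.Agent.Helper9.TCData.X1690
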