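import Cfsg.Agent.Lib.Helper9.TCData.X1690.Main

set_option autoImplicit false
set_option maxRecDepth 1000000

namespace Cfsg.Agent.Helper9.TCData.X1690
open Cfsg.Agent.Helper9.TC2

theorem m2_5597 : allRange 240671 43 (fun u => chkFix tab mwordsA u) = true := by decide +kernel

theorem m2_5598 : allRange 240714 43 (fun u => chkFix tab mwordsA u) = true := by decide +kernel

theorem m2_5599 : allRange 240757 43 (fun u => chkFix tab mwordsA u) = true := by decide +kernel

theorem m2_5600 : allRange 240800 43 (fun u => chkFix tab mwordsA u) = true := by decide +kernel

theorem m2_5601 : allRange 240843 43 (fun u => chkFix tab mwordsA u) = true := by decide +kernel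

theorem m2_5602 : allRange 240886 43 (fun u => chkFix tab mwordsA u) = true := by decide +kernel

theorem m2_5603 : allRange 240929 43 (fun u => chkFix tab mwordsA u) = true := by decide +kernel

theorem m2_5604 : allRange 240972 43 (fun u => chkFix tab mwordsA u) = true := by decide +kernel

theorem m2_5605 : allRange 241015 43 (fun u => chkFix tab mwordsA u) = true := by decide +kernel

theorem m2_5606 : allRange 241058 43 (fun u => chkFix tab mwordsA u) = true := by decide +kernel


end Cfsg.Agent.Helper9.TCData.X1690
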