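import Cfsg.Agent.Lib.Helper9.TCData.X1690.Main

set_option autoImplicit false
set_option maxRecDepth 1000000

namespace Cfsg.Agent.Helper9.TCData.X1690
open Cfsg.Agent.Helper9.TC2

theorem m2_5607 : allRange 241101 43 (fun u => chkFix tab mwordsA u) = true := by decide +kernel

theorem m2_5608 : allRange 241144 43 (fun u => chkFix tab mwordsA u) = true := by decide +kernel

theorem m2_5609 : allRange 241187 43 (fun u => chkFix tab mwordsA u) = true := by decide +kernel

theorem m2_5610 : allRange 241230 43 (fun u => chkFix tab mwordsA u) = true := by decide +kernel

theorem m2_5611 : allRange 241273 43 (fun u => chkFix tab mwordsA u) = true := by decide +kernel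

theorem m2_5612 : allRange 241316 43 (fun u => chkFix tab mwordsA u) = true := by decide +kernel

theorem m2_5613 : allRange 241359 43 (fun u => chkFix tab mwordsA u) = true := by decide +kernel

theorem m2_5614 : allRange 241402 43 (fun u => chkFix tab mwordsA u) = true := by decide +kernel

theorem m2_5615 : allRange 241445 43 (fun u => chkFix tab mwordsA u) = true := by decide +kernel

theorem m2_5616 : allRange 241488 43 (fun u => chkFix tab mwordsA u) = true := by decide +kernel


end Cfsg.Agent.Helper9.TCData.X1690
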