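import Cfsg.Agent.Lib.Helper9.TCData.X1690.Main

set_option autoImplicit false
set_option maxRecDepth 1000000

namespace Cfsg.Agent.Helper9.TCData.X1690
open Cfsg.Agent.Helper9.TC2

theorem e6_46 : allRange 106190 2201 (fun u => chkE tab 6 u) = true := by decide +kernel

theorem e6_47 : allRange 108391 2307 (fun u => chkE tab 6 u) = true := by decide +kernel

theorem e6_48 : allRange 110698 2462 (fun u => chkE tab 6 u) = true := by decide +kernel

theorem e6_49 : allRange 113160 2314 (fun u => chkE tab 6 u) = true := by decide +kernel

theorem e6_50 : allRange 115474 2449 (fun u => chkE tab 6 u) = true := by decide +kernel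

theorem e6_51 : allRange 117923 3294 (fun u => chkE tab 6 u) = true := by decide +kernel

theorem e6_52 : allRange 121217 4469 (fun u => chkE tab 6 u) = true := by decide +kernel

theorem e6_53 : allRange 125686 4043 (fun u => chkE tab 6 u) = true := by decide +kernel

theorem e6_54 : allRange 129729 3161 (fun u => chkE tab 6 u) = true := by decide +kernel

theorem e6_55 : allRange 132890 3114 (fun u => chkE tab 6 u) = true := by decide +kernel


end Cfsg.Agent.Helper9.TCData.X1690
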