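import Cfsg.Agent.Lib.Helper9.TCData.X1690.Main

set_option autoImplicit false
set_option maxRecDepth 1000000

namespace Cfsg.Agent.Helper9.TCData.X1690
open Cfsg.Agent.Helper9.TC2

theorem m2_5617 : allRange 241531 43 (fun u => chkFix tab mwordsA u) = true := by decide +kernel

theorem m2_5618 : allRange 241574 43 (fun u => chkFix tab mwordsA u) = true := by decide +kernel

theorem m2_5619 : allRange 241617 43 (fun u => chkFix tab mwordsA u) = true := by decide +kernel

theorem m2_5620 : allRange 241660 43 (fun u => chkFix tab mwordsA u) = true := by decide +kernel

theorem m2_5621 : allRange 241703 43 (fun u => chkFix tab mwordsA u) = true := by decide +kernel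

theorem m2_5622 : allRange 241746 43 (fun u => chkFix tab mwordsA u) = true := by decide +kernel

theorem m2_5623 : allRange 241789 43 (fun u => chkFix tab mwordsA u) = true := by decide +kernel

theorem m2_5624 : allRange 241832 43 (fun u => chkFix tab mwordsA u) = true := by decide +kernel

theorem m2_5625 : allRange 241875 43 (fun u => chkFix tab mwordsA u) = true := by decide +kernel

theorem m2_5626 : allRange 241918 43 (fun u => chkFix tab mwordsA u) = true := by decide +kernel


end Cfsg.Agent.Helper9.TCData.X1690
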