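import Cfsg.Agent.Lib.Helper9.TCData.X1690.Main

set_option autoImplicit false
set_option maxRecDepth 1000000

namespace Cfsg.Agent.Helper9.TCData.X1690
open Cfsg.Agent.Helper9.TC2

theorem m2_5627 : allRange 241961 43 (fun u => chkFix tab mwordsA u) = true := by decide +kernel

theorem m2_5628 : allRange 242004 43 (fun u => chkFix tab mwordsA u) = true := by decide +kernel

theorem m2_5629 : allRange 242047 43 (fun u => chkFix tab mwordsA u) = true := by decide +kernel

theorem m2_5630 : allRange 242090 43 (fun u => chkFix tab mwordsA u) = true := by decide +kernel

theorem m2_5631 : allRange 242133 43 (fun u => chkFix tab mwordsA u) = true := by decide +kernel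

theorem m2_5632 : allRange 242176 43 (fun u => chkFix tab mwordsA u) = true := by decide +kernel

theorem m2_5633 : allRange 242219 43 (fun u => chkFix tab mwordsA u) = true := by decide +kernel

theorem m2_5634 : allRange 242262 43 (fun u => chkFix tab mwordsA u) = true := by decide +kernel

theorem m2_5635 : allRange 242305 43 (fun u => chkFix tab mwordsA u) = true := by decide +kernel

theorem m2_5636 : allRange 242348 43 (fun u => chkFix tab mwordsA u) = true := by decide +kernel


end Cfsg.Agent.Helper9.TCData.X1690
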