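import Cfsg.Agent.Lib.Helper9.TCData.X1690.Main

set_option autoImplicit false
set_option maxRecDepth 1000000

namespace Cfsg.Agent.Helper9.TCData.X1690
open Cfsg.Agent.Helper9.TC2

theorem m2_5647 : allRange 242821 43 (fun u => chkFix tab mwordsA u) = true := by decide +kernel

theorem m2_5648 : allRange 242864 43 (fun u => chkFix tab mwordsA u) = true := by decide +kernel

theorem m2_5649 : allRange 242907 43 (fun u => chkFix tab mwordsA u) = true := by decide +kernel

theorem m2_5650 : allRange 242950 43 (fun u => chkFix tab mwordsA u) = true := by decide +kernel

theorem m2_5651 : allRange 242993 43 (fun u => chkFix tab mwordsA u) = true := by decide +kernel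

theorem m2_5652 : allRange 243036 43 (fun u => chkFix tab mwordsA u) = true := by decide +kernel

theorem m2_5653 : allRange 243079 43 (fun u => chkFix tab mwordsA u) = true := by decide +kernel

theorem m2_5654 : allRange 243122 43 (fun u => chkFix tab mwordsA u) = true := by decide +kernel

theorem m2_5655 : allRange 243165 43 (fun u => chkFix tab mwordsA u) = true := by decide +kernel

theorem m2_5656 : allRange 243208 43 (fun u => chkFix tab mwordsA u) = true := by decide +kernel


end Cfsg.Agent.Helper9.TCData.X1690
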