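import Cfsg.Agent.Lib.Helper9.TCData.X1690.Main

set_option autoImplicit false
set_option maxRecDepth 1000000

namespace Cfsg.Agent.Helper9.TCData.X1690
open Cfsg.Agent.Helper9.TC2

theorem m2_5657 : allRange 243251 43 (fun u => chkFix tab mwordsA u) = true := by decide +kernel

theorem m2_5658 : allRange 243294 43 (fun u => chkFix tab mwordsA u) = true := by decide +kernel

theorem m2_5659 : allRange 243337 43 (fun u => chkFix tab mwordsA u) = true := by decide +kernel

theorem m2_5660 : allRange 243380 43 (fun u => chkFix tab mwordsA u) = true := by decide +kernel

theorem m2_5661 : allRange 243423 43 (fun u => chkFix tab mwordsA u) = true := by decide +kernel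

theorem m2_5662 : allRange 243466 43 (fun u => chkFix tab mwordsA u) = true := by decide +kernel

theorem m2_5663 : allRange 243509 43 (fun u => chkFix tab mwordsA u) = true := by decide +kernel

theorem m2_5664 : allRange 243552 43 (fun u => chkFix tab mwordsA u) = true := by decide +kernel

theorem m2_5665 : allRange 243595 43 (fun u => chkFix tab mwordsA u) = true := by decide +kernel

theorem m2_5666 : allRange 243638 43 (fun u => chkFix tab mwordsA u) = true := by decide +kernel


end Cfsg.Agent.Helper9.TCData.X1690
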