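import Cfsg.Agent.Lib.Helper9.TCData.X1690.Main

set_option autoImplicit false
set_option maxRecDepth 1000000

namespace Cfsg.Agent.Helper9.TCData.X1690
open Cfsg.Agent.Helper9.TC2

theorem m2_5667 : allRange 243681 43 (fun u => chkFix tab mwordsA u) = true := by decide +kernel

theorem m2_5668 : allRange 243724 43 (fun u => chkFix tab mwordsA u) = true := by decide +kernel

theorem m2_5669 : allRange 243767 43 (fun u => chkFix tab mwordsA u) = true := by decide +kernel

theorem m2_5670 : allRange 243810 43 (fun u => chkFix tab mwordsA u) = true := by decide +kernel

theorem m2_5671 : allRange 243853 43 (fun u => chkFix tab mwordsA u) = true := by decide +kernel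

theorem m2_5672 : allRange 243896 43 (fun u => chkFix tab mwordsA u) = true := by decide +kernel

theorem m2_5673 : allRange 243939 43 (fun u => chkFix tab mwordsA u) = true := by decide +kernel

theorem m2_5674 : allRange 243982 43 (fun u => chkFix tab mwordsA u) = true := by decide +kernel

theorem m2_5675 : allRange 244025 43 (fun u => chkFix tab mwordsA u) = true := by decide +kernel

theorem m2_5676 : allRange 244068 43 (fun u => chkFix tab mwordsA u) = true := by decide +kernel


end Cfsg.Agent.Helper9.TCData.X1690
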