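import Cfsg.Agent.Lib.Helper9.TCData.X1690.Main

set_option autoImplicit false
set_option maxRecDepth 1000000

namespace Cfsg.Agent.Helper9.TCData.X1690
open Cfsg.Agent.Helper9.TC2

theorem m2_5677 : allRange 244111 43 (fun u => chkFix tab mwordsA u) = true := by decide +kernel

theorem m2_5678 : allRange 244154 43 (fun u => chkFix tab mwordsA u) = true := by decide +kernel

theorem m2_5679 : allRange 244197 43 (fun u => chkFix tab mwordsA u) = true := by decide +kernel

theorem m2_5680 : allRange 244240 43 (fun u => chkFix tab mwordsA u) = true := by decide +kernel

theorem m2_5681 : allRange 244283 43 (fun u => chkFix tab mwordsA u) = true := by decide +kernel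

theorem m2_5682 : allRange 244326 43 (fun u => chkFix tab mwordsA u) = true := by decide +kernel

theorem m2_5683 : allRange 244369 43 (fun u => chkFix tab mwordsA u) = true := by decide +kernel

theorem m2_5684 : allRange 244412 43 (fun u => chkFix tab mwordsA u) = true := by decide +kernel

theorem m2_5685 : allRange 244455 43 (fun u => chkFix tab mwordsA u) = true := by decide +kernel

theorem m2_5686 : allRange 244498 43 (fun u => chkFix tab mwordsA u) = true := by decide +kernel


end Cfsg.Agent.Helper9.TCData.X1690
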