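import Cfsg.Agent.Lib.Helper9.TCData.X1690.Main

set_option autoImplicit false
set_option maxRecDepth 1000000

namespace Cfsg.Agent.Helper9.TCData.X1690
open Cfsg.Agent.Helper9.TC2

theorem m2_5687 : allRange 244541 43 (fun u => chkFix tab mwordsA u) = true := by decide +kernel

theorem m2_5688 : allRange 244584 43 (fun u => chkFix tab mwordsA u) = true := by decide +kernel

theorem m2_5689 : allRange 244627 43 (fun u => chkFix tab mwordsA u) = true := by decide +kernel

theorem m2_5690 : allRange 244670 43 (fun u => chkFix tab mwordsA u) = true := by decide +kernel

theorem m2_5691 : allRange 244713 43 (fun u => chkFix tab mwordsA u) = true := by decide +kernel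

theorem m2_5692 : allRange 244756 43 (fun u => chkFix tab mwordsA u) = true := by decide +kernel

theorem m2_5693 : allRange 244799 43 (fun u => chkFix tab mwordsA u) = true := by decide +kernel

theorem m2_5694 : allRange 244842 43 (fun u => chkFix tab mwordsA u) = true := by decide +kernel

theorem m2_5695 : allRange 244885 43 (fun u => chkFix tab mwordsA u) = true := by decide +kernel

theorem m2_5696 : allRange 244928 43 (fun u => chkFix tab mwordsA u) = true := by decide +kernel


end Cfsg.Agent.Helper9.TCData.X1690
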