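import Cfsg.Agent.Lib.Helper9.TCData.X1690.Main

set_option autoImplicit false
set_option maxRecDepth 1000000

namespace Cfsg.Agent.Helper9.TCData.X1690
open Cfsg.Agent.Helper9.TC2

theorem m2_5697 : allRange 244971 43 (fun u => chkFix tab mwordsA u) = true := by decide +kernel

theorem m2_5698 : allRange 245014 43 (fun u => chkFix tab mwordsA u) = true := by decide +kernel

theorem m2_5699 : allRange 245057 43 (fun u => chkFix tab mwordsA u) = true := by decide +kernel

theorem m2_5700 : allRange 245100 43 (fun u => chkFix tab mwordsA u) = true := by decide +kernel

theorem m2_5701 : allRange 245143 43 (fun u => chkFix tab mwordsA u) = true := by decide +kernel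

theorem m2_5702 : allRange 245186 43 (fun u => chkFix tab mwordsA u) = true := by decide +kernel

theorem m2_5703 : allRange 245229 43 (fun u => chkFix tab mwordsA u) = true := by decide +kernel

theorem m2_5704 : allRange 245272 43 (fun u => chkFix tab mwordsA u) = true := by decide +kernel

theorem m2_5705 : allRange 245315 43 (fun u => chkFix tab mwordsA u) = true := by decide +kernel

theorem m2_5706 : allRange 245358 43 (fun u => chkFix tab mwordsA u) = true := by decide +kernel


end Cfsg.Agent.Helper9.TCData.X1690
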