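import Cfsg.Agent.Lib.Helper9.TCData.X1690.Main

set_option autoImplicit false
set_option maxRecDepth 1000000

namespace Cfsg.Agent.Helper9.TCData.X1690
open Cfsg.Agent.Helper9.TC2

theorem m2_5707 : allRange 245401 43 (fun u => chkFix tab mwordsA u) = true := by decide +kernel

theorem m2_5708 : allRange 245444 43 (fun u => chkFix tab mwordsA u) = true := by decide +kernel

theorem m2_5709 : allRange 245487 43 (fun u => chkFix tab mwordsA u) = true := by decide +kernel

theorem m2_5710 : allRange 245530 43 (fun u => chkFix tab mwordsA u) = true := by decide +kernel

theorem m2_5711 : allRange 245573 43 (fun u => chkFix tab mwordsA u) = true := by decide +kernel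

theorem m2_5712 : allRange 245616 43 (fun u => chkFix tab mwordsA u) = true := by decide +kernel

theorem m2_5713 : allRange 245659 43 (fun u => chkFix tab mwordsA u) = true := by decide +kernel

theorem m2_5714 : allRange 245702 43 (fun u => chkFix tab mwordsA u) = true := by decide +kernel

theorem m2_5715 : allRange 245745 43 (fun u => chkFix tab mwordsA u) = true := by decide +kernel

theorem m2_5716 : allRange 245788 43 (fun u => chkFix tab mwordsA u) = true := by decide +kernel


end Cfsg.Agent.Helper9.TCData.X1690
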