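import Cfsg.Agent.Lib.Helper9.TCData.X1690.Main

set_option autoImplicit false
set_option maxRecDepth 1000000

namespace Cfsg.Agent.Helper9.TCData.X1690
open Cfsg.Agent.Helper9.TC2

theorem e6_56 : allRange 136004 3336 (fun u => chkE tab 6 u) = true := by decide +kernel

theorem e6_57 : allRange 139340 5180 (fun u => chkE tab 6 u) = true := by decide +kernel

theorem e6_58 : allRange 144520 3708 (fun u => chkE tab 6 u) = true := by decide +kernel

theorem e6_59 : allRange 148228 4378 (fun u => chkE tab 6 u) = true := by decide +kernel

theorem e6_60 : allRange 152606 4175 (fun u => chkE tab 6 u) = true := by decide +kernel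

theorem e6_61 : allRange 156781 5263 (fun u => chkE tab 6 u) = true := by decide +kernel

theorem e6_62 : allRange 162044 2679 (fun u => chkE tab 6 u) = true := by decide +kernel

theorem e6_63 : allRange 164723 2527 (fun u => chkE tab 6 u) = true := by decide +kernel

theorem e6_64 : allRange 167250 2424 (fun u => chkE tab 6 u) = true := by decide +kernel

theorem e6_65 : allRange 169674 2601 (fun u => chkE tab 6 u) = true := by decide +kernel


end Cfsg.Agent.Helper9.TCData.X1690
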