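import Cfsg.Agent.Lib.Helper9.TCData.X1690.Main

set_option autoImplicit false
set_option maxRecDepth 1000000

namespace Cfsg.Agent.Helper9.TCData.X1690
open Cfsg.Agent.Helper9.TC2

theorem m2_5717 : allRange 245831 43 (fun u => chkFix tab mwordsA u) = true := by decide +kernel

theorem m2_5718 : allRange 245874 43 (fun u => chkFix tab mwordsA u) = true := by decide +kernel

theorem m2_5719 : allRange 245917 43 (fun u => chkFix tab mwordsA u) = true := by decide +kernel

theorem m2_5720 : allRange 245960 43 (fun u => chkFix tab mwordsA u) = true := by decide +kernel

theorem m2_5721 : allRange 246003 43 (fun u => chkFix tab mwordsA u) = true := by decide +kernel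

theorem m2_5722 : allRange 246046 43 (fun u => chkFix tab mwordsA u) = true := by decide +kernel

theorem m2_5723 : allRange 246089 43 (fun u => chkFix tab mwordsA u) = true := by decide +kernel

theorem m2_5724 : allRange 246132 43 (fun u => chkFix tab mwordsA u) = true := by decide +kernel

theorem m2_5725 : allRange 246175 43 (fun u => chkFix tab mwordsA u) = true := by decide +kernel

theorem m2_5726 : allRange 246218 43 (fun u => chkFix tab mwordsA u) = true := by decide +kernel


end Cfsg.Agent.Helper9.TCData.X1690
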