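import Cfsg.Agent.Lib.Helper9.TCData.X1690.Main

set_option autoImplicit false
set_option maxRecDepth 1000000

namespace Cfsg.Agent.Helper9.TCData.X1690
open Cfsg.Agent.Helper9.TC2

theorem m2_5727 : allRange 246261 43 (fun u => chkFix tab mwordsA u) = true := by decide +kernel

theorem m2_5728 : allRange 246304 43 (fun u => chkFix tab mwordsA u) = true := by decide +kernel

theorem m2_5729 : allRange 246347 43 (fun u => chkFix tab mwordsA u) = true := by decide +kernel

theorem m2_5730 : allRange 246390 43 (fun u => chkFix tab mwordsA u) = true := by decide +kernel

theorem m2_5731 : allRange 246433 43 (fun u => chkFix tab mwordsA u) = true := by decide +kernel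

theorem m2_5732 : allRange 246476 43 (fun u => chkFix tab mwordsA u) = true := by decide +kernel

theorem m2_5733 : allRange 246519 43 (fun u => chkFix tab mwordsA u) = true := by decide +kernel

theorem m2_5734 : allRange 246562 43 (fun u => chkFix tab mwordsA u) = true := by decide +kernel

theorem m2_5735 : allRange 246605 43 (fun u => chkFix tab mwordsA u) = true := by decide +kernel

theorem m2_5736 : allRange 246648 43 (fun u => chkFix tab mwordsA u) = true := by decide +kernel


end Cfsg.Agent.Helper9.TCData.X1690
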