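import Cfsg.Agent.Lib.Helper9.TCData.X1690.Main

set_option autoImplicit false
set_option maxRecDepth 1000000

namespace Cfsg.Agent.Helper9.TCData.X1690
open Cfsg.Agent.Helper9.TC2

theorem m2_5737 : allRange 246691 43 (fun u => chkFix tab mwordsA u) = true := by decide +kernel

theorem m2_5738 : allRange 246734 43 (fun u => chkFix tab mwordsA u) = true := by decide +kernel

theorem m2_5739 : allRange 246777 43 (fun u => chkFix tab mwordsA u) = true := by decide +kernel

theorem m2_5740 : allRange 246820 43 (fun u => chkFix tab mwordsA u) = true := by decide +kernel

theorem m2_5741 : allRange 246863 43 (fun u => chkFix tab mwordsA u) = true := by decide +kernel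

theorem m2_5742 : allRange 246906 43 (fun u => chkFix tab mwordsA u) = true := by decide +kernel

theorem m2_5743 : allRange 246949 43 (fun u => chkFix tab mwordsA u) = true := by decide +kernel

theorem m2_5744 : allRange 246992 43 (fun u => chkFix tab mwordsA u) = true := by decide +kernel

theorem m2_5745 : allRange 247035 43 (fun u => chkFix tab mwordsA u) = true := by decide +kernel

theorem m2_5746 : allRange 247078 43 (fun u => chkFix tab mwordsA u) = true := by decide +kernel


end Cfsg.Agent.Helper9.TCData.X1690
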