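import Cfsg.Agent.Lib.Helper9.TCData.X1690.Main

set_option autoImplicit false
set_option maxRecDepth 1000000

namespace Cfsg.Agent.Helper9.TCData.X1690
open Cfsg.Agent.Helper9.TC2

theorem m2_5747 : allRange 247121 43 (fun u => chkFix tab mwordsA u) = true := by decide +kernel

theorem m2_5748 : allRange 247164 43 (fun u => chkFix tab mwordsA u) = true := by decide +kernel

theorem m2_5749 : allRange 247207 43 (fun u => chkFix tab mwordsA u) = true := by decide +kernel

theorem m2_5750 : allRange 247250 43 (fun u => chkFix tab mwordsA u) = true := by decide +kernel

theorem m2_5751 : allRange 247293 43 (fun u => chkFix tab mwordsA u) = true := by decide +kernel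

theorem m2_5752 : allRange 247336 43 (fun u => chkFix tab mwordsA u) = true := by decide +kernel

theorem m2_5753 : allRange 247379 43 (fun u => chkFix tab mwordsA u) = true := by decide +kernel

theorem m2_5754 : allRange 247422 43 (fun u => chkFix tab mwordsA u) = true := by decide +kernel

theorem m2_5755 : allRange 247465 43 (fun u => chkFix tab mwordsA u) = true := by decide +kernel

theorem m2_5756 : allRange 247508 43 (fun u => chkFix tab mwordsA u) = true := by decide +kernel


end Cfsg.Agent.Helper9.TCData.X1690
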