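import Cfsg.Agent.Lib.Helper9.TCData.X1690.Main

set_option autoImplicit false
set_option maxRecDepth 1000000

namespace Cfsg.Agent.Helper9.TCData.X1690
open Cfsg.Agent.Helper9.TC2

theorem m2_5767 : allRange 247981 43 (fun u => chkFix tab mwordsA u) = true := by decide +kernel

theorem m2_5768 : allRange 248024 43 (fun u => chkFix tab mwordsA u) = true := by decide +kernel

theorem m2_5769 : allRange 248067 43 (fun u => chkFix tab mwordsA u) = true := by decide +kernel

theorem m2_5770 : allRange 248110 43 (fun u => chkFix tab mwordsA u) = true := by decide +kernel

theorem m2_5771 : allRange 248153 43 (fun u => chkFix tab mwordsA u) = true := by decide +kernel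

theorem m2_5772 : allRange 248196 43 (fun u => chkFix tab mwordsA u) = true := by decide +kernel

theorem m2_5773 : allRange 248239 43 (fun u => chkFix tab mwordsA u) = true := by decide +kernel

theorem m2_5774 : allRange 248282 43 (fun u => chkFix tab mwordsA u) = true := by decide +kernel

theorem m2_5775 : allRange 248325 43 (fun u => chkFix tab mwordsA u) = true := by decide +kernel

theorem m2_5776 : allRange 248368 43 (fun u => chkFix tab mwordsA u) = true := by decide +kernel


end Cfsg.Agent.Helper9.TCData.X1690
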