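import Cfsg.Agent.Lib.Helper9.TCData.X1690.Main

set_option autoImplicit false
set_option maxRecDepth 1000000

namespace Cfsg.Agent.Helper9.TCData.X1690
open Cfsg.Agent.Helper9.TC2

theorem m2_5777 : allRange 248411 43 (fun u => chkFix tab mwordsA u) = true := by decide +kernel

theorem m2_5778 : allRange 248454 43 (fun u => chkFix tab mwordsA u) = true := by decide +kernel

theorem m2_5779 : allRange 248497 43 (fun u => chkFix tab mwordsA u) = true := by decide +kernel

theorem m2_5780 : allRange 248540 43 (fun u => chkFix tab mwordsA u) = true := by decide +kernel

theorem m2_5781 : allRange 248583 43 (fun u => chkFix tab mwordsA u) = true := by decide +kernel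

theorem m2_5782 : allRange 248626 43 (fun u => chkFix tab mwordsA u) = true := by decide +kernel

theorem m2_5783 : allRange 248669 43 (fun u => chkFix tab mwordsA u) = true := by decide +kernel

theorem m2_5784 : allRange 248712 43 (fun u => chkFix tab mwordsA u) = true := by decide +kernel

theorem m2_5785 : allRange 248755 43 (fun u => chkFix tab mwordsA u) = true := by decide +kernel

theorem m2_5786 : allRange 248798 43 (fun u => chkFix tab mwordsA u) = true := by decide +kernel


end Cfsg.Agent.Helper9.TCData.X1690
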