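import Cfsg.Agent.Lib.Helper9.TCData.X1690.Main

set_option autoImplicit false
set_option maxRecDepth 1000000

namespace Cfsg.Agent.Helper9.TCData.X1690
open Cfsg.Agent.Helper9.TC2

theorem m2_5787 : allRange 248841 43 (fun u => chkFix tab mwordsA u) = true := by decide +kernel

theorem m2_5788 : allRange 248884 43 (fun u => chkFix tab mwordsA u) = true := by decide +kernel

theorem m2_5789 : allRange 248927 43 (fun u => chkFix tab mwordsA u) = true := by decide +kernel

theorem m2_5790 : allRange 248970 43 (fun u => chkFix tab mwordsA u) = true := by decide +kernel

theorem m2_5791 : allRange 249013 43 (fun u => chkFix tab mwordsA u) = true := by decide +kernel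

theorem m2_5792 : allRange 249056 43 (fun u => chkFix tab mwordsA u) = true := by decide +kernel

theorem m2_5793 : allRange 249099 43 (fun u => chkFix tab mwordsA u) = true := by decide +kernel

theorem m2_5794 : allRange 249142 43 (fun u => chkFix tab mwordsA u) = true := by decide +kernel

theorem m2_5795 : allRange 249185 43 (fun u => chkFix tab mwordsA u) = true := by decide +kernel

theorem m2_5796 : allRange 249228 43 (fun u => chkFix tab mwordsA u) = true := by decide +kernel


end Cfsg.Agent.Helper9.TCData.X1690
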