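import Cfsg.Agent.Lib.Helper9.TCData.X1690.Main

set_option autoImplicit false
set_option maxRecDepth 1000000

namespace Cfsg.Agent.Helper9.TCData.X1690
open Cfsg.Agent.Helper9.TC2

theorem m2_5797 : allRange 249271 43 (fun u => chkFix tab mwordsA u) = true := by decide +kernel

theorem m2_5798 : allRange 249314 43 (fun u => chkFix tab mwordsA u) = true := by decide +kernel

theorem m2_5799 : allRange 249357 43 (fun u => chkFix tab mwordsA u) = true := by decide +kernel

theorem m2_5800 : allRange 249400 43 (fun u => chkFix tab mwordsA u) = true := by decide +kernel

theorem m2_5801 : allRange 249443 43 (fun u => chkFix tab mwordsA u) = true := by decide +kernel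

theorem m2_5802 : allRange 249486 43 (fun u => chkFix tab mwordsA u) = true := by decide +kernel

theorem m2_5803 : allRange 249529 43 (fun u => chkFix tab mwordsA u) = true := by decide +kernel

theorem m2_5804 : allRange 249572 43 (fun u => chkFix tab mwordsA u) = true := by decide +kernel

theorem m2_5805 : allRange 249615 43 (fun u => chkFix tab mwordsA u) = true := by decide +kernel

theorem m2_5806 : allRange 249658 43 (fun u => chkFix tab mwordsA u) = true := by decide +kernel


end Cfsg.Agent.Helper9.TCData.X1690
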