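import Cfsg.Agent.Lib.Helper9.TCData.X1690.Main

set_option autoImplicit false
set_option maxRecDepth 1000000

namespace Cfsg.Agent.Helper9.TCData.X1690
open Cfsg.Agent.Helper9.TC2

theorem m2_5807 : allRange 249701 43 (fun u => chkFix tab mwordsA u) = true := by decide +kernel

theorem m2_5808 : allRange 249744 43 (fun u => chkFix tab mwordsA u) = true := by decide +kernel

theorem m2_5809 : allRange 249787 43 (fun u => chkFix tab mwordsA u) = true := by decide +kernel

theorem m2_5810 : allRange 249830 43 (fun u => chkFix tab mwordsA u) = true := by decide +kernel

theorem m2_5811 : allRange 249873 43 (fun u => chkFix tab mwordsA u) = true := by decide +kernel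

theorem m2_5812 : allRange 249916 43 (fun u => chkFix tab mwordsA u) = true := by decide +kernel

theorem m2_5813 : allRange 249959 43 (fun u => chkFix tab mwordsA u) = true := by decide +kernel

theorem m2_5814 : allRange 250002 43 (fun u => chkFix tab mwordsA u) = true := by decide +kernel

theorem m2_5815 : allRange 250045 43 (fun u => chkFix tab mwordsA u) = true := by decide +kernel

theorem m2_5816 : allRange 250088 43 (fun u => chkFix tab mwordsA u) = true := by decide +kernel


end Cfsg.Agent.Helper9.TCData.X1690
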