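import Cfsg.Agent.Lib.Helper9.TCData.X1690.Main

set_option autoImplicit false
set_option maxRecDepth 1000000

namespace Cfsg.Agent.Helper9.TCData.X1690
open Cfsg.Agent.Helper9.TC2

theorem e6_66 : allRange 172275 2230 (fun u => chkE tab 6 u) = true := by decide +kernel

theorem e6_67 : allRange 174505 2283 (fun u => chkE tab 6 u) = true := by decide +kernel

theorem e6_68 : allRange 176788 2674 (fun u => chkE tab 6 u) = true := by decide +kernel

theorem e6_69 : allRange 179462 2759 (fun u => chkE tab 6 u) = true := by decide +kernel

theorem e6_70 : allRange 182221 2535 (fun u => chkE tab 6 u) = true := by decide +kernel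

theorem e6_71 : allRange 184756 2416 (fun u => chkE tab 6 u) = true := by decide +kernel

theorem e6_72 : allRange 187172 2539 (fun u => chkE tab 6 u) = true := by decide +kernel

theorem e6_73 : allRange 189711 2330 (fun u => chkE tab 6 u) = true := by decide +kernel

theorem e6_74 : allRange 192041 2181 (fun u => chkE tab 6 u) = true := by decide +kernel

theorem e6_75 : allRange 194222 2773 (fun u => chkE tab 6 u) = true := by decide +kernel


end Cfsg.Agent.Helper9.TCData.X1690
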