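import Cfsg.Agent.Lib.Helper9.TCData.X1690.Main

set_option autoImplicit false
set_option maxRecDepth 1000000

namespace Cfsg.Agent.Helper9.TCData.X1690
open Cfsg.Agent.Helper9.TC2

theorem m2_5817 : allRange 250131 43 (fun u => chkFix tab mwordsA u) = true := by decide +kernel

theorem m2_5818 : allRange 250174 43 (fun u => chkFix tab mwordsA u) = true := by decide +kernel

theorem m2_5819 : allRange 250217 43 (fun u => chkFix tab mwordsA u) = true := by decide +kernel

theorem m2_5820 : allRange 250260 43 (fun u => chkFix tab mwordsA u) = true := by decide +kernel

theorem m2_5821 : allRange 250303 43 (fun u => chkFix tab mwordsA u) = true := by decide +kernel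

theorem m2_5822 : allRange 250346 43 (fun u => chkFix tab mwordsA u) = true := by decide +kernel

theorem m2_5823 : allRange 250389 43 (fun u => chkFix tab mwordsA u) = true := by decide +kernel

theorem m2_5824 : allRange 250432 43 (fun u => chkFix tab mwordsA u) = true := by decide +kernel

theorem m2_5825 : allRange 250475 43 (fun u => chkFix tab mwordsA u) = true := by decide +kernel

theorem m2_5826 : allRange 250518 43 (fun u => chkFix tab mwordsA u) = true := by decide +kernel


end Cfsg.Agent.Helper9.TCData.X1690
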