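import Cfsg.Agent.Lib.Helper9.TCData.X1690.Main

set_option autoImplicit false
set_option maxRecDepth 1000000

namespace Cfsg.Agent.Helper9.TCData.X1690
open Cfsg.Agent.Helper9.TC2

theorem m2_5827 : allRange 250561 43 (fun u => chkFix tab mwordsA u) = true := by decide +kernel

theorem m2_5828 : allRange 250604 43 (fun u => chkFix tab mwordsA u) = true := by decide +kernel

theorem m2_5829 : allRange 250647 43 (fun u => chkFix tab mwordsA u) = true := by decide +kernel

theorem m2_5830 : allRange 250690 43 (fun u => chkFix tab mwordsA u) = true := by decide +kernel

theorem m2_5831 : allRange 250733 43 (fun u => chkFix tab mwordsA u) = true := by decide +kernel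

theorem m2_5832 : allRange 250776 43 (fun u => chkFix tab mwordsA u) = true := by decide +kernel

theorem m2_5833 : allRange 250819 43 (fun u => chkFix tab mwordsA u) = true := by decide +kernel

theorem m2_5834 : allRange 250862 43 (fun u => chkFix tab mwordsA u) = true := by decide +kernel

theorem m2_5835 : allRange 250905 43 (fun u => chkFix tab mwordsA u) = true := by decide +kernel

theorem m2_5836 : allRange 250948 43 (fun u => chkFix tab mwordsA u) = true := by decide +kernel


end Cfsg.Agent.Helper9.TCData.X1690
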