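import Cfsg.Agent.Lib.Helper9.TCData.X1690.Main

set_option autoImplicit false
set_option maxRecDepth 1000000

namespace Cfsg.Agent.Helper9.TCData.X1690
open Cfsg.Agent.Helper9.TC2

theorem m2_5837 : allRange 250991 43 (fun u => chkFix tab mwordsA u) = true := by decide +kernel

theorem m2_5838 : allRange 251034 43 (fun u => chkFix tab mwordsA u) = true := by decide +kernel

theorem m2_5839 : allRange 251077 43 (fun u => chkFix tab mwordsA u) = true := by decide +kernel

theorem m2_5840 : allRange 251120 43 (fun u => chkFix tab mwordsA u) = true := by decide +kernel

theorem m2_5841 : allRange 251163 43 (fun u => chkFix tab mwordsA u) = true := by decide +kernel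

theorem m2_5842 : allRange 251206 43 (fun u => chkFix tab mwordsA u) = true := by decide +kernel

theorem m2_5843 : allRange 251249 43 (fun u => chkFix tab mwordsA u) = true := by decide +kernel

theorem m2_5844 : allRange 251292 43 (fun u => chkFix tab mwordsA u) = true := by decide +kernel

theorem m2_5845 : allRange 251335 43 (fun u => chkFix tab mwordsA u) = true := by decide +kernel

theorem m2_5846 : allRange 251378 43 (fun u => chkFix tab mwordsA u) = true := by decide +kernel


end Cfsg.Agent.Helper9.TCData.X1690
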