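import Cfsg.Agent.Lib.Helper9.TCData.X1690.Main

set_option autoImplicit false
set_option maxRecDepth 1000000

namespace Cfsg.Agent.Helper9.TCData.X1690
open Cfsg.Agent.Helper9.TC2

theorem m2_5847 : allRange 251421 43 (fun u => chkFix tab mwordsA u) = true := by decide +kernel

theorem m2_5848 : allRange 251464 43 (fun u => chkFix tab mwordsA u) = true := by decide +kernel

theorem m2_5849 : allRange 251507 43 (fun u => chkFix tab mwordsA u) = true := by decide +kernel

theorem m2_5850 : allRange 251550 43 (fun u => chkFix tab mwordsA u) = true := by decide +kernel

theorem m2_5851 : allRange 251593 43 (fun u => chkFix tab mwordsA u) = true := by decide +kernel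

theorem m2_5852 : allRange 251636 43 (fun u => chkFix tab mwordsA u) = true := by decide +kernel

theorem m2_5853 : allRange 251679 43 (fun u => chkFix tab mwordsA u) = true := by decide +kernel

theorem m2_5854 : allRange 251722 43 (fun u => chkFix tab mwordsA u) = true := by decide +kernel

theorem m2_5855 : allRange 251765 43 (fun u => chkFix tab mwordsA u) = true := by decide +kernel

theorem m2_5856 : allRange 251808 43 (fun u => chkFix tab mwordsA u) = true := by decide +kernel


end Cfsg.Agent.Helper9.TCData.X1690
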