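import Cfsg.Agent.Lib.Helper9.TCData.X1690.Main

set_option autoImplicit false
set_option maxRecDepth 1000000

namespace Cfsg.Agent.Helper9.TCData.X1690
open Cfsg.Agent.Helper9.TC2

theorem m2_5857 : allRange 251851 43 (fun u => chkFix tab mwordsA u) = true := by decide +kernel

theorem m2_5858 : allRange 251894 43 (fun u => chkFix tab mwordsA u) = true := by decide +kernel

theorem m2_5859 : allRange 251937 43 (fun u => chkFix tab mwordsA u) = true := by decide +kernel

theorem m2_5860 : allRange 251980 43 (fun u => chkFix tab mwordsA u) = true := by decide +kernel

theorem m2_5861 : allRange 252023 43 (fun u => chkFix tab mwordsA u) = true := by decide +kernel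

theorem m2_5862 : allRange 252066 43 (fun u => chkFix tab mwordsA u) = true := by decide +kernel

theorem m2_5863 : allRange 252109 43 (fun u => chkFix tab mwordsA u) = true := by decide +kernel

theorem m2_5864 : allRange 252152 43 (fun u => chkFix tab mwordsA u) = true := by decide +kernel

theorem m2_5865 : allRange 252195 43 (fun u => chkFix tab mwordsA u) = true := by decide +kernel

theorem m2_5866 : allRange 252238 43 (fun u => chkFix tab mwordsA u) = true := by decide +kernel


end Cfsg.Agent.Helper9.TCData.X1690
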