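import Cfsg.Agent.Lib.Helper9.TCData.X1690.Main

set_option autoImplicit false
set_option maxRecDepth 1000000

namespace Cfsg.Agent.Helper9.TCData.X1690
open Cfsg.Agent.Helper9.TC2

theorem m2_5867 : allRange 252281 43 (fun u => chkFix tab mwordsA u) = true := by decide +kernel

theorem m2_5868 : allRange 252324 43 (fun u => chkFix tab mwordsA u) = true := by decide +kernel

theorem m2_5869 : allRange 252367 43 (fun u => chkFix tab mwordsA u) = true := by decide +kernel

theorem m2_5870 : allRange 252410 43 (fun u => chkFix tab mwordsA u) = true := by decide +kernel

theorem m2_5871 : allRange 252453 43 (fun u => chkFix tab mwordsA u) = true := by decide +kernel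

theorem m2_5872 : allRange 252496 43 (fun u => chkFix tab mwordsA u) = true := by decide +kernel

theorem m2_5873 : allRange 252539 43 (fun u => chkFix tab mwordsA u) = true := by decide +kernel

theorem m2_5874 : allRange 252582 43 (fun u => chkFix tab mwordsA u) = true := by decide +kernel

theorem m2_5875 : allRange 252625 43 (fun u => chkFix tab mwordsA u) = true := by decide +kernel

theorem m2_5876 : allRange 252668 43 (fun u => chkFix tab mwordsA u) = true := by decide +kernel


end Cfsg.Agent.Helper9.TCData.X1690
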