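import Cfsg.Agent.Lib.Helper9.TCData.X1690.Main

set_option autoImplicit false
set_option maxRecDepth 1000000

namespace Cfsg.Agent.Helper9.TCData.X1690
open Cfsg.Agent.Helper9.TC2

theorem m2_5887 : allRange 253141 43 (fun u => chkFix tab mwordsA u) = true := by decide +kernel

theorem m2_5888 : allRange 253184 43 (fun u => chkFix tab mwordsA u) = true := by decide +kernel

theorem m2_5889 : allRange 253227 43 (fun u => chkFix tab mwordsA u) = true := by decide +kernel

theorem m2_5890 : allRange 253270 43 (fun u => chkFix tab mwordsA u) = true := by decide +kernel

theorem m2_5891 : allRange 253313 43 (fun u => chkFix tab mwordsA u) = true := by decide +kernel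

theorem m2_5892 : allRange 253356 43 (fun u => chkFix tab mwordsA u) = true := by decide +kernel

theorem m2_5893 : allRange 253399 43 (fun u => chkFix tab mwordsA u) = true := by decide +kernel

theorem m2_5894 : allRange 253442 43 (fun u => chkFix tab mwordsA u) = true := by decide +kernel

theorem m2_5895 : allRange 253485 43 (fun u => chkFix tab mwordsA u) = true := by decide +kernel

theorem m2_5896 : allRange 253528 43 (fun u => chkFix tab mwordsA u) = true := by decide +kernel


end Cfsg.Agent.Helper9.TCData.X1690
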