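import Cfsg.Agent.Lib.Helper9.TCData.X1690.Main

set_option autoImplicit false
set_option maxRecDepth 1000000

namespace Cfsg.Agent.Helper9.TCData.X1690
open Cfsg.Agent.Helper9.TC2

theorem m2_5897 : allRange 253571 43 (fun u => chkFix tab mwordsA u) = true := by decide +kernel

theorem m2_5898 : allRange 253614 43 (fun u => chkFix tab mwordsA u) = true := by decide +kernel

theorem m2_5899 : allRange 253657 43 (fun u => chkFix tab mwordsA u) = true := by decide +kernel

theorem m2_5900 : allRange 253700 43 (fun u => chkFix tab mwordsA u) = true := by decide +kernel

theorem m2_5901 : allRange 253743 43 (fun u => chkFix tab mwordsA u) = true := by decide +kernel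

theorem m2_5902 : allRange 253786 43 (fun u => chkFix tab mwordsA u) = true := by decide +kernel

theorem m2_5903 : allRange 253829 43 (fun u => chkFix tab mwordsA u) = true := by decide +kernel

theorem m2_5904 : allRange 253872 43 (fun u => chkFix tab mwordsA u) = true := by decide +kernel

theorem m2_5905 : allRange 253915 43 (fun u => chkFix tab mwordsA u) = true := by decide +kernel

theorem m2_5906 : allRange 253958 43 (fun u => chkFix tab mwordsA u) = true := by decide +kernel


end Cfsg.Agent.Helper9.TCData.X1690
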