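import Cfsg.Agent.Lib.Helper9.TCData.X1690.Main

set_option autoImplicit false
set_option maxRecDepth 1000000

namespace Cfsg.Agent.Helper9.TCData.X1690
open Cfsg.Agent.Helper9.TC2

theorem e6_76 : allRange 196995 2931 (fun u => chkE tab 6 u) = true := by decide +kernel

theorem e6_77 : allRange 199926 2563 (fun u => chkE tab 6 u) = true := by decide +kernel

theorem e6_78 : allRange 202489 2513 (fun u => chkE tab 6 u) = true := by decide +kernel

theorem e6_79 : allRange 205002 2583 (fun u => chkE tab 6 u) = true := by decide +kernel

theorem e6_80 : allRange 207585 2457 (fun u => chkE tab 6 u) = true := by decide +kernel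

theorem e6_81 : allRange 210042 2335 (fun u => chkE tab 6 u) = true := by decide +kernel

theorem e6_82 : allRange 212377 2435 (fun u => chkE tab 6 u) = true := by decide +kernel

theorem e6_83 : allRange 214812 3068 (fun u => chkE tab 6 u) = true := by decide +kernel

theorem e6_84 : allRange 217880 2894 (fun u => chkE tab 6 u) = true := by decide +kernel

theorem e6_85 : allRange 220774 2563 (fun u => chkE tab 6 u) = true := by decide +kernel


end Cfsg.Agent.Helper9.TCData.X1690
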