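import Cfsg.Agent.Lib.Helper9.TCData.X1690.Main

set_option autoImplicit false
set_option maxRecDepth 1000000

namespace Cfsg.Agent.Helper9.TCData.X1690
open Cfsg.Agent.Helper9.TC2

theorem m2_5917 : allRange 254431 43 (fun u => chkFix tab mwordsA u) = true := by decide +kernel

theorem m2_5918 : allRange 254474 43 (fun u => chkFix tab mwordsA u) = true := by decide +kernel

theorem m2_5919 : allRange 254517 43 (fun u => chkFix tab mwordsA u) = true := by decide +kernel

theorem m2_5920 : allRange 254560 43 (fun u => chkFix tab mwordsA u) = true := by decide +kernel

theorem m2_5921 : allRange 254603 43 (fun u => chkFix tab mwordsA u) = true := by decide +kernel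

theorem m2_5922 : allRange 254646 43 (fun u => chkFix tab mwordsA u) = true := by decide +kernel

theorem m2_5923 : allRange 254689 43 (fun u => chkFix tab mwordsA u) = true := by decide +kernel

theorem m2_5924 : allRange 254732 43 (fun u => chkFix tab mwordsA u) = true := by decide +kernel

theorem m2_5925 : allRange 254775 43 (fun u => chkFix tab mwordsA u) = true := by decide +kernel

theorem m2_5926 : allRange 254818 43 (fun u => chkFix tab mwordsA u) = true := by decide +kernel


end Cfsg.Agent.Helper9.TCData.X1690
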