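import Cfsg.Agent.Lib.Helper9.TCData.X1690.Main

set_option autoImplicit false
set_option maxRecDepth 1000000

namespace Cfsg.Agent.Helper9.TCData.X1690
open Cfsg.Agent.Helper9.TC2

theorem m2_5927 : allRange 254861 43 (fun u => chkFix tab mwordsA u) = true := by decide +kernel

theorem m2_5928 : allRange 254904 43 (fun u => chkFix tab mwordsA u) = true := by decide +kernel

theorem m2_5929 : allRange 254947 43 (fun u => chkFix tab mwordsA u) = true := by decide +kernel

theorem m2_5930 : allRange 254990 43 (fun u => chkFix tab mwordsA u) = true := by decide +kernel

theorem m2_5931 : allRange 255033 43 (fun u => chkFix tab mwordsA u) = true := by decide +kernel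

theorem m2_5932 : allRange 255076 43 (fun u => chkFix tab mwordsA u) = true := by decide +kernel

theorem m2_5933 : allRange 255119 43 (fun u => chkFix tab mwordsA u) = true := by decide +kernel

theorem m2_5934 : allRange 255162 43 (fun u => chkFix tab mwordsA u) = true := by decide +kernel

theorem m2_5935 : allRange 255205 43 (fun u => chkFix tab mwordsA u) = true := by decide +kernel

theorem m2_5936 : allRange 255248 43 (fun u => chkFix tab mwordsA u) = true := by decide +kernel


end Cfsg.Agent.Helper9.TCData.X1690
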