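import Cfsg.Agent.Lib.Helper9.TCData.X1690.Main

set_option autoImplicit false
set_option maxRecDepth 1000000

namespace Cfsg.Agent.Helper9.TCData.X1690
open Cfsg.Agent.Helper9.TC2

theorem m2_5937 : allRange 255291 43 (fun u => chkFix tab mwordsA u) = true := by decide +kernel

theorem m2_5938 : allRange 255334 43 (fun u => chkFix tab mwordsA u) = true := by decide +kernel

theorem m2_5939 : allRange 255377 43 (fun u => chkFix tab mwordsA u) = true := by decide +kernel

theorem m2_5940 : allRange 255420 43 (fun u => chkFix tab mwordsA u) = true := by decide +kernel

theorem m2_5941 : allRange 255463 43 (fun u => chkFix tab mwordsA u) = true := by decide +kernel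

theorem m2_5942 : allRange 255506 43 (fun u => chkFix tab mwordsA u) = true := by decide +kernel

theorem m2_5943 : allRange 255549 43 (fun u => chkFix tab mwordsA u) = true := by decide +kernel

theorem m2_5944 : allRange 255592 43 (fun u => chkFix tab mwordsA u) = true := by decide +kernel

theorem m2_5945 : allRange 255635 43 (fun u => chkFix tab mwordsA u) = true := by decide +kernel

theorem m2_5946 : allRange 255678 43 (fun u => chkFix tab mwordsA u) = true := by decide +kernel


end Cfsg.Agent.Helper9.TCData.X1690
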