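import Cfsg.Agent.Lib.Helper9.TCData.X1690.Main

set_option autoImplicit false
set_option maxRecDepth 1000000

namespace Cfsg.Agent.Helper9.TCData.X1690
open Cfsg.Agent.Helper9.TC2

theorem m2_5947 : allRange 255721 43 (fun u => chkFix tab mwordsA u) = true := by decide +kernel

theorem m2_5948 : allRange 255764 43 (fun u => chkFix tab mwordsA u) = true := by decide +kernel

theorem m2_5949 : allRange 255807 43 (fun u => chkFix tab mwordsA u) = true := by decide +kernel

theorem m2_5950 : allRange 255850 43 (fun u => chkFix tab mwordsA u) = true := by decide +kernel

theorem m2_5951 : allRange 255893 43 (fun u => chkFix tab mwordsA u) = true := by decide +kernel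

theorem m2_5952 : allRange 255936 43 (fun u => chkFix tab mwordsA u) = true := by decide +kernel

theorem m2_5953 : allRange 255979 43 (fun u => chkFix tab mwordsA u) = true := by decide +kernel

theorem m2_5954 : allRange 256022 43 (fun u => chkFix tab mwordsA u) = true := by decide +kernel

theorem m2_5955 : allRange 256065 43 (fun u => chkFix tab mwordsA u) = true := by decide +kernel

theorem m2_5956 : allRange 256108 43 (fun u => chkFix tab mwordsA u) = true := by decide +kernel


end Cfsg.Agent.Helper9.TCData.X1690
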