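import Cfsg.Agent.Lib.Helper9.TCData.X1690.Main

set_option autoImplicit false
set_option maxRecDepth 1000000

namespace Cfsg.Agent.Helper9.TCData.X1690
open Cfsg.Agent.Helper9.TC2

theorem m2_5957 : allRange 256151 43 (fun u => chkFix tab mwordsA u) = true := by decide +kernel

theorem m2_5958 : allRange 256194 43 (fun u => chkFix tab mwordsA u) = true := by decide +kernel

theorem m2_5959 : allRange 256237 43 (fun u => chkFix tab mwordsA u) = true := by decide +kernel

theorem m2_5960 : allRange 256280 43 (fun u => chkFix tab mwordsA u) = true := by decide +kernel

theorem m2_5961 : allRange 256323 43 (fun u => chkFix tab mwordsA u) = true := by decide +kernel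

theorem m2_5962 : allRange 256366 43 (fun u => chkFix tab mwordsA u) = true := by decide +kernel

theorem m2_5963 : allRange 256409 43 (fun u => chkFix tab mwordsA u) = true := by decide +kernel

theorem m2_5964 : allRange 256452 43 (fun u => chkFix tab mwordsA u) = true := by decide +kernel

theorem m2_5965 : allRange 256495 43 (fun u => chkFix tab mwordsA u) = true := by decide +kernel

theorem m2_5966 : allRange 256538 43 (fun u => chkFix tab mwordsA u) = true := by decide +kernel


end Cfsg.Agent.Helper9.TCData.X1690
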