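import Cfsg.Agent.Lib.Helper9.TCData.X1690.Main

set_option autoImplicit false
set_option maxRecDepth 1000000

namespace Cfsg.Agent.Helper9.TCData.X1690
open Cfsg.Agent.Helper9.TC2

theorem m2_5967 : allRange 256581 43 (fun u => chkFix tab mwordsA u) = true := by decide +kernel

theorem m2_5968 : allRange 256624 43 (fun u => chkFix tab mwordsA u) = true := by decide +kernel

theorem m2_5969 : allRange 256667 43 (fun u => chkFix tab mwordsA u) = true := by decide +kernel

theorem m2_5970 : allRange 256710 43 (fun u => chkFix tab mwordsA u) = true := by decide +kernel

theorem m2_5971 : allRange 256753 43 (fun u => chkFix tab mwordsA u) = true := by decide +kernel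

theorem m2_5972 : allRange 256796 43 (fun u => chkFix tab mwordsA u) = true := by decide +kernel

theorem m2_5973 : allRange 256839 43 (fun u => chkFix tab mwordsA u) = true := by decide +kernel

theorem m2_5974 : allRange 256882 43 (fun u => chkFix tab mwordsA u) = true := by decide +kernel

theorem m2_5975 : allRange 256925 43 (fun u => chkFix tab mwordsA u) = true := by decide +kernel

theorem m2_5976 : allRange 256968 43 (fun u => chkFix tab mwordsA u) = true := by decide +kernel


end Cfsg.Agent.Helper9.TCData.X1690
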