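import Cfsg.Agent.Lib.Helper9.TCData.X1690.Main

set_option autoImplicit false
set_option maxRecDepth 1000000

namespace Cfsg.Agent.Helper9.TCData.X1690
open Cfsg.Agent.Helper9.TC2

theorem m2_5977 : allRange 257011 43 (fun u => chkFix tab mwordsA u) = true := by decide +kernel

theorem m2_5978 : allRange 257054 43 (fun u => chkFix tab mwordsA u) = true := by decide +kernel

theorem m2_5979 : allRange 257097 43 (fun u => chkFix tab mwordsA u) = true := by decide +kernel

theorem m2_5980 : allRange 257140 43 (fun u => chkFix tab mwordsA u) = true := by decide +kernel

theorem m2_5981 : allRange 257183 43 (fun u => chkFix tab mwordsA u) = true := by decide +kernel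

theorem m2_5982 : allRange 257226 43 (fun u => chkFix tab mwordsA u) = true := by decide +kernel

theorem m2_5983 : allRange 257269 43 (fun u => chkFix tab mwordsA u) = true := by decide +kernel

theorem m2_5984 : allRange 257312 43 (fun u => chkFix tab mwordsA u) = true := by decide +kernel

theorem m2_5985 : allRange 257355 43 (fun u => chkFix tab mwordsA u) = true := by decide +kernel

theorem m2_5986 : allRange 257398 43 (fun u => chkFix tab mwordsA u) = true := by decide +kernel


end Cfsg.Agent.Helper9.TCData.X1690
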