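import Cfsg.Agent.Lib.Helper9.TCData.X1690.Main

set_option autoImplicit false
set_option maxRecDepth 1000000

namespace Cfsg.Agent.Helper9.TCData.X1690
open Cfsg.Agent.Helper9.TC2

theorem m2_5987 : allRange 257441 43 (fun u => chkFix tab mwordsA u) = true := by decide +kernel

theorem m2_5988 : allRange 257484 43 (fun u => chkFix tab mwordsA u) = true := by decide +kernel

theorem m2_5989 : allRange 257527 43 (fun u => chkFix tab mwordsA u) = true := by decide +kernel

theorem m2_5990 : allRange 257570 43 (fun u => chkFix tab mwordsA u) = true := by decide +kernel

theorem m2_5991 : allRange 257613 43 (fun u => chkFix tab mwordsA u) = true := by decide +kernel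

theorem m2_5992 : allRange 257656 43 (fun u => chkFix tab mwordsA u) = true := by decide +kernel

theorem m2_5993 : allRange 257699 43 (fun u => chkFix tab mwordsA u) = true := by decide +kernel

theorem m2_5994 : allRange 257742 43 (fun u => chkFix tab mwordsA u) = true := by decide +kernel

theorem m2_5995 : allRange 257785 43 (fun u => chkFix tab mwordsA u) = true := by decide +kernel

theorem m2_5996 : allRange 257828 43 (fun u => chkFix tab mwordsA u) = true := by decide +kernel


end Cfsg.Agent.Helper9.TCData.X1690
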