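import Cfsg.Agent.Lib.Helper9.TCData.X1690.Main

set_option autoImplicit false
set_option maxRecDepth 1000000

namespace Cfsg.Agent.Helper9.TCData.X1690
open Cfsg.Agent.Helper9.TC2

theorem m2_6007 : allRange 258301 43 (fun u => chkFix tab mwordsA u) = true := by decide +kernel

theorem m2_6008 : allRange 258344 43 (fun u => chkFix tab mwordsA u) = true := by decide +kernel

theorem m2_6009 : allRange 258387 43 (fun u => chkFix tab mwordsA u) = true := by decide +kernel

theorem m2_6010 : allRange 258430 43 (fun u => chkFix tab mwordsA u) = true := by decide +kernel

theorem m2_6011 : allRange 258473 43 (fun u => chkFix tab mwordsA u) = true := by decide +kernel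

theorem m2_6012 : allRange 258516 43 (fun u => chkFix tab mwordsA u) = true := by decide +kernel

theorem m2_6013 : allRange 258559 43 (fun u => chkFix tab mwordsA u) = true := by decide +kernel

theorem m2_6014 : allRange 258602 43 (fun u => chkFix tab mwordsA u) = true := by decide +kernel

theorem m2_6015 : allRange 258645 43 (fun u => chkFix tab mwordsA u) = true := by decide +kernel

theorem m2_6016 : allRange 258688 43 (fun u => chkFix tab mwordsA u) = true := by decide +kernel


end Cfsg.Agent.Helper9.TCData.X1690
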