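import Cfsg.Agent.Lib.Helper9.TCData.X1690.Main

set_option autoImplicit false
set_option maxRecDepth 1000000

namespace Cfsg.Agent.Helper9.TCData.X1690
open Cfsg.Agent.Helper9.TC2

theorem e6_86 : allRange 223337 2689 (fun u => chkE tab 6 u) = true := by decide +kernel

theorem e6_87 : allRange 226026 2657 (fun u => chkE tab 6 u) = true := by decide +kernel

theorem e6_88 : allRange 228683 2447 (fun u => chkE tab 6 u) = true := by decide +kernel

theorem e6_89 : allRange 231130 2471 (fun u => chkE tab 6 u) = true := by decide +kernel

theorem e6_90 : allRange 233601 2548 (fun u => chkE tab 6 u) = true := by decide +kernel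

theorem e6_91 : allRange 236149 3228 (fun u => chkE tab 6 u) = true := by decide +kernel

theorem e6_92 : allRange 239377 2983 (fun u => chkE tab 6 u) = true := by decide +kernel

theorem e6_93 : allRange 242360 2755 (fun u => chkE tab 6 u) = true := by decide +kernel

theorem e6_94 : allRange 245115 2842 (fun u => chkE tab 6 u) = true := by decide +kernel

theorem e6_95 : allRange 247957 2748 (fun u => chkE tab 6 u) = true := by decide +kernel


end Cfsg.Agent.Helper9.TCData.X1690
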