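import Cfsg.Agent.Lib.Helper9.TCData.X1690.Main

set_option autoImplicit false
set_option maxRecDepth 1000000

namespace Cfsg.Agent.Helper9.TCData.X1690
open Cfsg.Agent.Helper9.TC2

theorem m2_6017 : allRange 258731 43 (fun u => chkFix tab mwordsA u) = true := by decide +kernel

theorem m2_6018 : allRange 258774 43 (fun u => chkFix tab mwordsA u) = true := by decide +kernel

theorem m2_6019 : allRange 258817 43 (fun u => chkFix tab mwordsA u) = true := by decide +kernel

theorem m2_6020 : allRange 258860 43 (fun u => chkFix tab mwordsA u) = true := by decide +kernel

theorem m2_6021 : allRange 258903 43 (fun u => chkFix tab mwordsA u) = true := by decide +kernel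

theorem m2_6022 : allRange 258946 43 (fun u => chkFix tab mwordsA u) = true := by decide +kernel

theorem m2_6023 : allRange 258989 43 (fun u => chkFix tab mwordsA u) = true := by decide +kernel

theorem m2_6024 : allRange 259032 43 (fun u => chkFix tab mwordsA u) = true := by decide +kernel

theorem m2_6025 : allRange 259075 43 (fun u => chkFix tab mwordsA u) = true := by decide +kernel

theorem m2_6026 : allRange 259118 43 (fun u => chkFix tab mwordsA u) = true := by decide +kernel


end Cfsg.Agent.Helper9.TCData.X1690
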