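import Cfsg.Agent.Lib.Helper9.TCData.X1690.Main

set_option autoImplicit false
set_option maxRecDepth 1000000

namespace Cfsg.Agent.Helper9.TCData.X1690
open Cfsg.Agent.Helper9.TC2

theorem m2_6027 : allRange 259161 43 (fun u => chkFix tab mwordsA u) = true := by decide +kernel

theorem m2_6028 : allRange 259204 43 (fun u => chkFix tab mwordsA u) = true := by decide +kernel

theorem m2_6029 : allRange 259247 43 (fun u => chkFix tab mwordsA u) = true := by decide +kernel

theorem m2_6030 : allRange 259290 43 (fun u => chkFix tab mwordsA u) = true := by decide +kernel

theorem m2_6031 : allRange 259333 43 (fun u => chkFix tab mwordsA u) = true := by decide +kernel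

theorem m2_6032 : allRange 259376 43 (fun u => chkFix tab mwordsA u) = true := by decide +kernel

theorem m2_6033 : allRange 259419 43 (fun u => chkFix tab mwordsA u) = true := by decide +kernel

theorem m2_6034 : allRange 259462 43 (fun u => chkFix tab mwordsA u) = true := by decide +kernel

theorem m2_6035 : allRange 259505 43 (fun u => chkFix tab mwordsA u) = true := by decide +kernel

theorem m2_6036 : allRange 259548 43 (fun u => chkFix tab mwordsA u) = true := by decide +kernel


end Cfsg.Agent.Helper9.TCData.X1690
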