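import Cfsg.Agent.Lib.Helper9.TCData.X1690.Main

set_option autoImplicit false
set_option maxRecDepth 1000000

namespace Cfsg.Agent.Helper9.TCData.X1690
open Cfsg.Agent.Helper9.TC2

theorem m2_6037 : allRange 259591 43 (fun u => chkFix tab mwordsA u) = true := by decide +kernel

theorem m2_6038 : allRange 259634 43 (fun u => chkFix tab mwordsA u) = true := by decide +kernel

theorem m2_6039 : allRange 259677 43 (fun u => chkFix tab mwordsA u) = true := by decide +kernel

theorem m2_6040 : allRange 259720 43 (fun u => chkFix tab mwordsA u) = true := by decide +kernel

theorem m2_6041 : allRange 259763 43 (fun u => chkFix tab mwordsA u) = true := by decide +kernel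

theorem m2_6042 : allRange 259806 43 (fun u => chkFix tab mwordsA u) = true := by decide +kernel

theorem m2_6043 : allRange 259849 43 (fun u => chkFix tab mwordsA u) = true := by decide +kernel

theorem m2_6044 : allRange 259892 43 (fun u => chkFix tab mwordsA u) = true := by decide +kernel

theorem m2_6045 : allRange 259935 43 (fun u => chkFix tab mwordsA u) = true := by decide +kernel

theorem m2_6046 : allRange 259978 43 (fun u => chkFix tab mwordsA u) = true := by decide +kernel


end Cfsg.Agent.Helper9.TCData.X1690
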