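import Cfsg.Agent.Lib.Helper9.TCData.X1690.Main

set_option autoImplicit false
set_option maxRecDepth 1000000

namespace Cfsg.Agent.Helper9.TCData.X1690
open Cfsg.Agent.Helper9.TC2

theorem m2_6047 : allRange 260021 43 (fun u => chkFix tab mwordsA u) = true := by decide +kernel

theorem m2_6048 : allRange 260064 43 (fun u => chkFix tab mwordsA u) = true := by decide +kernel

theorem m2_6049 : allRange 260107 43 (fun u => chkFix tab mwordsA u) = true := by decide +kernel

theorem m2_6050 : allRange 260150 43 (fun u => chkFix tab mwordsA u) = true := by decide +kernel

theorem m2_6051 : allRange 260193 43 (fun u => chkFix tab mwordsA u) = true := by decide +kernel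

theorem m2_6052 : allRange 260236 43 (fun u => chkFix tab mwordsA u) = true := by decide +kernel

theorem m2_6053 : allRange 260279 43 (fun u => chkFix tab mwordsA u) = true := by decide +kernel

theorem m2_6054 : allRange 260322 43 (fun u => chkFix tab mwordsA u) = true := by decide +kernel

theorem m2_6055 : allRange 260365 43 (fun u => chkFix tab mwordsA u) = true := by decide +kernel

theorem m2_6056 : allRange 260408 43 (fun u => chkFix tab mwordsA u) = true := by decide +kernel


end Cfsg.Agent.Helper9.TCData.X1690
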