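import Cfsg.Agent.Lib.Helper9.TCData.X1690.Main

set_option autoImplicit false
set_option maxRecDepth 1000000

namespace Cfsg.Agent.Helper9.TCData.X1690
open Cfsg.Agent.Helper9.TC2

theorem m2_6057 : allRange 260451 43 (fun u => chkFix tab mwordsA u) = true := by decide +kernel

theorem m2_6058 : allRange 260494 43 (fun u => chkFix tab mwordsA u) = true := by decide +kernel

theorem m2_6059 : allRange 260537 43 (fun u => chkFix tab mwordsA u) = true := by decide +kernel

theorem m2_6060 : allRange 260580 43 (fun u => chkFix tab mwordsA u) = true := by decide +kernel

theorem m2_6061 : allRange 260623 43 (fun u => chkFix tab mwordsA u) = true := by decide +kernel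

theorem m2_6062 : allRange 260666 43 (fun u => chkFix tab mwordsA u) = true := by decide +kernel

theorem m2_6063 : allRange 260709 43 (fun u => chkFix tab mwordsA u) = true := by decide +kernel

theorem m2_6064 : allRange 260752 43 (fun u => chkFix tab mwordsA u) = true := by decide +kernel

theorem m2_6065 : allRange 260795 43 (fun u => chkFix tab mwordsA u) = true := by decide +kernel

theorem m2_6066 : allRange 260838 43 (fun u => chkFix tab mwordsA u) = true := by decide +kernel


end Cfsg.Agent.Helper9.TCData.X1690
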