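import Cfsg.Agent.Lib.Helper9.TCData.X1690.Main

set_option autoImplicit false
set_option maxRecDepth 1000000

namespace Cfsg.Agent.Helper9.TCData.X1690
open Cfsg.Agent.Helper9.TC2

theorem m2_6067 : allRange 260881 43 (fun u => chkFix tab mwordsA u) = true := by decide +kernel

theorem m2_6068 : allRange 260924 43 (fun u => chkFix tab mwordsA u) = true := by decide +kernel

theorem m2_6069 : allRange 260967 43 (fun u => chkFix tab mwordsA u) = true := by decide +kernel

theorem m2_6070 : allRange 261010 43 (fun u => chkFix tab mwordsA u) = true := by decide +kernel

theorem m2_6071 : allRange 261053 43 (fun u => chkFix tab mwordsA u) = true := by decide +kernel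

theorem m2_6072 : allRange 261096 43 (fun u => chkFix tab mwordsA u) = true := by decide +kernel

theorem m2_6073 : allRange 261139 43 (fun u => chkFix tab mwordsA u) = true := by decide +kernel

theorem m2_6074 : allRange 261182 43 (fun u => chkFix tab mwordsA u) = true := by decide +kernel

theorem m2_6075 : allRange 261225 43 (fun u => chkFix tab mwordsA u) = true := by decide +kernel

theorem m2_6076 : allRange 261268 43 (fun u => chkFix tab mwordsA u) = true := by decide +kernel


end Cfsg.Agent.Helper9.TCData.X1690
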