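import Cfsg.Agent.Lib.Helper9.TCData.X1690.Main

set_option autoImplicit false
set_option maxRecDepth 1000000

namespace Cfsg.Agent.Helper9.TCData.X1690
open Cfsg.Agent.Helper9.TC2

theorem m2_6077 : allRange 261311 43 (fun u => chkFix tab mwordsA u) = true := by decide +kernel

theorem m2_6078 : allRange 261354 43 (fun u => chkFix tab mwordsA u) = true := by decide +kernel

theorem m2_6079 : allRange 261397 43 (fun u => chkFix tab mwordsA u) = true := by decide +kernel

theorem m2_6080 : allRange 261440 43 (fun u => chkFix tab mwordsA u) = true := by decide +kernel

theorem m2_6081 : allRange 261483 43 (fun u => chkFix tab mwordsA u) = true := by decide +kernel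

theorem m2_6082 : allRange 261526 43 (fun u => chkFix tab mwordsA u) = true := by decide +kernel

theorem m2_6083 : allRange 261569 43 (fun u => chkFix tab mwordsA u) = true := by decide +kernel

theorem m2_6084 : allRange 261612 43 (fun u => chkFix tab mwordsA u) = true := by decide +kernel

theorem m2_6085 : allRange 261655 43 (fun u => chkFix tab mwordsA u) = true := by decide +kernel

theorem m2_6086 : allRange 261698 43 (fun u => chkFix tab mwordsA u) = true := by decide +kernel


end Cfsg.Agent.Helper9.TCData.X1690
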