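import Cfsg.Agent.Lib.Helper9.TCData.X1690.Main

set_option autoImplicit false
set_option maxRecDepth 1000000

namespace Cfsg.Agent.Helper9.TCData.X1690
open Cfsg.Agent.Helper9.TC2

theorem m2_6087 : allRange 261741 43 (fun u => chkFix tab mwordsA u) = true := by decide +kernel

theorem m2_6088 : allRange 261784 43 (fun u => chkFix tab mwordsA u) = true := by decide +kernel

theorem m2_6089 : allRange 261827 43 (fun u => chkFix tab mwordsA u) = true := by decide +kernel

theorem m2_6090 : allRange 261870 43 (fun u => chkFix tab mwordsA u) = true := by decide +kernel

theorem m2_6091 : allRange 261913 43 (fun u => chkFix tab mwordsA u) = true := by decide +kernel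

theorem m2_6092 : allRange 261956 43 (fun u => chkFix tab mwordsA u) = true := by decide +kernel

theorem m2_6093 : allRange 261999 43 (fun u => chkFix tab mwordsA u) = true := by decide +kernel

theorem m2_6094 : allRange 262042 43 (fun u => chkFix tab mwordsA u) = true := by decide +kernel

theorem m2_6095 : allRange 262085 43 (fun u => chkFix tab mwordsA u) = true := by decide +kernel

theorem m2_6096 : allRange 262128 43 (fun u => chkFix tab mwordsA u) = true := by decide +kernel


end Cfsg.Agent.Helper9.TCData.X1690
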