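import Cfsg.Agent.Lib.Helper9.TCData.X1690.Main

set_option autoImplicit false
set_option maxRecDepth 1000000

namespace Cfsg.Agent.Helper9.TCData.X1690
open Cfsg.Agent.Helper9.TC2

theorem m2_6097 : allRange 262171 43 (fun u => chkFix tab mwordsA u) = true := by decide +kernel

theorem m2_6098 : allRange 262214 43 (fun u => chkFix tab mwordsA u) = true := by decide +kernel

theorem m2_6099 : allRange 262257 43 (fun u => chkFix tab mwordsA u) = true := by decide +kernel

theorem m2_6100 : allRange 262300 43 (fun u => chkFix tab mwordsA u) = true := by decide +kernel

theorem m2_6101 : allRange 262343 43 (fun u => chkFix tab mwordsA u) = true := by decide +kernel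

theorem m2_6102 : allRange 262386 43 (fun u => chkFix tab mwordsA u) = true := by decide +kernel

theorem m2_6103 : allRange 262429 43 (fun u => chkFix tab mwordsA u) = true := by decide +kernel

theorem m2_6104 : allRange 262472 43 (fun u => chkFix tab mwordsA u) = true := by decide +kernel

theorem m2_6105 : allRange 262515 43 (fun u => chkFix tab mwordsA u) = true := by decide +kernel

theorem m2_6106 : allRange 262558 43 (fun u => chkFix tab mwordsA u) = true := by decide +kernel


end Cfsg.Agent.Helper9.TCData.X1690
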