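import Cfsg.Agent.Lib.Helper9.TCData.X1690.Main

set_option autoImplicit false
set_option maxRecDepth 1000000

namespace Cfsg.Agent.Helper9.TCData.X1690
open Cfsg.Agent.Helper9.TC2

theorem m2_6107 : allRange 262601 43 (fun u => chkFix tab mwordsA u) = true := by decide +kernel

theorem m2_6108 : allRange 262644 43 (fun u => chkFix tab mwordsA u) = true := by decide +kernel

theorem m2_6109 : allRange 262687 43 (fun u => chkFix tab mwordsA u) = true := by decide +kernel

theorem m2_6110 : allRange 262730 43 (fun u => chkFix tab mwordsA u) = true := by decide +kernel

theorem m2_6111 : allRange 262773 43 (fun u => chkFix tab mwordsA u) = true := by decide +kernel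

theorem m2_6112 : allRange 262816 43 (fun u => chkFix tab mwordsA u) = true := by decide +kernel

theorem m2_6113 : allRange 262859 43 (fun u => chkFix tab mwordsA u) = true := by decide +kernel

theorem m2_6114 : allRange 262902 43 (fun u => chkFix tab mwordsA u) = true := by decide +kernel

theorem m2_6115 : allRange 262945 43 (fun u => chkFix tab mwordsA u) = true := by decide +kernel

theorem m2_6116 : allRange 262988 43 (fun u => chkFix tab mwordsA u) = true := by decide +kernel


end Cfsg.Agent.Helper9.TCData.X1690
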