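import Cfsg.Agent.Lib.Helper9.TCData.X1690.Main

set_option autoImplicit false
set_option maxRecDepth 1000000

namespace Cfsg.Agent.Helper9.TCData.X1690
open Cfsg.Agent.Helper9.TC2

theorem m2_6127 : allRange 263461 43 (fun u => chkFix tab mwordsA u) = true := by decide +kernel

theorem m2_6128 : allRange 263504 43 (fun u => chkFix tab mwordsA u) = true := by decide +kernel

theorem m2_6129 : allRange 263547 43 (fun u => chkFix tab mwordsA u) = true := by decide +kernel

theorem m2_6130 : allRange 263590 43 (fun u => chkFix tab mwordsA u) = true := by decide +kernel

theorem m2_6131 : allRange 263633 43 (fun u => chkFix tab mwordsA u) = true := by decide +kernel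

theorem m2_6132 : allRange 263676 43 (fun u => chkFix tab mwordsA u) = true := by decide +kernel

theorem m2_6133 : allRange 263719 43 (fun u => chkFix tab mwordsA u) = true := by decide +kernel

theorem m2_6134 : allRange 263762 43 (fun u => chkFix tab mwordsA u) = true := by decide +kernel

theorem m2_6135 : allRange 263805 43 (fun u => chkFix tab mwordsA u) = true := by decide +kernel

theorem m2_6136 : allRange 263848 43 (fun u => chkFix tab mwordsA u) = true := by decide +kernel


end Cfsg.Agent.Helper9.TCData.X1690
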