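import Cfsg.Agent.Lib.Helper9.TCData.X1690.Main

set_option autoImplicit false
set_option maxRecDepth 1000000

namespace Cfsg.Agent.Helper9.TCData.X1690
open Cfsg.Agent.Helper9.TC2

theorem m2_6137 : allRange 263891 43 (fun u => chkFix tab mwordsA u) = true := by decide +kernel

theorem m2_6138 : allRange 263934 43 (fun u => chkFix tab mwordsA u) = true := by decide +kernel

theorem m2_6139 : allRange 263977 43 (fun u => chkFix tab mwordsA u) = true := by decide +kernel

theorem m2_6140 : allRange 264020 43 (fun u => chkFix tab mwordsA u) = true := by decide +kernel

theorem m2_6141 : allRange 264063 43 (fun u => chkFix tab mwordsA u) = true := by decide +kernel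

theorem m2_6142 : allRange 264106 43 (fun u => chkFix tab mwordsA u) = true := by decide +kernel

theorem m2_6143 : allRange 264149 43 (fun u => chkFix tab mwordsA u) = true := by decide +kernel

theorem m2_6144 : allRange 264192 43 (fun u => chkFix tab mwordsA u) = true := by decide +kernel

theorem m2_6145 : allRange 264235 43 (fun u => chkFix tab mwordsA u) = true := by decide +kernel

theorem m2_6146 : allRange 264278 43 (fun u => chkFix tab mwordsA u) = true := by decide +kernel


end Cfsg.Agent.Helper9.TCData.X1690
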