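import Cfsg.Agent.Lib.Helper9.TCData.X1690.Main

set_option autoImplicit false
set_option maxRecDepth 1000000

namespace Cfsg.Agent.Helper9.TCData.X1690
open Cfsg.Agent.Helper9.TC2

theorem m2_6147 : allRange 264321 43 (fun u => chkFix tab mwordsA u) = true := by decide +kernel

theorem m2_6148 : allRange 264364 43 (fun u => chkFix tab mwordsA u) = true := by decide +kernel

theorem m2_6149 : allRange 264407 43 (fun u => chkFix tab mwordsA u) = true := by decide +kernel

theorem m2_6150 : allRange 264450 43 (fun u => chkFix tab mwordsA u) = true := by decide +kernel

theorem m2_6151 : allRange 264493 43 (fun u => chkFix tab mwordsA u) = true := by decide +kernel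

theorem m2_6152 : allRange 264536 43 (fun u => chkFix tab mwordsA u) = true := by decide +kernel

theorem m2_6153 : allRange 264579 43 (fun u => chkFix tab mwordsA u) = true := by decide +kernel

theorem m2_6154 : allRange 264622 43 (fun u => chkFix tab mwordsA u) = true := by decide +kernel

theorem m2_6155 : allRange 264665 43 (fun u => chkFix tab mwordsA u) = true := by decide +kernel

theorem m2_6156 : allRange 264708 43 (fun u => chkFix tab mwordsA u) = true := by decide +kernel


end Cfsg.Agent.Helper9.TCData.X1690
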