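import Cfsg.Agent.Lib.Helper9.TCData.X1690.Main

set_option autoImplicit false
set_option maxRecDepth 1000000

namespace Cfsg.Agent.Helper9.TCData.X1690
open Cfsg.Agent.Helper9.TC2

theorem m2_6157 : allRange 264751 43 (fun u => chkFix tab mwordsA u) = true := by decide +kernel

theorem m2_6158 : allRange 264794 43 (fun u => chkFix tab mwordsA u) = true := by decide +kernel

theorem m2_6159 : allRange 264837 43 (fun u => chkFix tab mwordsA u) = true := by decide +kernel

theorem m2_6160 : allRange 264880 43 (fun u => chkFix tab mwordsA u) = true := by decide +kernel

theorem m2_6161 : allRange 264923 43 (fun u => chkFix tab mwordsA u) = true := by decide +kernel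

theorem m2_6162 : allRange 264966 43 (fun u => chkFix tab mwordsA u) = true := by decide +kernel

theorem m2_6163 : allRange 265009 43 (fun u => chkFix tab mwordsA u) = true := by decide +kernel

theorem m2_6164 : allRange 265052 43 (fun u => chkFix tab mwordsA u) = true := by decide +kernel

theorem m2_6165 : allRange 265095 43 (fun u => chkFix tab mwordsA u) = true := by decide +kernel

theorem m2_6166 : allRange 265138 43 (fun u => chkFix tab mwordsA u) = true := by decide +kernel


end Cfsg.Agent.Helper9.TCData.X1690
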