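import Cfsg.Agent.Lib.Helper9.TCData.X1690.Main

set_option autoImplicit false
set_option maxRecDepth 1000000

namespace Cfsg.Agent.Helper9.TCData.X1690
open Cfsg.Agent.Helper9.TC2

theorem m2_6167 : allRange 265181 43 (fun u => chkFix tab mwordsA u) = true := by decide +kernel

theorem m2_6168 : allRange 265224 43 (fun u => chkFix tab mwordsA u) = true := by decide +kernel

theorem m2_6169 : allRange 265267 43 (fun u => chkFix tab mwordsA u) = true := by decide +kernel

theorem m2_6170 : allRange 265310 43 (fun u => chkFix tab mwordsA u) = true := by decide +kernel

theorem m2_6171 : allRange 265353 43 (fun u => chkFix tab mwordsA u) = true := by decide +kernel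

theorem m2_6172 : allRange 265396 43 (fun u => chkFix tab mwordsA u) = true := by decide +kernel

theorem m2_6173 : allRange 265439 43 (fun u => chkFix tab mwordsA u) = true := by decide +kernel

theorem m2_6174 : allRange 265482 43 (fun u => chkFix tab mwordsA u) = true := by decide +kernel

theorem m2_6175 : allRange 265525 43 (fun u => chkFix tab mwordsA u) = true := by decide +kernel

theorem m2_6176 : allRange 265568 43 (fun u => chkFix tab mwordsA u) = true := by decide +kernel


end Cfsg.Agent.Helper9.TCData.X1690
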