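import Cfsg.Agent.Lib.Helper9.TCData.X1690.Main

set_option autoImplicit false
set_option maxRecDepth 1000000

namespace Cfsg.Agent.Helper9.TCData.X1690
open Cfsg.Agent.Helper9.TC2

theorem m2_6177 : allRange 265611 43 (fun u => chkFix tab mwordsA u) = true := by decide +kernel

theorem m2_6178 : allRange 265654 43 (fun u => chkFix tab mwordsA u) = true := by decide +kernel

theorem m2_6179 : allRange 265697 43 (fun u => chkFix tab mwordsA u) = true := by decide +kernel

theorem m2_6180 : allRange 265740 43 (fun u => chkFix tab mwordsA u) = true := by decide +kernel

theorem m2_6181 : allRange 265783 43 (fun u => chkFix tab mwordsA u) = true := by decide +kernel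

theorem m2_6182 : allRange 265826 43 (fun u => chkFix tab mwordsA u) = true := by decide +kernel

theorem m2_6183 : allRange 265869 43 (fun u => chkFix tab mwordsA u) = true := by decide +kernel

theorem m2_6184 : allRange 265912 43 (fun u => chkFix tab mwordsA u) = true := by decide +kernel

theorem m2_6185 : allRange 265955 43 (fun u => chkFix tab mwordsA u) = true := by decide +kernel

theorem m2_6186 : allRange 265998 43 (fun u => chkFix tab mwordsA u) = true := by decide +kernel


end Cfsg.Agent.Helper9.TCData.X1690
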