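import Cfsg.Agent.Lib.Helper9.TCData.X1690.Main

set_option autoImplicit false
set_option maxRecDepth 1000000

namespace Cfsg.Agent.Helper9.TCData.X1690
open Cfsg.Agent.Helper9.TC2

theorem m2_6187 : allRange 266041 43 (fun u => chkFix tab mwordsA u) = true := by decide +kernel

theorem m2_6188 : allRange 266084 43 (fun u => chkFix tab mwordsA u) = true := by decide +kernel

theorem m2_6189 : allRange 266127 43 (fun u => chkFix tab mwordsA u) = true := by decide +kernel

theorem m2_6190 : allRange 266170 43 (fun u => chkFix tab mwordsA u) = true := by decide +kernel

theorem m2_6191 : allRange 266213 43 (fun u => chkFix tab mwordsA u) = true := by decide +kernel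

theorem m2_6192 : allRange 266256 43 (fun u => chkFix tab mwordsA u) = true := by decide +kernel

theorem m2_6193 : allRange 266299 43 (fun u => chkFix tab mwordsA u) = true := by decide +kernel

theorem m2_6194 : allRange 266342 43 (fun u => chkFix tab mwordsA u) = true := by decide +kernel

theorem m2_6195 : allRange 266385 43 (fun u => chkFix tab mwordsA u) = true := by decide +kernel

theorem m2_6196 : allRange 266428 43 (fun u => chkFix tab mwordsA u) = true := by decide +kernel


end Cfsg.Agent.Helper9.TCData.X1690
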