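import Cfsg.Agent.Lib.Helper9.TCData.X1690.Main

set_option autoImplicit false
set_option maxRecDepth 1000000

namespace Cfsg.Agent.Helper9.TCData.X1690
open Cfsg.Agent.Helper9.TC2

theorem m2_6197 : allRange 266471 43 (fun u => chkFix tab mwordsA u) = true := by decide +kernel

theorem m2_6198 : allRange 266514 43 (fun u => chkFix tab mwordsA u) = true := by decide +kernel

theorem m2_6199 : allRange 266557 43 (fun u => chkFix tab mwordsA u) = true := by decide +kernel

theorem m2_6200 : allRange 266600 43 (fun u => chkFix tab mwordsA u) = true := by decide +kernel

theorem m2_6201 : allRange 266643 43 (fun u => chkFix tab mwordsA u) = true := by decide +kernel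

theorem m2_6202 : allRange 266686 43 (fun u => chkFix tab mwordsA u) = true := by decide +kernel

theorem m2_6203 : allRange 266729 43 (fun u => chkFix tab mwordsA u) = true := by decide +kernel

theorem m2_6204 : allRange 266772 43 (fun u => chkFix tab mwordsA u) = true := by decide +kernel

theorem m2_6205 : allRange 266815 43 (fun u => chkFix tab mwordsA u) = true := by decide +kernel

theorem m2_6206 : allRange 266858 43 (fun u => chkFix tab mwordsA u) = true := by decide +kernel


end Cfsg.Agent.Helper9.TCData.X1690
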