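import Cfsg.Agent.Lib.Helper9.TCData.X1690.Main

set_option autoImplicit false
set_option maxRecDepth 1000000

namespace Cfsg.Agent.Helper9.TCData.X1690
open Cfsg.Agent.Helper9.TC2

theorem m2_6207 : allRange 266901 43 (fun u => chkFix tab mwordsA u) = true := by decide +kernel

theorem m2_6208 : allRange 266944 43 (fun u => chkFix tab mwordsA u) = true := by decide +kernel

theorem m2_6209 : allRange 266987 43 (fun u => chkFix tab mwordsA u) = true := by decide +kernel

theorem m2_6210 : allRange 267030 43 (fun u => chkFix tab mwordsA u) = true := by decide +kernel

theorem m2_6211 : allRange 267073 43 (fun u => chkFix tab mwordsA u) = true := by decide +kernel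

theorem m2_6212 : allRange 267116 43 (fun u => chkFix tab mwordsA u) = true := by decide +kernel

theorem m2_6213 : allRange 267159 43 (fun u => chkFix tab mwordsA u) = true := by decide +kernel

theorem m2_6214 : allRange 267202 43 (fun u => chkFix tab mwordsA u) = true := by decide +kernel

theorem m2_6215 : allRange 267245 43 (fun u => chkFix tab mwordsA u) = true := by decide +kernel

theorem m2_6216 : allRange 267288 43 (fun u => chkFix tab mwordsA u) = true := by decide +kernel


end Cfsg.Agent.Helper9.TCData.X1690
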