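import Cfsg.Agent.Lib.Helper9.TCData.X1690.Main

set_option autoImplicit false
set_option maxRecDepth 1000000

namespace Cfsg.Agent.Helper9.TCData.X1690
open Cfsg.Agent.Helper9.TC2

theorem e6_106 : allRange 278842 2581 (fun u => chkE tab 6 u) = true := by decide +kernel

theorem e6_107 : allRange 281423 2823 (fun u => chkE tab 6 u) = true := by decide +kernel

theorem e6_108 : allRange 284246 3475 (fun u => chkE tab 6 u) = true := by decide +kernel

theorem e6_109 : allRange 287721 3076 (fun u => chkE tab 6 u) = true := by decide +kernel

theorem e6_110 : allRange 290797 2869 (fun u => chkE tab 6 u) = true := by decide +kernel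

theorem e6_111 : allRange 293666 2969 (fun u => chkE tab 6 u) = true := by decide +kernel

theorem e6_112 : allRange 296635 2934 (fun u => chkE tab 6 u) = true := by decide +kernel

theorem e6_113 : allRange 299569 2718 (fun u => chkE tab 6 u) = true := by decide +kernel

theorem e6_114 : allRange 302287 2543 (fun u => chkE tab 6 u) = true := by decide +kernel

theorem e6_115 : allRange 304830 2540 (fun u => chkE tab 6 u) = true := by decide +kernel


end Cfsg.Agent.Helper9.TCData.X1690
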