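import Cfsg.Agent.Lib.Helper9.TCData.X1690.Main

set_option autoImplicit false
set_option maxRecDepth 1000000

namespace Cfsg.Agent.Helper9.TCData.X1690
open Cfsg.Agent.Helper9.TC2

theorem m2_6217 : allRange 267331 43 (fun u => chkFix tab mwordsA u) = true := by decide +kernel

theorem m2_6218 : allRange 267374 43 (fun u => chkFix tab mwordsA u) = true := by decide +kernel

theorem m2_6219 : allRange 267417 43 (fun u => chkFix tab mwordsA u) = true := by decide +kernel

theorem m2_6220 : allRange 267460 43 (fun u => chkFix tab mwordsA u) = true := by decide +kernel

theorem m2_6221 : allRange 267503 43 (fun u => chkFix tab mwordsA u) = true := by decide +kernel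

theorem m2_6222 : allRange 267546 43 (fun u => chkFix tab mwordsA u) = true := by decide +kernel

theorem m2_6223 : allRange 267589 43 (fun u => chkFix tab mwordsA u) = true := by decide +kernel

theorem m2_6224 : allRange 267632 43 (fun u => chkFix tab mwordsA u) = true := by decide +kernel

theorem m2_6225 : allRange 267675 43 (fun u => chkFix tab mwordsA u) = true := by decide +kernel

theorem m2_6226 : allRange 267718 43 (fun u => chkFix tab mwordsA u) = true := by decide +kernel


end Cfsg.Agent.Helper9.TCData.X1690
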