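import Cfsg.Agent.Lib.Helper9.TCData.X1690.Main

set_option autoImplicit false
set_option maxRecDepth 1000000

namespace Cfsg.Agent.Helper9.TCData.X1690
open Cfsg.Agent.Helper9.TC2

theorem m2_6227 : allRange 267761 43 (fun u => chkFix tab mwordsA u) = true := by decide +kernel

theorem m2_6228 : allRange 267804 43 (fun u => chkFix tab mwordsA u) = true := by decide +kernel

theorem m2_6229 : allRange 267847 43 (fun u => chkFix tab mwordsA u) = true := by decide +kernel

theorem m2_6230 : allRange 267890 43 (fun u => chkFix tab mwordsA u) = true := by decide +kernel

theorem m2_6231 : allRange 267933 43 (fun u => chkFix tab mwordsA u) = true := by decide +kernel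

theorem m2_6232 : allRange 267976 43 (fun u => chkFix tab mwordsA u) = true := by decide +kernel

theorem m2_6233 : allRange 268019 43 (fun u => chkFix tab mwordsA u) = true := by decide +kernel

theorem m2_6234 : allRange 268062 43 (fun u => chkFix tab mwordsA u) = true := by decide +kernel

theorem m2_6235 : allRange 268105 43 (fun u => chkFix tab mwordsA u) = true := by decide +kernel

theorem m2_6236 : allRange 268148 43 (fun u => chkFix tab mwordsA u) = true := by decide +kernel


end Cfsg.Agent.Helper9.TCData.X1690
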