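import Cfsg.Agent.Lib.Helper9.TCData.X1690.Main

set_option autoImplicit false
set_option maxRecDepth 1000000

namespace Cfsg.Agent.Helper9.TCData.X1690
open Cfsg.Agent.Helper9.TC2

theorem m2_6247 : allRange 268621 43 (fun u => chkFix tab mwordsA u) = true := by decide +kernel

theorem m2_6248 : allRange 268664 43 (fun u => chkFix tab mwordsA u) = true := by decide +kernel

theorem m2_6249 : allRange 268707 43 (fun u => chkFix tab mwordsA u) = true := by decide +kernel

theorem m2_6250 : allRange 268750 43 (fun u => chkFix tab mwordsA u) = true := by decide +kernel

theorem m2_6251 : allRange 268793 43 (fun u => chkFix tab mwordsA u) = true := by decide +kernel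

theorem m2_6252 : allRange 268836 43 (fun u => chkFix tab mwordsA u) = true := by decide +kernel

theorem m2_6253 : allRange 268879 43 (fun u => chkFix tab mwordsA u) = true := by decide +kernel

theorem m2_6254 : allRange 268922 43 (fun u => chkFix tab mwordsA u) = true := by decide +kernel

theorem m2_6255 : allRange 268965 43 (fun u => chkFix tab mwordsA u) = true := by decide +kernel

theorem m2_6256 : allRange 269008 43 (fun u => chkFix tab mwordsA u) = true := by decide +kernel


end Cfsg.Agent.Helper9.TCData.X1690
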