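import Cfsg.Agent.Lib.Helper9.TCData.X1690.Main

set_option autoImplicit false
set_option maxRecDepth 1000000

namespace Cfsg.Agent.Helper9.TCData.X1690
open Cfsg.Agent.Helper9.TC2

theorem m2_6257 : allRange 269051 43 (fun u => chkFix tab mwordsA u) = true := by decide +kernel

theorem m2_6258 : allRange 269094 43 (fun u => chkFix tab mwordsA u) = true := by decide +kernel

theorem m2_6259 : allRange 269137 43 (fun u => chkFix tab mwordsA u) = true := by decide +kernel

theorem m2_6260 : allRange 269180 43 (fun u => chkFix tab mwordsA u) = true := by decide +kernel

theorem m2_6261 : allRange 269223 43 (fun u => chkFix tab mwordsA u) = true := by decide +kernel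

theorem m2_6262 : allRange 269266 43 (fun u => chkFix tab mwordsA u) = true := by decide +kernel

theorem m2_6263 : allRange 269309 43 (fun u => chkFix tab mwordsA u) = true := by decide +kernel

theorem m2_6264 : allRange 269352 43 (fun u => chkFix tab mwordsA u) = true := by decide +kernel

theorem m2_6265 : allRange 269395 43 (fun u => chkFix tab mwordsA u) = true := by decide +kernel

theorem m2_6266 : allRange 269438 43 (fun u => chkFix tab mwordsA u) = true := by decide +kernel


end Cfsg.Agent.Helper9.TCData.X1690
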