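import Cfsg.Agent.Lib.Helper9.TCData.X1690.Main

set_option autoImplicit false
set_option maxRecDepth 1000000

namespace Cfsg.Agent.Helper9.TCData.X1690
open Cfsg.Agent.Helper9.TC2

theorem m2_6267 : allRange 269481 43 (fun u => chkFix tab mwordsA u) = true := by decide +kernel

theorem m2_6268 : allRange 269524 43 (fun u => chkFix tab mwordsA u) = true := by decide +kernel

theorem m2_6269 : allRange 269567 43 (fun u => chkFix tab mwordsA u) = true := by decide +kernel

theorem m2_6270 : allRange 269610 43 (fun u => chkFix tab mwordsA u) = true := by decide +kernel

theorem m2_6271 : allRange 269653 43 (fun u => chkFix tab mwordsA u) = true := by decide +kernel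

theorem m2_6272 : allRange 269696 43 (fun u => chkFix tab mwordsA u) = true := by decide +kernel

theorem m2_6273 : allRange 269739 43 (fun u => chkFix tab mwordsA u) = true := by decide +kernel

theorem m2_6274 : allRange 269782 43 (fun u => chkFix tab mwordsA u) = true := by decide +kernel

theorem m2_6275 : allRange 269825 43 (fun u => chkFix tab mwordsA u) = true := by decide +kernel

theorem m2_6276 : allRange 269868 43 (fun u => chkFix tab mwordsA u) = true := by decide +kernel


end Cfsg.Agent.Helper9.TCData.X1690
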