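import Cfsg.Agent.Lib.Helper9.TCData.X1690.Main

set_option autoImplicit false
set_option maxRecDepth 1000000

namespace Cfsg.Agent.Helper9.TCData.X1690
open Cfsg.Agent.Helper9.TC2

theorem m2_6277 : allRange 269911 43 (fun u => chkFix tab mwordsA u) = true := by decide +kernel

theorem m2_6278 : allRange 269954 43 (fun u => chkFix tab mwordsA u) = true := by decide +kernel

theorem m2_6279 : allRange 269997 43 (fun u => chkFix tab mwordsA u) = true := by decide +kernel

theorem m2_6280 : allRange 270040 43 (fun u => chkFix tab mwordsA u) = true := by decide +kernel

theorem m2_6281 : allRange 270083 43 (fun u => chkFix tab mwordsA u) = true := by decide +kernel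

theorem m2_6282 : allRange 270126 43 (fun u => chkFix tab mwordsA u) = true := by decide +kernel

theorem m2_6283 : allRange 270169 43 (fun u => chkFix tab mwordsA u) = true := by decide +kernel

theorem m2_6284 : allRange 270212 43 (fun u => chkFix tab mwordsA u) = true := by decide +kernel

theorem m2_6285 : allRange 270255 43 (fun u => chkFix tab mwordsA u) = true := by decide +kernel

theorem m2_6286 : allRange 270298 43 (fun u => chkFix tab mwordsA u) = true := by decide +kernel


end Cfsg.Agent.Helper9.TCData.X1690
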