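import Cfsg.Agent.Lib.Helper9.TCData.X1690.Main

set_option autoImplicit false
set_option maxRecDepth 1000000

namespace Cfsg.Agent.Helper9.TCData.X1690
open Cfsg.Agent.Helper9.TC2

theorem m2_6287 : allRange 270341 43 (fun u => chkFix tab mwordsA u) = true := by decide +kernel

theorem m2_6288 : allRange 270384 43 (fun u => chkFix tab mwordsA u) = true := by decide +kernel

theorem m2_6289 : allRange 270427 43 (fun u => chkFix tab mwordsA u) = true := by decide +kernel

theorem m2_6290 : allRange 270470 43 (fun u => chkFix tab mwordsA u) = true := by decide +kernel

theorem m2_6291 : allRange 270513 43 (fun u => chkFix tab mwordsA u) = true := by decide +kernel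

theorem m2_6292 : allRange 270556 43 (fun u => chkFix tab mwordsA u) = true := by decide +kernel

theorem m2_6293 : allRange 270599 43 (fun u => chkFix tab mwordsA u) = true := by decide +kernel

theorem m2_6294 : allRange 270642 43 (fun u => chkFix tab mwordsA u) = true := by decide +kernel

theorem m2_6295 : allRange 270685 43 (fun u => chkFix tab mwordsA u) = true := by decide +kernel

theorem m2_6296 : allRange 270728 43 (fun u => chkFix tab mwordsA u) = true := by decide +kernel


end Cfsg.Agent.Helper9.TCData.X1690
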