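import Cfsg.Agent.Lib.Helper9.TCData.X1690.Main

set_option autoImplicit false
set_option maxRecDepth 1000000

namespace Cfsg.Agent.Helper9.TCData.X1690
open Cfsg.Agent.Helper9.TC2

theorem m2_6297 : allRange 270771 43 (fun u => chkFix tab mwordsA u) = true := by decide +kernel

theorem m2_6298 : allRange 270814 43 (fun u => chkFix tab mwordsA u) = true := by decide +kernel

theorem m2_6299 : allRange 270857 43 (fun u => chkFix tab mwordsA u) = true := by decide +kernel

theorem m2_6300 : allRange 270900 43 (fun u => chkFix tab mwordsA u) = true := by decide +kernel

theorem m2_6301 : allRange 270943 43 (fun u => chkFix tab mwordsA u) = true := by decide +kernel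

theorem m2_6302 : allRange 270986 43 (fun u => chkFix tab mwordsA u) = true := by decide +kernel

theorem m2_6303 : allRange 271029 43 (fun u => chkFix tab mwordsA u) = true := by decide +kernel

theorem m2_6304 : allRange 271072 43 (fun u => chkFix tab mwordsA u) = true := by decide +kernel

theorem m2_6305 : allRange 271115 43 (fun u => chkFix tab mwordsA u) = true := by decide +kernel

theorem m2_6306 : allRange 271158 43 (fun u => chkFix tab mwordsA u) = true := by decide +kernel


end Cfsg.Agent.Helper9.TCData.X1690
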