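import Cfsg.Agent.Lib.Helper9.TCData.X1690.Main

set_option autoImplicit false
set_option maxRecDepth 1000000

namespace Cfsg.Agent.Helper9.TCData.X1690
open Cfsg.Agent.Helper9.TC2

theorem m2_6307 : allRange 271201 43 (fun u => chkFix tab mwordsA u) = true := by decide +kernel

theorem m2_6308 : allRange 271244 43 (fun u => chkFix tab mwordsA u) = true := by decide +kernel

theorem m2_6309 : allRange 271287 43 (fun u => chkFix tab mwordsA u) = true := by decide +kernel

theorem m2_6310 : allRange 271330 43 (fun u => chkFix tab mwordsA u) = true := by decide +kernel

theorem m2_6311 : allRange 271373 43 (fun u => chkFix tab mwordsA u) = true := by decide +kernel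

theorem m2_6312 : allRange 271416 43 (fun u => chkFix tab mwordsA u) = true := by decide +kernel

theorem m2_6313 : allRange 271459 43 (fun u => chkFix tab mwordsA u) = true := by decide +kernel

theorem m2_6314 : allRange 271502 43 (fun u => chkFix tab mwordsA u) = true := by decide +kernel

theorem m2_6315 : allRange 271545 43 (fun u => chkFix tab mwordsA u) = true := by decide +kernel

theorem m2_6316 : allRange 271588 43 (fun u => chkFix tab mwordsA u) = true := by decide +kernel


end Cfsg.Agent.Helper9.TCData.X1690
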