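import Cfsg.Agent.Lib.Helper9.TCData.X1690.Main

set_option autoImplicit false
set_option maxRecDepth 1000000

namespace Cfsg.Agent.Helper9.TCData.X1690
open Cfsg.Agent.Helper9.TC2

theorem e0_110 : allRange 250861 1869 (fun u => chkE tab 0 u) = true := by decide +kernel

theorem e0_111 : allRange 252730 1757 (fun u => chkE tab 0 u) = true := by decide +kernel

theorem e0_112 : allRange 254487 1573 (fun u => chkE tab 0 u) = true := by decide +kernel

theorem e0_113 : allRange 256060 1519 (fun u => chkE tab 0 u) = true := by decide +kernel

theorem e0_114 : allRange 257579 1588 (fun u => chkE tab 0 u) = true := by decide +kernel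

theorem e0_115 : allRange 259167 4279 (fun u => chkE tab 0 u) = true := by decide +kernel

theorem e0_116 : allRange 263446 6025 (fun u => chkE tab 0 u) = true := by decide +kernel

theorem e0_117 : allRange 269471 1636 (fun u => chkE tab 0 u) = true := by decide +kernel

theorem e0_118 : allRange 271107 1682 (fun u => chkE tab 0 u) = true := by decide +kernel

theorem e0_119 : allRange 272789 1590 (fun u => chkE tab 0 u) = true := by decide +kernel


end Cfsg.Agent.Helper9.TCData.X1690
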