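import Cfsg.Agent.Lib.Helper9.TCData.X1690.Main

set_option autoImplicit false
set_option maxRecDepth 1000000

namespace Cfsg.Agent.Helper9.TCData.X1690
open Cfsg.Agent.Helper9.TC2

theorem e6_116 : allRange 307370 3064 (fun u => chkE tab 6 u) = true := by decide +kernel

theorem e6_117 : allRange 310434 3354 (fun u => chkE tab 6 u) = true := by decide +kernel

theorem e6_118 : allRange 313788 3071 (fun u => chkE tab 6 u) = true := by decide +kernel

theorem e6_119 : allRange 316859 2961 (fun u => chkE tab 6 u) = true := by decide +kernel

theorem e6_120 : allRange 319820 2769 (fun u => chkE tab 6 u) = true := by decide +kernel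

theorem e6_121 : allRange 322589 2790 (fun u => chkE tab 6 u) = true := by decide +kernel

theorem e6_122 : allRange 325379 2662 (fun u => chkE tab 6 u) = true := by decide +kernel

theorem e6_123 : allRange 328041 2473 (fun u => chkE tab 6 u) = true := by decide +kernel

theorem e6_124 : allRange 330514 2440 (fun u => chkE tab 6 u) = true := by decide +kernel

theorem e6_125 : allRange 332954 3268 (fun u => chkE tab 6 u) = true := by decide +kernel


end Cfsg.Agent.Helper9.TCData.X1690
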