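import Cfsg.Agent.Lib.Helper9.TCData.X1690.Main

set_option autoImplicit false
set_option maxRecDepth 1000000

namespace Cfsg.Agent.Helper9.TCData.X1690
open Cfsg.Agent.Helper9.TC2

theorem m2_6317 : allRange 271631 43 (fun u => chkFix tab mwordsA u) = true := by decide +kernel

theorem m2_6318 : allRange 271674 43 (fun u => chkFix tab mwordsA u) = true := by decide +kernel

theorem m2_6319 : allRange 271717 43 (fun u => chkFix tab mwordsA u) = true := by decide +kernel

theorem m2_6320 : allRange 271760 43 (fun u => chkFix tab mwordsA u) = true := by decide +kernel

theorem m2_6321 : allRange 271803 43 (fun u => chkFix tab mwordsA u) = true := by decide +kernel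

theorem m2_6322 : allRange 271846 43 (fun u => chkFix tab mwordsA u) = true := by decide +kernel

theorem m2_6323 : allRange 271889 43 (fun u => chkFix tab mwordsA u) = true := by decide +kernel

theorem m2_6324 : allRange 271932 43 (fun u => chkFix tab mwordsA u) = true := by decide +kernel

theorem m2_6325 : allRange 271975 43 (fun u => chkFix tab mwordsA u) = true := by decide +kernel

theorem m2_6326 : allRange 272018 43 (fun u => chkFix tab mwordsA u) = true := by decide +kernel


end Cfsg.Agent.Helper9.TCData.X1690
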