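import Cfsg.Agent.Lib.Helper9.TCData.X1690.Main

set_option autoImplicit false
set_option maxRecDepth 1000000

namespace Cfsg.Agent.Helper9.TCData.X1690
open Cfsg.Agent.Helper9.TC2

theorem m2_6327 : allRange 272061 43 (fun u => chkFix tab mwordsA u) = true := by decide +kernel

theorem m2_6328 : allRange 272104 43 (fun u => chkFix tab mwordsA u) = true := by decide +kernel

theorem m2_6329 : allRange 272147 43 (fun u => chkFix tab mwordsA u) = true := by decide +kernel

theorem m2_6330 : allRange 272190 43 (fun u => chkFix tab mwordsA u) = true := by decide +kernel

theorem m2_6331 : allRange 272233 43 (fun u => chkFix tab mwordsA u) = true := by decide +kernel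

theorem m2_6332 : allRange 272276 43 (fun u => chkFix tab mwordsA u) = true := by decide +kernel

theorem m2_6333 : allRange 272319 43 (fun u => chkFix tab mwordsA u) = true := by decide +kernel

theorem m2_6334 : allRange 272362 43 (fun u => chkFix tab mwordsA u) = true := by decide +kernel

theorem m2_6335 : allRange 272405 43 (fun u => chkFix tab mwordsA u) = true := by decide +kernel

theorem m2_6336 : allRange 272448 43 (fun u => chkFix tab mwordsA u) = true := by decide +kernel


end Cfsg.Agent.Helper9.TCData.X1690
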