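import Cfsg.Agent.Lib.Helper9.TCData.X1690.Main

set_option autoImplicit false
set_option maxRecDepth 1000000

namespace Cfsg.Agent.Helper9.TCData.X1690
open Cfsg.Agent.Helper9.TC2

theorem m2_6337 : allRange 272491 43 (fun u => chkFix tab mwordsA u) = true := by decide +kernel

theorem m2_6338 : allRange 272534 43 (fun u => chkFix tab mwordsA u) = true := by decide +kernel

theorem m2_6339 : allRange 272577 43 (fun u => chkFix tab mwordsA u) = true := by decide +kernel

theorem m2_6340 : allRange 272620 43 (fun u => chkFix tab mwordsA u) = true := by decide +kernel

theorem m2_6341 : allRange 272663 43 (fun u => chkFix tab mwordsA u) = true := by decide +kernel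

theorem m2_6342 : allRange 272706 43 (fun u => chkFix tab mwordsA u) = true := by decide +kernel

theorem m2_6343 : allRange 272749 43 (fun u => chkFix tab mwordsA u) = true := by decide +kernel

theorem m2_6344 : allRange 272792 43 (fun u => chkFix tab mwordsA u) = true := by decide +kernel

theorem m2_6345 : allRange 272835 43 (fun u => chkFix tab mwordsA u) = true := by decide +kernel

theorem m2_6346 : allRange 272878 43 (fun u => chkFix tab mwordsA u) = true := by decide +kernel


end Cfsg.Agent.Helper9.TCData.X1690
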