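import Cfsg.Agent.Lib.Helper9.TCData.X1690.Main

set_option autoImplicit false
set_option maxRecDepth 1000000

namespace Cfsg.Agent.Helper9.TCData.X1690
open Cfsg.Agent.Helper9.TC2

theorem m2_6347 : allRange 272921 43 (fun u => chkFix tab mwordsA u) = true := by decide +kernel

theorem m2_6348 : allRange 272964 43 (fun u => chkFix tab mwordsA u) = true := by decide +kernel

theorem m2_6349 : allRange 273007 43 (fun u => chkFix tab mwordsA u) = true := by decide +kernel

theorem m2_6350 : allRange 273050 43 (fun u => chkFix tab mwordsA u) = true := by decide +kernel

theorem m2_6351 : allRange 273093 43 (fun u => chkFix tab mwordsA u) = true := by decide +kernel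

theorem m2_6352 : allRange 273136 43 (fun u => chkFix tab mwordsA u) = true := by decide +kernel

theorem m2_6353 : allRange 273179 43 (fun u => chkFix tab mwordsA u) = true := by decide +kernel

theorem m2_6354 : allRange 273222 43 (fun u => chkFix tab mwordsA u) = true := by decide +kernel

theorem m2_6355 : allRange 273265 43 (fun u => chkFix tab mwordsA u) = true := by decide +kernel

theorem m2_6356 : allRange 273308 43 (fun u => chkFix tab mwordsA u) = true := by decide +kernel


end Cfsg.Agent.Helper9.TCData.X1690
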