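import Cfsg.Agent.Lib.Helper9.TCData.X1690.Main

set_option autoImplicit false
set_option maxRecDepth 1000000

namespace Cfsg.Agent.Helper9.TCData.X1690
open Cfsg.Agent.Helper9.TC2

theorem m2_6367 : allRange 273781 43 (fun u => chkFix tab mwordsA u) = true := by decide +kernel

theorem m2_6368 : allRange 273824 43 (fun u => chkFix tab mwordsA u) = true := by decide +kernel

theorem m2_6369 : allRange 273867 43 (fun u => chkFix tab mwordsA u) = true := by decide +kernel

theorem m2_6370 : allRange 273910 43 (fun u => chkFix tab mwordsA u) = true := by decide +kernel

theorem m2_6371 : allRange 273953 43 (fun u => chkFix tab mwordsA u) = true := by decide +kernel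

theorem m2_6372 : allRange 273996 43 (fun u => chkFix tab mwordsA u) = true := by decide +kernel

theorem m2_6373 : allRange 274039 43 (fun u => chkFix tab mwordsA u) = true := by decide +kernel

theorem m2_6374 : allRange 274082 43 (fun u => chkFix tab mwordsA u) = true := by decide +kernel

theorem m2_6375 : allRange 274125 43 (fun u => chkFix tab mwordsA u) = true := by decide +kernel

theorem m2_6376 : allRange 274168 43 (fun u => chkFix tab mwordsA u) = true := by decide +kernel


end Cfsg.Agent.Helper9.TCData.X1690
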