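import Cfsg.Agent.Lib.Helper9.TCData.X1690.Main

set_option autoImplicit false
set_option maxRecDepth 1000000

namespace Cfsg.Agent.Helper9.TCData.X1690
open Cfsg.Agent.Helper9.TC2

theorem m2_6387 : allRange 274641 43 (fun u => chkFix tab mwordsA u) = true := by decide +kernel

theorem m2_6388 : allRange 274684 43 (fun u => chkFix tab mwordsA u) = true := by decide +kernel

theorem m2_6389 : allRange 274727 43 (fun u => chkFix tab mwordsA u) = true := by decide +kernel

theorem m2_6390 : allRange 274770 43 (fun u => chkFix tab mwordsA u) = true := by decide +kernel

theorem m2_6391 : allRange 274813 43 (fun u => chkFix tab mwordsA u) = true := by decide +kernel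

theorem m2_6392 : allRange 274856 43 (fun u => chkFix tab mwordsA u) = true := by decide +kernel

theorem m2_6393 : allRange 274899 43 (fun u => chkFix tab mwordsA u) = true := by decide +kernel

theorem m2_6394 : allRange 274942 43 (fun u => chkFix tab mwordsA u) = true := by decide +kernel

theorem m2_6395 : allRange 274985 43 (fun u => chkFix tab mwordsA u) = true := by decide +kernel

theorem m2_6396 : allRange 275028 43 (fun u => chkFix tab mwordsA u) = true := by decide +kernel


end Cfsg.Agent.Helper9.TCData.X1690
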