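import Cfsg.Agent.Lib.Helper9.TCData.X1690.Main

set_option autoImplicit false
set_option maxRecDepth 1000000

namespace Cfsg.Agent.Helper9.TCData.X1690
open Cfsg.Agent.Helper9.TC2

theorem m2_6397 : allRange 275071 43 (fun u => chkFix tab mwordsA u) = true := by decide +kernel

theorem m2_6398 : allRange 275114 43 (fun u => chkFix tab mwordsA u) = true := by decide +kernel

theorem m2_6399 : allRange 275157 43 (fun u => chkFix tab mwordsA u) = true := by decide +kernel

theorem m2_6400 : allRange 275200 43 (fun u => chkFix tab mwordsA u) = true := by decide +kernel

theorem m2_6401 : allRange 275243 43 (fun u => chkFix tab mwordsA u) = true := by decide +kernel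

theorem m2_6402 : allRange 275286 43 (fun u => chkFix tab mwordsA u) = true := by decide +kernel

theorem m2_6403 : allRange 275329 43 (fun u => chkFix tab mwordsA u) = true := by decide +kernel

theorem m2_6404 : allRange 275372 43 (fun u => chkFix tab mwordsA u) = true := by decide +kernel

theorem m2_6405 : allRange 275415 43 (fun u => chkFix tab mwordsA u) = true := by decide +kernel

theorem m2_6406 : allRange 275458 43 (fun u => chkFix tab mwordsA u) = true := by decide +kernel


end Cfsg.Agent.Helper9.TCData.X1690
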