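import Cfsg.Agent.Lib.Helper9.TCData.X1690.Main

set_option autoImplicit false
set_option maxRecDepth 1000000

namespace Cfsg.Agent.Helper9.TCData.X1690
open Cfsg.Agent.Helper9.TC2

theorem m2_6407 : allRange 275501 43 (fun u => chkFix tab mwordsA u) = true := by decide +kernel

theorem m2_6408 : allRange 275544 43 (fun u => chkFix tab mwordsA u) = true := by decide +kernel

theorem m2_6409 : allRange 275587 43 (fun u => chkFix tab mwordsA u) = true := by decide +kernel

theorem m2_6410 : allRange 275630 43 (fun u => chkFix tab mwordsA u) = true := by decide +kernel

theorem m2_6411 : allRange 275673 43 (fun u => chkFix tab mwordsA u) = true := by decide +kernel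

theorem m2_6412 : allRange 275716 43 (fun u => chkFix tab mwordsA u) = true := by decide +kernel

theorem m2_6413 : allRange 275759 43 (fun u => chkFix tab mwordsA u) = true := by decide +kernel

theorem m2_6414 : allRange 275802 43 (fun u => chkFix tab mwordsA u) = true := by decide +kernel

theorem m2_6415 : allRange 275845 43 (fun u => chkFix tab mwordsA u) = true := by decide +kernel

theorem m2_6416 : allRange 275888 43 (fun u => chkFix tab mwordsA u) = true := by decide +kernel


end Cfsg.Agent.Helper9.TCData.X1690
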