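import Cfsg.Agent.Lib.Helper9.TCData.X1690.Main

set_option autoImplicit false
set_option maxRecDepth 1000000

namespace Cfsg.Agent.Helper9.TCData.X1690
open Cfsg.Agent.Helper9.TC2

theorem e6_126 : allRange 336222 3227 (fun u => chkE tab 6 u) = true := by decide +kernel

theorem e6_127 : allRange 339449 3064 (fun u => chkE tab 6 u) = true := by decide +kernel

theorem e6_128 : allRange 342513 2699 (fun u => chkE tab 6 u) = true := by decide +kernel

theorem e6_129 : allRange 345212 2709 (fun u => chkE tab 6 u) = true := by decide +kernel

theorem e6_130 : allRange 347921 2628 (fun u => chkE tab 6 u) = true := by decide +kernel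

theorem e6_131 : allRange 350549 2426 (fun u => chkE tab 6 u) = true := by decide +kernel

theorem e6_132 : allRange 352975 2246 (fun u => chkE tab 6 u) = true := by decide +kernel

theorem e6_133 : allRange 355221 3347 (fun u => chkE tab 6 u) = true := by decide +kernel

theorem e6_134 : allRange 358568 3079 (fun u => chkE tab 6 u) = true := by decide +kernel

theorem e6_135 : allRange 361647 2906 (fun u => chkE tab 6 u) = true := by decide +kernel


end Cfsg.Agent.Helper9.TCData.X1690
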