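import Cfsg.Agent.Lib.Helper9.TCData.X1690.Main

set_option autoImplicit false
set_option maxRecDepth 1000000

namespace Cfsg.Agent.Helper9.TCData.X1690
open Cfsg.Agent.Helper9.TC2

theorem m2_6417 : allRange 275931 43 (fun u => chkFix tab mwordsA u) = true := by decide +kernel

theorem m2_6418 : allRange 275974 43 (fun u => chkFix tab mwordsA u) = true := by decide +kernel

theorem m2_6419 : allRange 276017 43 (fun u => chkFix tab mwordsA u) = true := by decide +kernel

theorem m2_6420 : allRange 276060 43 (fun u => chkFix tab mwordsA u) = true := by decide +kernel

theorem m2_6421 : allRange 276103 43 (fun u => chkFix tab mwordsA u) = true := by decide +kernel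

theorem m2_6422 : allRange 276146 43 (fun u => chkFix tab mwordsA u) = true := by decide +kernel

theorem m2_6423 : allRange 276189 43 (fun u => chkFix tab mwordsA u) = true := by decide +kernel

theorem m2_6424 : allRange 276232 43 (fun u => chkFix tab mwordsA u) = true := by decide +kernel

theorem m2_6425 : allRange 276275 43 (fun u => chkFix tab mwordsA u) = true := by decide +kernel

theorem m2_6426 : allRange 276318 43 (fun u => chkFix tab mwordsA u) = true := by decide +kernel


end Cfsg.Agent.Helper9.TCData.X1690
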