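import Cfsg.Agent.Lib.Helper9.TCData.X1690.Main

set_option autoImplicit false
set_option maxRecDepth 1000000

namespace Cfsg.Agent.Helper9.TCData.X1690
open Cfsg.Agent.Helper9.TC2

theorem m2_6427 : allRange 276361 43 (fun u => chkFix tab mwordsA u) = true := by decide +kernel

theorem m2_6428 : allRange 276404 43 (fun u => chkFix tab mwordsA u) = true := by decide +kernel

theorem m2_6429 : allRange 276447 43 (fun u => chkFix tab mwordsA u) = true := by decide +kernel

theorem m2_6430 : allRange 276490 43 (fun u => chkFix tab mwordsA u) = true := by decide +kernel

theorem m2_6431 : allRange 276533 43 (fun u => chkFix tab mwordsA u) = true := by decide +kernel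

theorem m2_6432 : allRange 276576 43 (fun u => chkFix tab mwordsA u) = true := by decide +kernel

theorem m2_6433 : allRange 276619 43 (fun u => chkFix tab mwordsA u) = true := by decide +kernel

theorem m2_6434 : allRange 276662 43 (fun u => chkFix tab mwordsA u) = true := by decide +kernel

theorem m2_6435 : allRange 276705 43 (fun u => chkFix tab mwordsA u) = true := by decide +kernel

theorem m2_6436 : allRange 276748 43 (fun u => chkFix tab mwordsA u) = true := by decide +kernel


end Cfsg.Agent.Helper9.TCData.X1690
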