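import Cfsg.Agent.Lib.Helper9.TCData.X1690.Main

set_option autoImplicit false
set_option maxRecDepth 1000000

namespace Cfsg.Agent.Helper9.TCData.X1690
open Cfsg.Agent.Helper9.TC2

theorem m2_6437 : allRange 276791 43 (fun u => chkFix tab mwordsA u) = true := by decide +kernel

theorem m2_6438 : allRange 276834 43 (fun u => chkFix tab mwordsA u) = true := by decide +kernel

theorem m2_6439 : allRange 276877 43 (fun u => chkFix tab mwordsA u) = true := by decide +kernel

theorem m2_6440 : allRange 276920 43 (fun u => chkFix tab mwordsA u) = true := by decide +kernel

theorem m2_6441 : allRange 276963 43 (fun u => chkFix tab mwordsA u) = true := by decide +kernel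

theorem m2_6442 : allRange 277006 43 (fun u => chkFix tab mwordsA u) = true := by decide +kernel

theorem m2_6443 : allRange 277049 43 (fun u => chkFix tab mwordsA u) = true := by decide +kernel

theorem m2_6444 : allRange 277092 43 (fun u => chkFix tab mwordsA u) = true := by decide +kernel

theorem m2_6445 : allRange 277135 43 (fun u => chkFix tab mwordsA u) = true := by decide +kernel

theorem m2_6446 : allRange 277178 43 (fun u => chkFix tab mwordsA u) = true := by decide +kernel


end Cfsg.Agent.Helper9.TCData.X1690
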