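import Cfsg.Agent.Lib.Helper9.TCData.X1690.Main

set_option autoImplicit false
set_option maxRecDepth 1000000

namespace Cfsg.Agent.Helper9.TCData.X1690
open Cfsg.Agent.Helper9.TC2

theorem m2_6447 : allRange 277221 43 (fun u => chkFix tab mwordsA u) = true := by decide +kernel

theorem m2_6448 : allRange 277264 43 (fun u => chkFix tab mwordsA u) = true := by decide +kernel

theorem m2_6449 : allRange 277307 43 (fun u => chkFix tab mwordsA u) = true := by decide +kernel

theorem m2_6450 : allRange 277350 43 (fun u => chkFix tab mwordsA u) = true := by decide +kernel

theorem m2_6451 : allRange 277393 43 (fun u => chkFix tab mwordsA u) = true := by decide +kernel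

theorem m2_6452 : allRange 277436 43 (fun u => chkFix tab mwordsA u) = true := by decide +kernel

theorem m2_6453 : allRange 277479 43 (fun u => chkFix tab mwordsA u) = true := by decide +kernel

theorem m2_6454 : allRange 277522 43 (fun u => chkFix tab mwordsA u) = true := by decide +kernel

theorem m2_6455 : allRange 277565 43 (fun u => chkFix tab mwordsA u) = true := by decide +kernel

theorem m2_6456 : allRange 277608 43 (fun u => chkFix tab mwordsA u) = true := by decide +kernel


end Cfsg.Agent.Helper9.TCData.X1690
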