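import Cfsg.Agent.Lib.Helper9.TCData.X1690.Main

set_option autoImplicit false
set_option maxRecDepth 1000000

namespace Cfsg.Agent.Helper9.TCData.X1690
open Cfsg.Agent.Helper9.TC2

theorem m2_6457 : allRange 277651 43 (fun u => chkFix tab mwordsA u) = true := by decide +kernel

theorem m2_6458 : allRange 277694 43 (fun u => chkFix tab mwordsA u) = true := by decide +kernel

theorem m2_6459 : allRange 277737 43 (fun u => chkFix tab mwordsA u) = true := by decide +kernel

theorem m2_6460 : allRange 277780 43 (fun u => chkFix tab mwordsA u) = true := by decide +kernel

theorem m2_6461 : allRange 277823 43 (fun u => chkFix tab mwordsA u) = true := by decide +kernel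

theorem m2_6462 : allRange 277866 43 (fun u => chkFix tab mwordsA u) = true := by decide +kernel

theorem m2_6463 : allRange 277909 43 (fun u => chkFix tab mwordsA u) = true := by decide +kernel

theorem m2_6464 : allRange 277952 43 (fun u => chkFix tab mwordsA u) = true := by decide +kernel

theorem m2_6465 : allRange 277995 43 (fun u => chkFix tab mwordsA u) = true := by decide +kernel

theorem m2_6466 : allRange 278038 43 (fun u => chkFix tab mwordsA u) = true := by decide +kernel


end Cfsg.Agent.Helper9.TCData.X1690
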