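import Cfsg.Agent.Lib.Helper9.TCData.X1690.Main

set_option autoImplicit false
set_option maxRecDepth 1000000

namespace Cfsg.Agent.Helper9.TCData.X1690
open Cfsg.Agent.Helper9.TC2

theorem m2_6467 : allRange 278081 43 (fun u => chkFix tab mwordsA u) = true := by decide +kernel

theorem m2_6468 : allRange 278124 43 (fun u => chkFix tab mwordsA u) = true := by decide +kernel

theorem m2_6469 : allRange 278167 43 (fun u => chkFix tab mwordsA u) = true := by decide +kernel

theorem m2_6470 : allRange 278210 43 (fun u => chkFix tab mwordsA u) = true := by decide +kernel

theorem m2_6471 : allRange 278253 43 (fun u => chkFix tab mwordsA u) = true := by decide +kernel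

theorem m2_6472 : allRange 278296 43 (fun u => chkFix tab mwordsA u) = true := by decide +kernel

theorem m2_6473 : allRange 278339 43 (fun u => chkFix tab mwordsA u) = true := by decide +kernel

theorem m2_6474 : allRange 278382 43 (fun u => chkFix tab mwordsA u) = true := by decide +kernel

theorem m2_6475 : allRange 278425 43 (fun u => chkFix tab mwordsA u) = true := by decide +kernel

theorem m2_6476 : allRange 278468 43 (fun u => chkFix tab mwordsA u) = true := by decide +kernel


end Cfsg.Agent.Helper9.TCData.X1690
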