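import Cfsg.Agent.Lib.Helper9.TCData.X1690.Main

set_option autoImplicit false
set_option maxRecDepth 1000000

namespace Cfsg.Agent.Helper9.TCData.X1690
open Cfsg.Agent.Helper9.TC2

theorem m2_6487 : allRange 278941 43 (fun u => chkFix tab mwordsA u) = true := by decide +kernel

theorem m2_6488 : allRange 278984 43 (fun u => chkFix tab mwordsA u) = true := by decide +kernel

theorem m2_6489 : allRange 279027 43 (fun u => chkFix tab mwordsA u) = true := by decide +kernel

theorem m2_6490 : allRange 279070 43 (fun u => chkFix tab mwordsA u) = true := by decide +kernel

theorem m2_6491 : allRange 279113 43 (fun u => chkFix tab mwordsA u) = true := by decide +kernel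

theorem m2_6492 : allRange 279156 43 (fun u => chkFix tab mwordsA u) = true := by decide +kernel

theorem m2_6493 : allRange 279199 43 (fun u => chkFix tab mwordsA u) = true := by decide +kernel

theorem m2_6494 : allRange 279242 43 (fun u => chkFix tab mwordsA u) = true := by decide +kernel

theorem m2_6495 : allRange 279285 43 (fun u => chkFix tab mwordsA u) = true := by decide +kernel

theorem m2_6496 : allRange 279328 43 (fun u => chkFix tab mwordsA u) = true := by decide +kernel


end Cfsg.Agent.Helper9.TCData.X1690
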