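import Cfsg.Agent.Lib.Helper9.TCData.X1690.Main

set_option autoImplicit false
set_option maxRecDepth 1000000

namespace Cfsg.Agent.Helper9.TCData.X1690
open Cfsg.Agent.Helper9.TC2

theorem m2_6497 : allRange 279371 43 (fun u => chkFix tab mwordsA u) = true := by decide +kernel

theorem m2_6498 : allRange 279414 43 (fun u => chkFix tab mwordsA u) = true := by decide +kernel

theorem m2_6499 : allRange 279457 43 (fun u => chkFix tab mwordsA u) = true := by decide +kernel

theorem m2_6500 : allRange 279500 43 (fun u => chkFix tab mwordsA u) = true := by decide +kernel

theorem m2_6501 : allRange 279543 43 (fun u => chkFix tab mwordsA u) = true := by decide +kernel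

theorem m2_6502 : allRange 279586 43 (fun u => chkFix tab mwordsA u) = true := by decide +kernel

theorem m2_6503 : allRange 279629 43 (fun u => chkFix tab mwordsA u) = true := by decide +kernel

theorem m2_6504 : allRange 279672 43 (fun u => chkFix tab mwordsA u) = true := by decide +kernel

theorem m2_6505 : allRange 279715 43 (fun u => chkFix tab mwordsA u) = true := by decide +kernel

theorem m2_6506 : allRange 279758 43 (fun u => chkFix tab mwordsA u) = true := by decide +kernel


end Cfsg.Agent.Helper9.TCData.X1690
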