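import Cfsg.Agent.Lib.Helper9.TCData.X1690.Main

set_option autoImplicit false
set_option maxRecDepth 1000000

namespace Cfsg.Agent.Helper9.TCData.X1690
open Cfsg.Agent.Helper9.TC2

theorem m2_6507 : allRange 279801 43 (fun u => chkFix tab mwordsA u) = true := by decide +kernel

theorem m2_6508 : allRange 279844 43 (fun u => chkFix tab mwordsA u) = true := by decide +kernel

theorem m2_6509 : allRange 279887 43 (fun u => chkFix tab mwordsA u) = true := by decide +kernel

theorem m2_6510 : allRange 279930 43 (fun u => chkFix tab mwordsA u) = true := by decide +kernel

theorem m2_6511 : allRange 279973 43 (fun u => chkFix tab mwordsA u) = true := by decide +kernel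

theorem m2_6512 : allRange 280016 43 (fun u => chkFix tab mwordsA u) = true := by decide +kernel

theorem m2_6513 : allRange 280059 43 (fun u => chkFix tab mwordsA u) = true := by decide +kernel

theorem m2_6514 : allRange 280102 43 (fun u => chkFix tab mwordsA u) = true := by decide +kernel

theorem m2_6515 : allRange 280145 43 (fun u => chkFix tab mwordsA u) = true := by decide +kernel

theorem m2_6516 : allRange 280188 43 (fun u => chkFix tab mwordsA u) = true := by decide +kernel


end Cfsg.Agent.Helper9.TCData.X1690
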