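import Cfsg.Agent.Lib.Helper9.TCData.X1690.Main

set_option autoImplicit false
set_option maxRecDepth 1000000

namespace Cfsg.Agent.Helper9.TCData.X1690
open Cfsg.Agent.Helper9.TC2

theorem e6_136 : allRange 364553 2479 (fun u => chkE tab 6 u) = true := by decide +kernel

theorem e6_137 : allRange 367032 2526 (fun u => chkE tab 6 u) = true := by decide +kernel

theorem e6_138 : allRange 369558 2166 (fun u => chkE tab 6 u) = true := by decide +kernel

theorem e6_139 : allRange 371724 2986 (fun u => chkE tab 6 u) = true := by decide +kernel

theorem e6_140 : allRange 374710 2928 (fun u => chkE tab 6 u) = true := by decide +kernel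

theorem e6_141 : allRange 377638 2418 (fun u => chkE tab 6 u) = true := by decide +kernel

theorem e6_142 : allRange 380056 2408 (fun u => chkE tab 6 u) = true := by decide +kernel

theorem e6_143 : allRange 382464 2599 (fun u => chkE tab 6 u) = true := by decide +kernel

theorem e6_144 : allRange 385063 2638 (fun u => chkE tab 6 u) = true := by decide +kernel

theorem e6_145 : allRange 387701 2257 (fun u => chkE tab 6 u) = true := by decide +kernel


end Cfsg.Agent.Helper9.TCData.X1690
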