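import Cfsg.Agent.Lib.Helper9.TCData.X1690.Main

set_option autoImplicit false
set_option maxRecDepth 1000000

namespace Cfsg.Agent.Helper9.TCData.X1690
open Cfsg.Agent.Helper9.TC2

theorem m2_6517 : allRange 280231 43 (fun u => chkFix tab mwordsA u) = true := by decide +kernel

theorem m2_6518 : allRange 280274 43 (fun u => chkFix tab mwordsA u) = true := by decide +kernel

theorem m2_6519 : allRange 280317 43 (fun u => chkFix tab mwordsA u) = true := by decide +kernel

theorem m2_6520 : allRange 280360 43 (fun u => chkFix tab mwordsA u) = true := by decide +kernel

theorem m2_6521 : allRange 280403 43 (fun u => chkFix tab mwordsA u) = true := by decide +kernel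

theorem m2_6522 : allRange 280446 43 (fun u => chkFix tab mwordsA u) = true := by decide +kernel

theorem m2_6523 : allRange 280489 43 (fun u => chkFix tab mwordsA u) = true := by decide +kernel

theorem m2_6524 : allRange 280532 43 (fun u => chkFix tab mwordsA u) = true := by decide +kernel

theorem m2_6525 : allRange 280575 43 (fun u => chkFix tab mwordsA u) = true := by decide +kernel

theorem m2_6526 : allRange 280618 43 (fun u => chkFix tab mwordsA u) = true := by decide +kernel


end Cfsg.Agent.Helper9.TCData.X1690
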