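import Cfsg.Agent.Lib.Helper9.TCData.X1690.Main

set_option autoImplicit false
set_option maxRecDepth 1000000

namespace Cfsg.Agent.Helper9.TCData.X1690
open Cfsg.Agent.Helper9.TC2

theorem m2_6527 : allRange 280661 43 (fun u => chkFix tab mwordsA u) = true := by decide +kernel

theorem m2_6528 : allRange 280704 43 (fun u => chkFix tab mwordsA u) = true := by decide +kernel

theorem m2_6529 : allRange 280747 43 (fun u => chkFix tab mwordsA u) = true := by decide +kernel

theorem m2_6530 : allRange 280790 43 (fun u => chkFix tab mwordsA u) = true := by decide +kernel

theorem m2_6531 : allRange 280833 43 (fun u => chkFix tab mwordsA u) = true := by decide +kernel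

theorem m2_6532 : allRange 280876 43 (fun u => chkFix tab mwordsA u) = true := by decide +kernel

theorem m2_6533 : allRange 280919 43 (fun u => chkFix tab mwordsA u) = true := by decide +kernel

theorem m2_6534 : allRange 280962 43 (fun u => chkFix tab mwordsA u) = true := by decide +kernel

theorem m2_6535 : allRange 281005 43 (fun u => chkFix tab mwordsA u) = true := by decide +kernel

theorem m2_6536 : allRange 281048 43 (fun u => chkFix tab mwordsA u) = true := by decide +kernel


end Cfsg.Agent.Helper9.TCData.X1690
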