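import Cfsg.Agent.Lib.Helper9.TCData.X1690.Main

set_option autoImplicit false
set_option maxRecDepth 1000000

namespace Cfsg.Agent.Helper9.TCData.X1690
open Cfsg.Agent.Helper9.TC2

theorem m2_6537 : allRange 281091 43 (fun u => chkFix tab mwordsA u) = true := by decide +kernel

theorem m2_6538 : allRange 281134 43 (fun u => chkFix tab mwordsA u) = true := by decide +kernel

theorem m2_6539 : allRange 281177 43 (fun u => chkFix tab mwordsA u) = true := by decide +kernel

theorem m2_6540 : allRange 281220 43 (fun u => chkFix tab mwordsA u) = true := by decide +kernel

theorem m2_6541 : allRange 281263 43 (fun u => chkFix tab mwordsA u) = true := by decide +kernel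

theorem m2_6542 : allRange 281306 43 (fun u => chkFix tab mwordsA u) = true := by decide +kernel

theorem m2_6543 : allRange 281349 43 (fun u => chkFix tab mwordsA u) = true := by decide +kernel

theorem m2_6544 : allRange 281392 43 (fun u => chkFix tab mwordsA u) = true := by decide +kernel

theorem m2_6545 : allRange 281435 43 (fun u => chkFix tab mwordsA u) = true := by decide +kernel

theorem m2_6546 : allRange 281478 43 (fun u => chkFix tab mwordsA u) = true := by decide +kernel


end Cfsg.Agent.Helper9.TCData.X1690
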