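import Cfsg.Agent.Lib.Helper9.TCData.X1690.Main

set_option autoImplicit false
set_option maxRecDepth 1000000

namespace Cfsg.Agent.Helper9.TCData.X1690
open Cfsg.Agent.Helper9.TC2

theorem m2_6547 : allRange 281521 43 (fun u => chkFix tab mwordsA u) = true := by decide +kernel

theorem m2_6548 : allRange 281564 43 (fun u => chkFix tab mwordsA u) = true := by decide +kernel

theorem m2_6549 : allRange 281607 43 (fun u => chkFix tab mwordsA u) = true := by decide +kernel

theorem m2_6550 : allRange 281650 43 (fun u => chkFix tab mwordsA u) = true := by decide +kernel

theorem m2_6551 : allRange 281693 43 (fun u => chkFix tab mwordsA u) = true := by decide +kernel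

theorem m2_6552 : allRange 281736 43 (fun u => chkFix tab mwordsA u) = true := by decide +kernel

theorem m2_6553 : allRange 281779 43 (fun u => chkFix tab mwordsA u) = true := by decide +kernel

theorem m2_6554 : allRange 281822 43 (fun u => chkFix tab mwordsA u) = true := by decide +kernel

theorem m2_6555 : allRange 281865 43 (fun u => chkFix tab mwordsA u) = true := by decide +kernel

theorem m2_6556 : allRange 281908 43 (fun u => chkFix tab mwordsA u) = true := by decide +kernel


end Cfsg.Agent.Helper9.TCData.X1690
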