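import Cfsg.Agent.Lib.Helper9.TCData.X1690.Main

set_option autoImplicit false
set_option maxRecDepth 1000000

namespace Cfsg.Agent.Helper9.TCData.X1690
open Cfsg.Agent.Helper9.TC2

theorem m2_6557 : allRange 281951 43 (fun u => chkFix tab mwordsA u) = true := by decide +kernel

theorem m2_6558 : allRange 281994 43 (fun u => chkFix tab mwordsA u) = true := by decide +kernel

theorem m2_6559 : allRange 282037 43 (fun u => chkFix tab mwordsA u) = true := by decide +kernel

theorem m2_6560 : allRange 282080 43 (fun u => chkFix tab mwordsA u) = true := by decide +kernel

theorem m2_6561 : allRange 282123 43 (fun u => chkFix tab mwordsA u) = true := by decide +kernel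

theorem m2_6562 : allRange 282166 43 (fun u => chkFix tab mwordsA u) = true := by decide +kernel

theorem m2_6563 : allRange 282209 43 (fun u => chkFix tab mwordsA u) = true := by decide +kernel

theorem m2_6564 : allRange 282252 43 (fun u => chkFix tab mwordsA u) = true := by decide +kernel

theorem m2_6565 : allRange 282295 43 (fun u => chkFix tab mwordsA u) = true := by decide +kernel

theorem m2_6566 : allRange 282338 43 (fun u => chkFix tab mwordsA u) = true := by decide +kernel


end Cfsg.Agent.Helper9.TCData.X1690
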