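import Cfsg.Agent.Lib.Helper9.TCData.X1690.Main

set_option autoImplicit false
set_option maxRecDepth 1000000

namespace Cfsg.Agent.Helper9.TCData.X1690
open Cfsg.Agent.Helper9.TC2

theorem m2_6567 : allRange 282381 43 (fun u => chkFix tab mwordsA u) = true := by decide +kernel

theorem m2_6568 : allRange 282424 43 (fun u => chkFix tab mwordsA u) = true := by decide +kernel

theorem m2_6569 : allRange 282467 43 (fun u => chkFix tab mwordsA u) = true := by decide +kernel

theorem m2_6570 : allRange 282510 43 (fun u => chkFix tab mwordsA u) = true := by decide +kernel

theorem m2_6571 : allRange 282553 43 (fun u => chkFix tab mwordsA u) = true := by decide +kernel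

theorem m2_6572 : allRange 282596 43 (fun u => chkFix tab mwordsA u) = true := by decide +kernel

theorem m2_6573 : allRange 282639 43 (fun u => chkFix tab mwordsA u) = true := by decide +kernel

theorem m2_6574 : allRange 282682 43 (fun u => chkFix tab mwordsA u) = true := by decide +kernel

theorem m2_6575 : allRange 282725 43 (fun u => chkFix tab mwordsA u) = true := by decide +kernel

theorem m2_6576 : allRange 282768 43 (fun u => chkFix tab mwordsA u) = true := by decide +kernel


end Cfsg.Agent.Helper9.TCData.X1690
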