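import Cfsg.Agent.Lib.Helper9.TCData.X1690.Main

set_option autoImplicit false
set_option maxRecDepth 1000000

namespace Cfsg.Agent.Helper9.TCData.X1690
open Cfsg.Agent.Helper9.TC2

theorem m2_6577 : allRange 282811 43 (fun u => chkFix tab mwordsA u) = true := by decide +kernel

theorem m2_6578 : allRange 282854 43 (fun u => chkFix tab mwordsA u) = true := by decide +kernel

theorem m2_6579 : allRange 282897 43 (fun u => chkFix tab mwordsA u) = true := by decide +kernel

theorem m2_6580 : allRange 282940 43 (fun u => chkFix tab mwordsA u) = true := by decide +kernel

theorem m2_6581 : allRange 282983 43 (fun u => chkFix tab mwordsA u) = true := by decide +kernel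

theorem m2_6582 : allRange 283026 43 (fun u => chkFix tab mwordsA u) = true := by decide +kernel

theorem m2_6583 : allRange 283069 43 (fun u => chkFix tab mwordsA u) = true := by decide +kernel

theorem m2_6584 : allRange 283112 43 (fun u => chkFix tab mwordsA u) = true := by decide +kernel

theorem m2_6585 : allRange 283155 43 (fun u => chkFix tab mwordsA u) = true := by decide +kernel

theorem m2_6586 : allRange 283198 43 (fun u => chkFix tab mwordsA u) = true := by decide +kernel


end Cfsg.Agent.Helper9.TCData.X1690
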