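import Cfsg.Agent.Lib.Helper9.TCData.X1690.Main

set_option autoImplicit false
set_option maxRecDepth 1000000

namespace Cfsg.Agent.Helper9.TCData.X1690
open Cfsg.Agent.Helper9.TC2

theorem m2_6587 : allRange 283241 43 (fun u => chkFix tab mwordsA u) = true := by decide +kernel

theorem m2_6588 : allRange 283284 43 (fun u => chkFix tab mwordsA u) = true := by decide +kernel

theorem m2_6589 : allRange 283327 43 (fun u => chkFix tab mwordsA u) = true := by decide +kernel

theorem m2_6590 : allRange 283370 43 (fun u => chkFix tab mwordsA u) = true := by decide +kernel

theorem m2_6591 : allRange 283413 43 (fun u => chkFix tab mwordsA u) = true := by decide +kernel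

theorem m2_6592 : allRange 283456 43 (fun u => chkFix tab mwordsA u) = true := by decide +kernel

theorem m2_6593 : allRange 283499 43 (fun u => chkFix tab mwordsA u) = true := by decide +kernel

theorem m2_6594 : allRange 283542 43 (fun u => chkFix tab mwordsA u) = true := by decide +kernel

theorem m2_6595 : allRange 283585 43 (fun u => chkFix tab mwordsA u) = true := by decide +kernel

theorem m2_6596 : allRange 283628 43 (fun u => chkFix tab mwordsA u) = true := by decide +kernel


end Cfsg.Agent.Helper9.TCData.X1690
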