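import Cfsg.Agent.Lib.Helper9.TCData.X1690.Main

set_option autoImplicit false
set_option maxRecDepth 1000000

namespace Cfsg.Agent.Helper9.TCData.X1690
open Cfsg.Agent.Helper9.TC2

theorem m2_6607 : allRange 284101 43 (fun u => chkFix tab mwordsA u) = true := by decide +kernel

theorem m2_6608 : allRange 284144 43 (fun u => chkFix tab mwordsA u) = true := by decide +kernel

theorem m2_6609 : allRange 284187 43 (fun u => chkFix tab mwordsA u) = true := by decide +kernel

theorem m2_6610 : allRange 284230 43 (fun u => chkFix tab mwordsA u) = true := by decide +kernel

theorem m2_6611 : allRange 284273 43 (fun u => chkFix tab mwordsA u) = true := by decide +kernel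

theorem m2_6612 : allRange 284316 43 (fun u => chkFix tab mwordsA u) = true := by decide +kernel

theorem m2_6613 : allRange 284359 43 (fun u => chkFix tab mwordsA u) = true := by decide +kernel

theorem m2_6614 : allRange 284402 43 (fun u => chkFix tab mwordsA u) = true := by decide +kernel

theorem m2_6615 : allRange 284445 43 (fun u => chkFix tab mwordsA u) = true := by decide +kernel

theorem m2_6616 : allRange 284488 43 (fun u => chkFix tab mwordsA u) = true := by decide +kernel


end Cfsg.Agent.Helper9.TCData.X1690
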