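import Cfsg.Agent.Lib.Helper9.TCData.X1690.Main

set_option autoImplicit false
set_option maxRecDepth 1000000

namespace Cfsg.Agent.Helper9.TCData.X1690
open Cfsg.Agent.Helper9.TC2

theorem e6_146 : allRange 389958 2552 (fun u => chkE tab 6 u) = true := by decide +kernel

theorem e6_147 : allRange 392510 1944 (fun u => chkE tab 6 u) = true := by decide +kernel

theorem e7_0 : allRange 0 2174 (fun u => chkE tab 7 u) = true := by decide +kernel

theorem e7_1 : allRange 2174 2489 (fun u => chkE tab 7 u) = true := by decide +kernel

theorem e7_2 : allRange 4663 2482 (fun u => chkE tab 7 u) = true := by decide +kernel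

theorem e7_3 : allRange 7145 2617 (fun u => chkE tab 7 u) = true := by decide +kernel

theorem e7_4 : allRange 9762 2875 (fun u => chkE tab 7 u) = true := by decide +kernel

theorem e7_5 : allRange 12637 2297 (fun u => chkE tab 7 u) = true := by decide +kernel

theorem e7_6 : allRange 14934 2340 (fun u => chkE tab 7 u) = true := by decide +kernel

theorem e7_7 : allRange 17274 2251 (fun u => chkE tab 7 u) = true := by decide +kernel


end Cfsg.Agent.Helper9.TCData.X1690
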