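import Cfsg.Agent.Lib.Helper9.TCData.X1690.Main

set_option autoImplicit false
set_option maxRecDepth 1000000

namespace Cfsg.Agent.Helper9.TCData.X1690
open Cfsg.Agent.Helper9.TC2

theorem m2_6617 : allRange 284531 43 (fun u => chkFix tab mwordsA u) = true := by decide +kernel

theorem m2_6618 : allRange 284574 43 (fun u => chkFix tab mwordsA u) = true := by decide +kernel

theorem m2_6619 : allRange 284617 43 (fun u => chkFix tab mwordsA u) = true := by decide +kernel

theorem m2_6620 : allRange 284660 43 (fun u => chkFix tab mwordsA u) = true := by decide +kernel

theorem m2_6621 : allRange 284703 43 (fun u => chkFix tab mwordsA u) = true := by decide +kernel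

theorem m2_6622 : allRange 284746 43 (fun u => chkFix tab mwordsA u) = true := by decide +kernel

theorem m2_6623 : allRange 284789 43 (fun u => chkFix tab mwordsA u) = true := by decide +kernel

theorem m2_6624 : allRange 284832 43 (fun u => chkFix tab mwordsA u) = true := by decide +kernel

theorem m2_6625 : allRange 284875 43 (fun u => chkFix tab mwordsA u) = true := by decide +kernel

theorem m2_6626 : allRange 284918 43 (fun u => chkFix tab mwordsA u) = true := by decide +kernel


end Cfsg.Agent.Helper9.TCData.X1690
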