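import Cfsg.Agent.Lib.Helper9.TCData.X1690.Main

set_option autoImplicit false
set_option maxRecDepth 1000000

namespace Cfsg.Agent.Helper9.TCData.X1690
open Cfsg.Agent.Helper9.TC2

theorem m2_6627 : allRange 284961 43 (fun u => chkFix tab mwordsA u) = true := by decide +kernel

theorem m2_6628 : allRange 285004 43 (fun u => chkFix tab mwordsA u) = true := by decide +kernel

theorem m2_6629 : allRange 285047 43 (fun u => chkFix tab mwordsA u) = true := by decide +kernel

theorem m2_6630 : allRange 285090 43 (fun u => chkFix tab mwordsA u) = true := by decide +kernel

theorem m2_6631 : allRange 285133 43 (fun u => chkFix tab mwordsA u) = true := by decide +kernel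

theorem m2_6632 : allRange 285176 43 (fun u => chkFix tab mwordsA u) = true := by decide +kernel

theorem m2_6633 : allRange 285219 43 (fun u => chkFix tab mwordsA u) = true := by decide +kernel

theorem m2_6634 : allRange 285262 43 (fun u => chkFix tab mwordsA u) = true := by decide +kernel

theorem m2_6635 : allRange 285305 43 (fun u => chkFix tab mwordsA u) = true := by decide +kernel

theorem m2_6636 : allRange 285348 43 (fun u => chkFix tab mwordsA u) = true := by decide +kernel


end Cfsg.Agent.Helper9.TCData.X1690
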