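import Cfsg.Agent.Lib.Helper9.TCData.X1690.Main

set_option autoImplicit false
set_option maxRecDepth 1000000

namespace Cfsg.Agent.Helper9.TCData.X1690
open Cfsg.Agent.Helper9.TC2

theorem m2_6637 : allRange 285391 43 (fun u => chkFix tab mwordsA u) = true := by decide +kernel

theorem m2_6638 : allRange 285434 43 (fun u => chkFix tab mwordsA u) = true := by decide +kernel

theorem m2_6639 : allRange 285477 43 (fun u => chkFix tab mwordsA u) = true := by decide +kernel

theorem m2_6640 : allRange 285520 43 (fun u => chkFix tab mwordsA u) = true := by decide +kernel

theorem m2_6641 : allRange 285563 43 (fun u => chkFix tab mwordsA u) = true := by decide +kernel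

theorem m2_6642 : allRange 285606 43 (fun u => chkFix tab mwordsA u) = true := by decide +kernel

theorem m2_6643 : allRange 285649 43 (fun u => chkFix tab mwordsA u) = true := by decide +kernel

theorem m2_6644 : allRange 285692 43 (fun u => chkFix tab mwordsA u) = true := by decide +kernel

theorem m2_6645 : allRange 285735 43 (fun u => chkFix tab mwordsA u) = true := by decide +kernel

theorem m2_6646 : allRange 285778 43 (fun u => chkFix tab mwordsA u) = true := by decide +kernel


end Cfsg.Agent.Helper9.TCData.X1690
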