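import Cfsg.Agent.Lib.Helper9.TCData.X1690.Main

set_option autoImplicit false
set_option maxRecDepth 1000000

namespace Cfsg.Agent.Helper9.TCData.X1690
open Cfsg.Agent.Helper9.TC2

theorem m2_6647 : allRange 285821 43 (fun u => chkFix tab mwordsA u) = true := by decide +kernel

theorem m2_6648 : allRange 285864 43 (fun u => chkFix tab mwordsA u) = true := by decide +kernel

theorem m2_6649 : allRange 285907 43 (fun u => chkFix tab mwordsA u) = true := by decide +kernel

theorem m2_6650 : allRange 285950 43 (fun u => chkFix tab mwordsA u) = true := by decide +kernel

theorem m2_6651 : allRange 285993 43 (fun u => chkFix tab mwordsA u) = true := by decide +kernel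

theorem m2_6652 : allRange 286036 43 (fun u => chkFix tab mwordsA u) = true := by decide +kernel

theorem m2_6653 : allRange 286079 43 (fun u => chkFix tab mwordsA u) = true := by decide +kernel

theorem m2_6654 : allRange 286122 43 (fun u => chkFix tab mwordsA u) = true := by decide +kernel

theorem m2_6655 : allRange 286165 43 (fun u => chkFix tab mwordsA u) = true := by decide +kernel

theorem m2_6656 : allRange 286208 43 (fun u => chkFix tab mwordsA u) = true := by decide +kernel


end Cfsg.Agent.Helper9.TCData.X1690
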