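import Cfsg.Agent.Lib.Helper9.TCData.X1690.Main

set_option autoImplicit false
set_option maxRecDepth 1000000

namespace Cfsg.Agent.Helper9.TCData.X1690
open Cfsg.Agent.Helper9.TC2

theorem m2_6657 : allRange 286251 43 (fun u => chkFix tab mwordsA u) = true := by decide +kernel

theorem m2_6658 : allRange 286294 43 (fun u => chkFix tab mwordsA u) = true := by decide +kernel

theorem m2_6659 : allRange 286337 43 (fun u => chkFix tab mwordsA u) = true := by decide +kernel

theorem m2_6660 : allRange 286380 43 (fun u => chkFix tab mwordsA u) = true := by decide +kernel

theorem m2_6661 : allRange 286423 43 (fun u => chkFix tab mwordsA u) = true := by decide +kernel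

theorem m2_6662 : allRange 286466 43 (fun u => chkFix tab mwordsA u) = true := by decide +kernel

theorem m2_6663 : allRange 286509 43 (fun u => chkFix tab mwordsA u) = true := by decide +kernel

theorem m2_6664 : allRange 286552 43 (fun u => chkFix tab mwordsA u) = true := by decide +kernel

theorem m2_6665 : allRange 286595 43 (fun u => chkFix tab mwordsA u) = true := by decide +kernel

theorem m2_6666 : allRange 286638 43 (fun u => chkFix tab mwordsA u) = true := by decide +kernel


end Cfsg.Agent.Helper9.TCData.X1690
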