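import Cfsg.Agent.Lib.Helper9.TCData.X1690.Main

set_option autoImplicit false
set_option maxRecDepth 1000000

namespace Cfsg.Agent.Helper9.TCData.X1690
open Cfsg.Agent.Helper9.TC2

theorem m2_6667 : allRange 286681 43 (fun u => chkFix tab mwordsA u) = true := by decide +kernel

theorem m2_6668 : allRange 286724 43 (fun u => chkFix tab mwordsA u) = true := by decide +kernel

theorem m2_6669 : allRange 286767 43 (fun u => chkFix tab mwordsA u) = true := by decide +kernel

theorem m2_6670 : allRange 286810 43 (fun u => chkFix tab mwordsA u) = true := by decide +kernel

theorem m2_6671 : allRange 286853 43 (fun u => chkFix tab mwordsA u) = true := by decide +kernel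

theorem m2_6672 : allRange 286896 43 (fun u => chkFix tab mwordsA u) = true := by decide +kernel

theorem m2_6673 : allRange 286939 43 (fun u => chkFix tab mwordsA u) = true := by decide +kernel

theorem m2_6674 : allRange 286982 43 (fun u => chkFix tab mwordsA u) = true := by decide +kernel

theorem m2_6675 : allRange 287025 43 (fun u => chkFix tab mwordsA u) = true := by decide +kernel

theorem m2_6676 : allRange 287068 43 (fun u => chkFix tab mwordsA u) = true := by decide +kernel


end Cfsg.Agent.Helper9.TCData.X1690
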