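import Cfsg.Agent.Lib.Helper9.TCData.X1690.Main

set_option autoImplicit false
set_option maxRecDepth 1000000

namespace Cfsg.Agent.Helper9.TCData.X1690
open Cfsg.Agent.Helper9.TC2

theorem m2_6677 : allRange 287111 43 (fun u => chkFix tab mwordsA u) = true := by decide +kernel

theorem m2_6678 : allRange 287154 43 (fun u => chkFix tab mwordsA u) = true := by decide +kernel

theorem m2_6679 : allRange 287197 43 (fun u => chkFix tab mwordsA u) = true := by decide +kernel

theorem m2_6680 : allRange 287240 43 (fun u => chkFix tab mwordsA u) = true := by decide +kernel

theorem m2_6681 : allRange 287283 43 (fun u => chkFix tab mwordsA u) = true := by decide +kernel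

theorem m2_6682 : allRange 287326 43 (fun u => chkFix tab mwordsA u) = true := by decide +kernel

theorem m2_6683 : allRange 287369 43 (fun u => chkFix tab mwordsA u) = true := by decide +kernel

theorem m2_6684 : allRange 287412 43 (fun u => chkFix tab mwordsA u) = true := by decide +kernel

theorem m2_6685 : allRange 287455 43 (fun u => chkFix tab mwordsA u) = true := by decide +kernel

theorem m2_6686 : allRange 287498 43 (fun u => chkFix tab mwordsA u) = true := by decide +kernel


end Cfsg.Agent.Helper9.TCData.X1690
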