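import Cfsg.Agent.Lib.Helper9.TCData.X1690.Main

set_option autoImplicit false
set_option maxRecDepth 1000000

namespace Cfsg.Agent.Helper9.TCData.X1690
open Cfsg.Agent.Helper9.TC2

theorem m2_6687 : allRange 287541 43 (fun u => chkFix tab mwordsA u) = true := by decide +kernel

theorem m2_6688 : allRange 287584 43 (fun u => chkFix tab mwordsA u) = true := by decide +kernel

theorem m2_6689 : allRange 287627 43 (fun u => chkFix tab mwordsA u) = true := by decide +kernel

theorem m2_6690 : allRange 287670 43 (fun u => chkFix tab mwordsA u) = true := by decide +kernel

theorem m2_6691 : allRange 287713 43 (fun u => chkFix tab mwordsA u) = true := by decide +kernel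

theorem m2_6692 : allRange 287756 43 (fun u => chkFix tab mwordsA u) = true := by decide +kernel

theorem m2_6693 : allRange 287799 43 (fun u => chkFix tab mwordsA u) = true := by decide +kernel

theorem m2_6694 : allRange 287842 43 (fun u => chkFix tab mwordsA u) = true := by decide +kernel

theorem m2_6695 : allRange 287885 43 (fun u => chkFix tab mwordsA u) = true := by decide +kernel

theorem m2_6696 : allRange 287928 43 (fun u => chkFix tab mwordsA u) = true := by decide +kernel


end Cfsg.Agent.Helper9.TCData.X1690
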