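import Cfsg.Agent.Lib.Helper9.TCData.X1690.Main

set_option autoImplicit false
set_option maxRecDepth 1000000

namespace Cfsg.Agent.Helper9.TCData.X1690
open Cfsg.Agent.Helper9.TC2

theorem m2_6697 : allRange 287971 43 (fun u => chkFix tab mwordsA u) = true := by decide +kernel

theorem m2_6698 : allRange 288014 43 (fun u => chkFix tab mwordsA u) = true := by decide +kernel

theorem m2_6699 : allRange 288057 43 (fun u => chkFix tab mwordsA u) = true := by decide +kernel

theorem m2_6700 : allRange 288100 43 (fun u => chkFix tab mwordsA u) = true := by decide +kernel

theorem m2_6701 : allRange 288143 43 (fun u => chkFix tab mwordsA u) = true := by decide +kernel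

theorem m2_6702 : allRange 288186 43 (fun u => chkFix tab mwordsA u) = true := by decide +kernel

theorem m2_6703 : allRange 288229 43 (fun u => chkFix tab mwordsA u) = true := by decide +kernel

theorem m2_6704 : allRange 288272 43 (fun u => chkFix tab mwordsA u) = true := by decide +kernel

theorem m2_6705 : allRange 288315 43 (fun u => chkFix tab mwordsA u) = true := by decide +kernel

theorem m2_6706 : allRange 288358 43 (fun u => chkFix tab mwordsA u) = true := by decide +kernel


end Cfsg.Agent.Helper9.TCData.X1690
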