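import Cfsg.Agent.Lib.Helper9.TCData.X1690.Main

set_option autoImplicit false
set_option maxRecDepth 1000000

namespace Cfsg.Agent.Helper9.TCData.X1690
open Cfsg.Agent.Helper9.TC2

theorem m2_6707 : allRange 288401 43 (fun u => chkFix tab mwordsA u) = true := by decide +kernel

theorem m2_6708 : allRange 288444 43 (fun u => chkFix tab mwordsA u) = true := by decide +kernel

theorem m2_6709 : allRange 288487 43 (fun u => chkFix tab mwordsA u) = true := by decide +kernel

theorem m2_6710 : allRange 288530 43 (fun u => chkFix tab mwordsA u) = true := by decide +kernel

theorem m2_6711 : allRange 288573 43 (fun u => chkFix tab mwordsA u) = true := by decide +kernel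

theorem m2_6712 : allRange 288616 43 (fun u => chkFix tab mwordsA u) = true := by decide +kernel

theorem m2_6713 : allRange 288659 43 (fun u => chkFix tab mwordsA u) = true := by decide +kernel

theorem m2_6714 : allRange 288702 43 (fun u => chkFix tab mwordsA u) = true := by decide +kernel

theorem m2_6715 : allRange 288745 43 (fun u => chkFix tab mwordsA u) = true := by decide +kernel

theorem m2_6716 : allRange 288788 43 (fun u => chkFix tab mwordsA u) = true := by decide +kernel


end Cfsg.Agent.Helper9.TCData.X1690
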