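import Cfsg.Agent.Lib.Helper9.TCData.X1690.Main

set_option autoImplicit false
set_option maxRecDepth 1000000

namespace Cfsg.Agent.Helper9.TCData.X1690
open Cfsg.Agent.Helper9.TC2

theorem e7_8 : allRange 19525 2247 (fun u => chkE tab 7 u) = true := by decide +kernel

theorem e7_9 : allRange 21772 2162 (fun u => chkE tab 7 u) = true := by decide +kernel

theorem e7_10 : allRange 23934 2302 (fun u => chkE tab 7 u) = true := by decide +kernel

theorem e7_11 : allRange 26236 2202 (fun u => chkE tab 7 u) = true := by decide +kernel

theorem e7_12 : allRange 28438 2098 (fun u => chkE tab 7 u) = true := by decide +kernel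

theorem e7_13 : allRange 30536 2258 (fun u => chkE tab 7 u) = true := by decide +kernel

theorem e7_14 : allRange 32794 2307 (fun u => chkE tab 7 u) = true := by decide +kernel

theorem e7_15 : allRange 35101 2226 (fun u => chkE tab 7 u) = true := by decide +kernel

theorem e7_16 : allRange 37327 2171 (fun u => chkE tab 7 u) = true := by decide +kernel

theorem e7_17 : allRange 39498 2006 (fun u => chkE tab 7 u) = true := by decide +kernel


end Cfsg.Agent.Helper9.TCData.X1690
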