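import Cfsg.Agent.Lib.Helper9.TCData.X1690.Main

set_option autoImplicit false
set_option maxRecDepth 1000000

namespace Cfsg.Agent.Helper9.TCData.X1690
open Cfsg.Agent.Helper9.TC2

theorem m2_6727 : allRange 289261 43 (fun u => chkFix tab mwordsA u) = true := by decide +kernel

theorem m2_6728 : allRange 289304 43 (fun u => chkFix tab mwordsA u) = true := by decide +kernel

theorem m2_6729 : allRange 289347 43 (fun u => chkFix tab mwordsA u) = true := by decide +kernel

theorem m2_6730 : allRange 289390 43 (fun u => chkFix tab mwordsA u) = true := by decide +kernel

theorem m2_6731 : allRange 289433 43 (fun u => chkFix tab mwordsA u) = true := by decide +kernel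

theorem m2_6732 : allRange 289476 43 (fun u => chkFix tab mwordsA u) = true := by decide +kernel

theorem m2_6733 : allRange 289519 43 (fun u => chkFix tab mwordsA u) = true := by decide +kernel

theorem m2_6734 : allRange 289562 43 (fun u => chkFix tab mwordsA u) = true := by decide +kernel

theorem m2_6735 : allRange 289605 43 (fun u => chkFix tab mwordsA u) = true := by decide +kernel

theorem m2_6736 : allRange 289648 43 (fun u => chkFix tab mwordsA u) = true := by decide +kernel


end Cfsg.Agent.Helper9.TCData.X1690
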