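import Cfsg.Agent.Lib.Helper9.TCData.X1690.Main

set_option autoImplicit false
set_option maxRecDepth 1000000

namespace Cfsg.Agent.Helper9.TCData.X1690
open Cfsg.Agent.Helper9.TC2

theorem m2_6737 : allRange 289691 43 (fun u => chkFix tab mwordsA u) = true := by decide +kernel

theorem m2_6738 : allRange 289734 43 (fun u => chkFix tab mwordsA u) = true := by decide +kernel

theorem m2_6739 : allRange 289777 43 (fun u => chkFix tab mwordsA u) = true := by decide +kernel

theorem m2_6740 : allRange 289820 43 (fun u => chkFix tab mwordsA u) = true := by decide +kernel

theorem m2_6741 : allRange 289863 43 (fun u => chkFix tab mwordsA u) = true := by decide +kernel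

theorem m2_6742 : allRange 289906 43 (fun u => chkFix tab mwordsA u) = true := by decide +kernel

theorem m2_6743 : allRange 289949 43 (fun u => chkFix tab mwordsA u) = true := by decide +kernel

theorem m2_6744 : allRange 289992 43 (fun u => chkFix tab mwordsA u) = true := by decide +kernel

theorem m2_6745 : allRange 290035 43 (fun u => chkFix tab mwordsA u) = true := by decide +kernel

theorem m2_6746 : allRange 290078 43 (fun u => chkFix tab mwordsA u) = true := by decide +kernel


end Cfsg.Agent.Helper9.TCData.X1690
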