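import Cfsg.Agent.Lib.Helper9.TCData.X1690.Main

set_option autoImplicit false
set_option maxRecDepth 1000000

namespace Cfsg.Agent.Helper9.TCData.X1690
open Cfsg.Agent.Helper9.TC2

theorem m2_6747 : allRange 290121 43 (fun u => chkFix tab mwordsA u) = true := by decide +kernel

theorem m2_6748 : allRange 290164 43 (fun u => chkFix tab mwordsA u) = true := by decide +kernel

theorem m2_6749 : allRange 290207 43 (fun u => chkFix tab mwordsA u) = true := by decide +kernel

theorem m2_6750 : allRange 290250 43 (fun u => chkFix tab mwordsA u) = true := by decide +kernel

theorem m2_6751 : allRange 290293 43 (fun u => chkFix tab mwordsA u) = true := by decide +kernel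

theorem m2_6752 : allRange 290336 43 (fun u => chkFix tab mwordsA u) = true := by decide +kernel

theorem m2_6753 : allRange 290379 43 (fun u => chkFix tab mwordsA u) = true := by decide +kernel

theorem m2_6754 : allRange 290422 43 (fun u => chkFix tab mwordsA u) = true := by decide +kernel

theorem m2_6755 : allRange 290465 43 (fun u => chkFix tab mwordsA u) = true := by decide +kernel

theorem m2_6756 : allRange 290508 43 (fun u => chkFix tab mwordsA u) = true := by decide +kernel


end Cfsg.Agent.Helper9.TCData.X1690
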