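import Cfsg.Agent.Lib.Helper9.TCData.X1690.Main

set_option autoImplicit false
set_option maxRecDepth 1000000

namespace Cfsg.Agent.Helper9.TCData.X1690
open Cfsg.Agent.Helper9.TC2

theorem m2_6757 : allRange 290551 43 (fun u => chkFix tab mwordsA u) = true := by decide +kernel

theorem m2_6758 : allRange 290594 43 (fun u => chkFix tab mwordsA u) = true := by decide +kernel

theorem m2_6759 : allRange 290637 43 (fun u => chkFix tab mwordsA u) = true := by decide +kernel

theorem m2_6760 : allRange 290680 43 (fun u => chkFix tab mwordsA u) = true := by decide +kernel

theorem m2_6761 : allRange 290723 43 (fun u => chkFix tab mwordsA u) = true := by decide +kernel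

theorem m2_6762 : allRange 290766 43 (fun u => chkFix tab mwordsA u) = true := by decide +kernel

theorem m2_6763 : allRange 290809 43 (fun u => chkFix tab mwordsA u) = true := by decide +kernel

theorem m2_6764 : allRange 290852 43 (fun u => chkFix tab mwordsA u) = true := by decide +kernel

theorem m2_6765 : allRange 290895 43 (fun u => chkFix tab mwordsA u) = true := by decide +kernel

theorem m2_6766 : allRange 290938 43 (fun u => chkFix tab mwordsA u) = true := by decide +kernel


end Cfsg.Agent.Helper9.TCData.X1690
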