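import Cfsg.Agent.Lib.Helper9.TCData.X1690.Main

set_option autoImplicit false
set_option maxRecDepth 1000000

namespace Cfsg.Agent.Helper9.TCData.X1690
open Cfsg.Agent.Helper9.TC2

theorem m2_6767 : allRange 290981 43 (fun u => chkFix tab mwordsA u) = true := by decide +kernel

theorem m2_6768 : allRange 291024 43 (fun u => chkFix tab mwordsA u) = true := by decide +kernel

theorem m2_6769 : allRange 291067 43 (fun u => chkFix tab mwordsA u) = true := by decide +kernel

theorem m2_6770 : allRange 291110 43 (fun u => chkFix tab mwordsA u) = true := by decide +kernel

theorem m2_6771 : allRange 291153 43 (fun u => chkFix tab mwordsA u) = true := by decide +kernel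

theorem m2_6772 : allRange 291196 43 (fun u => chkFix tab mwordsA u) = true := by decide +kernel

theorem m2_6773 : allRange 291239 43 (fun u => chkFix tab mwordsA u) = true := by decide +kernel

theorem m2_6774 : allRange 291282 43 (fun u => chkFix tab mwordsA u) = true := by decide +kernel

theorem m2_6775 : allRange 291325 43 (fun u => chkFix tab mwordsA u) = true := by decide +kernel

theorem m2_6776 : allRange 291368 43 (fun u => chkFix tab mwordsA u) = true := by decide +kernel


end Cfsg.Agent.Helper9.TCData.X1690
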