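import Cfsg.Agent.Lib.Helper9.TCData.X1690.Main

set_option autoImplicit false
set_option maxRecDepth 1000000

namespace Cfsg.Agent.Helper9.TCData.X1690
open Cfsg.Agent.Helper9.TC2

theorem m2_6777 : allRange 291411 43 (fun u => chkFix tab mwordsA u) = true := by decide +kernel

theorem m2_6778 : allRange 291454 43 (fun u => chkFix tab mwordsA u) = true := by decide +kernel

theorem m2_6779 : allRange 291497 43 (fun u => chkFix tab mwordsA u) = true := by decide +kernel

theorem m2_6780 : allRange 291540 43 (fun u => chkFix tab mwordsA u) = true := by decide +kernel

theorem m2_6781 : allRange 291583 43 (fun u => chkFix tab mwordsA u) = true := by decide +kernel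

theorem m2_6782 : allRange 291626 43 (fun u => chkFix tab mwordsA u) = true := by decide +kernel

theorem m2_6783 : allRange 291669 43 (fun u => chkFix tab mwordsA u) = true := by decide +kernel

theorem m2_6784 : allRange 291712 43 (fun u => chkFix tab mwordsA u) = true := by decide +kernel

theorem m2_6785 : allRange 291755 43 (fun u => chkFix tab mwordsA u) = true := by decide +kernel

theorem m2_6786 : allRange 291798 43 (fun u => chkFix tab mwordsA u) = true := by decide +kernel


end Cfsg.Agent.Helper9.TCData.X1690
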