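import Cfsg.Agent.Lib.Helper9.TCData.X1690.Main

set_option autoImplicit false
set_option maxRecDepth 1000000

namespace Cfsg.Agent.Helper9.TCData.X1690
open Cfsg.Agent.Helper9.TC2

theorem m2_6787 : allRange 291841 43 (fun u => chkFix tab mwordsA u) = true := by decide +kernel

theorem m2_6788 : allRange 291884 43 (fun u => chkFix tab mwordsA u) = true := by decide +kernel

theorem m2_6789 : allRange 291927 43 (fun u => chkFix tab mwordsA u) = true := by decide +kernel

theorem m2_6790 : allRange 291970 43 (fun u => chkFix tab mwordsA u) = true := by decide +kernel

theorem m2_6791 : allRange 292013 43 (fun u => chkFix tab mwordsA u) = true := by decide +kernel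

theorem m2_6792 : allRange 292056 43 (fun u => chkFix tab mwordsA u) = true := by decide +kernel

theorem m2_6793 : allRange 292099 43 (fun u => chkFix tab mwordsA u) = true := by decide +kernel

theorem m2_6794 : allRange 292142 43 (fun u => chkFix tab mwordsA u) = true := by decide +kernel

theorem m2_6795 : allRange 292185 43 (fun u => chkFix tab mwordsA u) = true := by decide +kernel

theorem m2_6796 : allRange 292228 43 (fun u => chkFix tab mwordsA u) = true := by decide +kernel


end Cfsg.Agent.Helper9.TCData.X1690
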