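import Cfsg.Agent.Lib.Helper9.TCData.X1690.Main

set_option autoImplicit false
set_option maxRecDepth 1000000

namespace Cfsg.Agent.Helper9.TCData.X1690
open Cfsg.Agent.Helper9.TC2

theorem m2_6797 : allRange 292271 43 (fun u => chkFix tab mwordsA u) = true := by decide +kernel

theorem m2_6798 : allRange 292314 43 (fun u => chkFix tab mwordsA u) = true := by decide +kernel

theorem m2_6799 : allRange 292357 43 (fun u => chkFix tab mwordsA u) = true := by decide +kernel

theorem m2_6800 : allRange 292400 43 (fun u => chkFix tab mwordsA u) = true := by decide +kernel

theorem m2_6801 : allRange 292443 43 (fun u => chkFix tab mwordsA u) = true := by decide +kernel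

theorem m2_6802 : allRange 292486 43 (fun u => chkFix tab mwordsA u) = true := by decide +kernel

theorem m2_6803 : allRange 292529 43 (fun u => chkFix tab mwordsA u) = true := by decide +kernel

theorem m2_6804 : allRange 292572 43 (fun u => chkFix tab mwordsA u) = true := by decide +kernel

theorem m2_6805 : allRange 292615 43 (fun u => chkFix tab mwordsA u) = true := by decide +kernel

theorem m2_6806 : allRange 292658 43 (fun u => chkFix tab mwordsA u) = true := by decide +kernel


end Cfsg.Agent.Helper9.TCData.X1690
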