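import Cfsg.Agent.Lib.Helper9.TCData.X1690.Main

set_option autoImplicit false
set_option maxRecDepth 1000000

namespace Cfsg.Agent.Helper9.TCData.X1690
open Cfsg.Agent.Helper9.TC2

theorem m2_6807 : allRange 292701 43 (fun u => chkFix tab mwordsA u) = true := by decide +kernel

theorem m2_6808 : allRange 292744 43 (fun u => chkFix tab mwordsA u) = true := by decide +kernel

theorem m2_6809 : allRange 292787 43 (fun u => chkFix tab mwordsA u) = true := by decide +kernel

theorem m2_6810 : allRange 292830 43 (fun u => chkFix tab mwordsA u) = true := by decide +kernel

theorem m2_6811 : allRange 292873 43 (fun u => chkFix tab mwordsA u) = true := by decide +kernel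

theorem m2_6812 : allRange 292916 43 (fun u => chkFix tab mwordsA u) = true := by decide +kernel

theorem m2_6813 : allRange 292959 43 (fun u => chkFix tab mwordsA u) = true := by decide +kernel

theorem m2_6814 : allRange 293002 43 (fun u => chkFix tab mwordsA u) = true := by decide +kernel

theorem m2_6815 : allRange 293045 43 (fun u => chkFix tab mwordsA u) = true := by decide +kernel

theorem m2_6816 : allRange 293088 43 (fun u => chkFix tab mwordsA u) = true := by decide +kernel


end Cfsg.Agent.Helper9.TCData.X1690
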