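import Cfsg.Agent.Lib.Helper9.TCData.X1690.Main

set_option autoImplicit false
set_option maxRecDepth 1000000

namespace Cfsg.Agent.Helper9.TCData.X1690
open Cfsg.Agent.Helper9.TC2

theorem e7_18 : allRange 41504 2322 (fun u => chkE tab 7 u) = true := by decide +kernel

theorem e7_19 : allRange 43826 2346 (fun u => chkE tab 7 u) = true := by decide +kernel

theorem e7_20 : allRange 46172 2242 (fun u => chkE tab 7 u) = true := by decide +kernel

theorem e7_21 : allRange 48414 2181 (fun u => chkE tab 7 u) = true := by decide +kernel

theorem e7_22 : allRange 50595 2149 (fun u => chkE tab 7 u) = true := by decide +kernel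

theorem e7_23 : allRange 52744 2203 (fun u => chkE tab 7 u) = true := by decide +kernel

theorem e7_24 : allRange 54947 2006 (fun u => chkE tab 7 u) = true := by decide +kernel

theorem e7_25 : allRange 56953 2298 (fun u => chkE tab 7 u) = true := by decide +kernel

theorem e7_26 : allRange 59251 2207 (fun u => chkE tab 7 u) = true := by decide +kernel

theorem e7_27 : allRange 61458 2405 (fun u => chkE tab 7 u) = true := by decide +kernel


end Cfsg.Agent.Helper9.TCData.X1690
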