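import Cfsg.Agent.Lib.Helper9.TCData.X1690.Main

set_option autoImplicit false
set_option maxRecDepth 1000000

namespace Cfsg.Agent.Helper9.TCData.X1690
open Cfsg.Agent.Helper9.TC2

theorem m2_6817 : allRange 293131 43 (fun u => chkFix tab mwordsA u) = true := by decide +kernel

theorem m2_6818 : allRange 293174 43 (fun u => chkFix tab mwordsA u) = true := by decide +kernel

theorem m2_6819 : allRange 293217 43 (fun u => chkFix tab mwordsA u) = true := by decide +kernel

theorem m2_6820 : allRange 293260 43 (fun u => chkFix tab mwordsA u) = true := by decide +kernel

theorem m2_6821 : allRange 293303 43 (fun u => chkFix tab mwordsA u) = true := by decide +kernel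

theorem m2_6822 : allRange 293346 43 (fun u => chkFix tab mwordsA u) = true := by decide +kernel

theorem m2_6823 : allRange 293389 43 (fun u => chkFix tab mwordsA u) = true := by decide +kernel

theorem m2_6824 : allRange 293432 43 (fun u => chkFix tab mwordsA u) = true := by decide +kernel

theorem m2_6825 : allRange 293475 43 (fun u => chkFix tab mwordsA u) = true := by decide +kernel

theorem m2_6826 : allRange 293518 43 (fun u => chkFix tab mwordsA u) = true := by decide +kernel


end Cfsg.Agent.Helper9.TCData.X1690
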