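import Cfsg.Agent.Lib.Helper9.TCData.X1690.Main

set_option autoImplicit false
set_option maxRecDepth 1000000

namespace Cfsg.Agent.Helper9.TCData.X1690
open Cfsg.Agent.Helper9.TC2

theorem m2_6827 : allRange 293561 43 (fun u => chkFix tab mwordsA u) = true := by decide +kernel

theorem m2_6828 : allRange 293604 43 (fun u => chkFix tab mwordsA u) = true := by decide +kernel

theorem m2_6829 : allRange 293647 43 (fun u => chkFix tab mwordsA u) = true := by decide +kernel

theorem m2_6830 : allRange 293690 43 (fun u => chkFix tab mwordsA u) = true := by decide +kernel

theorem m2_6831 : allRange 293733 43 (fun u => chkFix tab mwordsA u) = true := by decide +kernel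

theorem m2_6832 : allRange 293776 43 (fun u => chkFix tab mwordsA u) = true := by decide +kernel

theorem m2_6833 : allRange 293819 43 (fun u => chkFix tab mwordsA u) = true := by decide +kernel

theorem m2_6834 : allRange 293862 43 (fun u => chkFix tab mwordsA u) = true := by decide +kernel

theorem m2_6835 : allRange 293905 43 (fun u => chkFix tab mwordsA u) = true := by decide +kernel

theorem m2_6836 : allRange 293948 43 (fun u => chkFix tab mwordsA u) = true := by decide +kernel


end Cfsg.Agent.Helper9.TCData.X1690
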