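import Cfsg.Agent.Lib.Helper9.TCData.X1690.Main

set_option autoImplicit false
set_option maxRecDepth 1000000

namespace Cfsg.Agent.Helper9.TCData.X1690
open Cfsg.Agent.Helper9.TC2

theorem m2_6847 : allRange 294421 43 (fun u => chkFix tab mwordsA u) = true := by decide +kernel

theorem m2_6848 : allRange 294464 43 (fun u => chkFix tab mwordsA u) = true := by decide +kernel

theorem m2_6849 : allRange 294507 43 (fun u => chkFix tab mwordsA u) = true := by decide +kernel

theorem m2_6850 : allRange 294550 43 (fun u => chkFix tab mwordsA u) = true := by decide +kernel

theorem m2_6851 : allRange 294593 43 (fun u => chkFix tab mwordsA u) = true := by decide +kernel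

theorem m2_6852 : allRange 294636 43 (fun u => chkFix tab mwordsA u) = true := by decide +kernel

theorem m2_6853 : allRange 294679 43 (fun u => chkFix tab mwordsA u) = true := by decide +kernel

theorem m2_6854 : allRange 294722 43 (fun u => chkFix tab mwordsA u) = true := by decide +kernel

theorem m2_6855 : allRange 294765 43 (fun u => chkFix tab mwordsA u) = true := by decide +kernel

theorem m2_6856 : allRange 294808 43 (fun u => chkFix tab mwordsA u) = true := by decide +kernel


end Cfsg.Agent.Helper9.TCData.X1690
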