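import Cfsg.Agent.Lib.Helper9.TCData.X1690.Main

set_option autoImplicit false
set_option maxRecDepth 1000000

namespace Cfsg.Agent.Helper9.TCData.X1690
open Cfsg.Agent.Helper9.TC2

theorem m2_6857 : allRange 294851 43 (fun u => chkFix tab mwordsA u) = true := by decide +kernel

theorem m2_6858 : allRange 294894 43 (fun u => chkFix tab mwordsA u) = true := by decide +kernel

theorem m2_6859 : allRange 294937 43 (fun u => chkFix tab mwordsA u) = true := by decide +kernel

theorem m2_6860 : allRange 294980 43 (fun u => chkFix tab mwordsA u) = true := by decide +kernel

theorem m2_6861 : allRange 295023 43 (fun u => chkFix tab mwordsA u) = true := by decide +kernel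

theorem m2_6862 : allRange 295066 43 (fun u => chkFix tab mwordsA u) = true := by decide +kernel

theorem m2_6863 : allRange 295109 43 (fun u => chkFix tab mwordsA u) = true := by decide +kernel

theorem m2_6864 : allRange 295152 43 (fun u => chkFix tab mwordsA u) = true := by decide +kernel

theorem m2_6865 : allRange 295195 43 (fun u => chkFix tab mwordsA u) = true := by decide +kernel

theorem m2_6866 : allRange 295238 43 (fun u => chkFix tab mwordsA u) = true := by decide +kernel


end Cfsg.Agent.Helper9.TCData.X1690
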