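import Cfsg.Agent.Lib.Helper9.TCData.X1690.Main

set_option autoImplicit false
set_option maxRecDepth 1000000

namespace Cfsg.Agent.Helper9.TCData.X1690
open Cfsg.Agent.Helper9.TC2

theorem m2_6867 : allRange 295281 43 (fun u => chkFix tab mwordsA u) = true := by decide +kernel

theorem m2_6868 : allRange 295324 43 (fun u => chkFix tab mwordsA u) = true := by decide +kernel

theorem m2_6869 : allRange 295367 43 (fun u => chkFix tab mwordsA u) = true := by decide +kernel

theorem m2_6870 : allRange 295410 43 (fun u => chkFix tab mwordsA u) = true := by decide +kernel

theorem m2_6871 : allRange 295453 43 (fun u => chkFix tab mwordsA u) = true := by decide +kernel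

theorem m2_6872 : allRange 295496 43 (fun u => chkFix tab mwordsA u) = true := by decide +kernel

theorem m2_6873 : allRange 295539 43 (fun u => chkFix tab mwordsA u) = true := by decide +kernel

theorem m2_6874 : allRange 295582 43 (fun u => chkFix tab mwordsA u) = true := by decide +kernel

theorem m2_6875 : allRange 295625 43 (fun u => chkFix tab mwordsA u) = true := by decide +kernel

theorem m2_6876 : allRange 295668 43 (fun u => chkFix tab mwordsA u) = true := by decide +kernel


end Cfsg.Agent.Helper9.TCData.X1690
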