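import Cfsg.Agent.Lib.Helper9.TCData.X1690.Main

set_option autoImplicit false
set_option maxRecDepth 1000000

namespace Cfsg.Agent.Helper9.TCData.X1690
open Cfsg.Agent.Helper9.TC2

theorem m2_6877 : allRange 295711 43 (fun u => chkFix tab mwordsA u) = true := by decide +kernel

theorem m2_6878 : allRange 295754 43 (fun u => chkFix tab mwordsA u) = true := by decide +kernel

theorem m2_6879 : allRange 295797 43 (fun u => chkFix tab mwordsA u) = true := by decide +kernel

theorem m2_6880 : allRange 295840 43 (fun u => chkFix tab mwordsA u) = true := by decide +kernel

theorem m2_6881 : allRange 295883 43 (fun u => chkFix tab mwordsA u) = true := by decide +kernel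

theorem m2_6882 : allRange 295926 43 (fun u => chkFix tab mwordsA u) = true := by decide +kernel

theorem m2_6883 : allRange 295969 43 (fun u => chkFix tab mwordsA u) = true := by decide +kernel

theorem m2_6884 : allRange 296012 43 (fun u => chkFix tab mwordsA u) = true := by decide +kernel

theorem m2_6885 : allRange 296055 43 (fun u => chkFix tab mwordsA u) = true := by decide +kernel

theorem m2_6886 : allRange 296098 43 (fun u => chkFix tab mwordsA u) = true := by decide +kernel


end Cfsg.Agent.Helper9.TCData.X1690
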