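import Cfsg.Agent.Lib.Helper9.TCData.X1690.Main

set_option autoImplicit false
set_option maxRecDepth 1000000

namespace Cfsg.Agent.Helper9.TCData.X1690
open Cfsg.Agent.Helper9.TC2

theorem m2_6887 : allRange 296141 43 (fun u => chkFix tab mwordsA u) = true := by decide +kernel

theorem m2_6888 : allRange 296184 43 (fun u => chkFix tab mwordsA u) = true := by decide +kernel

theorem m2_6889 : allRange 296227 43 (fun u => chkFix tab mwordsA u) = true := by decide +kernel

theorem m2_6890 : allRange 296270 43 (fun u => chkFix tab mwordsA u) = true := by decide +kernel

theorem m2_6891 : allRange 296313 43 (fun u => chkFix tab mwordsA u) = true := by decide +kernel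

theorem m2_6892 : allRange 296356 43 (fun u => chkFix tab mwordsA u) = true := by decide +kernel

theorem m2_6893 : allRange 296399 43 (fun u => chkFix tab mwordsA u) = true := by decide +kernel

theorem m2_6894 : allRange 296442 43 (fun u => chkFix tab mwordsA u) = true := by decide +kernel

theorem m2_6895 : allRange 296485 43 (fun u => chkFix tab mwordsA u) = true := by decide +kernel

theorem m2_6896 : allRange 296528 43 (fun u => chkFix tab mwordsA u) = true := by decide +kernel


end Cfsg.Agent.Helper9.TCData.X1690
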