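import Cfsg.Agent.Lib.Helper9.TCData.X1690.Main

set_option autoImplicit false
set_option maxRecDepth 1000000

namespace Cfsg.Agent.Helper9.TCData.X1690
open Cfsg.Agent.Helper9.TC2

theorem m2_6897 : allRange 296571 43 (fun u => chkFix tab mwordsA u) = true := by decide +kernel

theorem m2_6898 : allRange 296614 43 (fun u => chkFix tab mwordsA u) = true := by decide +kernel

theorem m2_6899 : allRange 296657 43 (fun u => chkFix tab mwordsA u) = true := by decide +kernel

theorem m2_6900 : allRange 296700 43 (fun u => chkFix tab mwordsA u) = true := by decide +kernel

theorem m2_6901 : allRange 296743 43 (fun u => chkFix tab mwordsA u) = true := by decide +kernel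

theorem m2_6902 : allRange 296786 43 (fun u => chkFix tab mwordsA u) = true := by decide +kernel

theorem m2_6903 : allRange 296829 43 (fun u => chkFix tab mwordsA u) = true := by decide +kernel

theorem m2_6904 : allRange 296872 43 (fun u => chkFix tab mwordsA u) = true := by decide +kernel

theorem m2_6905 : allRange 296915 43 (fun u => chkFix tab mwordsA u) = true := by decide +kernel

theorem m2_6906 : allRange 296958 43 (fun u => chkFix tab mwordsA u) = true := by decide +kernel


end Cfsg.Agent.Helper9.TCData.X1690
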