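import Cfsg.Agent.Lib.Helper9.TCData.X1690.Main

set_option autoImplicit false
set_option maxRecDepth 1000000

namespace Cfsg.Agent.Helper9.TCData.X1690
open Cfsg.Agent.Helper9.TC2

theorem m2_6907 : allRange 297001 43 (fun u => chkFix tab mwordsA u) = true := by decide +kernel

theorem m2_6908 : allRange 297044 43 (fun u => chkFix tab mwordsA u) = true := by decide +kernel

theorem m2_6909 : allRange 297087 43 (fun u => chkFix tab mwordsA u) = true := by decide +kernel

theorem m2_6910 : allRange 297130 43 (fun u => chkFix tab mwordsA u) = true := by decide +kernel

theorem m2_6911 : allRange 297173 43 (fun u => chkFix tab mwordsA u) = true := by decide +kernel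

theorem m2_6912 : allRange 297216 43 (fun u => chkFix tab mwordsA u) = true := by decide +kernel

theorem m2_6913 : allRange 297259 43 (fun u => chkFix tab mwordsA u) = true := by decide +kernel

theorem m2_6914 : allRange 297302 43 (fun u => chkFix tab mwordsA u) = true := by decide +kernel

theorem m2_6915 : allRange 297345 43 (fun u => chkFix tab mwordsA u) = true := by decide +kernel

theorem m2_6916 : allRange 297388 43 (fun u => chkFix tab mwordsA u) = true := by decide +kernel


end Cfsg.Agent.Helper9.TCData.X1690
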