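import Cfsg.Agent.Lib.Helper9.TCData.X1690.Main

set_option autoImplicit false
set_option maxRecDepth 1000000

namespace Cfsg.Agent.Helper9.TCData.X1690
open Cfsg.Agent.Helper9.TC2

theorem e7_28 : allRange 63863 2289 (fun u => chkE tab 7 u) = true := by decide +kernel

theorem e7_29 : allRange 66152 2104 (fun u => chkE tab 7 u) = true := by decide +kernel

theorem e7_30 : allRange 68256 2262 (fun u => chkE tab 7 u) = true := by decide +kernel

theorem e7_31 : allRange 70518 2183 (fun u => chkE tab 7 u) = true := by decide +kernel

theorem e7_32 : allRange 72701 2179 (fun u => chkE tab 7 u) = true := by decide +kernel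

theorem e7_33 : allRange 74880 2103 (fun u => chkE tab 7 u) = true := by decide +kernel

theorem e7_34 : allRange 76983 2084 (fun u => chkE tab 7 u) = true := by decide +kernel

theorem e7_35 : allRange 79067 2325 (fun u => chkE tab 7 u) = true := by decide +kernel

theorem e7_36 : allRange 81392 2227 (fun u => chkE tab 7 u) = true := by decide +kernel

theorem e7_37 : allRange 83619 2365 (fun u => chkE tab 7 u) = true := by decide +kernel


end Cfsg.Agent.Helper9.TCData.X1690
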