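import Cfsg.Agent.Lib.Helper9.TCData.X1690.Main

set_option autoImplicit false
set_option maxRecDepth 1000000

namespace Cfsg.Agent.Helper9.TCData.X1690
open Cfsg.Agent.Helper9.TC2

theorem m2_6917 : allRange 297431 43 (fun u => chkFix tab mwordsA u) = true := by decide +kernel

theorem m2_6918 : allRange 297474 43 (fun u => chkFix tab mwordsA u) = true := by decide +kernel

theorem m2_6919 : allRange 297517 43 (fun u => chkFix tab mwordsA u) = true := by decide +kernel

theorem m2_6920 : allRange 297560 43 (fun u => chkFix tab mwordsA u) = true := by decide +kernel

theorem m2_6921 : allRange 297603 43 (fun u => chkFix tab mwordsA u) = true := by decide +kernel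

theorem m2_6922 : allRange 297646 43 (fun u => chkFix tab mwordsA u) = true := by decide +kernel

theorem m2_6923 : allRange 297689 43 (fun u => chkFix tab mwordsA u) = true := by decide +kernel

theorem m2_6924 : allRange 297732 43 (fun u => chkFix tab mwordsA u) = true := by decide +kernel

theorem m2_6925 : allRange 297775 43 (fun u => chkFix tab mwordsA u) = true := by decide +kernel

theorem m2_6926 : allRange 297818 43 (fun u => chkFix tab mwordsA u) = true := by decide +kernel


end Cfsg.Agent.Helper9.TCData.X1690
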