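import Cfsg.Agent.Lib.Helper9.TCData.X1690.Main

set_option autoImplicit false
set_option maxRecDepth 1000000

namespace Cfsg.Agent.Helper9.TCData.X1690
open Cfsg.Agent.Helper9.TC2

theorem m2_6927 : allRange 297861 43 (fun u => chkFix tab mwordsA u) = true := by decide +kernel

theorem m2_6928 : allRange 297904 43 (fun u => chkFix tab mwordsA u) = true := by decide +kernel

theorem m2_6929 : allRange 297947 43 (fun u => chkFix tab mwordsA u) = true := by decide +kernel

theorem m2_6930 : allRange 297990 43 (fun u => chkFix tab mwordsA u) = true := by decide +kernel

theorem m2_6931 : allRange 298033 43 (fun u => chkFix tab mwordsA u) = true := by decide +kernel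

theorem m2_6932 : allRange 298076 43 (fun u => chkFix tab mwordsA u) = true := by decide +kernel

theorem m2_6933 : allRange 298119 43 (fun u => chkFix tab mwordsA u) = true := by decide +kernel

theorem m2_6934 : allRange 298162 43 (fun u => chkFix tab mwordsA u) = true := by decide +kernel

theorem m2_6935 : allRange 298205 43 (fun u => chkFix tab mwordsA u) = true := by decide +kernel

theorem m2_6936 : allRange 298248 43 (fun u => chkFix tab mwordsA u) = true := by decide +kernel


end Cfsg.Agent.Helper9.TCData.X1690
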