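import Cfsg.Agent.Lib.Helper9.TCData.X1690.Main

set_option autoImplicit false
set_option maxRecDepth 1000000

namespace Cfsg.Agent.Helper9.TCData.X1690
open Cfsg.Agent.Helper9.TC2

theorem m2_6937 : allRange 298291 43 (fun u => chkFix tab mwordsA u) = true := by decide +kernel

theorem m2_6938 : allRange 298334 43 (fun u => chkFix tab mwordsA u) = true := by decide +kernel

theorem m2_6939 : allRange 298377 43 (fun u => chkFix tab mwordsA u) = true := by decide +kernel

theorem m2_6940 : allRange 298420 43 (fun u => chkFix tab mwordsA u) = true := by decide +kernel

theorem m2_6941 : allRange 298463 43 (fun u => chkFix tab mwordsA u) = true := by decide +kernel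

theorem m2_6942 : allRange 298506 43 (fun u => chkFix tab mwordsA u) = true := by decide +kernel

theorem m2_6943 : allRange 298549 43 (fun u => chkFix tab mwordsA u) = true := by decide +kernel

theorem m2_6944 : allRange 298592 43 (fun u => chkFix tab mwordsA u) = true := by decide +kernel

theorem m2_6945 : allRange 298635 43 (fun u => chkFix tab mwordsA u) = true := by decide +kernel

theorem m2_6946 : allRange 298678 43 (fun u => chkFix tab mwordsA u) = true := by decide +kernel


end Cfsg.Agent.Helper9.TCData.X1690
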