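import Cfsg.Agent.Lib.Helper9.TCData.X1690.Main

set_option autoImplicit false
set_option maxRecDepth 1000000

namespace Cfsg.Agent.Helper9.TCData.X1690
open Cfsg.Agent.Helper9.TC2

theorem m2_6947 : allRange 298721 43 (fun u => chkFix tab mwordsA u) = true := by decide +kernel

theorem m2_6948 : allRange 298764 43 (fun u => chkFix tab mwordsA u) = true := by decide +kernel

theorem m2_6949 : allRange 298807 43 (fun u => chkFix tab mwordsA u) = true := by decide +kernel

theorem m2_6950 : allRange 298850 43 (fun u => chkFix tab mwordsA u) = true := by decide +kernel

theorem m2_6951 : allRange 298893 43 (fun u => chkFix tab mwordsA u) = true := by decide +kernel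

theorem m2_6952 : allRange 298936 43 (fun u => chkFix tab mwordsA u) = true := by decide +kernel

theorem m2_6953 : allRange 298979 43 (fun u => chkFix tab mwordsA u) = true := by decide +kernel

theorem m2_6954 : allRange 299022 43 (fun u => chkFix tab mwordsA u) = true := by decide +kernel

theorem m2_6955 : allRange 299065 43 (fun u => chkFix tab mwordsA u) = true := by decide +kernel

theorem m2_6956 : allRange 299108 43 (fun u => chkFix tab mwordsA u) = true := by decide +kernel


end Cfsg.Agent.Helper9.TCData.X1690
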