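import Cfsg.Agent.Lib.Helper9.TCData.X1690.Main

set_option autoImplicit false
set_option maxRecDepth 1000000

namespace Cfsg.Agent.Helper9.TCData.X1690
open Cfsg.Agent.Helper9.TC2

theorem m2_6967 : allRange 299581 43 (fun u => chkFix tab mwordsA u) = true := by decide +kernel

theorem m2_6968 : allRange 299624 43 (fun u => chkFix tab mwordsA u) = true := by decide +kernel

theorem m2_6969 : allRange 299667 43 (fun u => chkFix tab mwordsA u) = true := by decide +kernel

theorem m2_6970 : allRange 299710 43 (fun u => chkFix tab mwordsA u) = true := by decide +kernel

theorem m2_6971 : allRange 299753 43 (fun u => chkFix tab mwordsA u) = true := by decide +kernel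

theorem m2_6972 : allRange 299796 43 (fun u => chkFix tab mwordsA u) = true := by decide +kernel

theorem m2_6973 : allRange 299839 43 (fun u => chkFix tab mwordsA u) = true := by decide +kernel

theorem m2_6974 : allRange 299882 43 (fun u => chkFix tab mwordsA u) = true := by decide +kernel

theorem m2_6975 : allRange 299925 43 (fun u => chkFix tab mwordsA u) = true := by decide +kernel

theorem m2_6976 : allRange 299968 43 (fun u => chkFix tab mwordsA u) = true := by decide +kernel


end Cfsg.Agent.Helper9.TCData.X1690
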