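import Cfsg.Agent.Lib.Helper9.TCData.X1690.Main

set_option autoImplicit false
set_option maxRecDepth 1000000

namespace Cfsg.Agent.Helper9.TCData.X1690
open Cfsg.Agent.Helper9.TC2

theorem m2_6977 : allRange 300011 43 (fun u => chkFix tab mwordsA u) = true := by decide +kernel

theorem m2_6978 : allRange 300054 43 (fun u => chkFix tab mwordsA u) = true := by decide +kernel

theorem m2_6979 : allRange 300097 43 (fun u => chkFix tab mwordsA u) = true := by decide +kernel

theorem m2_6980 : allRange 300140 43 (fun u => chkFix tab mwordsA u) = true := by decide +kernel

theorem m2_6981 : allRange 300183 43 (fun u => chkFix tab mwordsA u) = true := by decide +kernel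

theorem m2_6982 : allRange 300226 43 (fun u => chkFix tab mwordsA u) = true := by decide +kernel

theorem m2_6983 : allRange 300269 43 (fun u => chkFix tab mwordsA u) = true := by decide +kernel

theorem m2_6984 : allRange 300312 43 (fun u => chkFix tab mwordsA u) = true := by decide +kernel

theorem m2_6985 : allRange 300355 43 (fun u => chkFix tab mwordsA u) = true := by decide +kernel

theorem m2_6986 : allRange 300398 43 (fun u => chkFix tab mwordsA u) = true := by decide +kernel


end Cfsg.Agent.Helper9.TCData.X1690
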