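import Cfsg.Agent.Lib.Helper9.TCData.X1690.Main

set_option autoImplicit false
set_option maxRecDepth 1000000

namespace Cfsg.Agent.Helper9.TCData.X1690
open Cfsg.Agent.Helper9.TC2

theorem m2_6987 : allRange 300441 43 (fun u => chkFix tab mwordsA u) = true := by decide +kernel

theorem m2_6988 : allRange 300484 43 (fun u => chkFix tab mwordsA u) = true := by decide +kernel

theorem m2_6989 : allRange 300527 43 (fun u => chkFix tab mwordsA u) = true := by decide +kernel

theorem m2_6990 : allRange 300570 43 (fun u => chkFix tab mwordsA u) = true := by decide +kernel

theorem m2_6991 : allRange 300613 43 (fun u => chkFix tab mwordsA u) = true := by decide +kernel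

theorem m2_6992 : allRange 300656 43 (fun u => chkFix tab mwordsA u) = true := by decide +kernel

theorem m2_6993 : allRange 300699 43 (fun u => chkFix tab mwordsA u) = true := by decide +kernel

theorem m2_6994 : allRange 300742 43 (fun u => chkFix tab mwordsA u) = true := by decide +kernel

theorem m2_6995 : allRange 300785 43 (fun u => chkFix tab mwordsA u) = true := by decide +kernel

theorem m2_6996 : allRange 300828 43 (fun u => chkFix tab mwordsA u) = true := by decide +kernel


end Cfsg.Agent.Helper9.TCData.X1690
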