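import Cfsg.Agent.Lib.Helper9.TCData.X1690.Main

set_option autoImplicit false
set_option maxRecDepth 1000000

namespace Cfsg.Agent.Helper9.TCData.X1690
open Cfsg.Agent.Helper9.TC2

theorem m2_6997 : allRange 300871 43 (fun u => chkFix tab mwordsA u) = true := by decide +kernel

theorem m2_6998 : allRange 300914 43 (fun u => chkFix tab mwordsA u) = true := by decide +kernel

theorem m2_6999 : allRange 300957 43 (fun u => chkFix tab mwordsA u) = true := by decide +kernel

theorem m2_7000 : allRange 301000 43 (fun u => chkFix tab mwordsA u) = true := by decide +kernel

theorem m2_7001 : allRange 301043 43 (fun u => chkFix tab mwordsA u) = true := by decide +kernel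

theorem m2_7002 : allRange 301086 43 (fun u => chkFix tab mwordsA u) = true := by decide +kernel

theorem m2_7003 : allRange 301129 43 (fun u => chkFix tab mwordsA u) = true := by decide +kernel

theorem m2_7004 : allRange 301172 43 (fun u => chkFix tab mwordsA u) = true := by decide +kernel

theorem m2_7005 : allRange 301215 43 (fun u => chkFix tab mwordsA u) = true := by decide +kernel

theorem m2_7006 : allRange 301258 43 (fun u => chkFix tab mwordsA u) = true := by decide +kernel


end Cfsg.Agent.Helper9.TCData.X1690
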