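import Cfsg.Agent.Lib.Helper9.TCData.X1690.Main

set_option autoImplicit false
set_option maxRecDepth 1000000

namespace Cfsg.Agent.Helper9.TCData.X1690
open Cfsg.Agent.Helper9.TC2

theorem m2_7007 : allRange 301301 43 (fun u => chkFix tab mwordsA u) = true := by decide +kernel

theorem m2_7008 : allRange 301344 43 (fun u => chkFix tab mwordsA u) = true := by decide +kernel

theorem m2_7009 : allRange 301387 43 (fun u => chkFix tab mwordsA u) = true := by decide +kernel

theorem m2_7010 : allRange 301430 43 (fun u => chkFix tab mwordsA u) = true := by decide +kernel

theorem m2_7011 : allRange 301473 43 (fun u => chkFix tab mwordsA u) = true := by decide +kernel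

theorem m2_7012 : allRange 301516 43 (fun u => chkFix tab mwordsA u) = true := by decide +kernel

theorem m2_7013 : allRange 301559 43 (fun u => chkFix tab mwordsA u) = true := by decide +kernel

theorem m2_7014 : allRange 301602 43 (fun u => chkFix tab mwordsA u) = true := by decide +kernel

theorem m2_7015 : allRange 301645 43 (fun u => chkFix tab mwordsA u) = true := by decide +kernel

theorem m2_7016 : allRange 301688 43 (fun u => chkFix tab mwordsA u) = true := by decide +kernel


end Cfsg.Agent.Helper9.TCData.X1690
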