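import Cfsg.Agent.Lib.Helper9.TCData.X1690.Main

set_option autoImplicit false
set_option maxRecDepth 1000000

namespace Cfsg.Agent.Helper9.TCData.X1690
open Cfsg.Agent.Helper9.TC2

theorem e7_38 : allRange 85984 2317 (fun u => chkE tab 7 u) = true := by decide +kernel

theorem e7_39 : allRange 88301 2203 (fun u => chkE tab 7 u) = true := by decide +kernel

theorem e7_40 : allRange 90504 2304 (fun u => chkE tab 7 u) = true := by decide +kernel

theorem e7_41 : allRange 92808 2114 (fun u => chkE tab 7 u) = true := by decide +kernel

theorem e7_42 : allRange 94922 2301 (fun u => chkE tab 7 u) = true := by decide +kernel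

theorem e7_43 : allRange 97223 2230 (fun u => chkE tab 7 u) = true := by decide +kernel

theorem e7_44 : allRange 99453 2131 (fun u => chkE tab 7 u) = true := by decide +kernel

theorem e7_45 : allRange 101584 2247 (fun u => chkE tab 7 u) = true := by decide +kernel

theorem e7_46 : allRange 103831 2119 (fun u => chkE tab 7 u) = true := by decide +kernel

theorem e7_47 : allRange 105950 2001 (fun u => chkE tab 7 u) = true := by decide +kernel


end Cfsg.Agent.Helper9.TCData.X1690
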