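import Cfsg.Agent.Lib.Helper9.TCData.X1690.Main

set_option autoImplicit false
set_option maxRecDepth 1000000

namespace Cfsg.Agent.Helper9.TCData.X1690
open Cfsg.Agent.Helper9.TC2

theorem m2_7017 : allRange 301731 43 (fun u => chkFix tab mwordsA u) = true := by decide +kernel

theorem m2_7018 : allRange 301774 43 (fun u => chkFix tab mwordsA u) = true := by decide +kernel

theorem m2_7019 : allRange 301817 43 (fun u => chkFix tab mwordsA u) = true := by decide +kernel

theorem m2_7020 : allRange 301860 43 (fun u => chkFix tab mwordsA u) = true := by decide +kernel

theorem m2_7021 : allRange 301903 43 (fun u => chkFix tab mwordsA u) = true := by decide +kernel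

theorem m2_7022 : allRange 301946 43 (fun u => chkFix tab mwordsA u) = true := by decide +kernel

theorem m2_7023 : allRange 301989 43 (fun u => chkFix tab mwordsA u) = true := by decide +kernel

theorem m2_7024 : allRange 302032 43 (fun u => chkFix tab mwordsA u) = true := by decide +kernel

theorem m2_7025 : allRange 302075 43 (fun u => chkFix tab mwordsA u) = true := by decide +kernel

theorem m2_7026 : allRange 302118 43 (fun u => chkFix tab mwordsA u) = true := by decide +kernel


end Cfsg.Agent.Helper9.TCData.X1690
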