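import Cfsg.Agent.Lib.Helper9.TCData.X1690.Main

set_option autoImplicit false
set_option maxRecDepth 1000000

namespace Cfsg.Agent.Helper9.TCData.X1690
open Cfsg.Agent.Helper9.TC2

theorem m2_7027 : allRange 302161 43 (fun u => chkFix tab mwordsA u) = true := by decide +kernel

theorem m2_7028 : allRange 302204 43 (fun u => chkFix tab mwordsA u) = true := by decide +kernel

theorem m2_7029 : allRange 302247 43 (fun u => chkFix tab mwordsA u) = true := by decide +kernel

theorem m2_7030 : allRange 302290 43 (fun u => chkFix tab mwordsA u) = true := by decide +kernel

theorem m2_7031 : allRange 302333 43 (fun u => chkFix tab mwordsA u) = true := by decide +kernel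

theorem m2_7032 : allRange 302376 43 (fun u => chkFix tab mwordsA u) = true := by decide +kernel

theorem m2_7033 : allRange 302419 43 (fun u => chkFix tab mwordsA u) = true := by decide +kernel

theorem m2_7034 : allRange 302462 43 (fun u => chkFix tab mwordsA u) = true := by decide +kernel

theorem m2_7035 : allRange 302505 43 (fun u => chkFix tab mwordsA u) = true := by decide +kernel

theorem m2_7036 : allRange 302548 43 (fun u => chkFix tab mwordsA u) = true := by decide +kernel


end Cfsg.Agent.Helper9.TCData.X1690
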