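import Cfsg.Agent.Lib.Helper9.TCData.X1690.Main

set_option autoImplicit false
set_option maxRecDepth 1000000

namespace Cfsg.Agent.Helper9.TCData.X1690
open Cfsg.Agent.Helper9.TC2

theorem m2_7037 : allRange 302591 43 (fun u => chkFix tab mwordsA u) = true := by decide +kernel

theorem m2_7038 : allRange 302634 43 (fun u => chkFix tab mwordsA u) = true := by decide +kernel

theorem m2_7039 : allRange 302677 43 (fun u => chkFix tab mwordsA u) = true := by decide +kernel

theorem m2_7040 : allRange 302720 43 (fun u => chkFix tab mwordsA u) = true := by decide +kernel

theorem m2_7041 : allRange 302763 43 (fun u => chkFix tab mwordsA u) = true := by decide +kernel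

theorem m2_7042 : allRange 302806 43 (fun u => chkFix tab mwordsA u) = true := by decide +kernel

theorem m2_7043 : allRange 302849 43 (fun u => chkFix tab mwordsA u) = true := by decide +kernel

theorem m2_7044 : allRange 302892 43 (fun u => chkFix tab mwordsA u) = true := by decide +kernel

theorem m2_7045 : allRange 302935 43 (fun u => chkFix tab mwordsA u) = true := by decide +kernel

theorem m2_7046 : allRange 302978 43 (fun u => chkFix tab mwordsA u) = true := by decide +kernel


end Cfsg.Agent.Helper9.TCData.X1690
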