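import Cfsg.Agent.Lib.Helper9.TCData.X1690.Main

set_option autoImplicit false
set_option maxRecDepth 1000000

namespace Cfsg.Agent.Helper9.TCData.X1690
open Cfsg.Agent.Helper9.TC2

theorem m2_7047 : allRange 303021 43 (fun u => chkFix tab mwordsA u) = true := by decide +kernel

theorem m2_7048 : allRange 303064 43 (fun u => chkFix tab mwordsA u) = true := by decide +kernel

theorem m2_7049 : allRange 303107 43 (fun u => chkFix tab mwordsA u) = true := by decide +kernel

theorem m2_7050 : allRange 303150 43 (fun u => chkFix tab mwordsA u) = true := by decide +kernel

theorem m2_7051 : allRange 303193 43 (fun u => chkFix tab mwordsA u) = true := by decide +kernel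

theorem m2_7052 : allRange 303236 43 (fun u => chkFix tab mwordsA u) = true := by decide +kernel

theorem m2_7053 : allRange 303279 43 (fun u => chkFix tab mwordsA u) = true := by decide +kernel

theorem m2_7054 : allRange 303322 43 (fun u => chkFix tab mwordsA u) = true := by decide +kernel

theorem m2_7055 : allRange 303365 43 (fun u => chkFix tab mwordsA u) = true := by decide +kernel

theorem m2_7056 : allRange 303408 43 (fun u => chkFix tab mwordsA u) = true := by decide +kernel


end Cfsg.Agent.Helper9.TCData.X1690
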