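import Cfsg.Agent.Lib.Helper9.TCData.X1690.Main

set_option autoImplicit false
set_option maxRecDepth 1000000

namespace Cfsg.Agent.Helper9.TCData.X1690
open Cfsg.Agent.Helper9.TC2

theorem m2_7057 : allRange 303451 43 (fun u => chkFix tab mwordsA u) = true := by decide +kernel

theorem m2_7058 : allRange 303494 43 (fun u => chkFix tab mwordsA u) = true := by decide +kernel

theorem m2_7059 : allRange 303537 43 (fun u => chkFix tab mwordsA u) = true := by decide +kernel

theorem m2_7060 : allRange 303580 43 (fun u => chkFix tab mwordsA u) = true := by decide +kernel

theorem m2_7061 : allRange 303623 43 (fun u => chkFix tab mwordsA u) = true := by decide +kernel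

theorem m2_7062 : allRange 303666 43 (fun u => chkFix tab mwordsA u) = true := by decide +kernel

theorem m2_7063 : allRange 303709 43 (fun u => chkFix tab mwordsA u) = true := by decide +kernel

theorem m2_7064 : allRange 303752 43 (fun u => chkFix tab mwordsA u) = true := by decide +kernel

theorem m2_7065 : allRange 303795 43 (fun u => chkFix tab mwordsA u) = true := by decide +kernel

theorem m2_7066 : allRange 303838 43 (fun u => chkFix tab mwordsA u) = true := by decide +kernel


end Cfsg.Agent.Helper9.TCData.X1690
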