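import Cfsg.Agent.Lib.Helper9.TCData.X1690.Main

set_option autoImplicit false
set_option maxRecDepth 1000000

namespace Cfsg.Agent.Helper9.TCData.X1690
open Cfsg.Agent.Helper9.TC2

theorem m2_7067 : allRange 303881 43 (fun u => chkFix tab mwordsA u) = true := by decide +kernel

theorem m2_7068 : allRange 303924 43 (fun u => chkFix tab mwordsA u) = true := by decide +kernel

theorem m2_7069 : allRange 303967 43 (fun u => chkFix tab mwordsA u) = true := by decide +kernel

theorem m2_7070 : allRange 304010 43 (fun u => chkFix tab mwordsA u) = true := by decide +kernel

theorem m2_7071 : allRange 304053 43 (fun u => chkFix tab mwordsA u) = true := by decide +kernel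

theorem m2_7072 : allRange 304096 43 (fun u => chkFix tab mwordsA u) = true := by decide +kernel

theorem m2_7073 : allRange 304139 43 (fun u => chkFix tab mwordsA u) = true := by decide +kernel

theorem m2_7074 : allRange 304182 43 (fun u => chkFix tab mwordsA u) = true := by decide +kernel

theorem m2_7075 : allRange 304225 43 (fun u => chkFix tab mwordsA u) = true := by decide +kernel

theorem m2_7076 : allRange 304268 43 (fun u => chkFix tab mwordsA u) = true := by decide +kernel


end Cfsg.Agent.Helper9.TCData.X1690
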