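import Cfsg.Agent.Lib.Helper9.TCData.X1690.Main

set_option autoImplicit false
set_option maxRecDepth 1000000

namespace Cfsg.Agent.Helper9.TCData.X1690
open Cfsg.Agent.Helper9.TC2

theorem m2_7087 : allRange 304741 43 (fun u => chkFix tab mwordsA u) = true := by decide +kernel

theorem m2_7088 : allRange 304784 43 (fun u => chkFix tab mwordsA u) = true := by decide +kernel

theorem m2_7089 : allRange 304827 43 (fun u => chkFix tab mwordsA u) = true := by decide +kernel

theorem m2_7090 : allRange 304870 43 (fun u => chkFix tab mwordsA u) = true := by decide +kernel

theorem m2_7091 : allRange 304913 43 (fun u => chkFix tab mwordsA u) = true := by decide +kernel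

theorem m2_7092 : allRange 304956 43 (fun u => chkFix tab mwordsA u) = true := by decide +kernel

theorem m2_7093 : allRange 304999 43 (fun u => chkFix tab mwordsA u) = true := by decide +kernel

theorem m2_7094 : allRange 305042 43 (fun u => chkFix tab mwordsA u) = true := by decide +kernel

theorem m2_7095 : allRange 305085 43 (fun u => chkFix tab mwordsA u) = true := by decide +kernel

theorem m2_7096 : allRange 305128 43 (fun u => chkFix tab mwordsA u) = true := by decide +kernel


end Cfsg.Agent.Helper9.TCData.X1690
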