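import Cfsg.Agent.Lib.Helper9.TCData.X1690.Main

set_option autoImplicit false
set_option maxRecDepth 1000000

namespace Cfsg.Agent.Helper9.TCData.X1690
open Cfsg.Agent.Helper9.TC2

theorem m2_7097 : allRange 305171 43 (fun u => chkFix tab mwordsA u) = true := by decide +kernel

theorem m2_7098 : allRange 305214 43 (fun u => chkFix tab mwordsA u) = true := by decide +kernel

theorem m2_7099 : allRange 305257 43 (fun u => chkFix tab mwordsA u) = true := by decide +kernel

theorem m2_7100 : allRange 305300 43 (fun u => chkFix tab mwordsA u) = true := by decide +kernel

theorem m2_7101 : allRange 305343 43 (fun u => chkFix tab mwordsA u) = true := by decide +kernel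

theorem m2_7102 : allRange 305386 43 (fun u => chkFix tab mwordsA u) = true := by decide +kernel

theorem m2_7103 : allRange 305429 43 (fun u => chkFix tab mwordsA u) = true := by decide +kernel

theorem m2_7104 : allRange 305472 43 (fun u => chkFix tab mwordsA u) = true := by decide +kernel

theorem m2_7105 : allRange 305515 43 (fun u => chkFix tab mwordsA u) = true := by decide +kernel

theorem m2_7106 : allRange 305558 43 (fun u => chkFix tab mwordsA u) = true := by decide +kernel


end Cfsg.Agent.Helper9.TCData.X1690
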