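import Cfsg.Agent.Lib.Helper9.TCData.X1690.Main

set_option autoImplicit false
set_option maxRecDepth 1000000

namespace Cfsg.Agent.Helper9.TCData.X1690
open Cfsg.Agent.Helper9.TC2

theorem m2_7107 : allRange 305601 43 (fun u => chkFix tab mwordsA u) = true := by decide +kernel

theorem m2_7108 : allRange 305644 43 (fun u => chkFix tab mwordsA u) = true := by decide +kernel

theorem m2_7109 : allRange 305687 43 (fun u => chkFix tab mwordsA u) = true := by decide +kernel

theorem m2_7110 : allRange 305730 43 (fun u => chkFix tab mwordsA u) = true := by decide +kernel

theorem m2_7111 : allRange 305773 43 (fun u => chkFix tab mwordsA u) = true := by decide +kernel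

theorem m2_7112 : allRange 305816 43 (fun u => chkFix tab mwordsA u) = true := by decide +kernel

theorem m2_7113 : allRange 305859 43 (fun u => chkFix tab mwordsA u) = true := by decide +kernel

theorem m2_7114 : allRange 305902 43 (fun u => chkFix tab mwordsA u) = true := by decide +kernel

theorem m2_7115 : allRange 305945 43 (fun u => chkFix tab mwordsA u) = true := by decide +kernel

theorem m2_7116 : allRange 305988 43 (fun u => chkFix tab mwordsA u) = true := by decide +kernel


end Cfsg.Agent.Helper9.TCData.X1690
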