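import Cfsg.Agent.Lib.Helper9.TCData.X1690.Main

set_option autoImplicit false
set_option maxRecDepth 1000000

namespace Cfsg.Agent.Helper9.TCData.X1690
open Cfsg.Agent.Helper9.TC2

theorem e7_48 : allRange 107951 2185 (fun u => chkE tab 7 u) = true := by decide +kernel

theorem e7_49 : allRange 110136 2399 (fun u => chkE tab 7 u) = true := by decide +kernel

theorem e7_50 : allRange 112535 2155 (fun u => chkE tab 7 u) = true := by decide +kernel

theorem e7_51 : allRange 114690 2190 (fun u => chkE tab 7 u) = true := by decide +kernel

theorem e7_52 : allRange 116880 2922 (fun u => chkE tab 7 u) = true := by decide +kernel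

theorem e7_53 : allRange 119802 3265 (fun u => chkE tab 7 u) = true := by decide +kernel

theorem e7_54 : allRange 123067 4618 (fun u => chkE tab 7 u) = true := by decide +kernel

theorem e7_55 : allRange 127685 3609 (fun u => chkE tab 7 u) = true := by decide +kernel

theorem e7_56 : allRange 131294 2805 (fun u => chkE tab 7 u) = true := by decide +kernel

theorem e7_57 : allRange 134099 2799 (fun u => chkE tab 7 u) = true := by decide +kernel


end Cfsg.Agent.Helper9.TCData.X1690
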