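import Cfsg.Agent.Lib.Helper9.TCData.X1690.Main

set_option autoImplicit false
set_option maxRecDepth 1000000

namespace Cfsg.Agent.Helper9.TCData.X1690
open Cfsg.Agent.Helper9.TC2

theorem m2_7117 : allRange 306031 43 (fun u => chkFix tab mwordsA u) = true := by decide +kernel

theorem m2_7118 : allRange 306074 43 (fun u => chkFix tab mwordsA u) = true := by decide +kernel

theorem m2_7119 : allRange 306117 43 (fun u => chkFix tab mwordsA u) = true := by decide +kernel

theorem m2_7120 : allRange 306160 43 (fun u => chkFix tab mwordsA u) = true := by decide +kernel

theorem m2_7121 : allRange 306203 43 (fun u => chkFix tab mwordsA u) = true := by decide +kernel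

theorem m2_7122 : allRange 306246 43 (fun u => chkFix tab mwordsA u) = true := by decide +kernel

theorem m2_7123 : allRange 306289 43 (fun u => chkFix tab mwordsA u) = true := by decide +kernel

theorem m2_7124 : allRange 306332 43 (fun u => chkFix tab mwordsA u) = true := by decide +kernel

theorem m2_7125 : allRange 306375 43 (fun u => chkFix tab mwordsA u) = true := by decide +kernel

theorem m2_7126 : allRange 306418 43 (fun u => chkFix tab mwordsA u) = true := by decide +kernel


end Cfsg.Agent.Helper9.TCData.X1690
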