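import Cfsg.Agent.Lib.Helper9.TCData.X1690.Main

set_option autoImplicit false
set_option maxRecDepth 1000000

namespace Cfsg.Agent.Helper9.TCData.X1690
open Cfsg.Agent.Helper9.TC2

theorem m2_7127 : allRange 306461 43 (fun u => chkFix tab mwordsA u) = true := by decide +kernel

theorem m2_7128 : allRange 306504 43 (fun u => chkFix tab mwordsA u) = true := by decide +kernel

theorem m2_7129 : allRange 306547 43 (fun u => chkFix tab mwordsA u) = true := by decide +kernel

theorem m2_7130 : allRange 306590 43 (fun u => chkFix tab mwordsA u) = true := by decide +kernel

theorem m2_7131 : allRange 306633 43 (fun u => chkFix tab mwordsA u) = true := by decide +kernel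

theorem m2_7132 : allRange 306676 43 (fun u => chkFix tab mwordsA u) = true := by decide +kernel

theorem m2_7133 : allRange 306719 43 (fun u => chkFix tab mwordsA u) = true := by decide +kernel

theorem m2_7134 : allRange 306762 43 (fun u => chkFix tab mwordsA u) = true := by decide +kernel

theorem m2_7135 : allRange 306805 43 (fun u => chkFix tab mwordsA u) = true := by decide +kernel

theorem m2_7136 : allRange 306848 43 (fun u => chkFix tab mwordsA u) = true := by decide +kernel


end Cfsg.Agent.Helper9.TCData.X1690
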