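import Cfsg.Agent.Lib.Helper9.TCData.X1690.Main

set_option autoImplicit false
set_option maxRecDepth 1000000

namespace Cfsg.Agent.Helper9.TCData.X1690
open Cfsg.Agent.Helper9.TC2

theorem e7_58 : allRange 136898 3753 (fun u => chkE tab 7 u) = true := by decide +kernel

theorem e7_59 : allRange 140651 4452 (fun u => chkE tab 7 u) = true := by decide +kernel

theorem e7_60 : allRange 145103 3632 (fun u => chkE tab 7 u) = true := by decide +kernel

theorem e7_61 : allRange 148735 4305 (fun u => chkE tab 7 u) = true := by decide +kernel

theorem e7_62 : allRange 153040 4204 (fun u => chkE tab 7 u) = true := by decide +kernel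

theorem e7_63 : allRange 157244 4988 (fun u => chkE tab 7 u) = true := by decide +kernel

theorem e7_64 : allRange 162232 2538 (fun u => chkE tab 7 u) = true := by decide +kernel

theorem e7_65 : allRange 164770 2465 (fun u => chkE tab 7 u) = true := by decide +kernel

theorem e7_66 : allRange 167235 2294 (fun u => chkE tab 7 u) = true := by decide +kernel

theorem e7_67 : allRange 169529 2367 (fun u => chkE tab 7 u) = true := by decide +kernel


end Cfsg.Agent.Helper9.TCData.X1690
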