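import Cfsg.Agent.Lib.Helper9.TCData.X1690.Main

set_option autoImplicit false
set_option maxRecDepth 1000000

namespace Cfsg.Agent.Helper9.TCData.X1690
open Cfsg.Agent.Helper9.TC2

theorem e7_78 : allRange 195582 2709 (fun u => chkE tab 7 u) = true := by decide +kernel

theorem e7_79 : allRange 198291 2486 (fun u => chkE tab 7 u) = true := by decide +kernel

theorem e7_80 : allRange 200777 2505 (fun u => chkE tab 7 u) = true := by decide +kernel

theorem e7_81 : allRange 203282 2383 (fun u => chkE tab 7 u) = true := by decide +kernel

theorem e7_82 : allRange 205665 2445 (fun u => chkE tab 7 u) = true := by decide +kernel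

theorem e7_83 : allRange 208110 2220 (fun u => chkE tab 7 u) = true := by decide +kernel

theorem e7_84 : allRange 210330 2327 (fun u => chkE tab 7 u) = true := by decide +kernel

theorem e7_85 : allRange 212657 2269 (fun u => chkE tab 7 u) = true := by decide +kernel

theorem e7_86 : allRange 214926 2628 (fun u => chkE tab 7 u) = true := by decide +kernel

theorem e7_87 : allRange 217554 2600 (fun u => chkE tab 7 u) = true := by decide +kernel


end Cfsg.Agent.Helper9.TCData.X1690
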