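import Cfsg.Agent.Lib.Helper9.TCData.X1690.Main

set_option autoImplicit false
set_option maxRecDepth 1000000

namespace Cfsg.Agent.Helper9.TCData.X1690
open Cfsg.Agent.Helper9.TC2

theorem e7_88 : allRange 220154 2451 (fun u => chkE tab 7 u) = true := by decide +kernel

theorem e7_89 : allRange 222605 2417 (fun u => chkE tab 7 u) = true := by decide +kernel

theorem e7_90 : allRange 225022 2501 (fun u => chkE tab 7 u) = true := by decide +kernel

theorem e7_91 : allRange 227523 2376 (fun u => chkE tab 7 u) = true := by decide +kernel

theorem e7_92 : allRange 229899 2230 (fun u => chkE tab 7 u) = true := by decide +kernel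

theorem e7_93 : allRange 232129 2222 (fun u => chkE tab 7 u) = true := by decide +kernel

theorem e7_94 : allRange 234351 2411 (fun u => chkE tab 7 u) = true := by decide +kernel

theorem e7_95 : allRange 236762 2732 (fun u => chkE tab 7 u) = true := by decide +kernel

theorem e7_96 : allRange 239494 2628 (fun u => chkE tab 7 u) = true := by decide +kernel

theorem e7_97 : allRange 242122 2405 (fun u => chkE tab 7 u) = true := by decide +kernel


end Cfsg.Agent.Helper9.TCData.X1690
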