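import Cfsg.Agent.Lib.Helper9.TCData.X1690.Main

set_option autoImplicit false
set_option maxRecDepth 1000000

namespace Cfsg.Agent.Helper9.TCData.X1690
open Cfsg.Agent.Helper9.TC2

theorem e7_98 : allRange 244527 2395 (fun u => chkE tab 7 u) = true := by decide +kernel

theorem e7_99 : allRange 246922 2515 (fun u => chkE tab 7 u) = true := by decide +kernel

theorem e7_100 : allRange 249437 2392 (fun u => chkE tab 7 u) = true := by decide +kernel

theorem e7_101 : allRange 251829 2271 (fun u => chkE tab 7 u) = true := by decide +kernel

theorem e7_102 : allRange 254100 2308 (fun u => chkE tab 7 u) = true := by decide +kernel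

theorem e7_103 : allRange 256408 2321 (fun u => chkE tab 7 u) = true := by decide +kernel

theorem e7_104 : allRange 258729 2726 (fun u => chkE tab 7 u) = true := by decide +kernel

theorem e7_105 : allRange 261455 2787 (fun u => chkE tab 7 u) = true := by decide +kernel

theorem e7_106 : allRange 264242 2483 (fun u => chkE tab 7 u) = true := by decide +kernel

theorem e7_107 : allRange 266725 2507 (fun u => chkE tab 7 u) = true := by decide +kernel


end Cfsg.Agent.Helper9.TCData.X1690
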