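import Cfsg.Agent.Lib.Helper9.TCData.X1690.Main

set_option autoImplicit false
set_option maxRecDepth 1000000

namespace Cfsg.Agent.Helper9.TCData.X1690
open Cfsg.Agent.Helper9.TC2

theorem e7_108 : allRange 269232 2391 (fun u => chkE tab 7 u) = true := by decide +kernel

theorem e7_109 : allRange 271623 2562 (fun u => chkE tab 7 u) = true := by decide +kernel

theorem e7_110 : allRange 274185 2435 (fun u => chkE tab 7 u) = true := by decide +kernel

theorem e7_111 : allRange 276620 2242 (fun u => chkE tab 7 u) = true := by decide +kernel

theorem e7_112 : allRange 278862 2219 (fun u => chkE tab 7 u) = true := by decide +kernel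

theorem e7_113 : allRange 281081 2472 (fun u => chkE tab 7 u) = true := by decide +kernel

theorem e7_114 : allRange 283553 2938 (fun u => chkE tab 7 u) = true := by decide +kernel

theorem e7_115 : allRange 286491 2997 (fun u => chkE tab 7 u) = true := by decide +kernel

theorem e7_116 : allRange 289488 2446 (fun u => chkE tab 7 u) = true := by decide +kernel

theorem e7_117 : allRange 291934 2509 (fun u => chkE tab 7 u) = true := by decide +kernel


end Cfsg.Agent.Helper9.TCData.X1690
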