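import Cfsg.Agent.Lib.Helper9.TCData.X1690.Main

set_option autoImplicit false
set_option maxRecDepth 1000000

namespace Cfsg.Agent.Helper9.TCData.X1690
open Cfsg.Agent.Helper9.TC2

theorem e7_118 : allRange 294443 2476 (fun u => chkE tab 7 u) = true := by decide +kernel

theorem e7_119 : allRange 296919 2594 (fun u => chkE tab 7 u) = true := by decide +kernel

theorem e7_120 : allRange 299513 2415 (fun u => chkE tab 7 u) = true := by decide +kernel

theorem e7_121 : allRange 301928 2206 (fun u => chkE tab 7 u) = true := by decide +kernel

theorem e7_122 : allRange 304134 2251 (fun u => chkE tab 7 u) = true := by decide +kernel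

theorem e7_123 : allRange 306385 2434 (fun u => chkE tab 7 u) = true := by decide +kernel

theorem e7_124 : allRange 308819 3127 (fun u => chkE tab 7 u) = true := by decide +kernel

theorem e7_125 : allRange 311946 3212 (fun u => chkE tab 7 u) = true := by decide +kernel

theorem e7_126 : allRange 315158 2446 (fun u => chkE tab 7 u) = true := by decide +kernel

theorem e7_127 : allRange 317604 2547 (fun u => chkE tab 7 u) = true := by decide +kernel


end Cfsg.Agent.Helper9.TCData.X1690
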