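import Cfsg.Agent.Lib.Helper9.TCData.X1690.Main

set_option autoImplicit false
set_option maxRecDepth 1000000

namespace Cfsg.Agent.Helper9.TCData.X1690
open Cfsg.Agent.Helper9.TC2

theorem e7_128 : allRange 320151 2594 (fun u => chkE tab 7 u) = true := by decide +kernel

theorem e7_129 : allRange 322745 2637 (fun u => chkE tab 7 u) = true := by decide +kernel

theorem e7_130 : allRange 325382 2349 (fun u => chkE tab 7 u) = true := by decide +kernel

theorem e7_131 : allRange 327731 2243 (fun u => chkE tab 7 u) = true := by decide +kernel

theorem e7_132 : allRange 329974 2110 (fun u => chkE tab 7 u) = true := by decide +kernel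

theorem e7_133 : allRange 332084 2724 (fun u => chkE tab 7 u) = true := by decide +kernel

theorem e7_134 : allRange 334808 3472 (fun u => chkE tab 7 u) = true := by decide +kernel

theorem e7_135 : allRange 338280 2967 (fun u => chkE tab 7 u) = true := by decide +kernel

theorem e7_136 : allRange 341247 2538 (fun u => chkE tab 7 u) = true := by decide +kernel

theorem e7_137 : allRange 343785 2682 (fun u => chkE tab 7 u) = true := by decide +kernel


end Cfsg.Agent.Helper9.TCData.X1690
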