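import Cfsg.Agent.Lib.Helper9.TCData.X1690.Main

set_option autoImplicit false
set_option maxRecDepth 1000000

namespace Cfsg.Agent.Helper9.TCData.X1690
open Cfsg.Agent.Helper9.TC2

theorem e7_138 : allRange 346467 2801 (fun u => chkE tab 7 u) = true := by decide +kernel

theorem e7_139 : allRange 349268 2375 (fun u => chkE tab 7 u) = true := by decide +kernel

theorem e7_140 : allRange 351643 2146 (fun u => chkE tab 7 u) = true := by decide +kernel

theorem e7_141 : allRange 353789 2359 (fun u => chkE tab 7 u) = true := by decide +kernel

theorem e7_142 : allRange 356148 3526 (fun u => chkE tab 7 u) = true := by decide +kernel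

theorem e7_143 : allRange 359674 3100 (fun u => chkE tab 7 u) = true := by decide +kernel

theorem e7_144 : allRange 362774 2705 (fun u => chkE tab 7 u) = true := by decide +kernel

theorem e7_145 : allRange 365479 2807 (fun u => chkE tab 7 u) = true := by decide +kernel

theorem e7_146 : allRange 368286 2432 (fun u => chkE tab 7 u) = true := by decide +kernel

theorem e7_147 : allRange 370718 2326 (fun u => chkE tab 7 u) = true := by decide +kernel


end Cfsg.Agent.Helper9.TCData.X1690
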