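import Cfsg.Agent.Lib.Helper9.TCData.X1690.Main

set_option autoImplicit false
set_option maxRecDepth 1000000

namespace Cfsg.Agent.Helper9.TCData.X1690
open Cfsg.Agent.Helper9.TC2

theorem e7_148 : allRange 373044 3547 (fun u => chkE tab 7 u) = true := by decide +kernel

theorem e7_149 : allRange 376591 2814 (fun u => chkE tab 7 u) = true := by decide +kernel

theorem e7_150 : allRange 379405 2719 (fun u => chkE tab 7 u) = true := by decide +kernel

theorem e7_151 : allRange 382124 2426 (fun u => chkE tab 7 u) = true := by decide +kernel

theorem e7_152 : allRange 384550 3126 (fun u => chkE tab 7 u) = true := by decide +kernel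

theorem e7_153 : allRange 387676 2612 (fun u => chkE tab 7 u) = true := by decide +kernel

theorem e7_154 : allRange 390288 2923 (fun u => chkE tab 7 u) = true := by decide +kernel

theorem e7_155 : allRange 393211 1243 (fun u => chkE tab 7 u) = true := by decide +kernel

theorem e8_0 : allRange 0 2023 (fun u => chkE tab 8 u) = true := by decide +kernel

theorem e8_1 : allRange 2023 2238 (fun u => chkE tab 8 u) = true := by decide +kernel


end Cfsg.Agent.Helper9.TCData.X1690
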