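import Cfsg.Agent.Lib.Helper9.TCData.X1690.Main

set_option autoImplicit false
set_option maxRecDepth 1000000

namespace Cfsg.Agent.Helper9.TCData.X1690
open Cfsg.Agent.Helper9.TC2

theorem e8_2 : allRange 4261 2314 (fun u => chkE tab 8 u) = true := by decide +kernel

theorem e8_3 : allRange 6575 2454 (fun u => chkE tab 8 u) = true := by decide +kernel

theorem e8_4 : allRange 9029 2899 (fun u => chkE tab 8 u) = true := by decide +kernel

theorem e8_5 : allRange 11928 2332 (fun u => chkE tab 8 u) = true := by decide +kernel

theorem e8_6 : allRange 14260 2454 (fun u => chkE tab 8 u) = true := by decide +kernel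

theorem e8_7 : allRange 16714 2188 (fun u => chkE tab 8 u) = true := by decide +kernel

theorem e8_8 : allRange 18902 2433 (fun u => chkE tab 8 u) = true := by decide +kernel

theorem e8_9 : allRange 21335 2100 (fun u => chkE tab 8 u) = true := by decide +kernel

theorem e8_10 : allRange 23435 2372 (fun u => chkE tab 8 u) = true := by decide +kernel

theorem e8_11 : allRange 25807 2356 (fun u => chkE tab 8 u) = true := by decide +kernel


end Cfsg.Agent.Helper9.TCData.X1690
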