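import Cfsg.Agent.Lib.Helper9.TCData.X1690.Main

set_option autoImplicit false
set_option maxRecDepth 1000000

namespace Cfsg.Agent.Helper9.TCData.X1690
open Cfsg.Agent.Helper9.TC2

theorem e0_130 : allRange 298450 1629 (fun u => chkE tab 0 u) = true := by decide +kernel

theorem e0_131 : allRange 300079 1912 (fun u => chkE tab 0 u) = true := by decide +kernel

theorem e0_132 : allRange 301991 1741 (fun u => chkE tab 0 u) = true := by decide +kernel

theorem e0_133 : allRange 303732 1687 (fun u => chkE tab 0 u) = true := by decide +kernel

theorem e0_134 : allRange 305419 1495 (fun u => chkE tab 0 u) = true := by decide +kernel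

theorem e0_135 : allRange 306914 1565 (fun u => chkE tab 0 u) = true := by decide +kernel

theorem e0_136 : allRange 308479 4229 (fun u => chkE tab 0 u) = true := by decide +kernel

theorem e0_137 : allRange 312708 6281 (fun u => chkE tab 0 u) = true := by decide +kernel

theorem e0_138 : allRange 318989 2212 (fun u => chkE tab 0 u) = true := by decide +kernel

theorem e0_139 : allRange 321201 1760 (fun u => chkE tab 0 u) = true := by decide +kernel


end Cfsg.Agent.Helper9.TCData.X1690
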