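import Cfsg.Agent.Lib.Helper9.TCData.X1690.Main

set_option autoImplicit false
set_option maxRecDepth 1000000

namespace Cfsg.Agent.Helper9.TCData.X1690
open Cfsg.Agent.Helper9.TC2

theorem e8_12 : allRange 28163 2061 (fun u => chkE tab 8 u) = true := by decide +kernel

theorem e8_13 : allRange 30224 2201 (fun u => chkE tab 8 u) = true := by decide +kernel

theorem e8_14 : allRange 32425 2327 (fun u => chkE tab 8 u) = true := by decide +kernel

theorem e8_15 : allRange 34752 2231 (fun u => chkE tab 8 u) = true := by decide +kernel

theorem e8_16 : allRange 36983 2291 (fun u => chkE tab 8 u) = true := by decide +kernel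

theorem e8_17 : allRange 39274 1891 (fun u => chkE tab 8 u) = true := by decide +kernel

theorem e8_18 : allRange 41165 2234 (fun u => chkE tab 8 u) = true := by decide +kernel

theorem e8_19 : allRange 43399 2295 (fun u => chkE tab 8 u) = true := by decide +kernel

theorem e8_20 : allRange 45694 2239 (fun u => chkE tab 8 u) = true := by decide +kernel

theorem e8_21 : allRange 47933 2193 (fun u => chkE tab 8 u) = true := by decide +kernel


end Cfsg.Agent.Helper9.TCData.X1690
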