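import Cfsg.Agent.Lib.Helper9.TCData.X1690.Main

set_option autoImplicit false
set_option maxRecDepth 1000000

namespace Cfsg.Agent.Helper9.TCData.X1690
open Cfsg.Agent.Helper9.TC2

theorem e8_22 : allRange 50126 2268 (fun u => chkE tab 8 u) = true := by decide +kernel

theorem e8_23 : allRange 52394 2077 (fun u => chkE tab 8 u) = true := by decide +kernel

theorem e8_24 : allRange 54471 1952 (fun u => chkE tab 8 u) = true := by decide +kernel

theorem e8_25 : allRange 56423 2238 (fun u => chkE tab 8 u) = true := by decide +kernel

theorem e8_26 : allRange 58661 2201 (fun u => chkE tab 8 u) = true := by decide +kernel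

theorem e8_27 : allRange 60862 2352 (fun u => chkE tab 8 u) = true := by decide +kernel

theorem e8_28 : allRange 63214 2177 (fun u => chkE tab 8 u) = true := by decide +kernel

theorem e8_29 : allRange 65391 2172 (fun u => chkE tab 8 u) = true := by decide +kernel

theorem e8_30 : allRange 67563 2338 (fun u => chkE tab 8 u) = true := by decide +kernel

theorem e8_31 : allRange 69901 2133 (fun u => chkE tab 8 u) = true := by decide +kernel


end Cfsg.Agent.Helper9.TCData.X1690
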