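import Cfsg.Agent.Lib.Helper9.TCData.X1690.Main

set_option autoImplicit false
set_option maxRecDepth 1000000

namespace Cfsg.Agent.Helper9.TCData.X1690
open Cfsg.Agent.Helper9.TC2

theorem e8_42 : allRange 93793 2331 (fun u => chkE tab 8 u) = true := by decide +kernel

theorem e8_43 : allRange 96124 2260 (fun u => chkE tab 8 u) = true := by decide +kernel

theorem e8_44 : allRange 98384 2085 (fun u => chkE tab 8 u) = true := by decide +kernel

theorem e8_45 : allRange 100469 2207 (fun u => chkE tab 8 u) = true := by decide +kernel

theorem e8_46 : allRange 102676 1968 (fun u => chkE tab 8 u) = true := by decide +kernel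

theorem e8_47 : allRange 104644 2011 (fun u => chkE tab 8 u) = true := by decide +kernel

theorem e8_48 : allRange 106655 1993 (fun u => chkE tab 8 u) = true := by decide +kernel

theorem e8_49 : allRange 108648 2273 (fun u => chkE tab 8 u) = true := by decide +kernel

theorem e8_50 : allRange 110921 2229 (fun u => chkE tab 8 u) = true := by decide +kernel

theorem e8_51 : allRange 113150 2235 (fun u => chkE tab 8 u) = true := by decide +kernel


end Cfsg.Agent.Helper9.TCData.X1690
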