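import Cfsg.Agent.Lib.Helper9.TCData.X1690.Main

set_option autoImplicit false
set_option maxRecDepth 1000000

namespace Cfsg.Agent.Helper9.TCData.X1690
open Cfsg.Agent.Helper9.TC2

theorem e8_52 : allRange 115385 2427 (fun u => chkE tab 8 u) = true := by decide +kernel

theorem e8_53 : allRange 117812 3127 (fun u => chkE tab 8 u) = true := by decide +kernel

theorem e8_54 : allRange 120939 3454 (fun u => chkE tab 8 u) = true := by decide +kernel

theorem e8_55 : allRange 124393 3761 (fun u => chkE tab 8 u) = true := by decide +kernel

theorem e8_56 : allRange 128154 4182 (fun u => chkE tab 8 u) = true := by decide +kernel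

theorem e8_57 : allRange 132336 3130 (fun u => chkE tab 8 u) = true := by decide +kernel

theorem e8_58 : allRange 135466 2580 (fun u => chkE tab 8 u) = true := by decide +kernel

theorem e8_59 : allRange 138046 3986 (fun u => chkE tab 8 u) = true := by decide +kernel

theorem e8_60 : allRange 142032 3557 (fun u => chkE tab 8 u) = true := by decide +kernel

theorem e8_61 : allRange 145589 4602 (fun u => chkE tab 8 u) = true := by decide +kernel


end Cfsg.Agent.Helper9.TCData.X1690
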