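import Cfsg.Agent.Lib.Helper9.TCData.X1690.Main

set_option autoImplicit false
set_option maxRecDepth 1000000

namespace Cfsg.Agent.Helper9.TCData.X1690
open Cfsg.Agent.Helper9.TC2

theorem e8_62 : allRange 150191 4589 (fun u => chkE tab 8 u) = true := by decide +kernel

theorem e8_63 : allRange 154780 4647 (fun u => chkE tab 8 u) = true := by decide +kernel

theorem e8_64 : allRange 159427 3899 (fun u => chkE tab 8 u) = true := by decide +kernel

theorem e8_65 : allRange 163326 2303 (fun u => chkE tab 8 u) = true := by decide +kernel

theorem e8_66 : allRange 165629 2427 (fun u => chkE tab 8 u) = true := by decide +kernel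

theorem e8_67 : allRange 168056 2614 (fun u => chkE tab 8 u) = true := by decide +kernel

theorem e8_68 : allRange 170670 2070 (fun u => chkE tab 8 u) = true := by decide +kernel

theorem e8_69 : allRange 172740 2066 (fun u => chkE tab 8 u) = true := by decide +kernel

theorem e8_70 : allRange 174806 2201 (fun u => chkE tab 8 u) = true := by decide +kernel

theorem e8_71 : allRange 177007 2469 (fun u => chkE tab 8 u) = true := by decide +kernel


end Cfsg.Agent.Helper9.TCData.X1690
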