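import Cfsg.Agent.Lib.Helper9.TCData.X1690.Main

set_option autoImplicit false
set_option maxRecDepth 1000000

namespace Cfsg.Agent.Helper9.TCData.X1690
open Cfsg.Agent.Helper9.TC2

theorem e8_72 : allRange 179476 2559 (fun u => chkE tab 8 u) = true := by decide +kernel

theorem e8_73 : allRange 182035 2230 (fun u => chkE tab 8 u) = true := by decide +kernel

theorem e8_74 : allRange 184265 2435 (fun u => chkE tab 8 u) = true := by decide +kernel

theorem e8_75 : allRange 186700 2507 (fun u => chkE tab 8 u) = true := by decide +kernel

theorem e8_76 : allRange 189207 2035 (fun u => chkE tab 8 u) = true := by decide +kernel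

theorem e8_77 : allRange 191242 1988 (fun u => chkE tab 8 u) = true := by decide +kernel

theorem e8_78 : allRange 193230 2303 (fun u => chkE tab 8 u) = true := by decide +kernel

theorem e8_79 : allRange 195533 2583 (fun u => chkE tab 8 u) = true := by decide +kernel

theorem e8_80 : allRange 198116 2609 (fun u => chkE tab 8 u) = true := by decide +kernel

theorem e8_81 : allRange 200725 2059 (fun u => chkE tab 8 u) = true := by decide +kernel


end Cfsg.Agent.Helper9.TCData.X1690
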