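import Cfsg.Agent.Lib.Helper9.TCData.X1690.Main

set_option autoImplicit false
set_option maxRecDepth 1000000

namespace Cfsg.Agent.Helper9.TCData.X1690
open Cfsg.Agent.Helper9.TC2

theorem e8_82 : allRange 202784 2412 (fun u => chkE tab 8 u) = true := by decide +kernel

theorem e8_83 : allRange 205196 2711 (fun u => chkE tab 8 u) = true := by decide +kernel

theorem e8_84 : allRange 207907 2042 (fun u => chkE tab 8 u) = true := by decide +kernel

theorem e8_85 : allRange 209949 1995 (fun u => chkE tab 8 u) = true := by decide +kernel

theorem e8_86 : allRange 211944 1913 (fun u => chkE tab 8 u) = true := by decide +kernel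

theorem e8_87 : allRange 213857 2472 (fun u => chkE tab 8 u) = true := by decide +kernel

theorem e8_88 : allRange 216329 2968 (fun u => chkE tab 8 u) = true := by decide +kernel

theorem e8_89 : allRange 219297 2363 (fun u => chkE tab 8 u) = true := by decide +kernel

theorem e8_90 : allRange 221660 2337 (fun u => chkE tab 8 u) = true := by decide +kernel

theorem e8_91 : allRange 223997 2194 (fun u => chkE tab 8 u) = true := by decide +kernel


end Cfsg.Agent.Helper9.TCData.X1690
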