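import Cfsg.Agent.Lib.Helper9.TCData.X1690.Main

set_option autoImplicit false
set_option maxRecDepth 1000000

namespace Cfsg.Agent.Helper9.TCData.X1690
open Cfsg.Agent.Helper9.TC2

theorem e8_92 : allRange 226191 2726 (fun u => chkE tab 8 u) = true := by decide +kernel

theorem e8_93 : allRange 228917 2029 (fun u => chkE tab 8 u) = true := by decide +kernel

theorem e8_94 : allRange 230946 1943 (fun u => chkE tab 8 u) = true := by decide +kernel

theorem e8_95 : allRange 232889 1833 (fun u => chkE tab 8 u) = true := by decide +kernel

theorem e8_96 : allRange 234722 2390 (fun u => chkE tab 8 u) = true := by decide +kernel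

theorem e8_97 : allRange 237112 3149 (fun u => chkE tab 8 u) = true := by decide +kernel

theorem e8_98 : allRange 240261 2654 (fun u => chkE tab 8 u) = true := by decide +kernel

theorem e8_99 : allRange 242915 2082 (fun u => chkE tab 8 u) = true := by decide +kernel

theorem e8_100 : allRange 244997 2236 (fun u => chkE tab 8 u) = true := by decide +kernel

theorem e8_101 : allRange 247233 2722 (fun u => chkE tab 8 u) = true := by decide +kernel


end Cfsg.Agent.Helper9.TCData.X1690
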