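import Cfsg.Agent.Lib.Helper9.TCData.X1690.Main

set_option autoImplicit false
set_option maxRecDepth 1000000

namespace Cfsg.Agent.Helper9.TCData.X1690
open Cfsg.Agent.Helper9.TC2

theorem e8_102 : allRange 249955 2395 (fun u => chkE tab 8 u) = true := by decide +kernel

theorem e8_103 : allRange 252350 1901 (fun u => chkE tab 8 u) = true := by decide +kernel

theorem e8_104 : allRange 254251 1875 (fun u => chkE tab 8 u) = true := by decide +kernel

theorem e8_105 : allRange 256126 1829 (fun u => chkE tab 8 u) = true := by decide +kernel

theorem e8_106 : allRange 257955 2878 (fun u => chkE tab 8 u) = true := by decide +kernel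

theorem e8_107 : allRange 260833 3217 (fun u => chkE tab 8 u) = true := by decide +kernel

theorem e8_108 : allRange 264050 2470 (fun u => chkE tab 8 u) = true := by decide +kernel

theorem e8_109 : allRange 266520 2092 (fun u => chkE tab 8 u) = true := by decide +kernel

theorem e8_110 : allRange 268612 2239 (fun u => chkE tab 8 u) = true := by decide +kernel

theorem e8_111 : allRange 270851 2745 (fun u => chkE tab 8 u) = true := by decide +kernel


end Cfsg.Agent.Helper9.TCData.X1690
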