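import Cfsg.Agent.Lib.Helper9.TCData.X1690.Main

set_option autoImplicit false
set_option maxRecDepth 1000000

namespace Cfsg.Agent.Helper9.TCData.X1690
open Cfsg.Agent.Helper9.TC2

theorem e0_140 : allRange 322961 1599 (fun u => chkE tab 0 u) = true := by decide +kernel

theorem e0_141 : allRange 324560 1718 (fun u => chkE tab 0 u) = true := by decide +kernel

theorem e0_142 : allRange 326278 1777 (fun u => chkE tab 0 u) = true := by decide +kernel

theorem e0_143 : allRange 328055 1861 (fun u => chkE tab 0 u) = true := by decide +kernel

theorem e0_144 : allRange 329916 1541 (fun u => chkE tab 0 u) = true := by decide +kernel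

theorem e0_145 : allRange 331457 1554 (fun u => chkE tab 0 u) = true := by decide +kernel

theorem e0_146 : allRange 333011 2645 (fun u => chkE tab 0 u) = true := by decide +kernel

theorem e0_147 : allRange 335656 6403 (fun u => chkE tab 0 u) = true := by decide +kernel

theorem e0_148 : allRange 342059 3370 (fun u => chkE tab 0 u) = true := by decide +kernel

theorem e0_149 : allRange 345429 1797 (fun u => chkE tab 0 u) = true := by decide +kernel


end Cfsg.Agent.Helper9.TCData.X1690
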