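import Cfsg.Agent.Lib.Helper9.TCData.X1690.Main

set_option autoImplicit false
set_option maxRecDepth 1000000

namespace Cfsg.Agent.Helper9.TCData.X1690
open Cfsg.Agent.Helper9.TC2

theorem e8_112 : allRange 273596 2400 (fun u => chkE tab 8 u) = true := by decide +kernel

theorem e8_113 : allRange 275996 1911 (fun u => chkE tab 8 u) = true := by decide +kernel

theorem e8_114 : allRange 277907 1851 (fun u => chkE tab 8 u) = true := by decide +kernel

theorem e8_115 : allRange 279758 1837 (fun u => chkE tab 8 u) = true := by decide +kernel

theorem e8_116 : allRange 281595 2557 (fun u => chkE tab 8 u) = true := by decide +kernel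

theorem e8_117 : allRange 284152 3519 (fun u => chkE tab 8 u) = true := by decide +kernel

theorem e8_118 : allRange 287671 2702 (fun u => chkE tab 8 u) = true := by decide +kernel

theorem e8_119 : allRange 290373 2188 (fun u => chkE tab 8 u) = true := by decide +kernel

theorem e8_120 : allRange 292561 2300 (fun u => chkE tab 8 u) = true := by decide +kernel

theorem e8_121 : allRange 294861 2577 (fun u => chkE tab 8 u) = true := by decide +kernel


end Cfsg.Agent.Helper9.TCData.X1690
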