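import Cfsg.Agent.Lib.Helper9.TCData.X1690.Main

set_option autoImplicit false
set_option maxRecDepth 1000000

namespace Cfsg.Agent.Helper9.TCData.X1690
open Cfsg.Agent.Helper9.TC2

theorem e8_122 : allRange 297438 2693 (fun u => chkE tab 8 u) = true := by decide +kernel

theorem e8_123 : allRange 300131 2012 (fun u => chkE tab 8 u) = true := by decide +kernel

theorem e8_124 : allRange 302143 1838 (fun u => chkE tab 8 u) = true := by decide +kernel

theorem e8_125 : allRange 303981 1833 (fun u => chkE tab 8 u) = true := by decide +kernel

theorem e8_126 : allRange 305814 1963 (fun u => chkE tab 8 u) = true := by decide +kernel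

theorem e8_127 : allRange 307777 3369 (fun u => chkE tab 8 u) = true := by decide +kernel

theorem e8_128 : allRange 311146 3282 (fun u => chkE tab 8 u) = true := by decide +kernel

theorem e8_129 : allRange 314428 2469 (fun u => chkE tab 8 u) = true := by decide +kernel

theorem e8_130 : allRange 316897 2195 (fun u => chkE tab 8 u) = true := by decide +kernel

theorem e8_131 : allRange 319092 2358 (fun u => chkE tab 8 u) = true := by decide +kernel


end Cfsg.Agent.Helper9.TCData.X1690
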