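import Cfsg.Agent.Lib.Helper9.TCData.X1690.Main

set_option autoImplicit false
set_option maxRecDepth 1000000

namespace Cfsg.Agent.Helper9.TCData.X1690
open Cfsg.Agent.Helper9.TC2

theorem e8_132 : allRange 321450 2646 (fun u => chkE tab 8 u) = true := by decide +kernel

theorem e8_133 : allRange 324096 2553 (fun u => chkE tab 8 u) = true := by decide +kernel

theorem e8_134 : allRange 326649 1873 (fun u => chkE tab 8 u) = true := by decide +kernel

theorem e8_135 : allRange 328522 1901 (fun u => chkE tab 8 u) = true := by decide +kernel

theorem e8_136 : allRange 330423 1822 (fun u => chkE tab 8 u) = true := by decide +kernel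

theorem e8_137 : allRange 332245 3211 (fun u => chkE tab 8 u) = true := by decide +kernel

theorem e8_138 : allRange 335456 3409 (fun u => chkE tab 8 u) = true := by decide +kernel

theorem e8_139 : allRange 338865 2764 (fun u => chkE tab 8 u) = true := by decide +kernel

theorem e8_140 : allRange 341629 2265 (fun u => chkE tab 8 u) = true := by decide +kernel

theorem e8_141 : allRange 343894 2514 (fun u => chkE tab 8 u) = true := by decide +kernel


end Cfsg.Agent.Helper9.TCData.X1690
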