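import Cfsg.Agent.Lib.Helper9.TCData.X1690.Main

set_option autoImplicit false
set_option maxRecDepth 1000000

namespace Cfsg.Agent.Helper9.TCData.X1690
open Cfsg.Agent.Helper9.TC2

theorem e8_142 : allRange 346408 2558 (fun u => chkE tab 8 u) = true := by decide +kernel

theorem e8_143 : allRange 348966 2385 (fun u => chkE tab 8 u) = true := by decide +kernel

theorem e8_144 : allRange 351351 1876 (fun u => chkE tab 8 u) = true := by decide +kernel

theorem e8_145 : allRange 353227 1982 (fun u => chkE tab 8 u) = true := by decide +kernel

theorem e8_146 : allRange 355209 3636 (fun u => chkE tab 8 u) = true := by decide +kernel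

theorem e8_147 : allRange 358845 3322 (fun u => chkE tab 8 u) = true := by decide +kernel

theorem e8_148 : allRange 362167 2646 (fun u => chkE tab 8 u) = true := by decide +kernel

theorem e8_149 : allRange 364813 2376 (fun u => chkE tab 8 u) = true := by decide +kernel

theorem e8_150 : allRange 367189 2514 (fun u => chkE tab 8 u) = true := by decide +kernel

theorem e8_151 : allRange 369703 1824 (fun u => chkE tab 8 u) = true := by decide +kernel


end Cfsg.Agent.Helper9.TCData.X1690
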