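import Cfsg.Agent.Lib.Helper9.TCData.X1690.Main

set_option autoImplicit false
set_option maxRecDepth 1000000

namespace Cfsg.Agent.Helper9.TCData.X1690
open Cfsg.Agent.Helper9.TC2

theorem e9_1 : allRange 1878 2074 (fun u => chkE tab 9 u) = true := by decide +kernel

theorem e9_2 : allRange 3952 2255 (fun u => chkE tab 9 u) = true := by decide +kernel

theorem e9_3 : allRange 6207 2202 (fun u => chkE tab 9 u) = true := by decide +kernel

theorem e9_4 : allRange 8409 2730 (fun u => chkE tab 9 u) = true := by decide +kernel

theorem e9_5 : allRange 11139 2488 (fun u => chkE tab 9 u) = true := by decide +kernel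

theorem e9_6 : allRange 13627 2257 (fun u => chkE tab 9 u) = true := by decide +kernel

theorem e9_7 : allRange 15884 2157 (fun u => chkE tab 9 u) = true := by decide +kernel

theorem e9_8 : allRange 18041 2348 (fun u => chkE tab 9 u) = true := by decide +kernel

theorem e9_9 : allRange 20389 2200 (fun u => chkE tab 9 u) = true := by decide +kernel

theorem e9_10 : allRange 22589 2119 (fun u => chkE tab 9 u) = true := by decide +kernel


end Cfsg.Agent.Helper9.TCData.X1690
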