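import Cfsg.Agent.Lib.Helper9.TCData.X1690.Main

set_option autoImplicit false
set_option maxRecDepth 1000000

namespace Cfsg.Agent.Helper9.TCData.X1690
open Cfsg.Agent.Helper9.TC2

theorem e9_11 : allRange 24708 2244 (fun u => chkE tab 9 u) = true := by decide +kernel

theorem e9_12 : allRange 26952 2373 (fun u => chkE tab 9 u) = true := by decide +kernel

theorem e9_13 : allRange 29325 1828 (fun u => chkE tab 9 u) = true := by decide +kernel

theorem e9_14 : allRange 31153 2219 (fun u => chkE tab 9 u) = true := by decide +kernel

theorem e9_15 : allRange 33372 2321 (fun u => chkE tab 9 u) = true := by decide +kernel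

theorem e9_16 : allRange 35693 2183 (fun u => chkE tab 9 u) = true := by decide +kernel

theorem e9_17 : allRange 37876 2119 (fun u => chkE tab 9 u) = true := by decide +kernel

theorem e9_18 : allRange 39995 1862 (fun u => chkE tab 9 u) = true := by decide +kernel

theorem e9_19 : allRange 41857 2313 (fun u => chkE tab 9 u) = true := by decide +kernel

theorem e9_20 : allRange 44170 2384 (fun u => chkE tab 9 u) = true := by decide +kernel


end Cfsg.Agent.Helper9.TCData.X1690
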