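import Cfsg.Agent.Lib.Helper9.TCData.X1690.Main

set_option autoImplicit false
set_option maxRecDepth 1000000

namespace Cfsg.Agent.Helper9.TCData.X1690
open Cfsg.Agent.Helper9.TC2

theorem e9_21 : allRange 46554 2014 (fun u => chkE tab 9 u) = true := by decide +kernel

theorem e9_22 : allRange 48568 2009 (fun u => chkE tab 9 u) = true := by decide +kernel

theorem e9_23 : allRange 50577 2438 (fun u => chkE tab 9 u) = true := by decide +kernel

theorem e9_24 : allRange 53015 1901 (fun u => chkE tab 9 u) = true := by decide +kernel

theorem e9_25 : allRange 54916 1763 (fun u => chkE tab 9 u) = true := by decide +kernel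

theorem e9_26 : allRange 56679 2399 (fun u => chkE tab 9 u) = true := by decide +kernel

theorem e9_27 : allRange 59078 1985 (fun u => chkE tab 9 u) = true := by decide +kernel

theorem e9_28 : allRange 61063 2612 (fun u => chkE tab 9 u) = true := by decide +kernel

theorem e9_29 : allRange 63675 2251 (fun u => chkE tab 9 u) = true := by decide +kernel

theorem e9_30 : allRange 65926 1687 (fun u => chkE tab 9 u) = true := by decide +kernel


end Cfsg.Agent.Helper9.TCData.X1690
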