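import Cfsg.Agent.Lib.Helper9.TCData.X1690.Main

set_option autoImplicit false
set_option maxRecDepth 1000000

namespace Cfsg.Agent.Helper9.TCData.X1690
open Cfsg.Agent.Helper9.TC2

theorem e9_31 : allRange 67613 2105 (fun u => chkE tab 9 u) = true := by decide +kernel

theorem e9_32 : allRange 69718 2334 (fun u => chkE tab 9 u) = true := by decide +kernel

theorem e9_33 : allRange 72052 2297 (fun u => chkE tab 9 u) = true := by decide +kernel

theorem e9_34 : allRange 74349 1724 (fun u => chkE tab 9 u) = true := by decide +kernel

theorem e9_35 : allRange 76073 1776 (fun u => chkE tab 9 u) = true := by decide +kernel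

theorem e9_36 : allRange 77849 2037 (fun u => chkE tab 9 u) = true := by decide +kernel

theorem e9_37 : allRange 79886 2585 (fun u => chkE tab 9 u) = true := by decide +kernel

theorem e9_38 : allRange 82471 1872 (fun u => chkE tab 9 u) = true := by decide +kernel

theorem e9_39 : allRange 84343 2376 (fun u => chkE tab 9 u) = true := by decide +kernel

theorem e9_40 : allRange 86719 2619 (fun u => chkE tab 9 u) = true := by decide +kernel


end Cfsg.Agent.Helper9.TCData.X1690
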