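import Cfsg.Agent.Lib.Helper9.TCData.X1690.Main

set_option autoImplicit false
set_option maxRecDepth 1000000

namespace Cfsg.Agent.Helper9.TCData.X1690
open Cfsg.Agent.Helper9.TC2

theorem e9_41 : allRange 89338 2129 (fun u => chkE tab 9 u) = true := by decide +kernel

theorem e9_42 : allRange 91467 1685 (fun u => chkE tab 9 u) = true := by decide +kernel

theorem e9_43 : allRange 93152 1824 (fun u => chkE tab 9 u) = true := by decide +kernel

theorem e9_44 : allRange 94976 2190 (fun u => chkE tab 9 u) = true := by decide +kernel

theorem e9_45 : allRange 97166 2439 (fun u => chkE tab 9 u) = true := by decide +kernel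

theorem e9_46 : allRange 99605 2255 (fun u => chkE tab 9 u) = true := by decide +kernel

theorem e9_47 : allRange 101860 2081 (fun u => chkE tab 9 u) = true := by decide +kernel

theorem e9_48 : allRange 103941 1658 (fun u => chkE tab 9 u) = true := by decide +kernel

theorem e9_49 : allRange 105599 1788 (fun u => chkE tab 9 u) = true := by decide +kernel

theorem e9_50 : allRange 107387 2034 (fun u => chkE tab 9 u) = true := by decide +kernel


end Cfsg.Agent.Helper9.TCData.X1690
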