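import Cfsg.Agent.Lib.Helper9.TCData.X1690.Main

set_option autoImplicit false
set_option maxRecDepth 1000000

namespace Cfsg.Agent.Helper9.TCData.X1690
open Cfsg.Agent.Helper9.TC2

theorem e0_150 : allRange 347226 1591 (fun u => chkE tab 0 u) = true := by decide +kernel

theorem e0_151 : allRange 348817 1800 (fun u => chkE tab 0 u) = true := by decide +kernel

theorem e0_152 : allRange 350617 1835 (fun u => chkE tab 0 u) = true := by decide +kernel

theorem e0_153 : allRange 352452 1623 (fun u => chkE tab 0 u) = true := by decide +kernel

theorem e0_154 : allRange 354075 1543 (fun u => chkE tab 0 u) = true := by decide +kernel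

theorem e0_155 : allRange 355618 3868 (fun u => chkE tab 0 u) = true := by decide +kernel

theorem e0_156 : allRange 359486 5678 (fun u => chkE tab 0 u) = true := by decide +kernel

theorem e0_157 : allRange 365164 1797 (fun u => chkE tab 0 u) = true := by decide +kernel

theorem e0_158 : allRange 366961 1636 (fun u => chkE tab 0 u) = true := by decide +kernel

theorem e0_159 : allRange 368597 1905 (fun u => chkE tab 0 u) = true := by decide +kernel


end Cfsg.Agent.Helper9.TCData.X1690
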