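import Cfsg.Agent.Lib.Helper9.TCData.X1690.Main

set_option autoImplicit false
set_option maxRecDepth 1000000

namespace Cfsg.Agent.Helper9.TCData.X1690
open Cfsg.Agent.Helper9.TC2

theorem e9_51 : allRange 109421 2140 (fun u => chkE tab 9 u) = true := by decide +kernel

theorem e9_52 : allRange 111561 2639 (fun u => chkE tab 9 u) = true := by decide +kernel

theorem e9_53 : allRange 114200 1923 (fun u => chkE tab 9 u) = true := by decide +kernel

theorem e9_54 : allRange 116123 2264 (fun u => chkE tab 9 u) = true := by decide +kernel

theorem e9_55 : allRange 118387 2588 (fun u => chkE tab 9 u) = true := by decide +kernel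

theorem e9_56 : allRange 120975 3436 (fun u => chkE tab 9 u) = true := by decide +kernel

theorem e9_57 : allRange 124411 2788 (fun u => chkE tab 9 u) = true := by decide +kernel

theorem e9_58 : allRange 127199 3990 (fun u => chkE tab 9 u) = true := by decide +kernel

theorem e9_59 : allRange 131189 2380 (fun u => chkE tab 9 u) = true := by decide +kernel

theorem e9_60 : allRange 133569 2511 (fun u => chkE tab 9 u) = true := by decide +kernel


end Cfsg.Agent.Helper9.TCData.X1690
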