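import Cfsg.Agent.Lib.Helper9.TCData.X1690.Main

set_option autoImplicit false
set_option maxRecDepth 1000000

namespace Cfsg.Agent.Helper9.TCData.X1690
open Cfsg.Agent.Helper9.TC2

theorem e9_61 : allRange 136080 2567 (fun u => chkE tab 9 u) = true := by decide +kernel

theorem e9_62 : allRange 138647 3435 (fun u => chkE tab 9 u) = true := by decide +kernel

theorem e9_63 : allRange 142082 3159 (fun u => chkE tab 9 u) = true := by decide +kernel

theorem e9_64 : allRange 145241 4810 (fun u => chkE tab 9 u) = true := by decide +kernel

theorem e9_65 : allRange 150051 3345 (fun u => chkE tab 9 u) = true := by decide +kernel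

theorem e9_66 : allRange 153396 3144 (fun u => chkE tab 9 u) = true := by decide +kernel

theorem e9_67 : allRange 156540 3357 (fun u => chkE tab 9 u) = true := by decide +kernel

theorem e9_68 : allRange 159897 4187 (fun u => chkE tab 9 u) = true := by decide +kernel

theorem e9_69 : allRange 164084 2603 (fun u => chkE tab 9 u) = true := by decide +kernel

theorem e9_70 : allRange 166687 1638 (fun u => chkE tab 9 u) = true := by decide +kernel


end Cfsg.Agent.Helper9.TCData.X1690
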