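import Cfsg.Agent.Lib.Helper9.TCData.X1690.Main

set_option autoImplicit false
set_option maxRecDepth 1000000

namespace Cfsg.Agent.Helper9.TCData.X1690
open Cfsg.Agent.Helper9.TC2

theorem e9_71 : allRange 168325 2286 (fun u => chkE tab 9 u) = true := by decide +kernel

theorem e9_72 : allRange 170611 2233 (fun u => chkE tab 9 u) = true := by decide +kernel

theorem e9_73 : allRange 172844 2147 (fun u => chkE tab 9 u) = true := by decide +kernel

theorem e9_74 : allRange 174991 1885 (fun u => chkE tab 9 u) = true := by decide +kernel

theorem e9_75 : allRange 176876 2844 (fun u => chkE tab 9 u) = true := by decide +kernel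

theorem e9_76 : allRange 179720 2476 (fun u => chkE tab 9 u) = true := by decide +kernel

theorem e9_77 : allRange 182196 2379 (fun u => chkE tab 9 u) = true := by decide +kernel

theorem e9_78 : allRange 184575 1745 (fun u => chkE tab 9 u) = true := by decide +kernel

theorem e9_79 : allRange 186320 2414 (fun u => chkE tab 9 u) = true := by decide +kernel

theorem e9_80 : allRange 188734 2236 (fun u => chkE tab 9 u) = true := by decide +kernel


end Cfsg.Agent.Helper9.TCData.X1690
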