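import Cfsg.Agent.Lib.Helper9.TCData.X1690.Main

set_option autoImplicit false
set_option maxRecDepth 1000000

namespace Cfsg.Agent.Helper9.TCData.X1690
open Cfsg.Agent.Helper9.TC2

theorem e9_81 : allRange 190970 2097 (fun u => chkE tab 9 u) = true := by decide +kernel

theorem e9_82 : allRange 193067 1870 (fun u => chkE tab 9 u) = true := by decide +kernel

theorem e9_83 : allRange 194937 3078 (fun u => chkE tab 9 u) = true := by decide +kernel

theorem e9_84 : allRange 198015 2628 (fun u => chkE tab 9 u) = true := by decide +kernel

theorem e9_85 : allRange 200643 2560 (fun u => chkE tab 9 u) = true := by decide +kernel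

theorem e9_86 : allRange 203203 1606 (fun u => chkE tab 9 u) = true := by decide +kernel

theorem e9_87 : allRange 204809 2396 (fun u => chkE tab 9 u) = true := by decide +kernel

theorem e9_88 : allRange 207205 2400 (fun u => chkE tab 9 u) = true := by decide +kernel

theorem e9_89 : allRange 209605 2044 (fun u => chkE tab 9 u) = true := by decide +kernel

theorem e9_90 : allRange 211649 1833 (fun u => chkE tab 9 u) = true := by decide +kernel


end Cfsg.Agent.Helper9.TCData.X1690
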