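import Cfsg.Agent.Lib.Helper9.TCData.X1690.Main

set_option autoImplicit false
set_option maxRecDepth 1000000

namespace Cfsg.Agent.Helper9.TCData.X1690
open Cfsg.Agent.Helper9.TC2

theorem e9_91 : allRange 213482 2277 (fun u => chkE tab 9 u) = true := by decide +kernel

theorem e9_92 : allRange 215759 3200 (fun u => chkE tab 9 u) = true := by decide +kernel

theorem e9_93 : allRange 218959 2550 (fun u => chkE tab 9 u) = true := by decide +kernel

theorem e9_94 : allRange 221509 2507 (fun u => chkE tab 9 u) = true := by decide +kernel

theorem e9_95 : allRange 224016 1718 (fun u => chkE tab 9 u) = true := by decide +kernel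

theorem e9_96 : allRange 225734 2465 (fun u => chkE tab 9 u) = true := by decide +kernel

theorem e9_97 : allRange 228199 2355 (fun u => chkE tab 9 u) = true := by decide +kernel

theorem e9_98 : allRange 230554 2018 (fun u => chkE tab 9 u) = true := by decide +kernel

theorem e9_99 : allRange 232572 1871 (fun u => chkE tab 9 u) = true := by decide +kernel

theorem e9_100 : allRange 234443 1964 (fun u => chkE tab 9 u) = true := by decide +kernel


end Cfsg.Agent.Helper9.TCData.X1690
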