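import Cfsg.Agent.Lib.Helper9.TCData.X1690.Main

set_option autoImplicit false
set_option maxRecDepth 1000000

namespace Cfsg.Agent.Helper9.TCData.X1690
open Cfsg.Agent.Helper9.TC2

theorem e9_101 : allRange 236407 3546 (fun u => chkE tab 9 u) = true := by decide +kernel

theorem e9_102 : allRange 239953 2667 (fun u => chkE tab 9 u) = true := by decide +kernel

theorem e9_103 : allRange 242620 2810 (fun u => chkE tab 9 u) = true := by decide +kernel

theorem e9_104 : allRange 245430 1579 (fun u => chkE tab 9 u) = true := by decide +kernel

theorem e9_105 : allRange 247009 2198 (fun u => chkE tab 9 u) = true := by decide +kernel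

theorem e9_106 : allRange 249207 2452 (fun u => chkE tab 9 u) = true := by decide +kernel

theorem e9_107 : allRange 251659 2195 (fun u => chkE tab 9 u) = true := by decide +kernel

theorem e9_108 : allRange 253854 2022 (fun u => chkE tab 9 u) = true := by decide +kernel

theorem e9_109 : allRange 255876 1730 (fun u => chkE tab 9 u) = true := by decide +kernel

theorem e9_110 : allRange 257606 2224 (fun u => chkE tab 9 u) = true := by decide +kernel


end Cfsg.Agent.Helper9.TCData.X1690
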