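import Cfsg.Agent.Lib.Helper9.TCData.X1690.Main

set_option autoImplicit false
set_option maxRecDepth 1000000

namespace Cfsg.Agent.Helper9.TCData.X1690
open Cfsg.Agent.Helper9.TC2

theorem e9_121 : allRange 283014 4000 (fun u => chkE tab 9 u) = true := by decide +kernel

theorem e9_122 : allRange 287014 2694 (fun u => chkE tab 9 u) = true := by decide +kernel

theorem e9_123 : allRange 289708 2814 (fun u => chkE tab 9 u) = true := by decide +kernel

theorem e9_124 : allRange 292522 2191 (fun u => chkE tab 9 u) = true := by decide +kernel

theorem e9_125 : allRange 294713 1872 (fun u => chkE tab 9 u) = true := by decide +kernel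

theorem e9_126 : allRange 296585 2444 (fun u => chkE tab 9 u) = true := by decide +kernel

theorem e9_127 : allRange 299029 2476 (fun u => chkE tab 9 u) = true := by decide +kernel

theorem e9_128 : allRange 301505 2033 (fun u => chkE tab 9 u) = true := by decide +kernel

theorem e9_129 : allRange 303538 2015 (fun u => chkE tab 9 u) = true := by decide +kernel

theorem e9_130 : allRange 305553 1653 (fun u => chkE tab 9 u) = true := by decide +kernel


end Cfsg.Agent.Helper9.TCData.X1690
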