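import Cfsg.Agent.Lib.Helper9.TCData.X1690.Main

set_option autoImplicit false
set_option maxRecDepth 1000000

namespace Cfsg.Agent.Helper9.TCData.X1690
open Cfsg.Agent.Helper9.TC2

theorem e9_131 : allRange 307206 1954 (fun u => chkE tab 9 u) = true := by decide +kernel

theorem e9_132 : allRange 309160 4153 (fun u => chkE tab 9 u) = true := by decide +kernel

theorem e9_133 : allRange 313313 2907 (fun u => chkE tab 9 u) = true := by decide +kernel

theorem e9_134 : allRange 316220 3064 (fun u => chkE tab 9 u) = true := by decide +kernel

theorem e9_135 : allRange 319284 1528 (fun u => chkE tab 9 u) = true := by decide +kernel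

theorem e9_136 : allRange 320812 2258 (fun u => chkE tab 9 u) = true := by decide +kernel

theorem e9_137 : allRange 323070 2388 (fun u => chkE tab 9 u) = true := by decide +kernel

theorem e9_138 : allRange 325458 2367 (fun u => chkE tab 9 u) = true := by decide +kernel

theorem e9_139 : allRange 327825 2004 (fun u => chkE tab 9 u) = true := by decide +kernel

theorem e9_140 : allRange 329829 1839 (fun u => chkE tab 9 u) = true := by decide +kernel


end Cfsg.Agent.Helper9.TCData.X1690
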