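import Cfsg.Agent.Lib.Helper9.TCData.X1690.Main

set_option autoImplicit false
set_option maxRecDepth 1000000

namespace Cfsg.Agent.Helper9.TCData.X1690
open Cfsg.Agent.Helper9.TC2

theorem e9_141 : allRange 331668 1436 (fun u => chkE tab 9 u) = true := by decide +kernel

theorem e9_142 : allRange 333104 4273 (fun u => chkE tab 9 u) = true := by decide +kernel

theorem e9_143 : allRange 337377 2976 (fun u => chkE tab 9 u) = true := by decide +kernel

theorem e9_144 : allRange 340353 3316 (fun u => chkE tab 9 u) = true := by decide +kernel

theorem e9_145 : allRange 343669 1651 (fun u => chkE tab 9 u) = true := by decide +kernel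

theorem e9_146 : allRange 345320 2238 (fun u => chkE tab 9 u) = true := by decide +kernel

theorem e9_147 : allRange 347558 2558 (fun u => chkE tab 9 u) = true := by decide +kernel

theorem e9_148 : allRange 350116 2165 (fun u => chkE tab 9 u) = true := by decide +kernel

theorem e9_149 : allRange 352281 1872 (fun u => chkE tab 9 u) = true := by decide +kernel

theorem e9_150 : allRange 354153 1640 (fun u => chkE tab 9 u) = true := by decide +kernel


end Cfsg.Agent.Helper9.TCData.X1690
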