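import Cfsg.Agent.Lib.Helper9.TCData.X1690.Main

set_option autoImplicit false
set_option maxRecDepth 1000000

namespace Cfsg.Agent.Helper9.TCData.X1690
open Cfsg.Agent.Helper9.TC2

theorem e0_160 : allRange 370502 1570 (fun u => chkE tab 0 u) = true := by decide +kernel

theorem e0_161 : allRange 372072 2317 (fun u => chkE tab 0 u) = true := by decide +kernel

theorem e0_162 : allRange 374389 5230 (fun u => chkE tab 0 u) = true := by decide +kernel

theorem e0_163 : allRange 379619 1637 (fun u => chkE tab 0 u) = true := by decide +kernel

theorem e0_164 : allRange 381256 1787 (fun u => chkE tab 0 u) = true := by decide +kernel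

theorem e0_165 : allRange 383043 2923 (fun u => chkE tab 0 u) = true := by decide +kernel

theorem e0_166 : allRange 385966 2769 (fun u => chkE tab 0 u) = true := by decide +kernel

theorem e0_167 : allRange 388735 2318 (fun u => chkE tab 0 u) = true := by decide +kernel

theorem e0_168 : allRange 391053 2597 (fun u => chkE tab 0 u) = true := by decide +kernel

theorem e0_169 : allRange 393650 804 (fun u => chkE tab 0 u) = true := by decide +kernel


end Cfsg.Agent.Helper9.TCData.X1690
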