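import Cfsg.Agent.Lib.Helper9.TCData.X1690.Main

set_option autoImplicit false
set_option maxRecDepth 1000000

namespace Cfsg.Agent.Helper9.TCData.X1690
open Cfsg.Agent.Helper9.TC2

theorem e9_151 : allRange 355793 4330 (fun u => chkE tab 9 u) = true := by decide +kernel

theorem e9_152 : allRange 360123 3268 (fun u => chkE tab 9 u) = true := by decide +kernel

theorem e9_153 : allRange 363391 2260 (fun u => chkE tab 9 u) = true := by decide +kernel

theorem e9_154 : allRange 365651 2392 (fun u => chkE tab 9 u) = true := by decide +kernel

theorem e9_155 : allRange 368043 2231 (fun u => chkE tab 9 u) = true := by decide +kernel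

theorem e9_156 : allRange 370274 1771 (fun u => chkE tab 9 u) = true := by decide +kernel

theorem e9_157 : allRange 372045 3563 (fun u => chkE tab 9 u) = true := by decide +kernel

theorem e9_158 : allRange 375608 3347 (fun u => chkE tab 9 u) = true := by decide +kernel

theorem e9_159 : allRange 378955 1846 (fun u => chkE tab 9 u) = true := by decide +kernel

theorem e9_160 : allRange 380801 2092 (fun u => chkE tab 9 u) = true := by decide +kernel


end Cfsg.Agent.Helper9.TCData.X1690
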