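import Cfsg.Agent.Lib.Helper9.TCData.X1690.Main

set_option autoImplicit false
set_option maxRecDepth 1000000

namespace Cfsg.Agent.Helper9.TCData.X1690
open Cfsg.Agent.Helper9.TC2

theorem e9_161 : allRange 382893 3054 (fun u => chkE tab 9 u) = true := by decide +kernel

theorem e9_162 : allRange 385947 2246 (fun u => chkE tab 9 u) = true := by decide +kernel

theorem e9_163 : allRange 388193 1955 (fun u => chkE tab 9 u) = true := by decide +kernel

theorem e9_164 : allRange 390148 2500 (fun u => chkE tab 9 u) = true := by decide +kernel

theorem e9_165 : allRange 392648 1806 (fun u => chkE tab 9 u) = true := by decide +kernel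

theorem e10_0 : allRange 0 2288 (fun u => chkE tab 10 u) = true := by decide +kernel

theorem e10_1 : allRange 2288 2247 (fun u => chkE tab 10 u) = true := by decide +kernel

theorem e10_2 : allRange 4535 2465 (fun u => chkE tab 10 u) = true := by decide +kernel

theorem e10_3 : allRange 7000 2725 (fun u => chkE tab 10 u) = true := by decide +kernel

theorem e10_4 : allRange 9725 2895 (fun u => chkE tab 10 u) = true := by decide +kernel


end Cfsg.Agent.Helper9.TCData.X1690
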