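import Cfsg.Agent.Lib.Helper9.TCData.X1690.Main

set_option autoImplicit false
set_option maxRecDepth 1000000

namespace Cfsg.Agent.Helper9.TCData.X1690
open Cfsg.Agent.Helper9.TC2

theorem e10_5 : allRange 12620 2798 (fun u => chkE tab 10 u) = true := by decide +kernel

theorem e10_6 : allRange 15418 2894 (fun u => chkE tab 10 u) = true := by decide +kernel

theorem e10_7 : allRange 18312 3085 (fun u => chkE tab 10 u) = true := by decide +kernel

theorem e10_8 : allRange 21397 2864 (fun u => chkE tab 10 u) = true := by decide +kernel

theorem e10_9 : allRange 24261 3018 (fun u => chkE tab 10 u) = true := by decide +kernel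

theorem e10_10 : allRange 27279 2908 (fun u => chkE tab 10 u) = true := by decide +kernel

theorem e10_11 : allRange 30187 2842 (fun u => chkE tab 10 u) = true := by decide +kernel

theorem e10_12 : allRange 33029 3056 (fun u => chkE tab 10 u) = true := by decide +kernel

theorem e10_13 : allRange 36085 2910 (fun u => chkE tab 10 u) = true := by decide +kernel

theorem e10_14 : allRange 38995 2649 (fun u => chkE tab 10 u) = true := by decide +kernel


end Cfsg.Agent.Helper9.TCData.X1690
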