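import Cfsg.Agent.Lib.Helper9.TCData.X1690.Main

set_option autoImplicit false
set_option maxRecDepth 1000000

namespace Cfsg.Agent.Helper9.TCData.X1690
open Cfsg.Agent.Helper9.TC2

theorem e10_15 : allRange 41644 2912 (fun u => chkE tab 10 u) = true := by decide +kernel

theorem e10_16 : allRange 44556 3001 (fun u => chkE tab 10 u) = true := by decide +kernel

theorem e10_17 : allRange 47557 2705 (fun u => chkE tab 10 u) = true := by decide +kernel

theorem e10_18 : allRange 50262 2974 (fun u => chkE tab 10 u) = true := by decide +kernel

theorem e10_19 : allRange 53236 2665 (fun u => chkE tab 10 u) = true := by decide +kernel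

theorem e10_20 : allRange 55901 2878 (fun u => chkE tab 10 u) = true := by decide +kernel

theorem e10_21 : allRange 58779 2816 (fun u => chkE tab 10 u) = true := by decide +kernel

theorem e10_22 : allRange 61595 3095 (fun u => chkE tab 10 u) = true := by decide +kernel

theorem e10_23 : allRange 64690 2731 (fun u => chkE tab 10 u) = true := by decide +kernel

theorem e10_24 : allRange 67421 2628 (fun u => chkE tab 10 u) = true := by decide +kernel


end Cfsg.Agent.Helper9.TCData.X1690
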