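import Cfsg.Agent.Lib.Helper9.TCData.X1690.Main

set_option autoImplicit false
set_option maxRecDepth 1000000

namespace Cfsg.Agent.Helper9.TCData.X1690
open Cfsg.Agent.Helper9.TC2

theorem e10_25 : allRange 70049 2970 (fun u => chkE tab 10 u) = true := by decide +kernel

theorem e10_26 : allRange 73019 2501 (fun u => chkE tab 10 u) = true := by decide +kernel

theorem e10_27 : allRange 75520 2770 (fun u => chkE tab 10 u) = true := by decide +kernel

theorem e10_28 : allRange 78290 2982 (fun u => chkE tab 10 u) = true := by decide +kernel

theorem e10_29 : allRange 81272 2819 (fun u => chkE tab 10 u) = true := by decide +kernel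

theorem e10_30 : allRange 84091 3071 (fun u => chkE tab 10 u) = true := by decide +kernel

theorem e10_31 : allRange 87162 2788 (fun u => chkE tab 10 u) = true := by decide +kernel

theorem e10_32 : allRange 89950 2910 (fun u => chkE tab 10 u) = true := by decide +kernel

theorem e10_33 : allRange 92860 2449 (fun u => chkE tab 10 u) = true := by decide +kernel

theorem e10_34 : allRange 95309 3031 (fun u => chkE tab 10 u) = true := by decide +kernel


end Cfsg.Agent.Helper9.TCData.X1690
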