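import Cfsg.Agent.Lib.Helper9.TCData.X1690.Main

set_option autoImplicit false
set_option maxRecDepth 1000000

namespace Cfsg.Agent.Helper9.TCData.X1690
open Cfsg.Agent.Helper9.TC2

theorem e10_35 : allRange 98340 2761 (fun u => chkE tab 10 u) = true := by decide +kernel

theorem e10_36 : allRange 101101 2671 (fun u => chkE tab 10 u) = true := by decide +kernel

theorem e10_37 : allRange 103772 2797 (fun u => chkE tab 10 u) = true := by decide +kernel

theorem e10_38 : allRange 106569 2605 (fun u => chkE tab 10 u) = true := by decide +kernel

theorem e10_39 : allRange 109174 3001 (fun u => chkE tab 10 u) = true := by decide +kernel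

theorem e10_40 : allRange 112175 2752 (fun u => chkE tab 10 u) = true := by decide +kernel

theorem e10_41 : allRange 114927 2988 (fun u => chkE tab 10 u) = true := by decide +kernel

theorem e10_42 : allRange 117915 3439 (fun u => chkE tab 10 u) = true := by decide +kernel

theorem e10_43 : allRange 121354 4413 (fun u => chkE tab 10 u) = true := by decide +kernel

theorem e10_44 : allRange 125767 4524 (fun u => chkE tab 10 u) = true := by decide +kernel


end Cfsg.Agent.Helper9.TCData.X1690
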