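import Cfsg.Agent.Lib.Helper9.TCData.X1690.Main

set_option autoImplicit false
set_option maxRecDepth 1000000

namespace Cfsg.Agent.Helper9.TCData.X1690
open Cfsg.Agent.Helper9.TC2

theorem e10_45 : allRange 130291 2827 (fun u => chkE tab 10 u) = true := by decide +kernel

theorem e10_46 : allRange 133118 3321 (fun u => chkE tab 10 u) = true := by decide +kernel

theorem e10_47 : allRange 136439 4035 (fun u => chkE tab 10 u) = true := by decide +kernel

theorem e10_48 : allRange 140474 4670 (fun u => chkE tab 10 u) = true := by decide +kernel

theorem e10_49 : allRange 145144 4563 (fun u => chkE tab 10 u) = true := by decide +kernel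

theorem e10_50 : allRange 149707 3754 (fun u => chkE tab 10 u) = true := by decide +kernel

theorem e10_51 : allRange 153461 5199 (fun u => chkE tab 10 u) = true := by decide +kernel

theorem e10_52 : allRange 158660 4574 (fun u => chkE tab 10 u) = true := by decide +kernel

theorem e10_53 : allRange 163234 3011 (fun u => chkE tab 10 u) = true := by decide +kernel

theorem e10_54 : allRange 166245 2889 (fun u => chkE tab 10 u) = true := by decide +kernel


end Cfsg.Agent.Helper9.TCData.X1690
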