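import Cfsg.Agent.Lib.Helper9.TCData.X1690.Main

set_option autoImplicit false
set_option maxRecDepth 1000000

namespace Cfsg.Agent.Helper9.TCData.X1690
open Cfsg.Agent.Helper9.TC2

theorem e10_55 : allRange 169134 3070 (fun u => chkE tab 10 u) = true := by decide +kernel

theorem e10_56 : allRange 172204 2718 (fun u => chkE tab 10 u) = true := by decide +kernel

theorem e10_57 : allRange 174922 3251 (fun u => chkE tab 10 u) = true := by decide +kernel

theorem e10_58 : allRange 178173 3375 (fun u => chkE tab 10 u) = true := by decide +kernel

theorem e10_59 : allRange 181548 3272 (fun u => chkE tab 10 u) = true := by decide +kernel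

theorem e10_60 : allRange 184820 3010 (fun u => chkE tab 10 u) = true := by decide +kernel

theorem e10_61 : allRange 187830 3129 (fun u => chkE tab 10 u) = true := by decide +kernel

theorem e10_62 : allRange 190959 2855 (fun u => chkE tab 10 u) = true := by decide +kernel

theorem e10_63 : allRange 193814 3512 (fun u => chkE tab 10 u) = true := by decide +kernel

theorem e10_64 : allRange 197326 3536 (fun u => chkE tab 10 u) = true := by decide +kernel


end Cfsg.Agent.Helper9.TCData.X1690
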