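import Cfsg.Agent.Lib.Helper9.TCData.X1690.Main

set_option autoImplicit false
set_option maxRecDepth 1000000

namespace Cfsg.Agent.Helper9.TCData.X1690
open Cfsg.Agent.Helper9.TC2

theorem e10_75 : allRange 233848 2804 (fun u => chkE tab 10 u) = true := by decide +kernel

theorem e10_76 : allRange 236652 3723 (fun u => chkE tab 10 u) = true := by decide +kernel

theorem e10_77 : allRange 240375 3453 (fun u => chkE tab 10 u) = true := by decide +kernel

theorem e10_78 : allRange 243828 3281 (fun u => chkE tab 10 u) = true := by decide +kernel

theorem e10_79 : allRange 247109 3169 (fun u => chkE tab 10 u) = true := by decide +kernel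

theorem e10_80 : allRange 250278 3193 (fun u => chkE tab 10 u) = true := by decide +kernel

theorem e10_81 : allRange 253471 2950 (fun u => chkE tab 10 u) = true := by decide +kernel

theorem e10_82 : allRange 256421 2546 (fun u => chkE tab 10 u) = true := by decide +kernel

theorem e10_83 : allRange 258967 3505 (fun u => chkE tab 10 u) = true := by decide +kernel

theorem e10_84 : allRange 262472 3323 (fun u => chkE tab 10 u) = true := by decide +kernel


end Cfsg.Agent.Helper9.TCData.X1690
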