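import Cfsg.Agent.Lib.Helper9.TCData.X1690.Main

set_option autoImplicit false
set_option maxRecDepth 1000000

namespace Cfsg.Agent.Helper9.TCData.X1690
open Cfsg.Agent.Helper9.TC2

theorem e1_0 : allRange 0 1815 (fun u => chkE tab 1 u) = true := by decide +kernel

theorem e1_1 : allRange 1815 1892 (fun u => chkE tab 1 u) = true := by decide +kernel

theorem e1_2 : allRange 3707 1847 (fun u => chkE tab 1 u) = true := by decide +kernel

theorem e1_3 : allRange 5554 1936 (fun u => chkE tab 1 u) = true := by decide +kernel

theorem e1_4 : allRange 7490 2198 (fun u => chkE tab 1 u) = true := by decide +kernel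

theorem e1_5 : allRange 9688 2479 (fun u => chkE tab 1 u) = true := by decide +kernel

theorem e1_6 : allRange 12167 1753 (fun u => chkE tab 1 u) = true := by decide +kernel

theorem e1_7 : allRange 13920 2131 (fun u => chkE tab 1 u) = true := by decide +kernel

theorem e1_8 : allRange 16051 1735 (fun u => chkE tab 1 u) = true := by decide +kernel

theorem e1_9 : allRange 17786 2240 (fun u => chkE tab 1 u) = true := by decide +kernel


end Cfsg.Agent.Helper9.TCData.X1690
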