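import Cfsg.Agent.Lib.Helper9.TCData.X1690.Main

set_option autoImplicit false
set_option maxRecDepth 1000000

namespace Cfsg.Agent.Helper9.TCData.X1690
open Cfsg.Agent.Helper9.TC2

theorem e10_85 : allRange 265795 3264 (fun u => chkE tab 10 u) = true := by decide +kernel

theorem e10_86 : allRange 269059 2941 (fun u => chkE tab 10 u) = true := by decide +kernel

theorem e10_87 : allRange 272000 2967 (fun u => chkE tab 10 u) = true := by decide +kernel

theorem e10_88 : allRange 274967 2995 (fun u => chkE tab 10 u) = true := by decide +kernel

theorem e10_89 : allRange 277962 2707 (fun u => chkE tab 10 u) = true := by decide +kernel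

theorem e10_90 : allRange 280669 2504 (fun u => chkE tab 10 u) = true := by decide +kernel

theorem e10_91 : allRange 283173 3133 (fun u => chkE tab 10 u) = true := by decide +kernel

theorem e10_92 : allRange 286306 3251 (fun u => chkE tab 10 u) = true := by decide +kernel

theorem e10_93 : allRange 289557 3051 (fun u => chkE tab 10 u) = true := by decide +kernel

theorem e10_94 : allRange 292608 2860 (fun u => chkE tab 10 u) = true := by decide +kernel


end Cfsg.Agent.Helper9.TCData.X1690
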