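import Cfsg.Agent.Lib.Helper9.TCData.X1690.Main

set_option autoImplicit false
set_option maxRecDepth 1000000

namespace Cfsg.Agent.Helper9.TCData.X1690
open Cfsg.Agent.Helper9.TC2

theorem e10_95 : allRange 295468 2698 (fun u => chkE tab 10 u) = true := by decide +kernel

theorem e10_96 : allRange 298166 2883 (fun u => chkE tab 10 u) = true := by decide +kernel

theorem e10_97 : allRange 301049 2637 (fun u => chkE tab 10 u) = true := by decide +kernel

theorem e10_98 : allRange 303686 2489 (fun u => chkE tab 10 u) = true := by decide +kernel

theorem e10_99 : allRange 306175 2387 (fun u => chkE tab 10 u) = true := by decide +kernel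

theorem e10_100 : allRange 308562 3008 (fun u => chkE tab 10 u) = true := by decide +kernel

theorem e10_101 : allRange 311570 2969 (fun u => chkE tab 10 u) = true := by decide +kernel

theorem e10_102 : allRange 314539 2944 (fun u => chkE tab 10 u) = true := by decide +kernel

theorem e10_103 : allRange 317483 2755 (fun u => chkE tab 10 u) = true := by decide +kernel

theorem e10_104 : allRange 320238 2553 (fun u => chkE tab 10 u) = true := by decide +kernel


end Cfsg.Agent.Helper9.TCData.X1690
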