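import Cfsg.Agent.Lib.Helper9.TCData.X1690.Main

set_option autoImplicit false
set_option maxRecDepth 1000000

namespace Cfsg.Agent.Helper9.TCData.X1690
open Cfsg.Agent.Helper9.TC2

theorem e10_105 : allRange 322791 2589 (fun u => chkE tab 10 u) = true := by decide +kernel

theorem e10_106 : allRange 325380 2651 (fun u => chkE tab 10 u) = true := by decide +kernel

theorem e10_107 : allRange 328031 2439 (fun u => chkE tab 10 u) = true := by decide +kernel

theorem e10_108 : allRange 330470 2298 (fun u => chkE tab 10 u) = true := by decide +kernel

theorem e10_109 : allRange 332768 2660 (fun u => chkE tab 10 u) = true := by decide +kernel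

theorem e10_110 : allRange 335428 3112 (fun u => chkE tab 10 u) = true := by decide +kernel

theorem e10_111 : allRange 338540 2763 (fun u => chkE tab 10 u) = true := by decide +kernel

theorem e10_112 : allRange 341303 2684 (fun u => chkE tab 10 u) = true := by decide +kernel

theorem e10_113 : allRange 343987 2539 (fun u => chkE tab 10 u) = true := by decide +kernel

theorem e10_114 : allRange 346526 2565 (fun u => chkE tab 10 u) = true := by decide +kernel


end Cfsg.Agent.Helper9.TCData.X1690
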