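import Cfsg.Agent.Lib.Helper9.TCData.X1690.Main

set_option autoImplicit false
set_option maxRecDepth 1000000

namespace Cfsg.Agent.Helper9.TCData.X1690
open Cfsg.Agent.Helper9.TC2

theorem e10_115 : allRange 349091 2541 (fun u => chkE tab 10 u) = true := by decide +kernel

theorem e10_116 : allRange 351632 2285 (fun u => chkE tab 10 u) = true := by decide +kernel

theorem e10_117 : allRange 353917 2287 (fun u => chkE tab 10 u) = true := by decide +kernel

theorem e10_118 : allRange 356204 3111 (fun u => chkE tab 10 u) = true := by decide +kernel

theorem e10_119 : allRange 359315 2909 (fun u => chkE tab 10 u) = true := by decide +kernel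

theorem e10_120 : allRange 362224 2689 (fun u => chkE tab 10 u) = true := by decide +kernel

theorem e10_121 : allRange 364913 2403 (fun u => chkE tab 10 u) = true := by decide +kernel

theorem e10_122 : allRange 367316 2500 (fun u => chkE tab 10 u) = true := by decide +kernel

theorem e10_123 : allRange 369816 2092 (fun u => chkE tab 10 u) = true := by decide +kernel

theorem e10_124 : allRange 371908 2903 (fun u => chkE tab 10 u) = true := by decide +kernel


end Cfsg.Agent.Helper9.TCData.X1690
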