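import Cfsg.Agent.Lib.Helper9.TCData.X1690.Main

set_option autoImplicit false
set_option maxRecDepth 1000000

namespace Cfsg.Agent.Helper9.TCData.X1690
open Cfsg.Agent.Helper9.TC2

theorem e10_125 : allRange 374811 2982 (fun u => chkE tab 10 u) = true := by decide +kernel

theorem e10_126 : allRange 377793 2409 (fun u => chkE tab 10 u) = true := by decide +kernel

theorem e10_127 : allRange 380202 2319 (fun u => chkE tab 10 u) = true := by decide +kernel

theorem e10_128 : allRange 382521 2717 (fun u => chkE tab 10 u) = true := by decide +kernel

theorem e10_129 : allRange 385238 2703 (fun u => chkE tab 10 u) = true := by decide +kernel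

theorem e10_130 : allRange 387941 2414 (fun u => chkE tab 10 u) = true := by decide +kernel

theorem e10_131 : allRange 390355 3023 (fun u => chkE tab 10 u) = true := by decide +kernel

theorem e10_132 : allRange 393378 1076 (fun u => chkE tab 10 u) = true := by decide +kernel

theorem e11_0 : allRange 0 2153 (fun u => chkE tab 11 u) = true := by decide +kernel

theorem e11_1 : allRange 2153 1938 (fun u => chkE tab 11 u) = true := by decide +kernel


end Cfsg.Agent.Helper9.TCData.X1690
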