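import Cfsg.Agent.Lib.Helper9.TCData.X1690.Main

set_option autoImplicit false
set_option maxRecDepth 1000000

namespace Cfsg.Agent.Helper9.TCData.X1690
open Cfsg.Agent.Helper9.TC2

theorem e11_2 : allRange 4091 2122 (fun u => chkE tab 11 u) = true := by decide +kernel

theorem e11_3 : allRange 6213 2315 (fun u => chkE tab 11 u) = true := by decide +kernel

theorem e11_4 : allRange 8528 2729 (fun u => chkE tab 11 u) = true := by decide +kernel

theorem e11_5 : allRange 11257 2516 (fun u => chkE tab 11 u) = true := by decide +kernel

theorem e11_6 : allRange 13773 2637 (fun u => chkE tab 11 u) = true := by decide +kernel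

theorem e11_7 : allRange 16410 2942 (fun u => chkE tab 11 u) = true := by decide +kernel

theorem e11_8 : allRange 19352 2909 (fun u => chkE tab 11 u) = true := by decide +kernel

theorem e11_9 : allRange 22261 3317 (fun u => chkE tab 11 u) = true := by decide +kernel

theorem e11_10 : allRange 25578 3200 (fun u => chkE tab 11 u) = true := by decide +kernel

theorem e11_11 : allRange 28778 3513 (fun u => chkE tab 11 u) = true := by decide +kernel


end Cfsg.Agent.Helper9.TCData.X1690
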