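import Cfsg.Agent.Lib.Helper9.TCData.X1690.Main

set_option autoImplicit false
set_option maxRecDepth 1000000

namespace Cfsg.Agent.Helper9.TCData.X1690
open Cfsg.Agent.Helper9.TC2

theorem e11_12 : allRange 32291 3881 (fun u => chkE tab 11 u) = true := by decide +kernel

theorem e11_13 : allRange 36172 3368 (fun u => chkE tab 11 u) = true := by decide +kernel

theorem e11_14 : allRange 39540 3622 (fun u => chkE tab 11 u) = true := by decide +kernel

theorem e11_15 : allRange 43162 3911 (fun u => chkE tab 11 u) = true := by decide +kernel

theorem e11_16 : allRange 47073 3674 (fun u => chkE tab 11 u) = true := by decide +kernel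

theorem e11_17 : allRange 50747 3724 (fun u => chkE tab 11 u) = true := by decide +kernel

theorem e11_18 : allRange 54471 3688 (fun u => chkE tab 11 u) = true := by decide +kernel

theorem e11_19 : allRange 58159 4004 (fun u => chkE tab 11 u) = true := by decide +kernel

theorem e11_20 : allRange 62163 3835 (fun u => chkE tab 11 u) = true := by decide +kernel

theorem e11_21 : allRange 65998 3648 (fun u => chkE tab 11 u) = true := by decide +kernel


end Cfsg.Agent.Helper9.TCData.X1690
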