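import Cfsg.Agent.Lib.Helper9.TCData.X1690.Main

set_option autoImplicit false
set_option maxRecDepth 1000000

namespace Cfsg.Agent.Helper9.TCData.X1690
open Cfsg.Agent.Helper9.TC2

theorem e11_22 : allRange 69646 4062 (fun u => chkE tab 11 u) = true := by decide +kernel

theorem e11_23 : allRange 73708 3702 (fun u => chkE tab 11 u) = true := by decide +kernel

theorem e11_24 : allRange 77410 3120 (fun u => chkE tab 11 u) = true := by decide +kernel

theorem e11_25 : allRange 80530 3978 (fun u => chkE tab 11 u) = true := by decide +kernel

theorem e11_26 : allRange 84508 4131 (fun u => chkE tab 11 u) = true := by decide +kernel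

theorem e11_27 : allRange 88639 3642 (fun u => chkE tab 11 u) = true := by decide +kernel

theorem e11_28 : allRange 92281 3243 (fun u => chkE tab 11 u) = true := by decide +kernel

theorem e11_29 : allRange 95524 4287 (fun u => chkE tab 11 u) = true := by decide +kernel

theorem e11_30 : allRange 99811 3609 (fun u => chkE tab 11 u) = true := by decide +kernel

theorem e11_31 : allRange 103420 3372 (fun u => chkE tab 11 u) = true := by decide +kernel


end Cfsg.Agent.Helper9.TCData.X1690
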