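import Cfsg.Agent.Lib.Helper9.TCData.X1690.Main

set_option autoImplicit false
set_option maxRecDepth 1000000

namespace Cfsg.Agent.Helper9.TCData.X1690
open Cfsg.Agent.Helper9.TC2

theorem e11_32 : allRange 106792 2839 (fun u => chkE tab 11 u) = true := by decide +kernel

theorem e11_33 : allRange 109631 3860 (fun u => chkE tab 11 u) = true := by decide +kernel

theorem e11_34 : allRange 113491 3539 (fun u => chkE tab 11 u) = true := by decide +kernel

theorem e11_35 : allRange 117030 4487 (fun u => chkE tab 11 u) = true := by decide +kernel

theorem e11_36 : allRange 121517 5124 (fun u => chkE tab 11 u) = true := by decide +kernel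

theorem e11_37 : allRange 126641 4782 (fun u => chkE tab 11 u) = true := by decide +kernel

theorem e11_38 : allRange 131423 4284 (fun u => chkE tab 11 u) = true := by decide +kernel

theorem e11_39 : allRange 135707 5388 (fun u => chkE tab 11 u) = true := by decide +kernel

theorem e11_40 : allRange 141095 4314 (fun u => chkE tab 11 u) = true := by decide +kernel

theorem e11_41 : allRange 145409 5428 (fun u => chkE tab 11 u) = true := by decide +kernel


end Cfsg.Agent.Helper9.TCData.X1690
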