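import Cfsg.Agent.Lib.Helper9.TCData.X1690.Main

set_option autoImplicit false
set_option maxRecDepth 1000000

namespace Cfsg.Agent.Helper9.TCData.X1690
open Cfsg.Agent.Helper9.TC2

theorem e11_42 : allRange 150837 4872 (fun u => chkE tab 11 u) = true := by decide +kernel

theorem e11_43 : allRange 155709 6000 (fun u => chkE tab 11 u) = true := by decide +kernel

theorem e11_44 : allRange 161709 4035 (fun u => chkE tab 11 u) = true := by decide +kernel

theorem e11_45 : allRange 165744 2949 (fun u => chkE tab 11 u) = true := by decide +kernel

theorem e11_46 : allRange 168693 3793 (fun u => chkE tab 11 u) = true := by decide +kernel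

theorem e11_47 : allRange 172486 3019 (fun u => chkE tab 11 u) = true := by decide +kernel

theorem e11_48 : allRange 175505 3423 (fun u => chkE tab 11 u) = true := by decide +kernel

theorem e11_49 : allRange 178928 3797 (fun u => chkE tab 11 u) = true := by decide +kernel

theorem e11_50 : allRange 182725 2907 (fun u => chkE tab 11 u) = true := by decide +kernel

theorem e11_51 : allRange 185632 3451 (fun u => chkE tab 11 u) = true := by decide +kernel


end Cfsg.Agent.Helper9.TCData.X1690
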