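import Cfsg.Agent.Lib.Helper9.TCData.X1690.Main

set_option autoImplicit false
set_option maxRecDepth 1000000

namespace Cfsg.Agent.Helper9.TCData.X1690
open Cfsg.Agent.Helper9.TC2

theorem e1_10 : allRange 20026 1786 (fun u => chkE tab 1 u) = true := by decide +kernel

theorem e1_11 : allRange 21812 1741 (fun u => chkE tab 1 u) = true := by decide +kernel

theorem e1_12 : allRange 23553 2413 (fun u => chkE tab 1 u) = true := by decide +kernel

theorem e1_13 : allRange 25966 1891 (fun u => chkE tab 1 u) = true := by decide +kernel

theorem e1_14 : allRange 27857 1744 (fun u => chkE tab 1 u) = true := by decide +kernel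

theorem e1_15 : allRange 29601 1796 (fun u => chkE tab 1 u) = true := by decide +kernel

theorem e1_16 : allRange 31397 2559 (fun u => chkE tab 1 u) = true := by decide +kernel

theorem e1_17 : allRange 33956 1947 (fun u => chkE tab 1 u) = true := by decide +kernel

theorem e1_18 : allRange 35903 1831 (fun u => chkE tab 1 u) = true := by decide +kernel

theorem e1_19 : allRange 37734 1757 (fun u => chkE tab 1 u) = true := by decide +kernel


end Cfsg.Agent.Helper9.TCData.X1690
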