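import Cfsg.Agent.Lib.Helper9.TCData.X1690.Main

set_option autoImplicit false
set_option maxRecDepth 1000000

namespace Cfsg.Agent.Helper9.TCData.X1690
open Cfsg.Agent.Helper9.TC2

theorem e11_62 : allRange 220911 3016 (fun u => chkE tab 11 u) = true := by decide +kernel

theorem e11_63 : allRange 223927 2875 (fun u => chkE tab 11 u) = true := by decide +kernel

theorem e11_64 : allRange 226802 3334 (fun u => chkE tab 11 u) = true := by decide +kernel

theorem e11_65 : allRange 230136 2917 (fun u => chkE tab 11 u) = true := by decide +kernel

theorem e11_66 : allRange 233053 2355 (fun u => chkE tab 11 u) = true := by decide +kernel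

theorem e11_67 : allRange 235408 3095 (fun u => chkE tab 11 u) = true := by decide +kernel

theorem e11_68 : allRange 238503 3223 (fun u => chkE tab 11 u) = true := by decide +kernel

theorem e11_69 : allRange 241726 2995 (fun u => chkE tab 11 u) = true := by decide +kernel

theorem e11_70 : allRange 244721 2637 (fun u => chkE tab 11 u) = true := by decide +kernel

theorem e11_71 : allRange 247358 2913 (fun u => chkE tab 11 u) = true := by decide +kernel


end Cfsg.Agent.Helper9.TCData.X1690
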