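import Cfsg.Agent.Lib.Helper9.TCData.X1690.Main

set_option autoImplicit false
set_option maxRecDepth 1000000

namespace Cfsg.Agent.Helper9.TCData.X1690
open Cfsg.Agent.Helper9.TC2

theorem e11_72 : allRange 250271 2985 (fun u => chkE tab 11 u) = true := by decide +kernel

theorem e11_73 : allRange 253256 2639 (fun u => chkE tab 11 u) = true := by decide +kernel

theorem e11_74 : allRange 255895 2325 (fun u => chkE tab 11 u) = true := by decide +kernel

theorem e11_75 : allRange 258220 2903 (fun u => chkE tab 11 u) = true := by decide +kernel

theorem e11_76 : allRange 261123 3042 (fun u => chkE tab 11 u) = true := by decide +kernel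

theorem e11_77 : allRange 264165 2841 (fun u => chkE tab 11 u) = true := by decide +kernel

theorem e11_78 : allRange 267006 2653 (fun u => chkE tab 11 u) = true := by decide +kernel

theorem e11_79 : allRange 269659 2777 (fun u => chkE tab 11 u) = true := by decide +kernel

theorem e11_80 : allRange 272436 2774 (fun u => chkE tab 11 u) = true := by decide +kernel

theorem e11_81 : allRange 275210 2678 (fun u => chkE tab 11 u) = true := by decide +kernel


end Cfsg.Agent.Helper9.TCData.X1690
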