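import Cfsg.Agent.Lib.Helper9.TCData.X1690.Main

set_option autoImplicit false
set_option maxRecDepth 1000000

namespace Cfsg.Agent.Helper9.TCData.X1690
open Cfsg.Agent.Helper9.TC2

theorem e11_82 : allRange 277888 2389 (fun u => chkE tab 11 u) = true := by decide +kernel

theorem e11_83 : allRange 280277 2243 (fun u => chkE tab 11 u) = true := by decide +kernel

theorem e11_84 : allRange 282520 2826 (fun u => chkE tab 11 u) = true := by decide +kernel

theorem e11_85 : allRange 285346 2976 (fun u => chkE tab 11 u) = true := by decide +kernel

theorem e11_86 : allRange 288322 2700 (fun u => chkE tab 11 u) = true := by decide +kernel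

theorem e11_87 : allRange 291022 2646 (fun u => chkE tab 11 u) = true := by decide +kernel

theorem e11_88 : allRange 293668 2584 (fun u => chkE tab 11 u) = true := by decide +kernel

theorem e11_89 : allRange 296252 2782 (fun u => chkE tab 11 u) = true := by decide +kernel

theorem e11_90 : allRange 299034 2613 (fun u => chkE tab 11 u) = true := by decide +kernel

theorem e11_91 : allRange 301647 2441 (fun u => chkE tab 11 u) = true := by decide +kernel


end Cfsg.Agent.Helper9.TCData.X1690
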