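import Cfsg.Agent.Lib.Helper9.TCData.X1690.Main

set_option autoImplicit false
set_option maxRecDepth 1000000

namespace Cfsg.Agent.Helper9.TCData.X1690
open Cfsg.Agent.Helper9.TC2

theorem e11_92 : allRange 304088 2251 (fun u => chkE tab 11 u) = true := by decide +kernel

theorem e11_93 : allRange 306339 2248 (fun u => chkE tab 11 u) = true := by decide +kernel

theorem e11_94 : allRange 308587 2923 (fun u => chkE tab 11 u) = true := by decide +kernel

theorem e11_95 : allRange 311510 2988 (fun u => chkE tab 11 u) = true := by decide +kernel

theorem e11_96 : allRange 314498 2640 (fun u => chkE tab 11 u) = true := by decide +kernel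

theorem e11_97 : allRange 317138 2672 (fun u => chkE tab 11 u) = true := by decide +kernel

theorem e11_98 : allRange 319810 2766 (fun u => chkE tab 11 u) = true := by decide +kernel

theorem e11_99 : allRange 322576 2623 (fun u => chkE tab 11 u) = true := by decide +kernel

theorem e11_100 : allRange 325199 2482 (fun u => chkE tab 11 u) = true := by decide +kernel

theorem e11_101 : allRange 327681 2367 (fun u => chkE tab 11 u) = true := by decide +kernel


end Cfsg.Agent.Helper9.TCData.X1690
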