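import Cfsg.Agent.Lib.Helper9.TCData.X1690.Main

set_option autoImplicit false
set_option maxRecDepth 1000000

namespace Cfsg.Agent.Helper9.TCData.X1690
open Cfsg.Agent.Helper9.TC2

theorem e11_102 : allRange 330048 2124 (fun u => chkE tab 11 u) = true := by decide +kernel

theorem e11_103 : allRange 332172 2592 (fun u => chkE tab 11 u) = true := by decide +kernel

theorem e11_104 : allRange 334764 3283 (fun u => chkE tab 11 u) = true := by decide +kernel

theorem e11_105 : allRange 338047 2791 (fun u => chkE tab 11 u) = true := by decide +kernel

theorem e11_106 : allRange 340838 2702 (fun u => chkE tab 11 u) = true := by decide +kernel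

theorem e11_107 : allRange 343540 2753 (fun u => chkE tab 11 u) = true := by decide +kernel

theorem e11_108 : allRange 346293 2772 (fun u => chkE tab 11 u) = true := by decide +kernel

theorem e11_109 : allRange 349065 2354 (fun u => chkE tab 11 u) = true := by decide +kernel

theorem e11_110 : allRange 351419 2275 (fun u => chkE tab 11 u) = true := by decide +kernel

theorem e11_111 : allRange 353694 2328 (fun u => chkE tab 11 u) = true := by decide +kernel


end Cfsg.Agent.Helper9.TCData.X1690
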