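import Cfsg.Agent.Lib.Helper9.TCData.X1690.Main

set_option autoImplicit false
set_option maxRecDepth 1000000

namespace Cfsg.Agent.Helper9.TCData.X1690
open Cfsg.Agent.Helper9.TC2

theorem e11_112 : allRange 356022 3249 (fun u => chkE tab 11 u) = true := by decide +kernel

theorem e11_113 : allRange 359271 2982 (fun u => chkE tab 11 u) = true := by decide +kernel

theorem e11_114 : allRange 362253 2738 (fun u => chkE tab 11 u) = true := by decide +kernel

theorem e11_115 : allRange 364991 2434 (fun u => chkE tab 11 u) = true := by decide +kernel

theorem e11_116 : allRange 367425 2382 (fun u => chkE tab 11 u) = true := by decide +kernel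

theorem e11_117 : allRange 369807 2180 (fun u => chkE tab 11 u) = true := by decide +kernel

theorem e11_118 : allRange 371987 2734 (fun u => chkE tab 11 u) = true := by decide +kernel

theorem e11_119 : allRange 374721 2612 (fun u => chkE tab 11 u) = true := by decide +kernel

theorem e11_120 : allRange 377333 2500 (fun u => chkE tab 11 u) = true := by decide +kernel

theorem e11_121 : allRange 379833 1965 (fun u => chkE tab 11 u) = true := by decide +kernel


end Cfsg.Agent.Helper9.TCData.X1690
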