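import Cfsg.Agent.Lib.Helper9.TCData.X1690.Main

set_option autoImplicit false
set_option maxRecDepth 1000000

namespace Cfsg.Agent.Helper9.TCData.X1690
open Cfsg.Agent.Helper9.TC2

theorem e11_122 : allRange 381798 2372 (fun u => chkE tab 11 u) = true := by decide +kernel

theorem e11_123 : allRange 384170 2913 (fun u => chkE tab 11 u) = true := by decide +kernel

theorem e11_124 : allRange 387083 2112 (fun u => chkE tab 11 u) = true := by decide +kernel

theorem e11_125 : allRange 389195 2579 (fun u => chkE tab 11 u) = true := by decide +kernel

theorem e11_126 : allRange 391774 2680 (fun u => chkE tab 11 u) = true := by decide +kernel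


end Cfsg.Agent.Helper9.TCData.X1690
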