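import Cfsg.Agent.Lib.Helper9.TCData.X1690.Main

set_option autoImplicit false
set_option maxRecDepth 1000000

namespace Cfsg.Agent.Helper9.TCData.X1690
open Cfsg.Agent.Helper9.TC2

theorem l_0 : allRange 0 7402 (fun u => chkL tab u) = true := by decide +kernel

theorem l_1 : allRange 7402 3591 (fun u => chkL tab u) = true := by decide +kernel

theorem l_2 : allRange 10993 7205 (fun u => chkL tab u) = true := by decide +kernel

theorem l_3 : allRange 18198 5440 (fun u => chkL tab u) = true := by decide +kernel

theorem l_4 : allRange 23638 5566 (fun u => chkL tab u) = true := by decide +kernel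

theorem l_5 : allRange 29204 3168 (fun u => chkL tab u) = true := by decide +kernel

theorem l_6 : allRange 32372 3844 (fun u => chkL tab u) = true := by decide +kernel

theorem l_7 : allRange 36216 4741 (fun u => chkL tab u) = true := by decide +kernel

theorem l_8 : allRange 40957 2480 (fun u => chkL tab u) = true := by decide +kernel

theorem l_9 : allRange 43437 3454 (fun u => chkL tab u) = true := by decide +kernel


end Cfsg.Agent.Helper9.TCData.X1690
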