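import Cfsg.Agent.Lib.Helper9.TCData.X1690.Main

set_option autoImplicit false
set_option maxRecDepth 1000000

namespace Cfsg.Agent.Helper9.TCData.X1690
open Cfsg.Agent.Helper9.TC2

theorem l_10 : allRange 46891 3266 (fun u => chkL tab u) = true := by decide +kernel

theorem l_11 : allRange 50157 3986 (fun u => chkL tab u) = true := by decide +kernel

theorem l_12 : allRange 54143 2727 (fun u => chkL tab u) = true := by decide +kernel

theorem l_13 : allRange 56870 2500 (fun u => chkL tab u) = true := by decide +kernel

theorem l_14 : allRange 59370 1939 (fun u => chkL tab u) = true := by decide +kernel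

theorem l_15 : allRange 61309 3897 (fun u => chkL tab u) = true := by decide +kernel

theorem l_16 : allRange 65206 2458 (fun u => chkL tab u) = true := by decide +kernel

theorem l_17 : allRange 67664 4824 (fun u => chkL tab u) = true := by decide +kernel

theorem l_18 : allRange 72488 2323 (fun u => chkL tab u) = true := by decide +kernel

theorem l_19 : allRange 74811 2744 (fun u => chkL tab u) = true := by decide +kernel


end Cfsg.Agent.Helper9.TCData.X1690
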