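import Cfsg.Agent.Lib.Helper9.TCData.X1690.Main

set_option autoImplicit false
set_option maxRecDepth 1000000

namespace Cfsg.Agent.Helper9.TCData.X1690
open Cfsg.Agent.Helper9.TC2

theorem e1_20 : allRange 39491 1827 (fun u => chkE tab 1 u) = true := by decide +kernel

theorem e1_21 : allRange 41318 2492 (fun u => chkE tab 1 u) = true := by decide +kernel

theorem e1_22 : allRange 43810 2177 (fun u => chkE tab 1 u) = true := by decide +kernel

theorem e1_23 : allRange 45987 1980 (fun u => chkE tab 1 u) = true := by decide +kernel

theorem e1_24 : allRange 47967 2057 (fun u => chkE tab 1 u) = true := by decide +kernel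

theorem e1_25 : allRange 50024 1728 (fun u => chkE tab 1 u) = true := by decide +kernel

theorem e1_26 : allRange 51752 1758 (fun u => chkE tab 1 u) = true := by decide +kernel

theorem e1_27 : allRange 53510 1863 (fun u => chkE tab 1 u) = true := by decide +kernel

theorem e1_28 : allRange 55373 1802 (fun u => chkE tab 1 u) = true := by decide +kernel

theorem e1_29 : allRange 57175 2742 (fun u => chkE tab 1 u) = true := by decide +kernel


end Cfsg.Agent.Helper9.TCData.X1690
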