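import Cfsg.Agent.Lib.Helper9.TCData.X1690.Main

set_option autoImplicit false
set_option maxRecDepth 1000000

namespace Cfsg.Agent.Helper9.TCData.X1690
open Cfsg.Agent.Helper9.TC2

theorem l_20 : allRange 77555 1697 (fun u => chkL tab u) = true := by decide +kernel

theorem l_21 : allRange 79252 2661 (fun u => chkL tab u) = true := by decide +kernel

theorem l_22 : allRange 81913 1857 (fun u => chkL tab u) = true := by decide +kernel

theorem l_23 : allRange 83770 3405 (fun u => chkL tab u) = true := by decide +kernel

theorem l_24 : allRange 87175 2675 (fun u => chkL tab u) = true := by decide +kernel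

theorem l_25 : allRange 89850 2466 (fun u => chkL tab u) = true := by decide +kernel

theorem l_26 : allRange 92316 2028 (fun u => chkL tab u) = true := by decide +kernel

theorem l_27 : allRange 94344 5529 (fun u => chkL tab u) = true := by decide +kernel

theorem l_28 : allRange 99873 1934 (fun u => chkL tab u) = true := by decide +kernel

theorem l_29 : allRange 101807 2162 (fun u => chkL tab u) = true := by decide +kernel


end Cfsg.Agent.Helper9.TCData.X1690
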