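import Cfsg.Agent.Lib.Helper9.TCData.X1690.Main

set_option autoImplicit false
set_option maxRecDepth 1000000

namespace Cfsg.Agent.Helper9.TCData.X1690
open Cfsg.Agent.Helper9.TC2

theorem l_30 : allRange 103969 2771 (fun u => chkL tab u) = true := by decide +kernel

theorem l_31 : allRange 106740 1682 (fun u => chkL tab u) = true := by decide +kernel

theorem l_32 : allRange 108422 1610 (fun u => chkL tab u) = true := by decide +kernel

theorem l_33 : allRange 110032 2776 (fun u => chkL tab u) = true := by decide +kernel

theorem l_34 : allRange 112808 1773 (fun u => chkL tab u) = true := by decide +kernel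

theorem l_35 : allRange 114581 1812 (fun u => chkL tab u) = true := by decide +kernel

theorem l_36 : allRange 116393 3187 (fun u => chkL tab u) = true := by decide +kernel

theorem l_37 : allRange 119580 3423 (fun u => chkL tab u) = true := by decide +kernel

theorem l_38 : allRange 123003 1833 (fun u => chkL tab u) = true := by decide +kernel

theorem l_39 : allRange 124836 1845 (fun u => chkL tab u) = true := by decide +kernel


end Cfsg.Agent.Helper9.TCData.X1690
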