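import Cfsg.Agent.Lib.Helper9.TCData.X1690.Main

set_option autoImplicit false
set_option maxRecDepth 1000000

namespace Cfsg.Agent.Helper9.TCData.X1690
open Cfsg.Agent.Helper9.TC2

theorem l_50 : allRange 150964 1602 (fun u => chkL tab u) = true := by decide +kernel

theorem l_51 : allRange 152566 2841 (fun u => chkL tab u) = true := by decide +kernel

theorem l_52 : allRange 155407 1895 (fun u => chkL tab u) = true := by decide +kernel

theorem l_53 : allRange 157302 1647 (fun u => chkL tab u) = true := by decide +kernel

theorem l_54 : allRange 158949 1749 (fun u => chkL tab u) = true := by decide +kernel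

theorem l_55 : allRange 160698 30033 (fun u => chkL tab u) = true := by decide +kernel

theorem l_56 : allRange 190731 78439 (fun u => chkL tab u) = true := by decide +kernel

theorem l_57 : allRange 269170 80000 (fun u => chkL tab u) = true := by decide +kernel

theorem l_58 : allRange 349170 45284 (fun u => chkL tab u) = true := by decide +kernel


end Cfsg.Agent.Helper9.TCData.X1690
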