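import Cfsg.Agent.Lib.Helper9.TCData.X1690.Main

set_option autoImplicit false
set_option maxRecDepth 1000000

namespace Cfsg.Agent.Helper9.TCData.X1690
open Cfsg.Agent.Helper9.TC2

theorem f_20 : allRange 4220 211 (fun u => chkFin tab u) = true := by decide +kernel

theorem f_21 : allRange 4431 211 (fun u => chkFin tab u) = true := by decide +kernel

theorem f_22 : allRange 4642 211 (fun u => chkFin tab u) = true := by decide +kernel

theorem f_23 : allRange 4853 211 (fun u => chkFin tab u) = true := by decide +kernel

theorem f_24 : allRange 5064 211 (fun u => chkFin tab u) = true := by decide +kernel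

theorem f_25 : allRange 5275 211 (fun u => chkFin tab u) = true := by decide +kernel

theorem f_26 : allRange 5486 211 (fun u => chkFin tab u) = true := by decide +kernel

theorem f_27 : allRange 5697 211 (fun u => chkFin tab u) = true := by decide +kernel

theorem f_28 : allRange 5908 211 (fun u => chkFin tab u) = true := by decide +kernel

theorem f_29 : allRange 6119 211 (fun u => chkFin tab u) = true := by decide +kernel


end Cfsg.Agent.Helper9.TCData.X1690
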