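import Cfsg.Agent.Lib.Helper9.TCData.X1690.Main

set_option autoImplicit false
set_option maxRecDepth 1000000

namespace Cfsg.Agent.Helper9.TCData.X1690
open Cfsg.Agent.Helper9.TC2

theorem e0_20 : allRange 40630 1634 (fun u => chkE tab 0 u) = true := by decide +kernel

theorem e0_21 : allRange 42264 1605 (fun u => chkE tab 0 u) = true := by decide +kernel

theorem e0_22 : allRange 43869 3044 (fun u => chkE tab 0 u) = true := by decide +kernel

theorem e0_23 : allRange 46913 3083 (fun u => chkE tab 0 u) = true := by decide +kernel

theorem e0_24 : allRange 49996 1586 (fun u => chkE tab 0 u) = true := by decide +kernel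

theorem e0_25 : allRange 51582 1621 (fun u => chkE tab 0 u) = true := by decide +kernel

theorem e0_26 : allRange 53203 1679 (fun u => chkE tab 0 u) = true := by decide +kernel

theorem e0_27 : allRange 54882 1679 (fun u => chkE tab 0 u) = true := by decide +kernel

theorem e0_28 : allRange 56561 1633 (fun u => chkE tab 0 u) = true := by decide +kernel

theorem e0_29 : allRange 58194 1636 (fun u => chkE tab 0 u) = true := by decide +kernel


end Cfsg.Agent.Helper9.TCData.X1690
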