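import Cfsg.Agent.Lib.Helper9.TCData.X1690.Main

set_option autoImplicit false
set_option maxRecDepth 1000000

namespace Cfsg.Agent.Helper9.TCData.X1690
open Cfsg.Agent.Helper9.TC2

theorem e1_30 : allRange 59917 2331 (fun u => chkE tab 1 u) = true := by decide +kernel

theorem e1_31 : allRange 62248 1952 (fun u => chkE tab 1 u) = true := by decide +kernel

theorem e1_32 : allRange 64200 2052 (fun u => chkE tab 1 u) = true := by decide +kernel

theorem e1_33 : allRange 66252 2164 (fun u => chkE tab 1 u) = true := by decide +kernel

theorem e1_34 : allRange 68416 1723 (fun u => chkE tab 1 u) = true := by decide +kernel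

theorem e1_35 : allRange 70139 1809 (fun u => chkE tab 1 u) = true := by decide +kernel

theorem e1_36 : allRange 71948 1794 (fun u => chkE tab 1 u) = true := by decide +kernel

theorem e1_37 : allRange 73742 1881 (fun u => chkE tab 1 u) = true := by decide +kernel

theorem e1_38 : allRange 75623 1869 (fun u => chkE tab 1 u) = true := by decide +kernel

theorem e1_39 : allRange 77492 1793 (fun u => chkE tab 1 u) = true := by decide +kernel


end Cfsg.Agent.Helper9.TCData.X1690
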