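import Cfsg.Agent.Lib.Helper9.TCData.X1690.Main

set_option autoImplicit false
set_option maxRecDepth 1000000

namespace Cfsg.Agent.Helper9.TCData.X1690
open Cfsg.Agent.Helper9.TC2

theorem f_90 : allRange 18990 211 (fun u => chkFin tab u) = true := by decide +kernel

theorem f_91 : allRange 19201 211 (fun u => chkFin tab u) = true := by decide +kernel

theorem f_92 : allRange 19412 211 (fun u => chkFin tab u) = true := by decide +kernel

theorem f_93 : allRange 19623 211 (fun u => chkFin tab u) = true := by decide +kernel

theorem f_94 : allRange 19834 211 (fun u => chkFin tab u) = true := by decide +kernel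

theorem f_95 : allRange 20045 211 (fun u => chkFin tab u) = true := by decide +kernel

theorem f_96 : allRange 20256 211 (fun u => chkFin tab u) = true := by decide +kernel

theorem f_97 : allRange 20467 211 (fun u => chkFin tab u) = true := by decide +kernel

theorem f_98 : allRange 20678 211 (fun u => chkFin tab u) = true := by decide +kernel

theorem f_99 : allRange 20889 211 (fun u => chkFin tab u) = true := by decide +kernel


end Cfsg.Agent.Helper9.TCData.X1690
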