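import Cfsg.Agent.Lib.Helper9.TCData.X1690.Main

set_option autoImplicit false
set_option maxRecDepth 1000000

namespace Cfsg.Agent.Helper9.TCData.X1690
open Cfsg.Agent.Helper9.TC2

theorem f_130 : allRange 27430 211 (fun u => chkFin tab u) = true := by decide +kernel

theorem f_131 : allRange 27641 211 (fun u => chkFin tab u) = true := by decide +kernel

theorem f_132 : allRange 27852 211 (fun u => chkFin tab u) = true := by decide +kernel

theorem f_133 : allRange 28063 211 (fun u => chkFin tab u) = true := by decide +kernel

theorem f_134 : allRange 28274 211 (fun u => chkFin tab u) = true := by decide +kernel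

theorem f_135 : allRange 28485 211 (fun u => chkFin tab u) = true := by decide +kernel

theorem f_136 : allRange 28696 211 (fun u => chkFin tab u) = true := by decide +kernel

theorem f_137 : allRange 28907 211 (fun u => chkFin tab u) = true := by decide +kernel

theorem f_138 : allRange 29118 211 (fun u => chkFin tab u) = true := by decide +kernel

theorem f_139 : allRange 29329 211 (fun u => chkFin tab u) = true := by decide +kernel


end Cfsg.Agent.Helper9.TCData.X1690
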