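import Cfsg.Agent.Lib.Helper9.TCData.X1690.Main

set_option autoImplicit false
set_option maxRecDepth 1000000

namespace Cfsg.Agent.Helper9.TCData.X1690
open Cfsg.Agent.Helper9.TC2

theorem f_150 : allRange 31650 211 (fun u => chkFin tab u) = true := by decide +kernel

theorem f_151 : allRange 31861 211 (fun u => chkFin tab u) = true := by decide +kernel

theorem f_152 : allRange 32072 211 (fun u => chkFin tab u) = true := by decide +kernel

theorem f_153 : allRange 32283 211 (fun u => chkFin tab u) = true := by decide +kernel

theorem f_154 : allRange 32494 211 (fun u => chkFin tab u) = true := by decide +kernel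

theorem f_155 : allRange 32705 211 (fun u => chkFin tab u) = true := by decide +kernel

theorem f_156 : allRange 32916 211 (fun u => chkFin tab u) = true := by decide +kernel

theorem f_157 : allRange 33127 211 (fun u => chkFin tab u) = true := by decide +kernel

theorem f_158 : allRange 33338 211 (fun u => chkFin tab u) = true := by decide +kernel

theorem f_159 : allRange 33549 211 (fun u => chkFin tab u) = true := by decide +kernel


end Cfsg.Agent.Helper9.TCData.X1690
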