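import Cfsg.Agent.Lib.Helper9.TCData.X1690.Main

set_option autoImplicit false
set_option maxRecDepth 1000000

namespace Cfsg.Agent.Helper9.TCData.X1690
open Cfsg.Agent.Helper9.TC2

theorem e1_40 : allRange 79285 2817 (fun u => chkE tab 1 u) = true := by decide +kernel

theorem e1_41 : allRange 82102 2641 (fun u => chkE tab 1 u) = true := by decide +kernel

theorem e1_42 : allRange 84743 1984 (fun u => chkE tab 1 u) = true := by decide +kernel

theorem e1_43 : allRange 86727 2009 (fun u => chkE tab 1 u) = true := by decide +kernel

theorem e1_44 : allRange 88736 2069 (fun u => chkE tab 1 u) = true := by decide +kernel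

theorem e1_45 : allRange 90805 2181 (fun u => chkE tab 1 u) = true := by decide +kernel

theorem e1_46 : allRange 92986 2083 (fun u => chkE tab 1 u) = true := by decide +kernel

theorem e1_47 : allRange 95069 1748 (fun u => chkE tab 1 u) = true := by decide +kernel

theorem e1_48 : allRange 96817 1848 (fun u => chkE tab 1 u) = true := by decide +kernel

theorem e1_49 : allRange 98665 1759 (fun u => chkE tab 1 u) = true := by decide +kernel


end Cfsg.Agent.Helper9.TCData.X1690
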