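import Cfsg.Agent.Lib.Helper9.TCData.X1690.Main

set_option autoImplicit false
set_option maxRecDepth 1000000

namespace Cfsg.Agent.Helper9.TCData.X1690
open Cfsg.Agent.Helper9.TC2

theorem f_170 : allRange 35870 211 (fun u => chkFin tab u) = true := by decide +kernel

theorem f_171 : allRange 36081 211 (fun u => chkFin tab u) = true := by decide +kernel

theorem f_172 : allRange 36292 211 (fun u => chkFin tab u) = true := by decide +kernel

theorem f_173 : allRange 36503 211 (fun u => chkFin tab u) = true := by decide +kernel

theorem f_174 : allRange 36714 211 (fun u => chkFin tab u) = true := by decide +kernel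

theorem f_175 : allRange 36925 211 (fun u => chkFin tab u) = true := by decide +kernel

theorem f_176 : allRange 37136 211 (fun u => chkFin tab u) = true := by decide +kernel

theorem f_177 : allRange 37347 211 (fun u => chkFin tab u) = true := by decide +kernel

theorem f_178 : allRange 37558 211 (fun u => chkFin tab u) = true := by decide +kernel

theorem f_179 : allRange 37769 211 (fun u => chkFin tab u) = true := by decide +kernel


end Cfsg.Agent.Helper9.TCData.X1690
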