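import Cfsg.Agent.Lib.Helper9.TCData.X1690.Main

set_option autoImplicit false
set_option maxRecDepth 1000000

namespace Cfsg.Agent.Helper9.TCData.X1690
open Cfsg.Agent.Helper9.TC2

theorem f_190 : allRange 40090 211 (fun u => chkFin tab u) = true := by decide +kernel

theorem f_191 : allRange 40301 211 (fun u => chkFin tab u) = true := by decide +kernel

theorem f_192 : allRange 40512 211 (fun u => chkFin tab u) = true := by decide +kernel

theorem f_193 : allRange 40723 211 (fun u => chkFin tab u) = true := by decide +kernel

theorem f_194 : allRange 40934 211 (fun u => chkFin tab u) = true := by decide +kernel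

theorem f_195 : allRange 41145 211 (fun u => chkFin tab u) = true := by decide +kernel

theorem f_196 : allRange 41356 211 (fun u => chkFin tab u) = true := by decide +kernel

theorem f_197 : allRange 41567 211 (fun u => chkFin tab u) = true := by decide +kernel

theorem f_198 : allRange 41778 211 (fun u => chkFin tab u) = true := by decide +kernel

theorem f_199 : allRange 41989 211 (fun u => chkFin tab u) = true := by decide +kernel


end Cfsg.Agent.Helper9.TCData.X1690
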