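import Cfsg.Agent.Lib.Helper9.TCData.X1690.Main

set_option autoImplicit false
set_option maxRecDepth 1000000

namespace Cfsg.Agent.Helper9.TCData.X1690
open Cfsg.Agent.Helper9.TC2

theorem f_210 : allRange 44310 211 (fun u => chkFin tab u) = true := by decide +kernel

theorem f_211 : allRange 44521 211 (fun u => chkFin tab u) = true := by decide +kernel

theorem f_212 : allRange 44732 211 (fun u => chkFin tab u) = true := by decide +kernel

theorem f_213 : allRange 44943 211 (fun u => chkFin tab u) = true := by decide +kernel

theorem f_214 : allRange 45154 211 (fun u => chkFin tab u) = true := by decide +kernel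

theorem f_215 : allRange 45365 211 (fun u => chkFin tab u) = true := by decide +kernel

theorem f_216 : allRange 45576 211 (fun u => chkFin tab u) = true := by decide +kernel

theorem f_217 : allRange 45787 211 (fun u => chkFin tab u) = true := by decide +kernel

theorem f_218 : allRange 45998 211 (fun u => chkFin tab u) = true := by decide +kernel

theorem f_219 : allRange 46209 211 (fun u => chkFin tab u) = true := by decide +kernel


end Cfsg.Agent.Helper9.TCData.X1690
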