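import Cfsg.Agent.Lib.Helper9.TCData.X1690.Main

set_option autoImplicit false
set_option maxRecDepth 1000000

namespace Cfsg.Agent.Helper9.TCData.X1690
open Cfsg.Agent.Helper9.TC2

theorem f_230 : allRange 48530 211 (fun u => chkFin tab u) = true := by decide +kernel

theorem f_231 : allRange 48741 211 (fun u => chkFin tab u) = true := by decide +kernel

theorem f_232 : allRange 48952 211 (fun u => chkFin tab u) = true := by decide +kernel

theorem f_233 : allRange 49163 211 (fun u => chkFin tab u) = true := by decide +kernel

theorem f_234 : allRange 49374 211 (fun u => chkFin tab u) = true := by decide +kernel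

theorem f_235 : allRange 49585 211 (fun u => chkFin tab u) = true := by decide +kernel

theorem f_236 : allRange 49796 211 (fun u => chkFin tab u) = true := by decide +kernel

theorem f_237 : allRange 50007 211 (fun u => chkFin tab u) = true := by decide +kernel

theorem f_238 : allRange 50218 211 (fun u => chkFin tab u) = true := by decide +kernel

theorem f_239 : allRange 50429 211 (fun u => chkFin tab u) = true := by decide +kernel


end Cfsg.Agent.Helper9.TCData.X1690
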