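import Cfsg.Agent.Lib.Helper9.TCData.X1690.Main

set_option autoImplicit false
set_option maxRecDepth 1000000

namespace Cfsg.Agent.Helper9.TCData.X1690
open Cfsg.Agent.Helper9.TC2

theorem f_240 : allRange 50640 211 (fun u => chkFin tab u) = true := by decide +kernel

theorem f_241 : allRange 50851 211 (fun u => chkFin tab u) = true := by decide +kernel

theorem f_242 : allRange 51062 211 (fun u => chkFin tab u) = true := by decide +kernel

theorem f_243 : allRange 51273 211 (fun u => chkFin tab u) = true := by decide +kernel

theorem f_244 : allRange 51484 211 (fun u => chkFin tab u) = true := by decide +kernel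

theorem f_245 : allRange 51695 211 (fun u => chkFin tab u) = true := by decide +kernel

theorem f_246 : allRange 51906 211 (fun u => chkFin tab u) = true := by decide +kernel

theorem f_247 : allRange 52117 211 (fun u => chkFin tab u) = true := by decide +kernel

theorem f_248 : allRange 52328 211 (fun u => chkFin tab u) = true := by decide +kernel

theorem f_249 : allRange 52539 211 (fun u => chkFin tab u) = true := by decide +kernel


end Cfsg.Agent.Helper9.TCData.X1690
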