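import Cfsg.Agent.Lib.Helper9.TCData.X1690.Main

set_option autoImplicit false
set_option maxRecDepth 1000000

namespace Cfsg.Agent.Helper9.TCData.X1690
open Cfsg.Agent.Helper9.TC2

theorem e1_50 : allRange 100424 1869 (fun u => chkE tab 1 u) = true := by decide +kernel

theorem e1_51 : allRange 102293 1826 (fun u => chkE tab 1 u) = true := by decide +kernel

theorem e1_52 : allRange 104119 1916 (fun u => chkE tab 1 u) = true := by decide +kernel

theorem e1_53 : allRange 106035 1867 (fun u => chkE tab 1 u) = true := by decide +kernel

theorem e1_54 : allRange 107902 1849 (fun u => chkE tab 1 u) = true := by decide +kernel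

theorem e1_55 : allRange 109751 2722 (fun u => chkE tab 1 u) = true := by decide +kernel

theorem e1_56 : allRange 112473 2711 (fun u => chkE tab 1 u) = true := by decide +kernel

theorem e1_57 : allRange 115184 2633 (fun u => chkE tab 1 u) = true := by decide +kernel

theorem e1_58 : allRange 117817 2348 (fun u => chkE tab 1 u) = true := by decide +kernel

theorem e1_59 : allRange 120165 2562 (fun u => chkE tab 1 u) = true := by decide +kernel


end Cfsg.Agent.Helper9.TCData.X1690
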