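import Cfsg.Agent.Lib.Helper9.TCData.X1690.Main

set_option autoImplicit false
set_option maxRecDepth 1000000

namespace Cfsg.Agent.Helper9.TCData.X1690
open Cfsg.Agent.Helper9.TC2

theorem f_280 : allRange 59080 211 (fun u => chkFin tab u) = true := by decide +kernel

theorem f_281 : allRange 59291 211 (fun u => chkFin tab u) = true := by decide +kernel

theorem f_282 : allRange 59502 211 (fun u => chkFin tab u) = true := by decide +kernel

theorem f_283 : allRange 59713 211 (fun u => chkFin tab u) = true := by decide +kernel

theorem f_284 : allRange 59924 211 (fun u => chkFin tab u) = true := by decide +kernel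

theorem f_285 : allRange 60135 211 (fun u => chkFin tab u) = true := by decide +kernel

theorem f_286 : allRange 60346 211 (fun u => chkFin tab u) = true := by decide +kernel

theorem f_287 : allRange 60557 211 (fun u => chkFin tab u) = true := by decide +kernel

theorem f_288 : allRange 60768 211 (fun u => chkFin tab u) = true := by decide +kernel

theorem f_289 : allRange 60979 211 (fun u => chkFin tab u) = true := by decide +kernel


end Cfsg.Agent.Helper9.TCData.X1690
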