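import Cfsg.Agent.Lib.Helper9.TCData.X1690.Main

set_option autoImplicit false
set_option maxRecDepth 1000000

namespace Cfsg.Agent.Helper9.TCData.X1690
open Cfsg.Agent.Helper9.TC2

theorem f_290 : allRange 61190 211 (fun u => chkFin tab u) = true := by decide +kernel

theorem f_291 : allRange 61401 211 (fun u => chkFin tab u) = true := by decide +kernel

theorem f_292 : allRange 61612 211 (fun u => chkFin tab u) = true := by decide +kernel

theorem f_293 : allRange 61823 211 (fun u => chkFin tab u) = true := by decide +kernel

theorem f_294 : allRange 62034 211 (fun u => chkFin tab u) = true := by decide +kernel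

theorem f_295 : allRange 62245 211 (fun u => chkFin tab u) = true := by decide +kernel

theorem f_296 : allRange 62456 211 (fun u => chkFin tab u) = true := by decide +kernel

theorem f_297 : allRange 62667 211 (fun u => chkFin tab u) = true := by decide +kernel

theorem f_298 : allRange 62878 211 (fun u => chkFin tab u) = true := by decide +kernel

theorem f_299 : allRange 63089 211 (fun u => chkFin tab u) = true := by decide +kernel


end Cfsg.Agent.Helper9.TCData.X1690
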