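import Cfsg.Agent.Lib.Helper9.TCData.X1690.Main

set_option autoImplicit false
set_option maxRecDepth 1000000

namespace Cfsg.Agent.Helper9.TCData.X1690
open Cfsg.Agent.Helper9.TC2

theorem f_300 : allRange 63300 211 (fun u => chkFin tab u) = true := by decide +kernel

theorem f_301 : allRange 63511 211 (fun u => chkFin tab u) = true := by decide +kernel

theorem f_302 : allRange 63722 211 (fun u => chkFin tab u) = true := by decide +kernel

theorem f_303 : allRange 63933 211 (fun u => chkFin tab u) = true := by decide +kernel

theorem f_304 : allRange 64144 211 (fun u => chkFin tab u) = true := by decide +kernel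

theorem f_305 : allRange 64355 211 (fun u => chkFin tab u) = true := by decide +kernel

theorem f_306 : allRange 64566 211 (fun u => chkFin tab u) = true := by decide +kernel

theorem f_307 : allRange 64777 211 (fun u => chkFin tab u) = true := by decide +kernel

theorem f_308 : allRange 64988 211 (fun u => chkFin tab u) = true := by decide +kernel

theorem f_309 : allRange 65199 211 (fun u => chkFin tab u) = true := by decide +kernel


end Cfsg.Agent.Helper9.TCData.X1690
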