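import Cfsg.Agent.Lib.Helper9.TCData.X1690.Main

set_option autoImplicit false
set_option maxRecDepth 1000000

namespace Cfsg.Agent.Helper9.TCData.X1690
open Cfsg.Agent.Helper9.TC2

theorem f_310 : allRange 65410 211 (fun u => chkFin tab u) = true := by decide +kernel

theorem f_311 : allRange 65621 211 (fun u => chkFin tab u) = true := by decide +kernel

theorem f_312 : allRange 65832 211 (fun u => chkFin tab u) = true := by decide +kernel

theorem f_313 : allRange 66043 211 (fun u => chkFin tab u) = true := by decide +kernel

theorem f_314 : allRange 66254 211 (fun u => chkFin tab u) = true := by decide +kernel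

theorem f_315 : allRange 66465 211 (fun u => chkFin tab u) = true := by decide +kernel

theorem f_316 : allRange 66676 211 (fun u => chkFin tab u) = true := by decide +kernel

theorem f_317 : allRange 66887 211 (fun u => chkFin tab u) = true := by decide +kernel

theorem f_318 : allRange 67098 211 (fun u => chkFin tab u) = true := by decide +kernel

theorem f_319 : allRange 67309 211 (fun u => chkFin tab u) = true := by decide +kernel


end Cfsg.Agent.Helper9.TCData.X1690
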