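import Cfsg.Agent.Lib.Helper9.TCData.X1690.Main

set_option autoImplicit false
set_option maxRecDepth 1000000

namespace Cfsg.Agent.Helper9.TCData.X1690
open Cfsg.Agent.Helper9.TC2

theorem f_330 : allRange 69630 211 (fun u => chkFin tab u) = true := by decide +kernel

theorem f_331 : allRange 69841 211 (fun u => chkFin tab u) = true := by decide +kernel

theorem f_332 : allRange 70052 211 (fun u => chkFin tab u) = true := by decide +kernel

theorem f_333 : allRange 70263 211 (fun u => chkFin tab u) = true := by decide +kernel

theorem f_334 : allRange 70474 211 (fun u => chkFin tab u) = true := by decide +kernel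

theorem f_335 : allRange 70685 211 (fun u => chkFin tab u) = true := by decide +kernel

theorem f_336 : allRange 70896 211 (fun u => chkFin tab u) = true := by decide +kernel

theorem f_337 : allRange 71107 211 (fun u => chkFin tab u) = true := by decide +kernel

theorem f_338 : allRange 71318 211 (fun u => chkFin tab u) = true := by decide +kernel

theorem f_339 : allRange 71529 211 (fun u => chkFin tab u) = true := by decide +kernel


end Cfsg.Agent.Helper9.TCData.X1690
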