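import Cfsg.Agent.Lib.Helper9.TCData.X1690.Main

set_option autoImplicit false
set_option maxRecDepth 1000000

namespace Cfsg.Agent.Helper9.TCData.X1690
open Cfsg.Agent.Helper9.TC2

theorem f_350 : allRange 73850 211 (fun u => chkFin tab u) = true := by decide +kernel

theorem f_351 : allRange 74061 211 (fun u => chkFin tab u) = true := by decide +kernel

theorem f_352 : allRange 74272 211 (fun u => chkFin tab u) = true := by decide +kernel

theorem f_353 : allRange 74483 211 (fun u => chkFin tab u) = true := by decide +kernel

theorem f_354 : allRange 74694 211 (fun u => chkFin tab u) = true := by decide +kernel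

theorem f_355 : allRange 74905 211 (fun u => chkFin tab u) = true := by decide +kernel

theorem f_356 : allRange 75116 211 (fun u => chkFin tab u) = true := by decide +kernel

theorem f_357 : allRange 75327 211 (fun u => chkFin tab u) = true := by decide +kernel

theorem f_358 : allRange 75538 211 (fun u => chkFin tab u) = true := by decide +kernel

theorem f_359 : allRange 75749 211 (fun u => chkFin tab u) = true := by decide +kernel


end Cfsg.Agent.Helper9.TCData.X1690
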