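import Cfsg.Agent.Lib.Helper9.TCData.X1690.Main

set_option autoImplicit false
set_option maxRecDepth 1000000

namespace Cfsg.Agent.Helper9.TCData.X1690
open Cfsg.Agent.Helper9.TC2

theorem e1_60 : allRange 122727 3195 (fun u => chkE tab 1 u) = true := by decide +kernel

theorem e1_61 : allRange 125922 3209 (fun u => chkE tab 1 u) = true := by decide +kernel

theorem e1_62 : allRange 129131 3009 (fun u => chkE tab 1 u) = true := by decide +kernel

theorem e1_63 : allRange 132140 2265 (fun u => chkE tab 1 u) = true := by decide +kernel

theorem e1_64 : allRange 134405 2222 (fun u => chkE tab 1 u) = true := by decide +kernel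

theorem e1_65 : allRange 136627 2614 (fun u => chkE tab 1 u) = true := by decide +kernel

theorem e1_66 : allRange 139241 3068 (fun u => chkE tab 1 u) = true := by decide +kernel

theorem e1_67 : allRange 142309 3563 (fun u => chkE tab 1 u) = true := by decide +kernel

theorem e1_68 : allRange 145872 3148 (fun u => chkE tab 1 u) = true := by decide +kernel

theorem e1_69 : allRange 149020 3018 (fun u => chkE tab 1 u) = true := by decide +kernel


end Cfsg.Agent.Helper9.TCData.X1690
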