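import Cfsg.Agent.Lib.Helper9.TCData.X1690.Main

set_option autoImplicit false
set_option maxRecDepth 1000000

namespace Cfsg.Agent.Helper9.TCData.X1690
open Cfsg.Agent.Helper9.TC2

theorem f_370 : allRange 78070 211 (fun u => chkFin tab u) = true := by decide +kernel

theorem f_371 : allRange 78281 211 (fun u => chkFin tab u) = true := by decide +kernel

theorem f_372 : allRange 78492 211 (fun u => chkFin tab u) = true := by decide +kernel

theorem f_373 : allRange 78703 211 (fun u => chkFin tab u) = true := by decide +kernel

theorem f_374 : allRange 78914 211 (fun u => chkFin tab u) = true := by decide +kernel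

theorem f_375 : allRange 79125 211 (fun u => chkFin tab u) = true := by decide +kernel

theorem f_376 : allRange 79336 211 (fun u => chkFin tab u) = true := by decide +kernel

theorem f_377 : allRange 79547 211 (fun u => chkFin tab u) = true := by decide +kernel

theorem f_378 : allRange 79758 211 (fun u => chkFin tab u) = true := by decide +kernel

theorem f_379 : allRange 79969 211 (fun u => chkFin tab u) = true := by decide +kernel


end Cfsg.Agent.Helper9.TCData.X1690
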