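import Cfsg.Agent.Lib.Helper9.TCData.X1690.Main

set_option autoImplicit false
set_option maxRecDepth 1000000

namespace Cfsg.Agent.Helper9.TCData.X1690
open Cfsg.Agent.Helper9.TC2

theorem f_380 : allRange 80180 211 (fun u => chkFin tab u) = true := by decide +kernel

theorem f_381 : allRange 80391 211 (fun u => chkFin tab u) = true := by decide +kernel

theorem f_382 : allRange 80602 211 (fun u => chkFin tab u) = true := by decide +kernel

theorem f_383 : allRange 80813 211 (fun u => chkFin tab u) = true := by decide +kernel

theorem f_384 : allRange 81024 211 (fun u => chkFin tab u) = true := by decide +kernel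

theorem f_385 : allRange 81235 211 (fun u => chkFin tab u) = true := by decide +kernel

theorem f_386 : allRange 81446 211 (fun u => chkFin tab u) = true := by decide +kernel

theorem f_387 : allRange 81657 211 (fun u => chkFin tab u) = true := by decide +kernel

theorem f_388 : allRange 81868 211 (fun u => chkFin tab u) = true := by decide +kernel

theorem f_389 : allRange 82079 211 (fun u => chkFin tab u) = true := by decide +kernel


end Cfsg.Agent.Helper9.TCData.X1690
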