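import Cfsg.Agent.Lib.Helper9.TCData.X1690.Main

set_option autoImplicit false
set_option maxRecDepth 1000000

namespace Cfsg.Agent.Helper9.TCData.X1690
open Cfsg.Agent.Helper9.TC2

theorem f_390 : allRange 82290 211 (fun u => chkFin tab u) = true := by decide +kernel

theorem f_391 : allRange 82501 211 (fun u => chkFin tab u) = true := by decide +kernel

theorem f_392 : allRange 82712 211 (fun u => chkFin tab u) = true := by decide +kernel

theorem f_393 : allRange 82923 211 (fun u => chkFin tab u) = true := by decide +kernel

theorem f_394 : allRange 83134 211 (fun u => chkFin tab u) = true := by decide +kernel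

theorem f_395 : allRange 83345 211 (fun u => chkFin tab u) = true := by decide +kernel

theorem f_396 : allRange 83556 211 (fun u => chkFin tab u) = true := by decide +kernel

theorem f_397 : allRange 83767 211 (fun u => chkFin tab u) = true := by decide +kernel

theorem f_398 : allRange 83978 211 (fun u => chkFin tab u) = true := by decide +kernel

theorem f_399 : allRange 84189 211 (fun u => chkFin tab u) = true := by decide +kernel


end Cfsg.Agent.Helper9.TCData.X1690
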