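import Cfsg.Agent.Lib.Helper9.TCData.X1690.Main

set_option autoImplicit false
set_option maxRecDepth 1000000

namespace Cfsg.Agent.Helper9.TCData.X1690
open Cfsg.Agent.Helper9.TC2

theorem f_400 : allRange 84400 211 (fun u => chkFin tab u) = true := by decide +kernel

theorem f_401 : allRange 84611 211 (fun u => chkFin tab u) = true := by decide +kernel

theorem f_402 : allRange 84822 211 (fun u => chkFin tab u) = true := by decide +kernel

theorem f_403 : allRange 85033 211 (fun u => chkFin tab u) = true := by decide +kernel

theorem f_404 : allRange 85244 211 (fun u => chkFin tab u) = true := by decide +kernel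

theorem f_405 : allRange 85455 211 (fun u => chkFin tab u) = true := by decide +kernel

theorem f_406 : allRange 85666 211 (fun u => chkFin tab u) = true := by decide +kernel

theorem f_407 : allRange 85877 211 (fun u => chkFin tab u) = true := by decide +kernel

theorem f_408 : allRange 86088 211 (fun u => chkFin tab u) = true := by decide +kernel

theorem f_409 : allRange 86299 211 (fun u => chkFin tab u) = true := by decide +kernel


end Cfsg.Agent.Helper9.TCData.X1690
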