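import Cfsg.Agent.Lib.Helper9.TCData.X1690.Main

set_option autoImplicit false
set_option maxRecDepth 1000000

namespace Cfsg.Agent.Helper9.TCData.X1690
open Cfsg.Agent.Helper9.TC2

theorem f_410 : allRange 86510 211 (fun u => chkFin tab u) = true := by decide +kernel

theorem f_411 : allRange 86721 211 (fun u => chkFin tab u) = true := by decide +kernel

theorem f_412 : allRange 86932 211 (fun u => chkFin tab u) = true := by decide +kernel

theorem f_413 : allRange 87143 211 (fun u => chkFin tab u) = true := by decide +kernel

theorem f_414 : allRange 87354 211 (fun u => chkFin tab u) = true := by decide +kernel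

theorem f_415 : allRange 87565 211 (fun u => chkFin tab u) = true := by decide +kernel

theorem f_416 : allRange 87776 211 (fun u => chkFin tab u) = true := by decide +kernel

theorem f_417 : allRange 87987 211 (fun u => chkFin tab u) = true := by decide +kernel

theorem f_418 : allRange 88198 211 (fun u => chkFin tab u) = true := by decide +kernel

theorem f_419 : allRange 88409 211 (fun u => chkFin tab u) = true := by decide +kernel


end Cfsg.Agent.Helper9.TCData.X1690
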