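import Cfsg.Agent.Lib.Helper9.TCData.X1690.Main

set_option autoImplicit false
set_option maxRecDepth 1000000

namespace Cfsg.Agent.Helper9.TCData.X1690
open Cfsg.Agent.Helper9.TC2

theorem f_420 : allRange 88620 211 (fun u => chkFin tab u) = true := by decide +kernel

theorem f_421 : allRange 88831 211 (fun u => chkFin tab u) = true := by decide +kernel

theorem f_422 : allRange 89042 211 (fun u => chkFin tab u) = true := by decide +kernel

theorem f_423 : allRange 89253 211 (fun u => chkFin tab u) = true := by decide +kernel

theorem f_424 : allRange 89464 211 (fun u => chkFin tab u) = true := by decide +kernel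

theorem f_425 : allRange 89675 211 (fun u => chkFin tab u) = true := by decide +kernel

theorem f_426 : allRange 89886 211 (fun u => chkFin tab u) = true := by decide +kernel

theorem f_427 : allRange 90097 211 (fun u => chkFin tab u) = true := by decide +kernel

theorem f_428 : allRange 90308 211 (fun u => chkFin tab u) = true := by decide +kernel

theorem f_429 : allRange 90519 211 (fun u => chkFin tab u) = true := by decide +kernel


end Cfsg.Agent.Helper9.TCData.X1690
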