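import Cfsg.Agent.Lib.Helper9.TCData.X1690.Main

set_option autoImplicit false
set_option maxRecDepth 1000000

namespace Cfsg.Agent.Helper9.TCData.X1690
open Cfsg.Agent.Helper9.TC2

theorem f_430 : allRange 90730 211 (fun u => chkFin tab u) = true := by decide +kernel

theorem f_431 : allRange 90941 211 (fun u => chkFin tab u) = true := by decide +kernel

theorem f_432 : allRange 91152 211 (fun u => chkFin tab u) = true := by decide +kernel

theorem f_433 : allRange 91363 211 (fun u => chkFin tab u) = true := by decide +kernel

theorem f_434 : allRange 91574 211 (fun u => chkFin tab u) = true := by decide +kernel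

theorem f_435 : allRange 91785 211 (fun u => chkFin tab u) = true := by decide +kernel

theorem f_436 : allRange 91996 211 (fun u => chkFin tab u) = true := by decide +kernel

theorem f_437 : allRange 92207 211 (fun u => chkFin tab u) = true := by decide +kernel

theorem f_438 : allRange 92418 211 (fun u => chkFin tab u) = true := by decide +kernel

theorem f_439 : allRange 92629 211 (fun u => chkFin tab u) = true := by decide +kernel


end Cfsg.Agent.Helper9.TCData.X1690
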