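import Cfsg.Agent.Lib.Helper9.TCData.X1690.Main

set_option autoImplicit false
set_option maxRecDepth 1000000

namespace Cfsg.Agent.Helper9.TCData.X1690
open Cfsg.Agent.Helper9.TC2

theorem f_450 : allRange 94950 211 (fun u => chkFin tab u) = true := by decide +kernel

theorem f_451 : allRange 95161 211 (fun u => chkFin tab u) = true := by decide +kernel

theorem f_452 : allRange 95372 211 (fun u => chkFin tab u) = true := by decide +kernel

theorem f_453 : allRange 95583 211 (fun u => chkFin tab u) = true := by decide +kernel

theorem f_454 : allRange 95794 211 (fun u => chkFin tab u) = true := by decide +kernel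

theorem f_455 : allRange 96005 211 (fun u => chkFin tab u) = true := by decide +kernel

theorem f_456 : allRange 96216 211 (fun u => chkFin tab u) = true := by decide +kernel

theorem f_457 : allRange 96427 211 (fun u => chkFin tab u) = true := by decide +kernel

theorem f_458 : allRange 96638 211 (fun u => chkFin tab u) = true := by decide +kernel

theorem f_459 : allRange 96849 211 (fun u => chkFin tab u) = true := by decide +kernel


end Cfsg.Agent.Helper9.TCData.X1690
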