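import Cfsg.Agent.Lib.Helper9.TCData.X1690.Main

set_option autoImplicit false
set_option maxRecDepth 1000000

namespace Cfsg.Agent.Helper9.TCData.X1690
open Cfsg.Agent.Helper9.TC2

theorem f_470 : allRange 99170 211 (fun u => chkFin tab u) = true := by decide +kernel

theorem f_471 : allRange 99381 211 (fun u => chkFin tab u) = true := by decide +kernel

theorem f_472 : allRange 99592 211 (fun u => chkFin tab u) = true := by decide +kernel

theorem f_473 : allRange 99803 211 (fun u => chkFin tab u) = true := by decide +kernel

theorem f_474 : allRange 100014 211 (fun u => chkFin tab u) = true := by decide +kernel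

theorem f_475 : allRange 100225 211 (fun u => chkFin tab u) = true := by decide +kernel

theorem f_476 : allRange 100436 211 (fun u => chkFin tab u) = true := by decide +kernel

theorem f_477 : allRange 100647 211 (fun u => chkFin tab u) = true := by decide +kernel

theorem f_478 : allRange 100858 211 (fun u => chkFin tab u) = true := by decide +kernel

theorem f_479 : allRange 101069 211 (fun u => chkFin tab u) = true := by decide +kernel


end Cfsg.Agent.Helper9.TCData.X1690
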