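import Cfsg.Agent.Lib.Helper9.TCData.X1690.Main

set_option autoImplicit false
set_option maxRecDepth 1000000

namespace Cfsg.Agent.Helper9.TCData.X1690
open Cfsg.Agent.Helper9.TC2

theorem f_480 : allRange 101280 211 (fun u => chkFin tab u) = true := by decide +kernel

theorem f_481 : allRange 101491 211 (fun u => chkFin tab u) = true := by decide +kernel

theorem f_482 : allRange 101702 211 (fun u => chkFin tab u) = true := by decide +kernel

theorem f_483 : allRange 101913 211 (fun u => chkFin tab u) = true := by decide +kernel

theorem f_484 : allRange 102124 211 (fun u => chkFin tab u) = true := by decide +kernel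

theorem f_485 : allRange 102335 211 (fun u => chkFin tab u) = true := by decide +kernel

theorem f_486 : allRange 102546 211 (fun u => chkFin tab u) = true := by decide +kernel

theorem f_487 : allRange 102757 211 (fun u => chkFin tab u) = true := by decide +kernel

theorem f_488 : allRange 102968 211 (fun u => chkFin tab u) = true := by decide +kernel

theorem f_489 : allRange 103179 211 (fun u => chkFin tab u) = true := by decide +kernel


end Cfsg.Agent.Helper9.TCData.X1690
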