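import Cfsg.Agent.Lib.Helper9.TCData.X1690.Main

set_option autoImplicit false
set_option maxRecDepth 1000000

namespace Cfsg.Agent.Helper9.TCData.X1690
open Cfsg.Agent.Helper9.TC2

theorem f_490 : allRange 103390 211 (fun u => chkFin tab u) = true := by decide +kernel

theorem f_491 : allRange 103601 211 (fun u => chkFin tab u) = true := by decide +kernel

theorem f_492 : allRange 103812 211 (fun u => chkFin tab u) = true := by decide +kernel

theorem f_493 : allRange 104023 211 (fun u => chkFin tab u) = true := by decide +kernel

theorem f_494 : allRange 104234 211 (fun u => chkFin tab u) = true := by decide +kernel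

theorem f_495 : allRange 104445 211 (fun u => chkFin tab u) = true := by decide +kernel

theorem f_496 : allRange 104656 211 (fun u => chkFin tab u) = true := by decide +kernel

theorem f_497 : allRange 104867 211 (fun u => chkFin tab u) = true := by decide +kernel

theorem f_498 : allRange 105078 211 (fun u => chkFin tab u) = true := by decide +kernel

theorem f_499 : allRange 105289 211 (fun u => chkFin tab u) = true := by decide +kernel


end Cfsg.Agent.Helper9.TCData.X1690
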