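import Cfsg.Agent.Lib.Helper9.TCData.X1690.Main

set_option autoImplicit false
set_option maxRecDepth 1000000

namespace Cfsg.Agent.Helper9.TCData.X1690
open Cfsg.Agent.Helper9.TC2

theorem f_500 : allRange 105500 211 (fun u => chkFin tab u) = true := by decide +kernel

theorem f_501 : allRange 105711 211 (fun u => chkFin tab u) = true := by decide +kernel

theorem f_502 : allRange 105922 211 (fun u => chkFin tab u) = true := by decide +kernel

theorem f_503 : allRange 106133 211 (fun u => chkFin tab u) = true := by decide +kernel

theorem f_504 : allRange 106344 211 (fun u => chkFin tab u) = true := by decide +kernel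

theorem f_505 : allRange 106555 211 (fun u => chkFin tab u) = true := by decide +kernel

theorem f_506 : allRange 106766 211 (fun u => chkFin tab u) = true := by decide +kernel

theorem f_507 : allRange 106977 211 (fun u => chkFin tab u) = true := by decide +kernel

theorem f_508 : allRange 107188 211 (fun u => chkFin tab u) = true := by decide +kernel

theorem f_509 : allRange 107399 211 (fun u => chkFin tab u) = true := by decide +kernel


end Cfsg.Agent.Helper9.TCData.X1690
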