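import Cfsg.Agent.Lib.Helper9.TCData.X1690.Main

set_option autoImplicit false
set_option maxRecDepth 1000000

namespace Cfsg.Agent.Helper9.TCData.X1690
open Cfsg.Agent.Helper9.TC2

theorem f_510 : allRange 107610 211 (fun u => chkFin tab u) = true := by decide +kernel

theorem f_511 : allRange 107821 211 (fun u => chkFin tab u) = true := by decide +kernel

theorem f_512 : allRange 108032 211 (fun u => chkFin tab u) = true := by decide +kernel

theorem f_513 : allRange 108243 211 (fun u => chkFin tab u) = true := by decide +kernel

theorem f_514 : allRange 108454 211 (fun u => chkFin tab u) = true := by decide +kernel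

theorem f_515 : allRange 108665 211 (fun u => chkFin tab u) = true := by decide +kernel

theorem f_516 : allRange 108876 211 (fun u => chkFin tab u) = true := by decide +kernel

theorem f_517 : allRange 109087 211 (fun u => chkFin tab u) = true := by decide +kernel

theorem f_518 : allRange 109298 211 (fun u => chkFin tab u) = true := by decide +kernel

theorem f_519 : allRange 109509 211 (fun u => chkFin tab u) = true := by decide +kernel


end Cfsg.Agent.Helper9.TCData.X1690
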