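import Cfsg.Agent.Lib.Helper9.TCData.X1690.Main

set_option autoImplicit false
set_option maxRecDepth 1000000

namespace Cfsg.Agent.Helper9.TCData.X1690
open Cfsg.Agent.Helper9.TC2

theorem f_530 : allRange 111830 211 (fun u => chkFin tab u) = true := by decide +kernel

theorem f_531 : allRange 112041 211 (fun u => chkFin tab u) = true := by decide +kernel

theorem f_532 : allRange 112252 211 (fun u => chkFin tab u) = true := by decide +kernel

theorem f_533 : allRange 112463 211 (fun u => chkFin tab u) = true := by decide +kernel

theorem f_534 : allRange 112674 211 (fun u => chkFin tab u) = true := by decide +kernel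

theorem f_535 : allRange 112885 211 (fun u => chkFin tab u) = true := by decide +kernel

theorem f_536 : allRange 113096 211 (fun u => chkFin tab u) = true := by decide +kernel

theorem f_537 : allRange 113307 211 (fun u => chkFin tab u) = true := by decide +kernel

theorem f_538 : allRange 113518 211 (fun u => chkFin tab u) = true := by decide +kernel

theorem f_539 : allRange 113729 211 (fun u => chkFin tab u) = true := by decide +kernel


end Cfsg.Agent.Helper9.TCData.X1690
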