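import Cfsg.Agent.Lib.Helper9.TCData.X1690.Main

set_option autoImplicit false
set_option maxRecDepth 1000000

namespace Cfsg.Agent.Helper9.TCData.X1690
open Cfsg.Agent.Helper9.TC2

theorem f_540 : allRange 113940 211 (fun u => chkFin tab u) = true := by decide +kernel

theorem f_541 : allRange 114151 211 (fun u => chkFin tab u) = true := by decide +kernel

theorem f_542 : allRange 114362 211 (fun u => chkFin tab u) = true := by decide +kernel

theorem f_543 : allRange 114573 211 (fun u => chkFin tab u) = true := by decide +kernel

theorem f_544 : allRange 114784 211 (fun u => chkFin tab u) = true := by decide +kernel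

theorem f_545 : allRange 114995 211 (fun u => chkFin tab u) = true := by decide +kernel

theorem f_546 : allRange 115206 211 (fun u => chkFin tab u) = true := by decide +kernel

theorem f_547 : allRange 115417 211 (fun u => chkFin tab u) = true := by decide +kernel

theorem f_548 : allRange 115628 211 (fun u => chkFin tab u) = true := by decide +kernel

theorem f_549 : allRange 115839 211 (fun u => chkFin tab u) = true := by decide +kernel


end Cfsg.Agent.Helper9.TCData.X1690
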