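import Cfsg.Agent.Lib.Helper9.TCData.X1690.Main

set_option autoImplicit false
set_option maxRecDepth 1000000

namespace Cfsg.Agent.Helper9.TCData.X1690
open Cfsg.Agent.Helper9.TC2

theorem f_550 : allRange 116050 211 (fun u => chkFin tab u) = true := by decide +kernel

theorem f_551 : allRange 116261 211 (fun u => chkFin tab u) = true := by decide +kernel

theorem f_552 : allRange 116472 211 (fun u => chkFin tab u) = true := by decide +kernel

theorem f_553 : allRange 116683 211 (fun u => chkFin tab u) = true := by decide +kernel

theorem f_554 : allRange 116894 211 (fun u => chkFin tab u) = true := by decide +kernel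

theorem f_555 : allRange 117105 211 (fun u => chkFin tab u) = true := by decide +kernel

theorem f_556 : allRange 117316 211 (fun u => chkFin tab u) = true := by decide +kernel

theorem f_557 : allRange 117527 211 (fun u => chkFin tab u) = true := by decide +kernel

theorem f_558 : allRange 117738 211 (fun u => chkFin tab u) = true := by decide +kernel

theorem f_559 : allRange 117949 211 (fun u => chkFin tab u) = true := by decide +kernel


end Cfsg.Agent.Helper9.TCData.X1690
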