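import Cfsg.Agent.Lib.Helper9.TCData.X1690.Main

set_option autoImplicit false
set_option maxRecDepth 1000000

namespace Cfsg.Agent.Helper9.TCData.X1690
open Cfsg.Agent.Helper9.TC2

theorem e1_80 : allRange 179557 2184 (fun u => chkE tab 1 u) = true := by decide +kernel

theorem e1_81 : allRange 181741 2211 (fun u => chkE tab 1 u) = true := by decide +kernel

theorem e1_82 : allRange 183952 2299 (fun u => chkE tab 1 u) = true := by decide +kernel

theorem e1_83 : allRange 186251 1759 (fun u => chkE tab 1 u) = true := by decide +kernel

theorem e1_84 : allRange 188010 2162 (fun u => chkE tab 1 u) = true := by decide +kernel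

theorem e1_85 : allRange 190172 1949 (fun u => chkE tab 1 u) = true := by decide +kernel

theorem e1_86 : allRange 192121 1983 (fun u => chkE tab 1 u) = true := by decide +kernel

theorem e1_87 : allRange 194104 3471 (fun u => chkE tab 1 u) = true := by decide +kernel

theorem e1_88 : allRange 197575 2316 (fun u => chkE tab 1 u) = true := by decide +kernel

theorem e1_89 : allRange 199891 2308 (fun u => chkE tab 1 u) = true := by decide +kernel


end Cfsg.Agent.Helper9.TCData.X1690
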