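import Cfsg.Agent.Lib.Helper9.TCData.X1690.Main

set_option autoImplicit false
set_option maxRecDepth 1000000

namespace Cfsg.Agent.Helper9.TCData.X1690
open Cfsg.Agent.Helper9.TC2

theorem f_560 : allRange 118160 211 (fun u => chkFin tab u) = true := by decide +kernel

theorem f_561 : allRange 118371 211 (fun u => chkFin tab u) = true := by decide +kernel

theorem f_562 : allRange 118582 211 (fun u => chkFin tab u) = true := by decide +kernel

theorem f_563 : allRange 118793 211 (fun u => chkFin tab u) = true := by decide +kernel

theorem f_564 : allRange 119004 211 (fun u => chkFin tab u) = true := by decide +kernel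

theorem f_565 : allRange 119215 211 (fun u => chkFin tab u) = true := by decide +kernel

theorem f_566 : allRange 119426 211 (fun u => chkFin tab u) = true := by decide +kernel

theorem f_567 : allRange 119637 211 (fun u => chkFin tab u) = true := by decide +kernel

theorem f_568 : allRange 119848 211 (fun u => chkFin tab u) = true := by decide +kernel

theorem f_569 : allRange 120059 211 (fun u => chkFin tab u) = true := by decide +kernel


end Cfsg.Agent.Helper9.TCData.X1690
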