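import Cfsg.Agent.Lib.Helper9.TCData.X1690.Main

set_option autoImplicit false
set_option maxRecDepth 1000000

namespace Cfsg.Agent.Helper9.TCData.X1690
open Cfsg.Agent.Helper9.TC2

theorem f_570 : allRange 120270 211 (fun u => chkFin tab u) = true := by decide +kernel

theorem f_571 : allRange 120481 211 (fun u => chkFin tab u) = true := by decide +kernel

theorem f_572 : allRange 120692 211 (fun u => chkFin tab u) = true := by decide +kernel

theorem f_573 : allRange 120903 211 (fun u => chkFin tab u) = true := by decide +kernel

theorem f_574 : allRange 121114 211 (fun u => chkFin tab u) = true := by decide +kernel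

theorem f_575 : allRange 121325 211 (fun u => chkFin tab u) = true := by decide +kernel

theorem f_576 : allRange 121536 211 (fun u => chkFin tab u) = true := by decide +kernel

theorem f_577 : allRange 121747 211 (fun u => chkFin tab u) = true := by decide +kernel

theorem f_578 : allRange 121958 211 (fun u => chkFin tab u) = true := by decide +kernel

theorem f_579 : allRange 122169 211 (fun u => chkFin tab u) = true := by decide +kernel


end Cfsg.Agent.Helper9.TCData.X1690
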