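import Cfsg.Agent.Lib.Helper9.TCData.X1690.Main

set_option autoImplicit false
set_option maxRecDepth 1000000

namespace Cfsg.Agent.Helper9.TCData.X1690
open Cfsg.Agent.Helper9.TC2

theorem f_590 : allRange 124490 211 (fun u => chkFin tab u) = true := by decide +kernel

theorem f_591 : allRange 124701 211 (fun u => chkFin tab u) = true := by decide +kernel

theorem f_592 : allRange 124912 211 (fun u => chkFin tab u) = true := by decide +kernel

theorem f_593 : allRange 125123 211 (fun u => chkFin tab u) = true := by decide +kernel

theorem f_594 : allRange 125334 211 (fun u => chkFin tab u) = true := by decide +kernel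

theorem f_595 : allRange 125545 211 (fun u => chkFin tab u) = true := by decide +kernel

theorem f_596 : allRange 125756 211 (fun u => chkFin tab u) = true := by decide +kernel

theorem f_597 : allRange 125967 211 (fun u => chkFin tab u) = true := by decide +kernel

theorem f_598 : allRange 126178 211 (fun u => chkFin tab u) = true := by decide +kernel

theorem f_599 : allRange 126389 211 (fun u => chkFin tab u) = true := by decide +kernel


end Cfsg.Agent.Helper9.TCData.X1690
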