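import Cfsg.Agent.Lib.Helper9.TCData.X1690.Main

set_option autoImplicit false
set_option maxRecDepth 1000000

namespace Cfsg.Agent.Helper9.TCData.X1690
open Cfsg.Agent.Helper9.TC2

theorem f_600 : allRange 126600 211 (fun u => chkFin tab u) = true := by decide +kernel

theorem f_601 : allRange 126811 211 (fun u => chkFin tab u) = true := by decide +kernel

theorem f_602 : allRange 127022 211 (fun u => chkFin tab u) = true := by decide +kernel

theorem f_603 : allRange 127233 211 (fun u => chkFin tab u) = true := by decide +kernel

theorem f_604 : allRange 127444 211 (fun u => chkFin tab u) = true := by decide +kernel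

theorem f_605 : allRange 127655 211 (fun u => chkFin tab u) = true := by decide +kernel

theorem f_606 : allRange 127866 211 (fun u => chkFin tab u) = true := by decide +kernel

theorem f_607 : allRange 128077 211 (fun u => chkFin tab u) = true := by decide +kernel

theorem f_608 : allRange 128288 211 (fun u => chkFin tab u) = true := by decide +kernel

theorem f_609 : allRange 128499 211 (fun u => chkFin tab u) = true := by decide +kernel


end Cfsg.Agent.Helper9.TCData.X1690
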