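import Cfsg.Agent.Lib.Helper9.TCData.X1690.Main

set_option autoImplicit false
set_option maxRecDepth 1000000

namespace Cfsg.Agent.Helper9.TCData.X1690
open Cfsg.Agent.Helper9.TC2

theorem f_610 : allRange 128710 211 (fun u => chkFin tab u) = true := by decide +kernel

theorem f_611 : allRange 128921 211 (fun u => chkFin tab u) = true := by decide +kernel

theorem f_612 : allRange 129132 211 (fun u => chkFin tab u) = true := by decide +kernel

theorem f_613 : allRange 129343 211 (fun u => chkFin tab u) = true := by decide +kernel

theorem f_614 : allRange 129554 211 (fun u => chkFin tab u) = true := by decide +kernel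

theorem f_615 : allRange 129765 211 (fun u => chkFin tab u) = true := by decide +kernel

theorem f_616 : allRange 129976 211 (fun u => chkFin tab u) = true := by decide +kernel

theorem f_617 : allRange 130187 211 (fun u => chkFin tab u) = true := by decide +kernel

theorem f_618 : allRange 130398 211 (fun u => chkFin tab u) = true := by decide +kernel

theorem f_619 : allRange 130609 211 (fun u => chkFin tab u) = true := by decide +kernel


end Cfsg.Agent.Helper9.TCData.X1690
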