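import Cfsg.Agent.Lib.Helper9.TCData.X1690.Main

set_option autoImplicit false
set_option maxRecDepth 1000000

namespace Cfsg.Agent.Helper9.TCData.X1690
open Cfsg.Agent.Helper9.TC2

theorem f_620 : allRange 130820 211 (fun u => chkFin tab u) = true := by decide +kernel

theorem f_621 : allRange 131031 211 (fun u => chkFin tab u) = true := by decide +kernel

theorem f_622 : allRange 131242 211 (fun u => chkFin tab u) = true := by decide +kernel

theorem f_623 : allRange 131453 211 (fun u => chkFin tab u) = true := by decide +kernel

theorem f_624 : allRange 131664 211 (fun u => chkFin tab u) = true := by decide +kernel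

theorem f_625 : allRange 131875 211 (fun u => chkFin tab u) = true := by decide +kernel

theorem f_626 : allRange 132086 211 (fun u => chkFin tab u) = true := by decide +kernel

theorem f_627 : allRange 132297 211 (fun u => chkFin tab u) = true := by decide +kernel

theorem f_628 : allRange 132508 211 (fun u => chkFin tab u) = true := by decide +kernel

theorem f_629 : allRange 132719 211 (fun u => chkFin tab u) = true := by decide +kernel


end Cfsg.Agent.Helper9.TCData.X1690
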