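import Cfsg.Agent.Lib.Helper9.TCData.X1690.Main

set_option autoImplicit false
set_option maxRecDepth 1000000

namespace Cfsg.Agent.Helper9.TCData.X1690
open Cfsg.Agent.Helper9.TC2

theorem f_630 : allRange 132930 211 (fun u => chkFin tab u) = true := by decide +kernel

theorem f_631 : allRange 133141 211 (fun u => chkFin tab u) = true := by decide +kernel

theorem f_632 : allRange 133352 211 (fun u => chkFin tab u) = true := by decide +kernel

theorem f_633 : allRange 133563 211 (fun u => chkFin tab u) = true := by decide +kernel

theorem f_634 : allRange 133774 211 (fun u => chkFin tab u) = true := by decide +kernel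

theorem f_635 : allRange 133985 211 (fun u => chkFin tab u) = true := by decide +kernel

theorem f_636 : allRange 134196 211 (fun u => chkFin tab u) = true := by decide +kernel

theorem f_637 : allRange 134407 211 (fun u => chkFin tab u) = true := by decide +kernel

theorem f_638 : allRange 134618 211 (fun u => chkFin tab u) = true := by decide +kernel

theorem f_639 : allRange 134829 211 (fun u => chkFin tab u) = true := by decide +kernel


end Cfsg.Agent.Helper9.TCData.X1690
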