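import Cfsg.Agent.Lib.Helper9.TCData.X1690.Main

set_option autoImplicit false
set_option maxRecDepth 1000000

namespace Cfsg.Agent.Helper9.TCData.X1690
open Cfsg.Agent.Helper9.TC2

theorem f_640 : allRange 135040 211 (fun u => chkFin tab u) = true := by decide +kernel

theorem f_641 : allRange 135251 211 (fun u => chkFin tab u) = true := by decide +kernel

theorem f_642 : allRange 135462 211 (fun u => chkFin tab u) = true := by decide +kernel

theorem f_643 : allRange 135673 211 (fun u => chkFin tab u) = true := by decide +kernel

theorem f_644 : allRange 135884 211 (fun u => chkFin tab u) = true := by decide +kernel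

theorem f_645 : allRange 136095 211 (fun u => chkFin tab u) = true := by decide +kernel

theorem f_646 : allRange 136306 211 (fun u => chkFin tab u) = true := by decide +kernel

theorem f_647 : allRange 136517 211 (fun u => chkFin tab u) = true := by decide +kernel

theorem f_648 : allRange 136728 211 (fun u => chkFin tab u) = true := by decide +kernel

theorem f_649 : allRange 136939 211 (fun u => chkFin tab u) = true := by decide +kernel


end Cfsg.Agent.Helper9.TCData.X1690
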