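import Cfsg.Agent.Lib.Helper9.TCData.X1690.Main

set_option autoImplicit false
set_option maxRecDepth 1000000

namespace Cfsg.Agent.Helper9.TCData.X1690
open Cfsg.Agent.Helper9.TC2

theorem f_650 : allRange 137150 211 (fun u => chkFin tab u) = true := by decide +kernel

theorem f_651 : allRange 137361 211 (fun u => chkFin tab u) = true := by decide +kernel

theorem f_652 : allRange 137572 211 (fun u => chkFin tab u) = true := by decide +kernel

theorem f_653 : allRange 137783 211 (fun u => chkFin tab u) = true := by decide +kernel

theorem f_654 : allRange 137994 211 (fun u => chkFin tab u) = true := by decide +kernel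

theorem f_655 : allRange 138205 211 (fun u => chkFin tab u) = true := by decide +kernel

theorem f_656 : allRange 138416 211 (fun u => chkFin tab u) = true := by decide +kernel

theorem f_657 : allRange 138627 211 (fun u => chkFin tab u) = true := by decide +kernel

theorem f_658 : allRange 138838 211 (fun u => chkFin tab u) = true := by decide +kernel

theorem f_659 : allRange 139049 211 (fun u => chkFin tab u) = true := by decide +kernel


end Cfsg.Agent.Helper9.TCData.X1690
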