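import Cfsg.Agent.Lib.Helper9.TCData.X1690.Main

set_option autoImplicit false
set_option maxRecDepth 1000000

namespace Cfsg.Agent.Helper9.TCData.X1690
open Cfsg.Agent.Helper9.TC2

theorem e1_90 : allRange 202199 2424 (fun u => chkE tab 1 u) = true := by decide +kernel

theorem e1_91 : allRange 204623 1851 (fun u => chkE tab 1 u) = true := by decide +kernel

theorem e1_92 : allRange 206474 2060 (fun u => chkE tab 1 u) = true := by decide +kernel

theorem e1_93 : allRange 208534 2117 (fun u => chkE tab 1 u) = true := by decide +kernel

theorem e1_94 : allRange 210651 1891 (fun u => chkE tab 1 u) = true := by decide +kernel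

theorem e1_95 : allRange 212542 2796 (fun u => chkE tab 1 u) = true := by decide +kernel

theorem e1_96 : allRange 215338 2886 (fun u => chkE tab 1 u) = true := by decide +kernel

theorem e1_97 : allRange 218224 2414 (fun u => chkE tab 1 u) = true := by decide +kernel

theorem e1_98 : allRange 220638 2331 (fun u => chkE tab 1 u) = true := by decide +kernel

theorem e1_99 : allRange 222969 2312 (fun u => chkE tab 1 u) = true := by decide +kernel


end Cfsg.Agent.Helper9.TCData.X1690
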