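import Cfsg.Agent.Lib.Helper9.TCData.X1690.Main

set_option autoImplicit false
set_option maxRecDepth 1000000

namespace Cfsg.Agent.Helper9.TCData.X1690
open Cfsg.Agent.Helper9.TC2

theorem f_660 : allRange 139260 211 (fun u => chkFin tab u) = true := by decide +kernel

theorem f_661 : allRange 139471 211 (fun u => chkFin tab u) = true := by decide +kernel

theorem f_662 : allRange 139682 211 (fun u => chkFin tab u) = true := by decide +kernel

theorem f_663 : allRange 139893 211 (fun u => chkFin tab u) = true := by decide +kernel

theorem f_664 : allRange 140104 211 (fun u => chkFin tab u) = true := by decide +kernel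

theorem f_665 : allRange 140315 211 (fun u => chkFin tab u) = true := by decide +kernel

theorem f_666 : allRange 140526 211 (fun u => chkFin tab u) = true := by decide +kernel

theorem f_667 : allRange 140737 211 (fun u => chkFin tab u) = true := by decide +kernel

theorem f_668 : allRange 140948 211 (fun u => chkFin tab u) = true := by decide +kernel

theorem f_669 : allRange 141159 211 (fun u => chkFin tab u) = true := by decide +kernel


end Cfsg.Agent.Helper9.TCData.X1690
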