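import Cfsg.Agent.Lib.Helper9.TCData.X1690.Main

set_option autoImplicit false
set_option maxRecDepth 1000000

namespace Cfsg.Agent.Helper9.TCData.X1690
open Cfsg.Agent.Helper9.TC2

theorem f_670 : allRange 141370 211 (fun u => chkFin tab u) = true := by decide +kernel

theorem f_671 : allRange 141581 211 (fun u => chkFin tab u) = true := by decide +kernel

theorem f_672 : allRange 141792 211 (fun u => chkFin tab u) = true := by decide +kernel

theorem f_673 : allRange 142003 211 (fun u => chkFin tab u) = true := by decide +kernel

theorem f_674 : allRange 142214 211 (fun u => chkFin tab u) = true := by decide +kernel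

theorem f_675 : allRange 142425 211 (fun u => chkFin tab u) = true := by decide +kernel

theorem f_676 : allRange 142636 211 (fun u => chkFin tab u) = true := by decide +kernel

theorem f_677 : allRange 142847 211 (fun u => chkFin tab u) = true := by decide +kernel

theorem f_678 : allRange 143058 211 (fun u => chkFin tab u) = true := by decide +kernel

theorem f_679 : allRange 143269 211 (fun u => chkFin tab u) = true := by decide +kernel


end Cfsg.Agent.Helper9.TCData.X1690
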