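import Cfsg.Agent.Lib.Helper9.TCData.X1690.Main

set_option autoImplicit false
set_option maxRecDepth 1000000

namespace Cfsg.Agent.Helper9.TCData.X1690
open Cfsg.Agent.Helper9.TC2

theorem f_680 : allRange 143480 211 (fun u => chkFin tab u) = true := by decide +kernel

theorem f_681 : allRange 143691 211 (fun u => chkFin tab u) = true := by decide +kernel

theorem f_682 : allRange 143902 211 (fun u => chkFin tab u) = true := by decide +kernel

theorem f_683 : allRange 144113 211 (fun u => chkFin tab u) = true := by decide +kernel

theorem f_684 : allRange 144324 211 (fun u => chkFin tab u) = true := by decide +kernel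

theorem f_685 : allRange 144535 211 (fun u => chkFin tab u) = true := by decide +kernel

theorem f_686 : allRange 144746 211 (fun u => chkFin tab u) = true := by decide +kernel

theorem f_687 : allRange 144957 211 (fun u => chkFin tab u) = true := by decide +kernel

theorem f_688 : allRange 145168 211 (fun u => chkFin tab u) = true := by decide +kernel

theorem f_689 : allRange 145379 211 (fun u => chkFin tab u) = true := by decide +kernel


end Cfsg.Agent.Helper9.TCData.X1690
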