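import Cfsg.Agent.Lib.Helper9.TCData.X1690.Main

set_option autoImplicit false
set_option maxRecDepth 1000000

namespace Cfsg.Agent.Helper9.TCData.X1690
open Cfsg.Agent.Helper9.TC2

theorem f_690 : allRange 145590 211 (fun u => chkFin tab u) = true := by decide +kernel

theorem f_691 : allRange 145801 211 (fun u => chkFin tab u) = true := by decide +kernel

theorem f_692 : allRange 146012 211 (fun u => chkFin tab u) = true := by decide +kernel

theorem f_693 : allRange 146223 211 (fun u => chkFin tab u) = true := by decide +kernel

theorem f_694 : allRange 146434 211 (fun u => chkFin tab u) = true := by decide +kernel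

theorem f_695 : allRange 146645 211 (fun u => chkFin tab u) = true := by decide +kernel

theorem f_696 : allRange 146856 211 (fun u => chkFin tab u) = true := by decide +kernel

theorem f_697 : allRange 147067 211 (fun u => chkFin tab u) = true := by decide +kernel

theorem f_698 : allRange 147278 211 (fun u => chkFin tab u) = true := by decide +kernel

theorem f_699 : allRange 147489 211 (fun u => chkFin tab u) = true := by decide +kernel


end Cfsg.Agent.Helper9.TCData.X1690
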