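import Cfsg.Agent.Lib.Helper9.TCData.X1690.Main

set_option autoImplicit false
set_option maxRecDepth 1000000

namespace Cfsg.Agent.Helper9.TCData.X1690
open Cfsg.Agent.Helper9.TC2

theorem f_710 : allRange 149810 211 (fun u => chkFin tab u) = true := by decide +kernel

theorem f_711 : allRange 150021 211 (fun u => chkFin tab u) = true := by decide +kernel

theorem f_712 : allRange 150232 211 (fun u => chkFin tab u) = true := by decide +kernel

theorem f_713 : allRange 150443 211 (fun u => chkFin tab u) = true := by decide +kernel

theorem f_714 : allRange 150654 211 (fun u => chkFin tab u) = true := by decide +kernel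

theorem f_715 : allRange 150865 211 (fun u => chkFin tab u) = true := by decide +kernel

theorem f_716 : allRange 151076 211 (fun u => chkFin tab u) = true := by decide +kernel

theorem f_717 : allRange 151287 211 (fun u => chkFin tab u) = true := by decide +kernel

theorem f_718 : allRange 151498 211 (fun u => chkFin tab u) = true := by decide +kernel

theorem f_719 : allRange 151709 211 (fun u => chkFin tab u) = true := by decide +kernel


end Cfsg.Agent.Helper9.TCData.X1690
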