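import Cfsg.Agent.Lib.Helper9.TCData.X1690.Main

set_option autoImplicit false
set_option maxRecDepth 1000000

namespace Cfsg.Agent.Helper9.TCData.X1690
open Cfsg.Agent.Helper9.TC2

theorem f_730 : allRange 154030 211 (fun u => chkFin tab u) = true := by decide +kernel

theorem f_731 : allRange 154241 211 (fun u => chkFin tab u) = true := by decide +kernel

theorem f_732 : allRange 154452 211 (fun u => chkFin tab u) = true := by decide +kernel

theorem f_733 : allRange 154663 211 (fun u => chkFin tab u) = true := by decide +kernel

theorem f_734 : allRange 154874 211 (fun u => chkFin tab u) = true := by decide +kernel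

theorem f_735 : allRange 155085 211 (fun u => chkFin tab u) = true := by decide +kernel

theorem f_736 : allRange 155296 211 (fun u => chkFin tab u) = true := by decide +kernel

theorem f_737 : allRange 155507 211 (fun u => chkFin tab u) = true := by decide +kernel

theorem f_738 : allRange 155718 211 (fun u => chkFin tab u) = true := by decide +kernel

theorem f_739 : allRange 155929 211 (fun u => chkFin tab u) = true := by decide +kernel


end Cfsg.Agent.Helper9.TCData.X1690
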