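import Cfsg.Agent.Lib.Helper9.TCData.X1690.Main

set_option autoImplicit false
set_option maxRecDepth 1000000

namespace Cfsg.Agent.Helper9.TCData.X1690
open Cfsg.Agent.Helper9.TC2

theorem f_740 : allRange 156140 211 (fun u => chkFin tab u) = true := by decide +kernel

theorem f_741 : allRange 156351 211 (fun u => chkFin tab u) = true := by decide +kernel

theorem f_742 : allRange 156562 211 (fun u => chkFin tab u) = true := by decide +kernel

theorem f_743 : allRange 156773 211 (fun u => chkFin tab u) = true := by decide +kernel

theorem f_744 : allRange 156984 211 (fun u => chkFin tab u) = true := by decide +kernel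

theorem f_745 : allRange 157195 211 (fun u => chkFin tab u) = true := by decide +kernel

theorem f_746 : allRange 157406 211 (fun u => chkFin tab u) = true := by decide +kernel

theorem f_747 : allRange 157617 211 (fun u => chkFin tab u) = true := by decide +kernel

theorem f_748 : allRange 157828 211 (fun u => chkFin tab u) = true := by decide +kernel

theorem f_749 : allRange 158039 211 (fun u => chkFin tab u) = true := by decide +kernel


end Cfsg.Agent.Helper9.TCData.X1690
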