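import Cfsg.Agent.Lib.Helper9.TCData.X1690.Main

set_option autoImplicit false
set_option maxRecDepth 1000000

namespace Cfsg.Agent.Helper9.TCData.X1690
open Cfsg.Agent.Helper9.TC2

theorem e1_100 : allRange 225281 1935 (fun u => chkE tab 1 u) = true := by decide +kernel

theorem e1_101 : allRange 227216 2084 (fun u => chkE tab 1 u) = true := by decide +kernel

theorem e1_102 : allRange 229300 2150 (fun u => chkE tab 1 u) = true := by decide +kernel

theorem e1_103 : allRange 231450 1937 (fun u => chkE tab 1 u) = true := by decide +kernel

theorem e1_104 : allRange 233387 1962 (fun u => chkE tab 1 u) = true := by decide +kernel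

theorem e1_105 : allRange 235349 3404 (fun u => chkE tab 1 u) = true := by decide +kernel

theorem e1_106 : allRange 238753 2704 (fun u => chkE tab 1 u) = true := by decide +kernel

theorem e1_107 : allRange 241457 2305 (fun u => chkE tab 1 u) = true := by decide +kernel

theorem e1_108 : allRange 243762 2653 (fun u => chkE tab 1 u) = true := by decide +kernel

theorem e1_109 : allRange 246415 1934 (fun u => chkE tab 1 u) = true := by decide +kernel


end Cfsg.Agent.Helper9.TCData.X1690
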