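import Cfsg.Agent.Lib.Helper9.TCData.X1690.Main

set_option autoImplicit false
set_option maxRecDepth 1000000

namespace Cfsg.Agent.Helper9.TCData.X1690
open Cfsg.Agent.Helper9.TC2

theorem f_760 : allRange 160360 211 (fun u => chkFin tab u) = true := by decide +kernel

theorem f_761 : allRange 160571 211 (fun u => chkFin tab u) = true := by decide +kernel

theorem f_762 : allRange 160782 211 (fun u => chkFin tab u) = true := by decide +kernel

theorem f_763 : allRange 160993 211 (fun u => chkFin tab u) = true := by decide +kernel

theorem f_764 : allRange 161204 211 (fun u => chkFin tab u) = true := by decide +kernel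

theorem f_765 : allRange 161415 211 (fun u => chkFin tab u) = true := by decide +kernel

theorem f_766 : allRange 161626 211 (fun u => chkFin tab u) = true := by decide +kernel

theorem f_767 : allRange 161837 211 (fun u => chkFin tab u) = true := by decide +kernel

theorem f_768 : allRange 162048 211 (fun u => chkFin tab u) = true := by decide +kernel

theorem f_769 : allRange 162259 211 (fun u => chkFin tab u) = true := by decide +kernel


end Cfsg.Agent.Helper9.TCData.X1690
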