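import Cfsg.Agent.Lib.Helper9.TCData.X1690.Main

set_option autoImplicit false
set_option maxRecDepth 1000000

namespace Cfsg.Agent.Helper9.TCData.X1690
open Cfsg.Agent.Helper9.TC2

theorem f_770 : allRange 162470 211 (fun u => chkFin tab u) = true := by decide +kernel

theorem f_771 : allRange 162681 211 (fun u => chkFin tab u) = true := by decide +kernel

theorem f_772 : allRange 162892 211 (fun u => chkFin tab u) = true := by decide +kernel

theorem f_773 : allRange 163103 211 (fun u => chkFin tab u) = true := by decide +kernel

theorem f_774 : allRange 163314 211 (fun u => chkFin tab u) = true := by decide +kernel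

theorem f_775 : allRange 163525 211 (fun u => chkFin tab u) = true := by decide +kernel

theorem f_776 : allRange 163736 211 (fun u => chkFin tab u) = true := by decide +kernel

theorem f_777 : allRange 163947 211 (fun u => chkFin tab u) = true := by decide +kernel

theorem f_778 : allRange 164158 211 (fun u => chkFin tab u) = true := by decide +kernel

theorem f_779 : allRange 164369 211 (fun u => chkFin tab u) = true := by decide +kernel


end Cfsg.Agent.Helper9.TCData.X1690
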