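import Cfsg.Agent.Lib.Helper9.TCData.X1690.Main

set_option autoImplicit false
set_option maxRecDepth 1000000

namespace Cfsg.Agent.Helper9.TCData.X1690
open Cfsg.Agent.Helper9.TC2

theorem f_780 : allRange 164580 211 (fun u => chkFin tab u) = true := by decide +kernel

theorem f_781 : allRange 164791 211 (fun u => chkFin tab u) = true := by decide +kernel

theorem f_782 : allRange 165002 211 (fun u => chkFin tab u) = true := by decide +kernel

theorem f_783 : allRange 165213 211 (fun u => chkFin tab u) = true := by decide +kernel

theorem f_784 : allRange 165424 211 (fun u => chkFin tab u) = true := by decide +kernel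

theorem f_785 : allRange 165635 211 (fun u => chkFin tab u) = true := by decide +kernel

theorem f_786 : allRange 165846 211 (fun u => chkFin tab u) = true := by decide +kernel

theorem f_787 : allRange 166057 211 (fun u => chkFin tab u) = true := by decide +kernel

theorem f_788 : allRange 166268 211 (fun u => chkFin tab u) = true := by decide +kernel

theorem f_789 : allRange 166479 211 (fun u => chkFin tab u) = true := by decide +kernel


end Cfsg.Agent.Helper9.TCData.X1690
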