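import Cfsg.Agent.Lib.Helper9.TCData.X1690.Main

set_option autoImplicit false
set_option maxRecDepth 1000000

namespace Cfsg.Agent.Helper9.TCData.X1690
open Cfsg.Agent.Helper9.TC2

theorem f_790 : allRange 166690 211 (fun u => chkFin tab u) = true := by decide +kernel

theorem f_791 : allRange 166901 211 (fun u => chkFin tab u) = true := by decide +kernel

theorem f_792 : allRange 167112 211 (fun u => chkFin tab u) = true := by decide +kernel

theorem f_793 : allRange 167323 211 (fun u => chkFin tab u) = true := by decide +kernel

theorem f_794 : allRange 167534 211 (fun u => chkFin tab u) = true := by decide +kernel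

theorem f_795 : allRange 167745 211 (fun u => chkFin tab u) = true := by decide +kernel

theorem f_796 : allRange 167956 211 (fun u => chkFin tab u) = true := by decide +kernel

theorem f_797 : allRange 168167 211 (fun u => chkFin tab u) = true := by decide +kernel

theorem f_798 : allRange 168378 211 (fun u => chkFin tab u) = true := by decide +kernel

theorem f_799 : allRange 168589 211 (fun u => chkFin tab u) = true := by decide +kernel


end Cfsg.Agent.Helper9.TCData.X1690
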