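import Cfsg.Agent.Lib.Helper9.TCData.X1690.Main

set_option autoImplicit false
set_option maxRecDepth 1000000

namespace Cfsg.Agent.Helper9.TCData.X1690
open Cfsg.Agent.Helper9.TC2

theorem f_800 : allRange 168800 211 (fun u => chkFin tab u) = true := by decide +kernel

theorem f_801 : allRange 169011 211 (fun u => chkFin tab u) = true := by decide +kernel

theorem f_802 : allRange 169222 211 (fun u => chkFin tab u) = true := by decide +kernel

theorem f_803 : allRange 169433 211 (fun u => chkFin tab u) = true := by decide +kernel

theorem f_804 : allRange 169644 211 (fun u => chkFin tab u) = true := by decide +kernel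

theorem f_805 : allRange 169855 211 (fun u => chkFin tab u) = true := by decide +kernel

theorem f_806 : allRange 170066 211 (fun u => chkFin tab u) = true := by decide +kernel

theorem f_807 : allRange 170277 211 (fun u => chkFin tab u) = true := by decide +kernel

theorem f_808 : allRange 170488 211 (fun u => chkFin tab u) = true := by decide +kernel

theorem f_809 : allRange 170699 211 (fun u => chkFin tab u) = true := by decide +kernel


end Cfsg.Agent.Helper9.TCData.X1690
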