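import Cfsg.Agent.Lib.Helper9.TCData.X1690.Main

set_option autoImplicit false
set_option maxRecDepth 1000000

namespace Cfsg.Agent.Helper9.TCData.X1690
open Cfsg.Agent.Helper9.TC2

theorem f_810 : allRange 170910 211 (fun u => chkFin tab u) = true := by decide +kernel

theorem f_811 : allRange 171121 211 (fun u => chkFin tab u) = true := by decide +kernel

theorem f_812 : allRange 171332 211 (fun u => chkFin tab u) = true := by decide +kernel

theorem f_813 : allRange 171543 211 (fun u => chkFin tab u) = true := by decide +kernel

theorem f_814 : allRange 171754 211 (fun u => chkFin tab u) = true := by decide +kernel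

theorem f_815 : allRange 171965 211 (fun u => chkFin tab u) = true := by decide +kernel

theorem f_816 : allRange 172176 211 (fun u => chkFin tab u) = true := by decide +kernel

theorem f_817 : allRange 172387 211 (fun u => chkFin tab u) = true := by decide +kernel

theorem f_818 : allRange 172598 211 (fun u => chkFin tab u) = true := by decide +kernel

theorem f_819 : allRange 172809 211 (fun u => chkFin tab u) = true := by decide +kernel


end Cfsg.Agent.Helper9.TCData.X1690
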