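import Cfsg.Agent.Lib.Helper9.TCData.X1690.Main

set_option autoImplicit false
set_option maxRecDepth 1000000

namespace Cfsg.Agent.Helper9.TCData.X1690
open Cfsg.Agent.Helper9.TC2

theorem f_830 : allRange 175130 211 (fun u => chkFin tab u) = true := by decide +kernel

theorem f_831 : allRange 175341 211 (fun u => chkFin tab u) = true := by decide +kernel

theorem f_832 : allRange 175552 211 (fun u => chkFin tab u) = true := by decide +kernel

theorem f_833 : allRange 175763 211 (fun u => chkFin tab u) = true := by decide +kernel

theorem f_834 : allRange 175974 211 (fun u => chkFin tab u) = true := by decide +kernel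

theorem f_835 : allRange 176185 211 (fun u => chkFin tab u) = true := by decide +kernel

theorem f_836 : allRange 176396 211 (fun u => chkFin tab u) = true := by decide +kernel

theorem f_837 : allRange 176607 211 (fun u => chkFin tab u) = true := by decide +kernel

theorem f_838 : allRange 176818 211 (fun u => chkFin tab u) = true := by decide +kernel

theorem f_839 : allRange 177029 211 (fun u => chkFin tab u) = true := by decide +kernel


end Cfsg.Agent.Helper9.TCData.X1690
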