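import Cfsg.Agent.Lib.Helper9.TCData.X1690.Main

set_option autoImplicit false
set_option maxRecDepth 1000000

namespace Cfsg.Agent.Helper9.TCData.X1690
open Cfsg.Agent.Helper9.TC2

theorem f_840 : allRange 177240 211 (fun u => chkFin tab u) = true := by decide +kernel

theorem f_841 : allRange 177451 211 (fun u => chkFin tab u) = true := by decide +kernel

theorem f_842 : allRange 177662 211 (fun u => chkFin tab u) = true := by decide +kernel

theorem f_843 : allRange 177873 211 (fun u => chkFin tab u) = true := by decide +kernel

theorem f_844 : allRange 178084 211 (fun u => chkFin tab u) = true := by decide +kernel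

theorem f_845 : allRange 178295 211 (fun u => chkFin tab u) = true := by decide +kernel

theorem f_846 : allRange 178506 211 (fun u => chkFin tab u) = true := by decide +kernel

theorem f_847 : allRange 178717 211 (fun u => chkFin tab u) = true := by decide +kernel

theorem f_848 : allRange 178928 211 (fun u => chkFin tab u) = true := by decide +kernel

theorem f_849 : allRange 179139 211 (fun u => chkFin tab u) = true := by decide +kernel


end Cfsg.Agent.Helper9.TCData.X1690
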