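import Cfsg.Agent.Lib.Helper9.TCData.X1690.Main

set_option autoImplicit false
set_option maxRecDepth 1000000

namespace Cfsg.Agent.Helper9.TCData.X1690
open Cfsg.Agent.Helper9.TC2

theorem f_850 : allRange 179350 211 (fun u => chkFin tab u) = true := by decide +kernel

theorem f_851 : allRange 179561 211 (fun u => chkFin tab u) = true := by decide +kernel

theorem f_852 : allRange 179772 211 (fun u => chkFin tab u) = true := by decide +kernel

theorem f_853 : allRange 179983 211 (fun u => chkFin tab u) = true := by decide +kernel

theorem f_854 : allRange 180194 211 (fun u => chkFin tab u) = true := by decide +kernel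

theorem f_855 : allRange 180405 211 (fun u => chkFin tab u) = true := by decide +kernel

theorem f_856 : allRange 180616 211 (fun u => chkFin tab u) = true := by decide +kernel

theorem f_857 : allRange 180827 211 (fun u => chkFin tab u) = true := by decide +kernel

theorem f_858 : allRange 181038 211 (fun u => chkFin tab u) = true := by decide +kernel

theorem f_859 : allRange 181249 211 (fun u => chkFin tab u) = true := by decide +kernel


end Cfsg.Agent.Helper9.TCData.X1690
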