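import Cfsg.Agent.Lib.Helper9.TCData.X1690.Main

set_option autoImplicit false
set_option maxRecDepth 1000000

namespace Cfsg.Agent.Helper9.TCData.X1690
open Cfsg.Agent.Helper9.TC2

theorem e1_110 : allRange 248349 1915 (fun u => chkE tab 1 u) = true := by decide +kernel

theorem e1_111 : allRange 250264 2383 (fun u => chkE tab 1 u) = true := by decide +kernel

theorem e1_112 : allRange 252647 2033 (fun u => chkE tab 1 u) = true := by decide +kernel

theorem e1_113 : allRange 254680 1802 (fun u => chkE tab 1 u) = true := by decide +kernel

theorem e1_114 : allRange 256482 1969 (fun u => chkE tab 1 u) = true := by decide +kernel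

theorem e1_115 : allRange 258451 3621 (fun u => chkE tab 1 u) = true := by decide +kernel

theorem e1_116 : allRange 262072 2655 (fun u => chkE tab 1 u) = true := by decide +kernel

theorem e1_117 : allRange 264727 2350 (fun u => chkE tab 1 u) = true := by decide +kernel

theorem e1_118 : allRange 267077 2724 (fun u => chkE tab 1 u) = true := by decide +kernel

theorem e1_119 : allRange 269801 1950 (fun u => chkE tab 1 u) = true := by decide +kernel


end Cfsg.Agent.Helper9.TCData.X1690
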