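import Cfsg.Agent.Lib.Helper9.TCData.X1690.Main

set_option autoImplicit false
set_option maxRecDepth 1000000

namespace Cfsg.Agent.Helper9.TCData.X1690
open Cfsg.Agent.Helper9.TC2

theorem f_860 : allRange 181460 211 (fun u => chkFin tab u) = true := by decide +kernel

theorem f_861 : allRange 181671 211 (fun u => chkFin tab u) = true := by decide +kernel

theorem f_862 : allRange 181882 211 (fun u => chkFin tab u) = true := by decide +kernel

theorem f_863 : allRange 182093 211 (fun u => chkFin tab u) = true := by decide +kernel

theorem f_864 : allRange 182304 211 (fun u => chkFin tab u) = true := by decide +kernel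

theorem f_865 : allRange 182515 211 (fun u => chkFin tab u) = true := by decide +kernel

theorem f_866 : allRange 182726 211 (fun u => chkFin tab u) = true := by decide +kernel

theorem f_867 : allRange 182937 211 (fun u => chkFin tab u) = true := by decide +kernel

theorem f_868 : allRange 183148 211 (fun u => chkFin tab u) = true := by decide +kernel

theorem f_869 : allRange 183359 211 (fun u => chkFin tab u) = true := by decide +kernel


end Cfsg.Agent.Helper9.TCData.X1690
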