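import Cfsg.Agent.Lib.Helper9.TCData.X1690.Main

set_option autoImplicit false
set_option maxRecDepth 1000000

namespace Cfsg.Agent.Helper9.TCData.X1690
open Cfsg.Agent.Helper9.TC2

theorem f_870 : allRange 183570 211 (fun u => chkFin tab u) = true := by decide +kernel

theorem f_871 : allRange 183781 211 (fun u => chkFin tab u) = true := by decide +kernel

theorem f_872 : allRange 183992 211 (fun u => chkFin tab u) = true := by decide +kernel

theorem f_873 : allRange 184203 211 (fun u => chkFin tab u) = true := by decide +kernel

theorem f_874 : allRange 184414 211 (fun u => chkFin tab u) = true := by decide +kernel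

theorem f_875 : allRange 184625 211 (fun u => chkFin tab u) = true := by decide +kernel

theorem f_876 : allRange 184836 211 (fun u => chkFin tab u) = true := by decide +kernel

theorem f_877 : allRange 185047 211 (fun u => chkFin tab u) = true := by decide +kernel

theorem f_878 : allRange 185258 211 (fun u => chkFin tab u) = true := by decide +kernel

theorem f_879 : allRange 185469 211 (fun u => chkFin tab u) = true := by decide +kernel


end Cfsg.Agent.Helper9.TCData.X1690
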