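import Cfsg.Agent.Lib.Helper9.TCData.X1690.Main

set_option autoImplicit false
set_option maxRecDepth 1000000

namespace Cfsg.Agent.Helper9.TCData.X1690
open Cfsg.Agent.Helper9.TC2

theorem f_880 : allRange 185680 211 (fun u => chkFin tab u) = true := by decide +kernel

theorem f_881 : allRange 185891 211 (fun u => chkFin tab u) = true := by decide +kernel

theorem f_882 : allRange 186102 211 (fun u => chkFin tab u) = true := by decide +kernel

theorem f_883 : allRange 186313 211 (fun u => chkFin tab u) = true := by decide +kernel

theorem f_884 : allRange 186524 211 (fun u => chkFin tab u) = true := by decide +kernel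

theorem f_885 : allRange 186735 211 (fun u => chkFin tab u) = true := by decide +kernel

theorem f_886 : allRange 186946 211 (fun u => chkFin tab u) = true := by decide +kernel

theorem f_887 : allRange 187157 211 (fun u => chkFin tab u) = true := by decide +kernel

theorem f_888 : allRange 187368 211 (fun u => chkFin tab u) = true := by decide +kernel

theorem f_889 : allRange 187579 211 (fun u => chkFin tab u) = true := by decide +kernel


end Cfsg.Agent.Helper9.TCData.X1690
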