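import Cfsg.Agent.Lib.Helper9.TCData.X1690.Main

set_option autoImplicit false
set_option maxRecDepth 1000000

namespace Cfsg.Agent.Helper9.TCData.X1690
open Cfsg.Agent.Helper9.TC2

theorem f_890 : allRange 187790 211 (fun u => chkFin tab u) = true := by decide +kernel

theorem f_891 : allRange 188001 211 (fun u => chkFin tab u) = true := by decide +kernel

theorem f_892 : allRange 188212 211 (fun u => chkFin tab u) = true := by decide +kernel

theorem f_893 : allRange 188423 211 (fun u => chkFin tab u) = true := by decide +kernel

theorem f_894 : allRange 188634 211 (fun u => chkFin tab u) = true := by decide +kernel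

theorem f_895 : allRange 188845 211 (fun u => chkFin tab u) = true := by decide +kernel

theorem f_896 : allRange 189056 211 (fun u => chkFin tab u) = true := by decide +kernel

theorem f_897 : allRange 189267 211 (fun u => chkFin tab u) = true := by decide +kernel

theorem f_898 : allRange 189478 211 (fun u => chkFin tab u) = true := by decide +kernel

theorem f_899 : allRange 189689 211 (fun u => chkFin tab u) = true := by decide +kernel


end Cfsg.Agent.Helper9.TCData.X1690
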