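import Cfsg.Agent.Lib.Helper9.TCData.X1690.Main

set_option autoImplicit false
set_option maxRecDepth 1000000

namespace Cfsg.Agent.Helper9.TCData.X1690
open Cfsg.Agent.Helper9.TC2

theorem f_900 : allRange 189900 211 (fun u => chkFin tab u) = true := by decide +kernel

theorem f_901 : allRange 190111 211 (fun u => chkFin tab u) = true := by decide +kernel

theorem f_902 : allRange 190322 211 (fun u => chkFin tab u) = true := by decide +kernel

theorem f_903 : allRange 190533 211 (fun u => chkFin tab u) = true := by decide +kernel

theorem f_904 : allRange 190744 211 (fun u => chkFin tab u) = true := by decide +kernel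

theorem f_905 : allRange 190955 211 (fun u => chkFin tab u) = true := by decide +kernel

theorem f_906 : allRange 191166 211 (fun u => chkFin tab u) = true := by decide +kernel

theorem f_907 : allRange 191377 211 (fun u => chkFin tab u) = true := by decide +kernel

theorem f_908 : allRange 191588 211 (fun u => chkFin tab u) = true := by decide +kernel

theorem f_909 : allRange 191799 211 (fun u => chkFin tab u) = true := by decide +kernel


end Cfsg.Agent.Helper9.TCData.X1690
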