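import Cfsg.Agent.Lib.Helper9.TCData.X1690.Main

set_option autoImplicit false
set_option maxRecDepth 1000000

namespace Cfsg.Agent.Helper9.TCData.X1690
open Cfsg.Agent.Helper9.TC2

theorem f_910 : allRange 192010 211 (fun u => chkFin tab u) = true := by decide +kernel

theorem f_911 : allRange 192221 211 (fun u => chkFin tab u) = true := by decide +kernel

theorem f_912 : allRange 192432 211 (fun u => chkFin tab u) = true := by decide +kernel

theorem f_913 : allRange 192643 211 (fun u => chkFin tab u) = true := by decide +kernel

theorem f_914 : allRange 192854 211 (fun u => chkFin tab u) = true := by decide +kernel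

theorem f_915 : allRange 193065 211 (fun u => chkFin tab u) = true := by decide +kernel

theorem f_916 : allRange 193276 211 (fun u => chkFin tab u) = true := by decide +kernel

theorem f_917 : allRange 193487 211 (fun u => chkFin tab u) = true := by decide +kernel

theorem f_918 : allRange 193698 211 (fun u => chkFin tab u) = true := by decide +kernel

theorem f_919 : allRange 193909 211 (fun u => chkFin tab u) = true := by decide +kernel


end Cfsg.Agent.Helper9.TCData.X1690
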