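import Cfsg.Agent.Lib.Helper9.TCData.X1690.Main

set_option autoImplicit false
set_option maxRecDepth 1000000

namespace Cfsg.Agent.Helper9.TCData.X1690
open Cfsg.Agent.Helper9.TC2

theorem f_920 : allRange 194120 211 (fun u => chkFin tab u) = true := by decide +kernel

theorem f_921 : allRange 194331 211 (fun u => chkFin tab u) = true := by decide +kernel

theorem f_922 : allRange 194542 211 (fun u => chkFin tab u) = true := by decide +kernel

theorem f_923 : allRange 194753 211 (fun u => chkFin tab u) = true := by decide +kernel

theorem f_924 : allRange 194964 211 (fun u => chkFin tab u) = true := by decide +kernel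

theorem f_925 : allRange 195175 211 (fun u => chkFin tab u) = true := by decide +kernel

theorem f_926 : allRange 195386 211 (fun u => chkFin tab u) = true := by decide +kernel

theorem f_927 : allRange 195597 211 (fun u => chkFin tab u) = true := by decide +kernel

theorem f_928 : allRange 195808 211 (fun u => chkFin tab u) = true := by decide +kernel

theorem f_929 : allRange 196019 211 (fun u => chkFin tab u) = true := by decide +kernel


end Cfsg.Agent.Helper9.TCData.X1690
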