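import Cfsg.Agent.Lib.Helper9.TCData.X1690.Main

set_option autoImplicit false
set_option maxRecDepth 1000000

namespace Cfsg.Agent.Helper9.TCData.X1690
open Cfsg.Agent.Helper9.TC2

theorem f_930 : allRange 196230 211 (fun u => chkFin tab u) = true := by decide +kernel

theorem f_931 : allRange 196441 211 (fun u => chkFin tab u) = true := by decide +kernel

theorem f_932 : allRange 196652 211 (fun u => chkFin tab u) = true := by decide +kernel

theorem f_933 : allRange 196863 211 (fun u => chkFin tab u) = true := by decide +kernel

theorem f_934 : allRange 197074 211 (fun u => chkFin tab u) = true := by decide +kernel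

theorem f_935 : allRange 197285 211 (fun u => chkFin tab u) = true := by decide +kernel

theorem f_936 : allRange 197496 211 (fun u => chkFin tab u) = true := by decide +kernel

theorem f_937 : allRange 197707 211 (fun u => chkFin tab u) = true := by decide +kernel

theorem f_938 : allRange 197918 211 (fun u => chkFin tab u) = true := by decide +kernel

theorem f_939 : allRange 198129 211 (fun u => chkFin tab u) = true := by decide +kernel


end Cfsg.Agent.Helper9.TCData.X1690
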