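import Cfsg.Agent.Lib.Helper9.TCData.X1690.Main

set_option autoImplicit false
set_option maxRecDepth 1000000

namespace Cfsg.Agent.Helper9.TCData.X1690
open Cfsg.Agent.Helper9.TC2

theorem f_950 : allRange 200450 211 (fun u => chkFin tab u) = true := by decide +kernel

theorem f_951 : allRange 200661 211 (fun u => chkFin tab u) = true := by decide +kernel

theorem f_952 : allRange 200872 211 (fun u => chkFin tab u) = true := by decide +kernel

theorem f_953 : allRange 201083 211 (fun u => chkFin tab u) = true := by decide +kernel

theorem f_954 : allRange 201294 211 (fun u => chkFin tab u) = true := by decide +kernel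

theorem f_955 : allRange 201505 211 (fun u => chkFin tab u) = true := by decide +kernel

theorem f_956 : allRange 201716 211 (fun u => chkFin tab u) = true := by decide +kernel

theorem f_957 : allRange 201927 211 (fun u => chkFin tab u) = true := by decide +kernel

theorem f_958 : allRange 202138 211 (fun u => chkFin tab u) = true := by decide +kernel

theorem f_959 : allRange 202349 211 (fun u => chkFin tab u) = true := by decide +kernel


end Cfsg.Agent.Helper9.TCData.X1690
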