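import Cfsg.Agent.Lib.Helper9.TCData.X1690.Main

set_option autoImplicit false
set_option maxRecDepth 1000000

namespace Cfsg.Agent.Helper9.TCData.X1690
open Cfsg.Agent.Helper9.TC2

theorem e1_120 : allRange 271751 1842 (fun u => chkE tab 1 u) = true := by decide +kernel

theorem e1_121 : allRange 273593 2300 (fun u => chkE tab 1 u) = true := by decide +kernel

theorem e1_122 : allRange 275893 2211 (fun u => chkE tab 1 u) = true := by decide +kernel

theorem e1_123 : allRange 278104 2023 (fun u => chkE tab 1 u) = true := by decide +kernel

theorem e1_124 : allRange 280127 1796 (fun u => chkE tab 1 u) = true := by decide +kernel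

theorem e1_125 : allRange 281923 3321 (fun u => chkE tab 1 u) = true := by decide +kernel

theorem e1_126 : allRange 285244 2858 (fun u => chkE tab 1 u) = true := by decide +kernel

theorem e1_127 : allRange 288102 2498 (fun u => chkE tab 1 u) = true := by decide +kernel

theorem e1_128 : allRange 290600 2539 (fun u => chkE tab 1 u) = true := by decide +kernel

theorem e1_129 : allRange 293139 2380 (fun u => chkE tab 1 u) = true := by decide +kernel


end Cfsg.Agent.Helper9.TCData.X1690
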