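import Cfsg.Agent.Lib.Helper9.TCData.X1690.Main

set_option autoImplicit false
set_option maxRecDepth 1000000

namespace Cfsg.Agent.Helper9.TCData.X1690
open Cfsg.Agent.Helper9.TC2

theorem f_960 : allRange 202560 211 (fun u => chkFin tab u) = true := by decide +kernel

theorem f_961 : allRange 202771 211 (fun u => chkFin tab u) = true := by decide +kernel

theorem f_962 : allRange 202982 211 (fun u => chkFin tab u) = true := by decide +kernel

theorem f_963 : allRange 203193 211 (fun u => chkFin tab u) = true := by decide +kernel

theorem f_964 : allRange 203404 211 (fun u => chkFin tab u) = true := by decide +kernel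

theorem f_965 : allRange 203615 211 (fun u => chkFin tab u) = true := by decide +kernel

theorem f_966 : allRange 203826 211 (fun u => chkFin tab u) = true := by decide +kernel

theorem f_967 : allRange 204037 211 (fun u => chkFin tab u) = true := by decide +kernel

theorem f_968 : allRange 204248 211 (fun u => chkFin tab u) = true := by decide +kernel

theorem f_969 : allRange 204459 211 (fun u => chkFin tab u) = true := by decide +kernel


end Cfsg.Agent.Helper9.TCData.X1690
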