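import Cfsg.Agent.Lib.Helper9.TCData.X1690.Main

set_option autoImplicit false
set_option maxRecDepth 1000000

namespace Cfsg.Agent.Helper9.TCData.X1690
open Cfsg.Agent.Helper9.TC2

theorem f_970 : allRange 204670 211 (fun u => chkFin tab u) = true := by decide +kernel

theorem f_971 : allRange 204881 211 (fun u => chkFin tab u) = true := by decide +kernel

theorem f_972 : allRange 205092 211 (fun u => chkFin tab u) = true := by decide +kernel

theorem f_973 : allRange 205303 211 (fun u => chkFin tab u) = true := by decide +kernel

theorem f_974 : allRange 205514 211 (fun u => chkFin tab u) = true := by decide +kernel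

theorem f_975 : allRange 205725 211 (fun u => chkFin tab u) = true := by decide +kernel

theorem f_976 : allRange 205936 211 (fun u => chkFin tab u) = true := by decide +kernel

theorem f_977 : allRange 206147 211 (fun u => chkFin tab u) = true := by decide +kernel

theorem f_978 : allRange 206358 211 (fun u => chkFin tab u) = true := by decide +kernel

theorem f_979 : allRange 206569 211 (fun u => chkFin tab u) = true := by decide +kernel


end Cfsg.Agent.Helper9.TCData.X1690
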