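import Cfsg.Agent.Lib.Helper9.TCData.X1690.Main

set_option autoImplicit false
set_option maxRecDepth 1000000

namespace Cfsg.Agent.Helper9.TCData.X1690
open Cfsg.Agent.Helper9.TC2

theorem f_980 : allRange 206780 211 (fun u => chkFin tab u) = true := by decide +kernel

theorem f_981 : allRange 206991 211 (fun u => chkFin tab u) = true := by decide +kernel

theorem f_982 : allRange 207202 211 (fun u => chkFin tab u) = true := by decide +kernel

theorem f_983 : allRange 207413 211 (fun u => chkFin tab u) = true := by decide +kernel

theorem f_984 : allRange 207624 211 (fun u => chkFin tab u) = true := by decide +kernel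

theorem f_985 : allRange 207835 211 (fun u => chkFin tab u) = true := by decide +kernel

theorem f_986 : allRange 208046 211 (fun u => chkFin tab u) = true := by decide +kernel

theorem f_987 : allRange 208257 211 (fun u => chkFin tab u) = true := by decide +kernel

theorem f_988 : allRange 208468 211 (fun u => chkFin tab u) = true := by decide +kernel

theorem f_989 : allRange 208679 211 (fun u => chkFin tab u) = true := by decide +kernel


end Cfsg.Agent.Helper9.TCData.X1690
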