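import Cfsg.Agent.Lib.Helper9.TCData.X1690.Main

set_option autoImplicit false
set_option maxRecDepth 1000000

namespace Cfsg.Agent.Helper9.TCData.X1690
open Cfsg.Agent.Helper9.TC2

theorem f_990 : allRange 208890 211 (fun u => chkFin tab u) = true := by decide +kernel

theorem f_991 : allRange 209101 211 (fun u => chkFin tab u) = true := by decide +kernel

theorem f_992 : allRange 209312 211 (fun u => chkFin tab u) = true := by decide +kernel

theorem f_993 : allRange 209523 211 (fun u => chkFin tab u) = true := by decide +kernel

theorem f_994 : allRange 209734 211 (fun u => chkFin tab u) = true := by decide +kernel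

theorem f_995 : allRange 209945 211 (fun u => chkFin tab u) = true := by decide +kernel

theorem f_996 : allRange 210156 211 (fun u => chkFin tab u) = true := by decide +kernel

theorem f_997 : allRange 210367 211 (fun u => chkFin tab u) = true := by decide +kernel

theorem f_998 : allRange 210578 211 (fun u => chkFin tab u) = true := by decide +kernel

theorem f_999 : allRange 210789 211 (fun u => chkFin tab u) = true := by decide +kernel


end Cfsg.Agent.Helper9.TCData.X1690
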