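import Cfsg.Agent.Lib.Helper9.TCData.X1690.Main

set_option autoImplicit false
set_option maxRecDepth 1000000

namespace Cfsg.Agent.Helper9.TCData.X1690
open Cfsg.Agent.Helper9.TC2

theorem f_1000 : allRange 211000 211 (fun u => chkFin tab u) = true := by decide +kernel

theorem f_1001 : allRange 211211 211 (fun u => chkFin tab u) = true := by decide +kernel

theorem f_1002 : allRange 211422 211 (fun u => chkFin tab u) = true := by decide +kernel

theorem f_1003 : allRange 211633 211 (fun u => chkFin tab u) = true := by decide +kernel

theorem f_1004 : allRange 211844 211 (fun u => chkFin tab u) = true := by decide +kernel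

theorem f_1005 : allRange 212055 211 (fun u => chkFin tab u) = true := by decide +kernel

theorem f_1006 : allRange 212266 211 (fun u => chkFin tab u) = true := by decide +kernel

theorem f_1007 : allRange 212477 211 (fun u => chkFin tab u) = true := by decide +kernel

theorem f_1008 : allRange 212688 211 (fun u => chkFin tab u) = true := by decide +kernel

theorem f_1009 : allRange 212899 211 (fun u => chkFin tab u) = true := by decide +kernel


end Cfsg.Agent.Helper9.TCData.X1690
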