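import Cfsg.Agent.Lib.Helper9.TCData.X1690.Main

set_option autoImplicit false
set_option maxRecDepth 1000000

namespace Cfsg.Agent.Helper9.TCData.X1690
open Cfsg.Agent.Helper9.TC2

theorem f_1010 : allRange 213110 211 (fun u => chkFin tab u) = true := by decide +kernel

theorem f_1011 : allRange 213321 211 (fun u => chkFin tab u) = true := by decide +kernel

theorem f_1012 : allRange 213532 211 (fun u => chkFin tab u) = true := by decide +kernel

theorem f_1013 : allRange 213743 211 (fun u => chkFin tab u) = true := by decide +kernel

theorem f_1014 : allRange 213954 211 (fun u => chkFin tab u) = true := by decide +kernel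

theorem f_1015 : allRange 214165 211 (fun u => chkFin tab u) = true := by decide +kernel

theorem f_1016 : allRange 214376 211 (fun u => chkFin tab u) = true := by decide +kernel

theorem f_1017 : allRange 214587 211 (fun u => chkFin tab u) = true := by decide +kernel

theorem f_1018 : allRange 214798 211 (fun u => chkFin tab u) = true := by decide +kernel

theorem f_1019 : allRange 215009 211 (fun u => chkFin tab u) = true := by decide +kernel


end Cfsg.Agent.Helper9.TCData.X1690
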