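import Cfsg.Agent.Lib.Helper9.TCData.X1690.Main

set_option autoImplicit false
set_option maxRecDepth 1000000

namespace Cfsg.Agent.Helper9.TCData.X1690
open Cfsg.Agent.Helper9.TC2

theorem f_1020 : allRange 215220 211 (fun u => chkFin tab u) = true := by decide +kernel

theorem f_1021 : allRange 215431 211 (fun u => chkFin tab u) = true := by decide +kernel

theorem f_1022 : allRange 215642 211 (fun u => chkFin tab u) = true := by decide +kernel

theorem f_1023 : allRange 215853 211 (fun u => chkFin tab u) = true := by decide +kernel

theorem f_1024 : allRange 216064 211 (fun u => chkFin tab u) = true := by decide +kernel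

theorem f_1025 : allRange 216275 211 (fun u => chkFin tab u) = true := by decide +kernel

theorem f_1026 : allRange 216486 211 (fun u => chkFin tab u) = true := by decide +kernel

theorem f_1027 : allRange 216697 211 (fun u => chkFin tab u) = true := by decide +kernel

theorem f_1028 : allRange 216908 211 (fun u => chkFin tab u) = true := by decide +kernel

theorem f_1029 : allRange 217119 211 (fun u => chkFin tab u) = true := by decide +kernel


end Cfsg.Agent.Helper9.TCData.X1690
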