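import Cfsg.Agent.Lib.Helper9.TCData.X1690.Main

set_option autoImplicit false
set_option maxRecDepth 1000000

namespace Cfsg.Agent.Helper9.TCData.X1690
open Cfsg.Agent.Helper9.TC2

theorem f_1030 : allRange 217330 211 (fun u => chkFin tab u) = true := by decide +kernel

theorem f_1031 : allRange 217541 211 (fun u => chkFin tab u) = true := by decide +kernel

theorem f_1032 : allRange 217752 211 (fun u => chkFin tab u) = true := by decide +kernel

theorem f_1033 : allRange 217963 211 (fun u => chkFin tab u) = true := by decide +kernel

theorem f_1034 : allRange 218174 211 (fun u => chkFin tab u) = true := by decide +kernel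

theorem f_1035 : allRange 218385 211 (fun u => chkFin tab u) = true := by decide +kernel

theorem f_1036 : allRange 218596 211 (fun u => chkFin tab u) = true := by decide +kernel

theorem f_1037 : allRange 218807 211 (fun u => chkFin tab u) = true := by decide +kernel

theorem f_1038 : allRange 219018 211 (fun u => chkFin tab u) = true := by decide +kernel

theorem f_1039 : allRange 219229 211 (fun u => chkFin tab u) = true := by decide +kernel


end Cfsg.Agent.Helper9.TCData.X1690
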