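import Cfsg.Agent.Lib.Helper9.TCData.X1690.Main

set_option autoImplicit false
set_option maxRecDepth 1000000

namespace Cfsg.Agent.Helper9.TCData.X1690
open Cfsg.Agent.Helper9.TC2

theorem f_1040 : allRange 219440 211 (fun u => chkFin tab u) = true := by decide +kernel

theorem f_1041 : allRange 219651 211 (fun u => chkFin tab u) = true := by decide +kernel

theorem f_1042 : allRange 219862 211 (fun u => chkFin tab u) = true := by decide +kernel

theorem f_1043 : allRange 220073 211 (fun u => chkFin tab u) = true := by decide +kernel

theorem f_1044 : allRange 220284 211 (fun u => chkFin tab u) = true := by decide +kernel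

theorem f_1045 : allRange 220495 211 (fun u => chkFin tab u) = true := by decide +kernel

theorem f_1046 : allRange 220706 211 (fun u => chkFin tab u) = true := by decide +kernel

theorem f_1047 : allRange 220917 211 (fun u => chkFin tab u) = true := by decide +kernel

theorem f_1048 : allRange 221128 211 (fun u => chkFin tab u) = true := by decide +kernel

theorem f_1049 : allRange 221339 211 (fun u => chkFin tab u) = true := by decide +kernel


end Cfsg.Agent.Helper9.TCData.X1690
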