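import Cfsg.Agent.Lib.Helper9.TCData.X1690.Main

set_option autoImplicit false
set_option maxRecDepth 1000000

namespace Cfsg.Agent.Helper9.TCData.X1690
open Cfsg.Agent.Helper9.TC2

theorem f_1050 : allRange 221550 211 (fun u => chkFin tab u) = true := by decide +kernel

theorem f_1051 : allRange 221761 211 (fun u => chkFin tab u) = true := by decide +kernel

theorem f_1052 : allRange 221972 211 (fun u => chkFin tab u) = true := by decide +kernel

theorem f_1053 : allRange 222183 211 (fun u => chkFin tab u) = true := by decide +kernel

theorem f_1054 : allRange 222394 211 (fun u => chkFin tab u) = true := by decide +kernel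

theorem f_1055 : allRange 222605 211 (fun u => chkFin tab u) = true := by decide +kernel

theorem f_1056 : allRange 222816 211 (fun u => chkFin tab u) = true := by decide +kernel

theorem f_1057 : allRange 223027 211 (fun u => chkFin tab u) = true := by decide +kernel

theorem f_1058 : allRange 223238 211 (fun u => chkFin tab u) = true := by decide +kernel

theorem f_1059 : allRange 223449 211 (fun u => chkFin tab u) = true := by decide +kernel


end Cfsg.Agent.Helper9.TCData.X1690
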