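import Cfsg.Agent.Lib.Helper9.TCData.X1690.Main

set_option autoImplicit false
set_option maxRecDepth 1000000

namespace Cfsg.Agent.Helper9.TCData.X1690
open Cfsg.Agent.Helper9.TC2

theorem e0_30 : allRange 59830 1934 (fun u => chkE tab 0 u) = true := by decide +kernel

theorem e0_31 : allRange 61764 4282 (fun u => chkE tab 0 u) = true := by decide +kernel

theorem e0_32 : allRange 66046 2723 (fun u => chkE tab 0 u) = true := by decide +kernel

theorem e0_33 : allRange 68769 1601 (fun u => chkE tab 0 u) = true := by decide +kernel

theorem e0_34 : allRange 70370 1656 (fun u => chkE tab 0 u) = true := by decide +kernel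

theorem e0_35 : allRange 72026 1642 (fun u => chkE tab 0 u) = true := by decide +kernel

theorem e0_36 : allRange 73668 1692 (fun u => chkE tab 0 u) = true := by decide +kernel

theorem e0_37 : allRange 75360 1679 (fun u => chkE tab 0 u) = true := by decide +kernel

theorem e0_38 : allRange 77039 1653 (fun u => chkE tab 0 u) = true := by decide +kernel

theorem e0_39 : allRange 78692 1673 (fun u => chkE tab 0 u) = true := by decide +kernel


end Cfsg.Agent.Helper9.TCData.X1690
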