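import Cfsg.Agent.Lib.Helper9.TCData.X1690.Main

set_option autoImplicit false
set_option maxRecDepth 1000000

namespace Cfsg.Agent.Helper9.TCData.X1690
open Cfsg.Agent.Helper9.TC2

theorem e1_130 : allRange 295519 2165 (fun u => chkE tab 1 u) = true := by decide +kernel

theorem e1_131 : allRange 297684 1847 (fun u => chkE tab 1 u) = true := by decide +kernel

theorem e1_132 : allRange 299531 2478 (fun u => chkE tab 1 u) = true := by decide +kernel

theorem e1_133 : allRange 302009 1995 (fun u => chkE tab 1 u) = true := by decide +kernel

theorem e1_134 : allRange 304004 1962 (fun u => chkE tab 1 u) = true := by decide +kernel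

theorem e1_135 : allRange 305966 1945 (fun u => chkE tab 1 u) = true := by decide +kernel

theorem e1_136 : allRange 307911 3417 (fun u => chkE tab 1 u) = true := by decide +kernel

theorem e1_137 : allRange 311328 2972 (fun u => chkE tab 1 u) = true := by decide +kernel

theorem e1_138 : allRange 314300 2610 (fun u => chkE tab 1 u) = true := by decide +kernel

theorem e1_139 : allRange 316910 2849 (fun u => chkE tab 1 u) = true := by decide +kernel


end Cfsg.Agent.Helper9.TCData.X1690
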