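import Cfsg.Agent.Lib.Helper9.TCData.X1690.Main

set_option autoImplicit false
set_option maxRecDepth 1000000

namespace Cfsg.Agent.Helper9.TCData.X1690
open Cfsg.Agent.Helper9.TC2

theorem f_1070 : allRange 225770 211 (fun u => chkFin tab u) = true := by decide +kernel

theorem f_1071 : allRange 225981 211 (fun u => chkFin tab u) = true := by decide +kernel

theorem f_1072 : allRange 226192 211 (fun u => chkFin tab u) = true := by decide +kernel

theorem f_1073 : allRange 226403 211 (fun u => chkFin tab u) = true := by decide +kernel

theorem f_1074 : allRange 226614 211 (fun u => chkFin tab u) = true := by decide +kernel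

theorem f_1075 : allRange 226825 211 (fun u => chkFin tab u) = true := by decide +kernel

theorem f_1076 : allRange 227036 211 (fun u => chkFin tab u) = true := by decide +kernel

theorem f_1077 : allRange 227247 211 (fun u => chkFin tab u) = true := by decide +kernel

theorem f_1078 : allRange 227458 211 (fun u => chkFin tab u) = true := by decide +kernel

theorem f_1079 : allRange 227669 211 (fun u => chkFin tab u) = true := by decide +kernel


end Cfsg.Agent.Helper9.TCData.X1690
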