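import Cfsg.Agent.Lib.Helper9.TCData.X1690.Main

set_option autoImplicit false
set_option maxRecDepth 1000000

namespace Cfsg.Agent.Helper9.TCData.X1690
open Cfsg.Agent.Helper9.TC2

theorem f_1080 : allRange 227880 211 (fun u => chkFin tab u) = true := by decide +kernel

theorem f_1081 : allRange 228091 211 (fun u => chkFin tab u) = true := by decide +kernel

theorem f_1082 : allRange 228302 211 (fun u => chkFin tab u) = true := by decide +kernel

theorem f_1083 : allRange 228513 211 (fun u => chkFin tab u) = true := by decide +kernel

theorem f_1084 : allRange 228724 211 (fun u => chkFin tab u) = true := by decide +kernel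

theorem f_1085 : allRange 228935 211 (fun u => chkFin tab u) = true := by decide +kernel

theorem f_1086 : allRange 229146 211 (fun u => chkFin tab u) = true := by decide +kernel

theorem f_1087 : allRange 229357 211 (fun u => chkFin tab u) = true := by decide +kernel

theorem f_1088 : allRange 229568 211 (fun u => chkFin tab u) = true := by decide +kernel

theorem f_1089 : allRange 229779 211 (fun u => chkFin tab u) = true := by decide +kernel


end Cfsg.Agent.Helper9.TCData.X1690
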