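import Cfsg.Agent.Lib.Helper9.TCData.X1690.Main

set_option autoImplicit false
set_option maxRecDepth 1000000

namespace Cfsg.Agent.Helper9.TCData.X1690
open Cfsg.Agent.Helper9.TC2

theorem f_1090 : allRange 229990 211 (fun u => chkFin tab u) = true := by decide +kernel

theorem f_1091 : allRange 230201 211 (fun u => chkFin tab u) = true := by decide +kernel

theorem f_1092 : allRange 230412 211 (fun u => chkFin tab u) = true := by decide +kernel

theorem f_1093 : allRange 230623 211 (fun u => chkFin tab u) = true := by decide +kernel

theorem f_1094 : allRange 230834 211 (fun u => chkFin tab u) = true := by decide +kernel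

theorem f_1095 : allRange 231045 211 (fun u => chkFin tab u) = true := by decide +kernel

theorem f_1096 : allRange 231256 211 (fun u => chkFin tab u) = true := by decide +kernel

theorem f_1097 : allRange 231467 211 (fun u => chkFin tab u) = true := by decide +kernel

theorem f_1098 : allRange 231678 211 (fun u => chkFin tab u) = true := by decide +kernel

theorem f_1099 : allRange 231889 211 (fun u => chkFin tab u) = true := by decide +kernel


end Cfsg.Agent.Helper9.TCData.X1690
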