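import Cfsg.Agent.Lib.Helper9.TCData.X1690.Main

set_option autoImplicit false
set_option maxRecDepth 1000000

namespace Cfsg.Agent.Helper9.TCData.X1690
open Cfsg.Agent.Helper9.TC2

theorem f_1100 : allRange 232100 211 (fun u => chkFin tab u) = true := by decide +kernel

theorem f_1101 : allRange 232311 211 (fun u => chkFin tab u) = true := by decide +kernel

theorem f_1102 : allRange 232522 211 (fun u => chkFin tab u) = true := by decide +kernel

theorem f_1103 : allRange 232733 211 (fun u => chkFin tab u) = true := by decide +kernel

theorem f_1104 : allRange 232944 211 (fun u => chkFin tab u) = true := by decide +kernel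

theorem f_1105 : allRange 233155 211 (fun u => chkFin tab u) = true := by decide +kernel

theorem f_1106 : allRange 233366 211 (fun u => chkFin tab u) = true := by decide +kernel

theorem f_1107 : allRange 233577 211 (fun u => chkFin tab u) = true := by decide +kernel

theorem f_1108 : allRange 233788 211 (fun u => chkFin tab u) = true := by decide +kernel

theorem f_1109 : allRange 233999 211 (fun u => chkFin tab u) = true := by decide +kernel


end Cfsg.Agent.Helper9.TCData.X1690
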