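import Cfsg.Agent.Lib.Helper9.TCData.X1690.Main

set_option autoImplicit false
set_option maxRecDepth 1000000

namespace Cfsg.Agent.Helper9.TCData.X1690
open Cfsg.Agent.Helper9.TC2

theorem f_1110 : allRange 234210 211 (fun u => chkFin tab u) = true := by decide +kernel

theorem f_1111 : allRange 234421 211 (fun u => chkFin tab u) = true := by decide +kernel

theorem f_1112 : allRange 234632 211 (fun u => chkFin tab u) = true := by decide +kernel

theorem f_1113 : allRange 234843 211 (fun u => chkFin tab u) = true := by decide +kernel

theorem f_1114 : allRange 235054 211 (fun u => chkFin tab u) = true := by decide +kernel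

theorem f_1115 : allRange 235265 211 (fun u => chkFin tab u) = true := by decide +kernel

theorem f_1116 : allRange 235476 211 (fun u => chkFin tab u) = true := by decide +kernel

theorem f_1117 : allRange 235687 211 (fun u => chkFin tab u) = true := by decide +kernel

theorem f_1118 : allRange 235898 211 (fun u => chkFin tab u) = true := by decide +kernel

theorem f_1119 : allRange 236109 211 (fun u => chkFin tab u) = true := by decide +kernel


end Cfsg.Agent.Helper9.TCData.X1690
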