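import Cfsg.Agent.Lib.Helper9.TCData.X1690.Main

set_option autoImplicit false
set_option maxRecDepth 1000000

namespace Cfsg.Agent.Helper9.TCData.X1690
open Cfsg.Agent.Helper9.TC2

theorem f_1120 : allRange 236320 211 (fun u => chkFin tab u) = true := by decide +kernel

theorem f_1121 : allRange 236531 211 (fun u => chkFin tab u) = true := by decide +kernel

theorem f_1122 : allRange 236742 211 (fun u => chkFin tab u) = true := by decide +kernel

theorem f_1123 : allRange 236953 211 (fun u => chkFin tab u) = true := by decide +kernel

theorem f_1124 : allRange 237164 211 (fun u => chkFin tab u) = true := by decide +kernel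

theorem f_1125 : allRange 237375 211 (fun u => chkFin tab u) = true := by decide +kernel

theorem f_1126 : allRange 237586 211 (fun u => chkFin tab u) = true := by decide +kernel

theorem f_1127 : allRange 237797 211 (fun u => chkFin tab u) = true := by decide +kernel

theorem f_1128 : allRange 238008 211 (fun u => chkFin tab u) = true := by decide +kernel

theorem f_1129 : allRange 238219 211 (fun u => chkFin tab u) = true := by decide +kernel


end Cfsg.Agent.Helper9.TCData.X1690
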