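import Cfsg.Agent.Lib.Helper9.TCData.X1690.Main

set_option autoImplicit false
set_option maxRecDepth 1000000

namespace Cfsg.Agent.Helper9.TCData.X1690
open Cfsg.Agent.Helper9.TC2

theorem f_1130 : allRange 238430 211 (fun u => chkFin tab u) = true := by decide +kernel

theorem f_1131 : allRange 238641 211 (fun u => chkFin tab u) = true := by decide +kernel

theorem f_1132 : allRange 238852 211 (fun u => chkFin tab u) = true := by decide +kernel

theorem f_1133 : allRange 239063 211 (fun u => chkFin tab u) = true := by decide +kernel

theorem f_1134 : allRange 239274 211 (fun u => chkFin tab u) = true := by decide +kernel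

theorem f_1135 : allRange 239485 211 (fun u => chkFin tab u) = true := by decide +kernel

theorem f_1136 : allRange 239696 211 (fun u => chkFin tab u) = true := by decide +kernel

theorem f_1137 : allRange 239907 211 (fun u => chkFin tab u) = true := by decide +kernel

theorem f_1138 : allRange 240118 211 (fun u => chkFin tab u) = true := by decide +kernel

theorem f_1139 : allRange 240329 211 (fun u => chkFin tab u) = true := by decide +kernel


end Cfsg.Agent.Helper9.TCData.X1690
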