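import Cfsg.Agent.Lib.Helper9.TCData.X1690.Main

set_option autoImplicit false
set_option maxRecDepth 1000000

namespace Cfsg.Agent.Helper9.TCData.X1690
open Cfsg.Agent.Helper9.TC2

theorem f_1140 : allRange 240540 211 (fun u => chkFin tab u) = true := by decide +kernel

theorem f_1141 : allRange 240751 211 (fun u => chkFin tab u) = true := by decide +kernel

theorem f_1142 : allRange 240962 211 (fun u => chkFin tab u) = true := by decide +kernel

theorem f_1143 : allRange 241173 211 (fun u => chkFin tab u) = true := by decide +kernel

theorem f_1144 : allRange 241384 211 (fun u => chkFin tab u) = true := by decide +kernel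

theorem f_1145 : allRange 241595 211 (fun u => chkFin tab u) = true := by decide +kernel

theorem f_1146 : allRange 241806 211 (fun u => chkFin tab u) = true := by decide +kernel

theorem f_1147 : allRange 242017 211 (fun u => chkFin tab u) = true := by decide +kernel

theorem f_1148 : allRange 242228 211 (fun u => chkFin tab u) = true := by decide +kernel

theorem f_1149 : allRange 242439 211 (fun u => chkFin tab u) = true := by decide +kernel


end Cfsg.Agent.Helper9.TCData.X1690
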