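import Cfsg.Agent.Lib.Helper9.TCData.X1690.Main

set_option autoImplicit false
set_option maxRecDepth 1000000

namespace Cfsg.Agent.Helper9.TCData.X1690
open Cfsg.Agent.Helper9.TC2

theorem f_1150 : allRange 242650 211 (fun u => chkFin tab u) = true := by decide +kernel

theorem f_1151 : allRange 242861 211 (fun u => chkFin tab u) = true := by decide +kernel

theorem f_1152 : allRange 243072 211 (fun u => chkFin tab u) = true := by decide +kernel

theorem f_1153 : allRange 243283 211 (fun u => chkFin tab u) = true := by decide +kernel

theorem f_1154 : allRange 243494 211 (fun u => chkFin tab u) = true := by decide +kernel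

theorem f_1155 : allRange 243705 211 (fun u => chkFin tab u) = true := by decide +kernel

theorem f_1156 : allRange 243916 211 (fun u => chkFin tab u) = true := by decide +kernel

theorem f_1157 : allRange 244127 211 (fun u => chkFin tab u) = true := by decide +kernel

theorem f_1158 : allRange 244338 211 (fun u => chkFin tab u) = true := by decide +kernel

theorem f_1159 : allRange 244549 211 (fun u => chkFin tab u) = true := by decide +kernel


end Cfsg.Agent.Helper9.TCData.X1690
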