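import Cfsg.Agent.Lib.Helper9.TCData.X1690.Main

set_option autoImplicit false
set_option maxRecDepth 1000000

namespace Cfsg.Agent.Helper9.TCData.X1690
open Cfsg.Agent.Helper9.TC2

theorem e1_140 : allRange 319759 2185 (fun u => chkE tab 1 u) = true := by decide +kernel

theorem e1_141 : allRange 321944 1934 (fun u => chkE tab 1 u) = true := by decide +kernel

theorem e1_142 : allRange 323878 1935 (fun u => chkE tab 1 u) = true := by decide +kernel

theorem e1_143 : allRange 325813 2500 (fun u => chkE tab 1 u) = true := by decide +kernel

theorem e1_144 : allRange 328313 2109 (fun u => chkE tab 1 u) = true := by decide +kernel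

theorem e1_145 : allRange 330422 1914 (fun u => chkE tab 1 u) = true := by decide +kernel

theorem e1_146 : allRange 332336 3069 (fun u => chkE tab 1 u) = true := by decide +kernel

theorem e1_147 : allRange 335405 3290 (fun u => chkE tab 1 u) = true := by decide +kernel

theorem e1_148 : allRange 338695 2634 (fun u => chkE tab 1 u) = true := by decide +kernel

theorem e1_149 : allRange 341329 3098 (fun u => chkE tab 1 u) = true := by decide +kernel


end Cfsg.Agent.Helper9.TCData.X1690
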