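import Cfsg.Agent.Lib.Helper9.TCData.X1690.Main

set_option autoImplicit false
set_option maxRecDepth 1000000

namespace Cfsg.Agent.Helper9.TCData.X1690
open Cfsg.Agent.Helper9.TC2

theorem f_1160 : allRange 244760 211 (fun u => chkFin tab u) = true := by decide +kernel

theorem f_1161 : allRange 244971 211 (fun u => chkFin tab u) = true := by decide +kernel

theorem f_1162 : allRange 245182 211 (fun u => chkFin tab u) = true := by decide +kernel

theorem f_1163 : allRange 245393 211 (fun u => chkFin tab u) = true := by decide +kernel

theorem f_1164 : allRange 245604 211 (fun u => chkFin tab u) = true := by decide +kernel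

theorem f_1165 : allRange 245815 211 (fun u => chkFin tab u) = true := by decide +kernel

theorem f_1166 : allRange 246026 211 (fun u => chkFin tab u) = true := by decide +kernel

theorem f_1167 : allRange 246237 211 (fun u => chkFin tab u) = true := by decide +kernel

theorem f_1168 : allRange 246448 211 (fun u => chkFin tab u) = true := by decide +kernel

theorem f_1169 : allRange 246659 211 (fun u => chkFin tab u) = true := by decide +kernel


end Cfsg.Agent.Helper9.TCData.X1690
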