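import Cfsg.Agent.Lib.Helper9.TCData.X1690.Main

set_option autoImplicit false
set_option maxRecDepth 1000000

namespace Cfsg.Agent.Helper9.TCData.X1690
open Cfsg.Agent.Helper9.TC2

theorem f_1170 : allRange 246870 211 (fun u => chkFin tab u) = true := by decide +kernel

theorem f_1171 : allRange 247081 211 (fun u => chkFin tab u) = true := by decide +kernel

theorem f_1172 : allRange 247292 211 (fun u => chkFin tab u) = true := by decide +kernel

theorem f_1173 : allRange 247503 211 (fun u => chkFin tab u) = true := by decide +kernel

theorem f_1174 : allRange 247714 211 (fun u => chkFin tab u) = true := by decide +kernel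

theorem f_1175 : allRange 247925 211 (fun u => chkFin tab u) = true := by decide +kernel

theorem f_1176 : allRange 248136 211 (fun u => chkFin tab u) = true := by decide +kernel

theorem f_1177 : allRange 248347 211 (fun u => chkFin tab u) = true := by decide +kernel

theorem f_1178 : allRange 248558 211 (fun u => chkFin tab u) = true := by decide +kernel

theorem f_1179 : allRange 248769 211 (fun u => chkFin tab u) = true := by decide +kernel


end Cfsg.Agent.Helper9.TCData.X1690
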