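import Cfsg.Agent.Lib.Helper9.TCData.X1690.Main

set_option autoImplicit false
set_option maxRecDepth 1000000

namespace Cfsg.Agent.Helper9.TCData.X1690
open Cfsg.Agent.Helper9.TC2

theorem f_1190 : allRange 251090 211 (fun u => chkFin tab u) = true := by decide +kernel

theorem f_1191 : allRange 251301 211 (fun u => chkFin tab u) = true := by decide +kernel

theorem f_1192 : allRange 251512 211 (fun u => chkFin tab u) = true := by decide +kernel

theorem f_1193 : allRange 251723 211 (fun u => chkFin tab u) = true := by decide +kernel

theorem f_1194 : allRange 251934 211 (fun u => chkFin tab u) = true := by decide +kernel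

theorem f_1195 : allRange 252145 211 (fun u => chkFin tab u) = true := by decide +kernel

theorem f_1196 : allRange 252356 211 (fun u => chkFin tab u) = true := by decide +kernel

theorem f_1197 : allRange 252567 211 (fun u => chkFin tab u) = true := by decide +kernel

theorem f_1198 : allRange 252778 211 (fun u => chkFin tab u) = true := by decide +kernel

theorem f_1199 : allRange 252989 211 (fun u => chkFin tab u) = true := by decide +kernel


end Cfsg.Agent.Helper9.TCData.X1690
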