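import Cfsg.Agent.Lib.Helper9.TCData.X1690.Main

set_option autoImplicit false
set_option maxRecDepth 1000000

namespace Cfsg.Agent.Helper9.TCData.X1690
open Cfsg.Agent.Helper9.TC2

theorem f_1200 : allRange 253200 211 (fun u => chkFin tab u) = true := by decide +kernel

theorem f_1201 : allRange 253411 211 (fun u => chkFin tab u) = true := by decide +kernel

theorem f_1202 : allRange 253622 211 (fun u => chkFin tab u) = true := by decide +kernel

theorem f_1203 : allRange 253833 211 (fun u => chkFin tab u) = true := by decide +kernel

theorem f_1204 : allRange 254044 211 (fun u => chkFin tab u) = true := by decide +kernel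

theorem f_1205 : allRange 254255 211 (fun u => chkFin tab u) = true := by decide +kernel

theorem f_1206 : allRange 254466 211 (fun u => chkFin tab u) = true := by decide +kernel

theorem f_1207 : allRange 254677 211 (fun u => chkFin tab u) = true := by decide +kernel

theorem f_1208 : allRange 254888 211 (fun u => chkFin tab u) = true := by decide +kernel

theorem f_1209 : allRange 255099 211 (fun u => chkFin tab u) = true := by decide +kernel


end Cfsg.Agent.Helper9.TCData.X1690
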