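import Cfsg.Agent.Lib.Helper9.TCData.X1690.Main

set_option autoImplicit false
set_option maxRecDepth 1000000

namespace Cfsg.Agent.Helper9.TCData.X1690
open Cfsg.Agent.Helper9.TC2

theorem f_1210 : allRange 255310 211 (fun u => chkFin tab u) = true := by decide +kernel

theorem f_1211 : allRange 255521 211 (fun u => chkFin tab u) = true := by decide +kernel

theorem f_1212 : allRange 255732 211 (fun u => chkFin tab u) = true := by decide +kernel

theorem f_1213 : allRange 255943 211 (fun u => chkFin tab u) = true := by decide +kernel

theorem f_1214 : allRange 256154 211 (fun u => chkFin tab u) = true := by decide +kernel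

theorem f_1215 : allRange 256365 211 (fun u => chkFin tab u) = true := by decide +kernel

theorem f_1216 : allRange 256576 211 (fun u => chkFin tab u) = true := by decide +kernel

theorem f_1217 : allRange 256787 211 (fun u => chkFin tab u) = true := by decide +kernel

theorem f_1218 : allRange 256998 211 (fun u => chkFin tab u) = true := by decide +kernel

theorem f_1219 : allRange 257209 211 (fun u => chkFin tab u) = true := by decide +kernel


end Cfsg.Agent.Helper9.TCData.X1690
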