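import Cfsg.Agent.Lib.Helper9.TCData.X1690.Main

set_option autoImplicit false
set_option maxRecDepth 1000000

namespace Cfsg.Agent.Helper9.TCData.X1690
open Cfsg.Agent.Helper9.TC2

theorem f_1220 : allRange 257420 211 (fun u => chkFin tab u) = true := by decide +kernel

theorem f_1221 : allRange 257631 211 (fun u => chkFin tab u) = true := by decide +kernel

theorem f_1222 : allRange 257842 211 (fun u => chkFin tab u) = true := by decide +kernel

theorem f_1223 : allRange 258053 211 (fun u => chkFin tab u) = true := by decide +kernel

theorem f_1224 : allRange 258264 211 (fun u => chkFin tab u) = true := by decide +kernel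

theorem f_1225 : allRange 258475 211 (fun u => chkFin tab u) = true := by decide +kernel

theorem f_1226 : allRange 258686 211 (fun u => chkFin tab u) = true := by decide +kernel

theorem f_1227 : allRange 258897 211 (fun u => chkFin tab u) = true := by decide +kernel

theorem f_1228 : allRange 259108 211 (fun u => chkFin tab u) = true := by decide +kernel

theorem f_1229 : allRange 259319 211 (fun u => chkFin tab u) = true := by decide +kernel


end Cfsg.Agent.Helper9.TCData.X1690
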