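import Cfsg.Agent.Lib.Helper9.TCData.X1690.Main

set_option autoImplicit false
set_option maxRecDepth 1000000

namespace Cfsg.Agent.Helper9.TCData.X1690
open Cfsg.Agent.Helper9.TC2

theorem f_1230 : allRange 259530 211 (fun u => chkFin tab u) = true := by decide +kernel

theorem f_1231 : allRange 259741 211 (fun u => chkFin tab u) = true := by decide +kernel

theorem f_1232 : allRange 259952 211 (fun u => chkFin tab u) = true := by decide +kernel

theorem f_1233 : allRange 260163 211 (fun u => chkFin tab u) = true := by decide +kernel

theorem f_1234 : allRange 260374 211 (fun u => chkFin tab u) = true := by decide +kernel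

theorem f_1235 : allRange 260585 211 (fun u => chkFin tab u) = true := by decide +kernel

theorem f_1236 : allRange 260796 211 (fun u => chkFin tab u) = true := by decide +kernel

theorem f_1237 : allRange 261007 211 (fun u => chkFin tab u) = true := by decide +kernel

theorem f_1238 : allRange 261218 211 (fun u => chkFin tab u) = true := by decide +kernel

theorem f_1239 : allRange 261429 211 (fun u => chkFin tab u) = true := by decide +kernel


end Cfsg.Agent.Helper9.TCData.X1690
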