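import Cfsg.Agent.Lib.Helper9.TCData.X1690.Main

set_option autoImplicit false
set_option maxRecDepth 1000000

namespace Cfsg.Agent.Helper9.TCData.X1690
open Cfsg.Agent.Helper9.TC2

theorem f_1240 : allRange 261640 211 (fun u => chkFin tab u) = true := by decide +kernel

theorem f_1241 : allRange 261851 211 (fun u => chkFin tab u) = true := by decide +kernel

theorem f_1242 : allRange 262062 211 (fun u => chkFin tab u) = true := by decide +kernel

theorem f_1243 : allRange 262273 211 (fun u => chkFin tab u) = true := by decide +kernel

theorem f_1244 : allRange 262484 211 (fun u => chkFin tab u) = true := by decide +kernel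

theorem f_1245 : allRange 262695 211 (fun u => chkFin tab u) = true := by decide +kernel

theorem f_1246 : allRange 262906 211 (fun u => chkFin tab u) = true := by decide +kernel

theorem f_1247 : allRange 263117 211 (fun u => chkFin tab u) = true := by decide +kernel

theorem f_1248 : allRange 263328 211 (fun u => chkFin tab u) = true := by decide +kernel

theorem f_1249 : allRange 263539 211 (fun u => chkFin tab u) = true := by decide +kernel


end Cfsg.Agent.Helper9.TCData.X1690
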