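import Cfsg.Agent.Lib.Helper9.TCData.X1690.Main

set_option autoImplicit false
set_option maxRecDepth 1000000

namespace Cfsg.Agent.Helper9.TCData.X1690
open Cfsg.Agent.Helper9.TC2

theorem f_1250 : allRange 263750 211 (fun u => chkFin tab u) = true := by decide +kernel

theorem f_1251 : allRange 263961 211 (fun u => chkFin tab u) = true := by decide +kernel

theorem f_1252 : allRange 264172 211 (fun u => chkFin tab u) = true := by decide +kernel

theorem f_1253 : allRange 264383 211 (fun u => chkFin tab u) = true := by decide +kernel

theorem f_1254 : allRange 264594 211 (fun u => chkFin tab u) = true := by decide +kernel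

theorem f_1255 : allRange 264805 211 (fun u => chkFin tab u) = true := by decide +kernel

theorem f_1256 : allRange 265016 211 (fun u => chkFin tab u) = true := by decide +kernel

theorem f_1257 : allRange 265227 211 (fun u => chkFin tab u) = true := by decide +kernel

theorem f_1258 : allRange 265438 211 (fun u => chkFin tab u) = true := by decide +kernel

theorem f_1259 : allRange 265649 211 (fun u => chkFin tab u) = true := by decide +kernel


end Cfsg.Agent.Helper9.TCData.X1690
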