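import Cfsg.Agent.Lib.Helper9.TCData.X1690.Main

set_option autoImplicit false
set_option maxRecDepth 1000000

namespace Cfsg.Agent.Helper9.TCData.X1690
open Cfsg.Agent.Helper9.TC2

theorem e1_150 : allRange 344427 2105 (fun u => chkE tab 1 u) = true := by decide +kernel

theorem e1_151 : allRange 346532 1939 (fun u => chkE tab 1 u) = true := by decide +kernel

theorem e1_152 : allRange 348471 2393 (fun u => chkE tab 1 u) = true := by decide +kernel

theorem e1_153 : allRange 350864 2234 (fun u => chkE tab 1 u) = true := by decide +kernel

theorem e1_154 : allRange 353098 1877 (fun u => chkE tab 1 u) = true := by decide +kernel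

theorem e1_155 : allRange 354975 3303 (fun u => chkE tab 1 u) = true := by decide +kernel

theorem e1_156 : allRange 358278 3186 (fun u => chkE tab 1 u) = true := by decide +kernel

theorem e1_157 : allRange 361464 3242 (fun u => chkE tab 1 u) = true := by decide +kernel

theorem e1_158 : allRange 364706 2378 (fun u => chkE tab 1 u) = true := by decide +kernel

theorem e1_159 : allRange 367084 1922 (fun u => chkE tab 1 u) = true := by decide +kernel


end Cfsg.Agent.Helper9.TCData.X1690
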