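import Cfsg.Agent.Lib.Helper9.TCData.X1690.Main

set_option autoImplicit false
set_option maxRecDepth 1000000

namespace Cfsg.Agent.Helper9.TCData.X1690
open Cfsg.Agent.Helper9.TC2

theorem f_1260 : allRange 265860 211 (fun u => chkFin tab u) = true := by decide +kernel

theorem f_1261 : allRange 266071 211 (fun u => chkFin tab u) = true := by decide +kernel

theorem f_1262 : allRange 266282 211 (fun u => chkFin tab u) = true := by decide +kernel

theorem f_1263 : allRange 266493 211 (fun u => chkFin tab u) = true := by decide +kernel

theorem f_1264 : allRange 266704 211 (fun u => chkFin tab u) = true := by decide +kernel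

theorem f_1265 : allRange 266915 211 (fun u => chkFin tab u) = true := by decide +kernel

theorem f_1266 : allRange 267126 211 (fun u => chkFin tab u) = true := by decide +kernel

theorem f_1267 : allRange 267337 211 (fun u => chkFin tab u) = true := by decide +kernel

theorem f_1268 : allRange 267548 211 (fun u => chkFin tab u) = true := by decide +kernel

theorem f_1269 : allRange 267759 211 (fun u => chkFin tab u) = true := by decide +kernel


end Cfsg.Agent.Helper9.TCData.X1690
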