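import Cfsg.Agent.Lib.Helper9.TCData.X1690.Main

set_option autoImplicit false
set_option maxRecDepth 1000000

namespace Cfsg.Agent.Helper9.TCData.X1690
open Cfsg.Agent.Helper9.TC2

theorem f_1270 : allRange 267970 211 (fun u => chkFin tab u) = true := by decide +kernel

theorem f_1271 : allRange 268181 211 (fun u => chkFin tab u) = true := by decide +kernel

theorem f_1272 : allRange 268392 211 (fun u => chkFin tab u) = true := by decide +kernel

theorem f_1273 : allRange 268603 211 (fun u => chkFin tab u) = true := by decide +kernel

theorem f_1274 : allRange 268814 211 (fun u => chkFin tab u) = true := by decide +kernel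

theorem f_1275 : allRange 269025 211 (fun u => chkFin tab u) = true := by decide +kernel

theorem f_1276 : allRange 269236 211 (fun u => chkFin tab u) = true := by decide +kernel

theorem f_1277 : allRange 269447 211 (fun u => chkFin tab u) = true := by decide +kernel

theorem f_1278 : allRange 269658 211 (fun u => chkFin tab u) = true := by decide +kernel

theorem f_1279 : allRange 269869 211 (fun u => chkFin tab u) = true := by decide +kernel


end Cfsg.Agent.Helper9.TCData.X1690
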