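import Cfsg.Agent.Lib.Helper9.TCData.X1690.Main

set_option autoImplicit false
set_option maxRecDepth 1000000

namespace Cfsg.Agent.Helper9.TCData.X1690
open Cfsg.Agent.Helper9.TC2

theorem f_1280 : allRange 270080 211 (fun u => chkFin tab u) = true := by decide +kernel

theorem f_1281 : allRange 270291 211 (fun u => chkFin tab u) = true := by decide +kernel

theorem f_1282 : allRange 270502 211 (fun u => chkFin tab u) = true := by decide +kernel

theorem f_1283 : allRange 270713 211 (fun u => chkFin tab u) = true := by decide +kernel

theorem f_1284 : allRange 270924 211 (fun u => chkFin tab u) = true := by decide +kernel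

theorem f_1285 : allRange 271135 211 (fun u => chkFin tab u) = true := by decide +kernel

theorem f_1286 : allRange 271346 211 (fun u => chkFin tab u) = true := by decide +kernel

theorem f_1287 : allRange 271557 211 (fun u => chkFin tab u) = true := by decide +kernel

theorem f_1288 : allRange 271768 211 (fun u => chkFin tab u) = true := by decide +kernel

theorem f_1289 : allRange 271979 211 (fun u => chkFin tab u) = true := by decide +kernel


end Cfsg.Agent.Helper9.TCData.X1690
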