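import Cfsg.Agent.Lib.Helper9.TCData.X1690.Main

set_option autoImplicit false
set_option maxRecDepth 1000000

namespace Cfsg.Agent.Helper9.TCData.X1690
open Cfsg.Agent.Helper9.TC2

theorem f_1290 : allRange 272190 211 (fun u => chkFin tab u) = true := by decide +kernel

theorem f_1291 : allRange 272401 211 (fun u => chkFin tab u) = true := by decide +kernel

theorem f_1292 : allRange 272612 211 (fun u => chkFin tab u) = true := by decide +kernel

theorem f_1293 : allRange 272823 211 (fun u => chkFin tab u) = true := by decide +kernel

theorem f_1294 : allRange 273034 211 (fun u => chkFin tab u) = true := by decide +kernel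

theorem f_1295 : allRange 273245 211 (fun u => chkFin tab u) = true := by decide +kernel

theorem f_1296 : allRange 273456 211 (fun u => chkFin tab u) = true := by decide +kernel

theorem f_1297 : allRange 273667 211 (fun u => chkFin tab u) = true := by decide +kernel

theorem f_1298 : allRange 273878 211 (fun u => chkFin tab u) = true := by decide +kernel

theorem f_1299 : allRange 274089 211 (fun u => chkFin tab u) = true := by decide +kernel


end Cfsg.Agent.Helper9.TCData.X1690
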