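import Cfsg.Agent.Lib.Helper9.TCData.X1690.Main

set_option autoImplicit false
set_option maxRecDepth 1000000

namespace Cfsg.Agent.Helper9.TCData.X1690
open Cfsg.Agent.Helper9.TC2

theorem f_1310 : allRange 276410 211 (fun u => chkFin tab u) = true := by decide +kernel

theorem f_1311 : allRange 276621 211 (fun u => chkFin tab u) = true := by decide +kernel

theorem f_1312 : allRange 276832 211 (fun u => chkFin tab u) = true := by decide +kernel

theorem f_1313 : allRange 277043 211 (fun u => chkFin tab u) = true := by decide +kernel

theorem f_1314 : allRange 277254 211 (fun u => chkFin tab u) = true := by decide +kernel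

theorem f_1315 : allRange 277465 211 (fun u => chkFin tab u) = true := by decide +kernel

theorem f_1316 : allRange 277676 211 (fun u => chkFin tab u) = true := by decide +kernel

theorem f_1317 : allRange 277887 211 (fun u => chkFin tab u) = true := by decide +kernel

theorem f_1318 : allRange 278098 211 (fun u => chkFin tab u) = true := by decide +kernel

theorem f_1319 : allRange 278309 211 (fun u => chkFin tab u) = true := by decide +kernel


end Cfsg.Agent.Helper9.TCData.X1690
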