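import Cfsg.Agent.Lib.Helper9.TCData.X1690.Main

set_option autoImplicit false
set_option maxRecDepth 1000000

namespace Cfsg.Agent.Helper9.TCData.X1690
open Cfsg.Agent.Helper9.TC2

theorem f_1320 : allRange 278520 211 (fun u => chkFin tab u) = true := by decide +kernel

theorem f_1321 : allRange 278731 211 (fun u => chkFin tab u) = true := by decide +kernel

theorem f_1322 : allRange 278942 211 (fun u => chkFin tab u) = true := by decide +kernel

theorem f_1323 : allRange 279153 211 (fun u => chkFin tab u) = true := by decide +kernel

theorem f_1324 : allRange 279364 211 (fun u => chkFin tab u) = true := by decide +kernel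

theorem f_1325 : allRange 279575 211 (fun u => chkFin tab u) = true := by decide +kernel

theorem f_1326 : allRange 279786 211 (fun u => chkFin tab u) = true := by decide +kernel

theorem f_1327 : allRange 279997 211 (fun u => chkFin tab u) = true := by decide +kernel

theorem f_1328 : allRange 280208 211 (fun u => chkFin tab u) = true := by decide +kernel

theorem f_1329 : allRange 280419 211 (fun u => chkFin tab u) = true := by decide +kernel


end Cfsg.Agent.Helper9.TCData.X1690
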