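import Cfsg.Agent.Lib.Helper9.TCData.X1690.Main

set_option autoImplicit false
set_option maxRecDepth 1000000

namespace Cfsg.Agent.Helper9.TCData.X1690
open Cfsg.Agent.Helper9.TC2

theorem f_1330 : allRange 280630 211 (fun u => chkFin tab u) = true := by decide +kernel

theorem f_1331 : allRange 280841 211 (fun u => chkFin tab u) = true := by decide +kernel

theorem f_1332 : allRange 281052 211 (fun u => chkFin tab u) = true := by decide +kernel

theorem f_1333 : allRange 281263 211 (fun u => chkFin tab u) = true := by decide +kernel

theorem f_1334 : allRange 281474 211 (fun u => chkFin tab u) = true := by decide +kernel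

theorem f_1335 : allRange 281685 211 (fun u => chkFin tab u) = true := by decide +kernel

theorem f_1336 : allRange 281896 211 (fun u => chkFin tab u) = true := by decide +kernel

theorem f_1337 : allRange 282107 211 (fun u => chkFin tab u) = true := by decide +kernel

theorem f_1338 : allRange 282318 211 (fun u => chkFin tab u) = true := by decide +kernel

theorem f_1339 : allRange 282529 211 (fun u => chkFin tab u) = true := by decide +kernel


end Cfsg.Agent.Helper9.TCData.X1690
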