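import Cfsg.Agent.Lib.Helper9.TCData.X1690.Main

set_option autoImplicit false
set_option maxRecDepth 1000000

namespace Cfsg.Agent.Helper9.TCData.X1690
open Cfsg.Agent.Helper9.TC2

theorem f_1340 : allRange 282740 211 (fun u => chkFin tab u) = true := by decide +kernel

theorem f_1341 : allRange 282951 211 (fun u => chkFin tab u) = true := by decide +kernel

theorem f_1342 : allRange 283162 211 (fun u => chkFin tab u) = true := by decide +kernel

theorem f_1343 : allRange 283373 211 (fun u => chkFin tab u) = true := by decide +kernel

theorem f_1344 : allRange 283584 211 (fun u => chkFin tab u) = true := by decide +kernel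

theorem f_1345 : allRange 283795 211 (fun u => chkFin tab u) = true := by decide +kernel

theorem f_1346 : allRange 284006 211 (fun u => chkFin tab u) = true := by decide +kernel

theorem f_1347 : allRange 284217 211 (fun u => chkFin tab u) = true := by decide +kernel

theorem f_1348 : allRange 284428 211 (fun u => chkFin tab u) = true := by decide +kernel

theorem f_1349 : allRange 284639 211 (fun u => chkFin tab u) = true := by decide +kernel


end Cfsg.Agent.Helper9.TCData.X1690
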