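import Cfsg.Agent.Lib.Helper9.TCData.X1690.Main

set_option autoImplicit false
set_option maxRecDepth 1000000

namespace Cfsg.Agent.Helper9.TCData.X1690
open Cfsg.Agent.Helper9.TC2

theorem f_1350 : allRange 284850 211 (fun u => chkFin tab u) = true := by decide +kernel

theorem f_1351 : allRange 285061 211 (fun u => chkFin tab u) = true := by decide +kernel

theorem f_1352 : allRange 285272 211 (fun u => chkFin tab u) = true := by decide +kernel

theorem f_1353 : allRange 285483 211 (fun u => chkFin tab u) = true := by decide +kernel

theorem f_1354 : allRange 285694 211 (fun u => chkFin tab u) = true := by decide +kernel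

theorem f_1355 : allRange 285905 211 (fun u => chkFin tab u) = true := by decide +kernel

theorem f_1356 : allRange 286116 211 (fun u => chkFin tab u) = true := by decide +kernel

theorem f_1357 : allRange 286327 211 (fun u => chkFin tab u) = true := by decide +kernel

theorem f_1358 : allRange 286538 211 (fun u => chkFin tab u) = true := by decide +kernel

theorem f_1359 : allRange 286749 211 (fun u => chkFin tab u) = true := by decide +kernel


end Cfsg.Agent.Helper9.TCData.X1690
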