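import Cfsg.Agent.Lib.Helper9.TCData.X1690.Main

set_option autoImplicit false
set_option maxRecDepth 1000000

namespace Cfsg.Agent.Helper9.TCData.X1690
open Cfsg.Agent.Helper9.TC2

theorem e1_160 : allRange 369006 2346 (fun u => chkE tab 1 u) = true := by decide +kernel

theorem e1_161 : allRange 371352 2612 (fun u => chkE tab 1 u) = true := by decide +kernel

theorem e1_162 : allRange 373964 3341 (fun u => chkE tab 1 u) = true := by decide +kernel

theorem e1_163 : allRange 377305 2976 (fun u => chkE tab 1 u) = true := by decide +kernel

theorem e1_164 : allRange 380281 2200 (fun u => chkE tab 1 u) = true := by decide +kernel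

theorem e1_165 : allRange 382481 2466 (fun u => chkE tab 1 u) = true := by decide +kernel

theorem e1_166 : allRange 384947 3230 (fun u => chkE tab 1 u) = true := by decide +kernel

theorem e1_167 : allRange 388177 2250 (fun u => chkE tab 1 u) = true := by decide +kernel

theorem e1_168 : allRange 390427 2907 (fun u => chkE tab 1 u) = true := by decide +kernel

theorem e1_169 : allRange 393334 1120 (fun u => chkE tab 1 u) = true := by decide +kernel


end Cfsg.Agent.Helper9.TCData.X1690
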