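import Cfsg.Agent.Lib.Helper9.TCData.X1690.Main

set_option autoImplicit false
set_option maxRecDepth 1000000

namespace Cfsg.Agent.Helper9.TCData.X1690
open Cfsg.Agent.Helper9.TC2

theorem f_1360 : allRange 286960 211 (fun u => chkFin tab u) = true := by decide +kernel

theorem f_1361 : allRange 287171 211 (fun u => chkFin tab u) = true := by decide +kernel

theorem f_1362 : allRange 287382 211 (fun u => chkFin tab u) = true := by decide +kernel

theorem f_1363 : allRange 287593 211 (fun u => chkFin tab u) = true := by decide +kernel

theorem f_1364 : allRange 287804 211 (fun u => chkFin tab u) = true := by decide +kernel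

theorem f_1365 : allRange 288015 211 (fun u => chkFin tab u) = true := by decide +kernel

theorem f_1366 : allRange 288226 211 (fun u => chkFin tab u) = true := by decide +kernel

theorem f_1367 : allRange 288437 211 (fun u => chkFin tab u) = true := by decide +kernel

theorem f_1368 : allRange 288648 211 (fun u => chkFin tab u) = true := by decide +kernel

theorem f_1369 : allRange 288859 211 (fun u => chkFin tab u) = true := by decide +kernel


end Cfsg.Agent.Helper9.TCData.X1690
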