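import Cfsg.Agent.Lib.Helper9.TCData.X1690.Main

set_option autoImplicit false
set_option maxRecDepth 1000000

namespace Cfsg.Agent.Helper9.TCData.X1690
open Cfsg.Agent.Helper9.TC2

theorem f_1370 : allRange 289070 211 (fun u => chkFin tab u) = true := by decide +kernel

theorem f_1371 : allRange 289281 211 (fun u => chkFin tab u) = true := by decide +kernel

theorem f_1372 : allRange 289492 211 (fun u => chkFin tab u) = true := by decide +kernel

theorem f_1373 : allRange 289703 211 (fun u => chkFin tab u) = true := by decide +kernel

theorem f_1374 : allRange 289914 211 (fun u => chkFin tab u) = true := by decide +kernel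

theorem f_1375 : allRange 290125 211 (fun u => chkFin tab u) = true := by decide +kernel

theorem f_1376 : allRange 290336 211 (fun u => chkFin tab u) = true := by decide +kernel

theorem f_1377 : allRange 290547 211 (fun u => chkFin tab u) = true := by decide +kernel

theorem f_1378 : allRange 290758 211 (fun u => chkFin tab u) = true := by decide +kernel

theorem f_1379 : allRange 290969 211 (fun u => chkFin tab u) = true := by decide +kernel


end Cfsg.Agent.Helper9.TCData.X1690
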