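import Cfsg.Agent.Lib.Helper9.TCData.X1690.Main

set_option autoImplicit false
set_option maxRecDepth 1000000

namespace Cfsg.Agent.Helper9.TCData.X1690
open Cfsg.Agent.Helper9.TC2

theorem f_1380 : allRange 291180 211 (fun u => chkFin tab u) = true := by decide +kernel

theorem f_1381 : allRange 291391 211 (fun u => chkFin tab u) = true := by decide +kernel

theorem f_1382 : allRange 291602 211 (fun u => chkFin tab u) = true := by decide +kernel

theorem f_1383 : allRange 291813 211 (fun u => chkFin tab u) = true := by decide +kernel

theorem f_1384 : allRange 292024 211 (fun u => chkFin tab u) = true := by decide +kernel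

theorem f_1385 : allRange 292235 211 (fun u => chkFin tab u) = true := by decide +kernel

theorem f_1386 : allRange 292446 211 (fun u => chkFin tab u) = true := by decide +kernel

theorem f_1387 : allRange 292657 211 (fun u => chkFin tab u) = true := by decide +kernel

theorem f_1388 : allRange 292868 211 (fun u => chkFin tab u) = true := by decide +kernel

theorem f_1389 : allRange 293079 211 (fun u => chkFin tab u) = true := by decide +kernel


end Cfsg.Agent.Helper9.TCData.X1690
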