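import Cfsg.Agent.Lib.Helper9.TCData.X1690.Main

set_option autoImplicit false
set_option maxRecDepth 1000000

namespace Cfsg.Agent.Helper9.TCData.X1690
open Cfsg.Agent.Helper9.TC2

theorem f_1390 : allRange 293290 211 (fun u => chkFin tab u) = true := by decide +kernel

theorem f_1391 : allRange 293501 211 (fun u => chkFin tab u) = true := by decide +kernel

theorem f_1392 : allRange 293712 211 (fun u => chkFin tab u) = true := by decide +kernel

theorem f_1393 : allRange 293923 211 (fun u => chkFin tab u) = true := by decide +kernel

theorem f_1394 : allRange 294134 211 (fun u => chkFin tab u) = true := by decide +kernel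

theorem f_1395 : allRange 294345 211 (fun u => chkFin tab u) = true := by decide +kernel

theorem f_1396 : allRange 294556 211 (fun u => chkFin tab u) = true := by decide +kernel

theorem f_1397 : allRange 294767 211 (fun u => chkFin tab u) = true := by decide +kernel

theorem f_1398 : allRange 294978 211 (fun u => chkFin tab u) = true := by decide +kernel

theorem f_1399 : allRange 295189 211 (fun u => chkFin tab u) = true := by decide +kernel


end Cfsg.Agent.Helper9.TCData.X1690
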