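import Cfsg.Agent.Lib.Helper9.TCData.X1690.Main

set_option autoImplicit false
set_option maxRecDepth 1000000

namespace Cfsg.Agent.Helper9.TCData.X1690
open Cfsg.Agent.Helper9.TC2

theorem f_1400 : allRange 295400 211 (fun u => chkFin tab u) = true := by decide +kernel

theorem f_1401 : allRange 295611 211 (fun u => chkFin tab u) = true := by decide +kernel

theorem f_1402 : allRange 295822 211 (fun u => chkFin tab u) = true := by decide +kernel

theorem f_1403 : allRange 296033 211 (fun u => chkFin tab u) = true := by decide +kernel

theorem f_1404 : allRange 296244 211 (fun u => chkFin tab u) = true := by decide +kernel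

theorem f_1405 : allRange 296455 211 (fun u => chkFin tab u) = true := by decide +kernel

theorem f_1406 : allRange 296666 211 (fun u => chkFin tab u) = true := by decide +kernel

theorem f_1407 : allRange 296877 211 (fun u => chkFin tab u) = true := by decide +kernel

theorem f_1408 : allRange 297088 211 (fun u => chkFin tab u) = true := by decide +kernel

theorem f_1409 : allRange 297299 211 (fun u => chkFin tab u) = true := by decide +kernel


end Cfsg.Agent.Helper9.TCData.X1690
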