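import Cfsg.Agent.Lib.Helper9.TCData.X1690.Main

set_option autoImplicit false
set_option maxRecDepth 1000000

namespace Cfsg.Agent.Helper9.TCData.X1690
open Cfsg.Agent.Helper9.TC2

theorem f_1410 : allRange 297510 211 (fun u => chkFin tab u) = true := by decide +kernel

theorem f_1411 : allRange 297721 211 (fun u => chkFin tab u) = true := by decide +kernel

theorem f_1412 : allRange 297932 211 (fun u => chkFin tab u) = true := by decide +kernel

theorem f_1413 : allRange 298143 211 (fun u => chkFin tab u) = true := by decide +kernel

theorem f_1414 : allRange 298354 211 (fun u => chkFin tab u) = true := by decide +kernel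

theorem f_1415 : allRange 298565 211 (fun u => chkFin tab u) = true := by decide +kernel

theorem f_1416 : allRange 298776 211 (fun u => chkFin tab u) = true := by decide +kernel

theorem f_1417 : allRange 298987 211 (fun u => chkFin tab u) = true := by decide +kernel

theorem f_1418 : allRange 299198 211 (fun u => chkFin tab u) = true := by decide +kernel

theorem f_1419 : allRange 299409 211 (fun u => chkFin tab u) = true := by decide +kernel


end Cfsg.Agent.Helper9.TCData.X1690
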