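import Cfsg.Agent.Lib.Helper9.TCData.X1690.Main

set_option autoImplicit false
set_option maxRecDepth 1000000

namespace Cfsg.Agent.Helper9.TCData.X1690
open Cfsg.Agent.Helper9.TC2

theorem f_1430 : allRange 301730 211 (fun u => chkFin tab u) = true := by decide +kernel

theorem f_1431 : allRange 301941 211 (fun u => chkFin tab u) = true := by decide +kernel

theorem f_1432 : allRange 302152 211 (fun u => chkFin tab u) = true := by decide +kernel

theorem f_1433 : allRange 302363 211 (fun u => chkFin tab u) = true := by decide +kernel

theorem f_1434 : allRange 302574 211 (fun u => chkFin tab u) = true := by decide +kernel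

theorem f_1435 : allRange 302785 211 (fun u => chkFin tab u) = true := by decide +kernel

theorem f_1436 : allRange 302996 211 (fun u => chkFin tab u) = true := by decide +kernel

theorem f_1437 : allRange 303207 211 (fun u => chkFin tab u) = true := by decide +kernel

theorem f_1438 : allRange 303418 211 (fun u => chkFin tab u) = true := by decide +kernel

theorem f_1439 : allRange 303629 211 (fun u => chkFin tab u) = true := by decide +kernel


end Cfsg.Agent.Helper9.TCData.X1690
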