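import Cfsg.Agent.Lib.Helper9.TCData.X1690.Main

set_option autoImplicit false
set_option maxRecDepth 1000000

namespace Cfsg.Agent.Helper9.TCData.X1690
open Cfsg.Agent.Helper9.TC2

theorem f_1440 : allRange 303840 211 (fun u => chkFin tab u) = true := by decide +kernel

theorem f_1441 : allRange 304051 211 (fun u => chkFin tab u) = true := by decide +kernel

theorem f_1442 : allRange 304262 211 (fun u => chkFin tab u) = true := by decide +kernel

theorem f_1443 : allRange 304473 211 (fun u => chkFin tab u) = true := by decide +kernel

theorem f_1444 : allRange 304684 211 (fun u => chkFin tab u) = true := by decide +kernel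

theorem f_1445 : allRange 304895 211 (fun u => chkFin tab u) = true := by decide +kernel

theorem f_1446 : allRange 305106 211 (fun u => chkFin tab u) = true := by decide +kernel

theorem f_1447 : allRange 305317 211 (fun u => chkFin tab u) = true := by decide +kernel

theorem f_1448 : allRange 305528 211 (fun u => chkFin tab u) = true := by decide +kernel

theorem f_1449 : allRange 305739 211 (fun u => chkFin tab u) = true := by decide +kernel


end Cfsg.Agent.Helper9.TCData.X1690
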