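import Cfsg.Agent.Lib.Helper9.TCData.X1690.Main

set_option autoImplicit false
set_option maxRecDepth 1000000

namespace Cfsg.Agent.Helper9.TCData.X1690
open Cfsg.Agent.Helper9.TC2

theorem e2_0 : allRange 0 1867 (fun u => chkE tab 2 u) = true := by decide +kernel

theorem e2_1 : allRange 1867 1942 (fun u => chkE tab 2 u) = true := by decide +kernel

theorem e2_2 : allRange 3809 1961 (fun u => chkE tab 2 u) = true := by decide +kernel

theorem e2_3 : allRange 5770 1914 (fun u => chkE tab 2 u) = true := by decide +kernel

theorem e2_4 : allRange 7684 2258 (fun u => chkE tab 2 u) = true := by decide +kernel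

theorem e2_5 : allRange 9942 2491 (fun u => chkE tab 2 u) = true := by decide +kernel

theorem e2_6 : allRange 12433 1943 (fun u => chkE tab 2 u) = true := by decide +kernel

theorem e2_7 : allRange 14376 2075 (fun u => chkE tab 2 u) = true := by decide +kernel

theorem e2_8 : allRange 16451 1912 (fun u => chkE tab 2 u) = true := by decide +kernel

theorem e2_9 : allRange 18363 2141 (fun u => chkE tab 2 u) = true := by decide +kernel


end Cfsg.Agent.Helper9.TCData.X1690
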