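import Cfsg.Agent.Lib.Helper9.TCData.X1690.Main

set_option autoImplicit false
set_option maxRecDepth 1000000

namespace Cfsg.Agent.Helper9.TCData.X1690
open Cfsg.Agent.Helper9.TC2

theorem c_95 : allRange 253365 2667 (fun u => chkCls tab u) = true := by decide +kernel

theorem c_96 : allRange 256032 2667 (fun u => chkCls tab u) = true := by decide +kernel

theorem c_97 : allRange 258699 2667 (fun u => chkCls tab u) = true := by decide +kernel

theorem c_98 : allRange 261366 2667 (fun u => chkCls tab u) = true := by decide +kernel

theorem c_99 : allRange 264033 2667 (fun u => chkCls tab u) = true := by decide +kernel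

theorem c_100 : allRange 266700 2667 (fun u => chkCls tab u) = true := by decide +kernel

theorem c_101 : allRange 269367 2667 (fun u => chkCls tab u) = true := by decide +kernel

theorem c_102 : allRange 272034 2667 (fun u => chkCls tab u) = true := by decide +kernel

theorem c_103 : allRange 274701 2667 (fun u => chkCls tab u) = true := by decide +kernel

theorem c_104 : allRange 277368 2667 (fun u => chkCls tab u) = true := by decide +kernel


end Cfsg.Agent.Helper9.TCData.X1690
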