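import Cfsg.Agent.Lib.Helper9.TCData.X1690.Main

set_option autoImplicit false
set_option maxRecDepth 1000000

namespace Cfsg.Agent.Helper9.TCData.X1690
open Cfsg.Agent.Helper9.TC2

theorem e2_10 : allRange 20504 1873 (fun u => chkE tab 2 u) = true := by decide +kernel

theorem e2_11 : allRange 22377 2057 (fun u => chkE tab 2 u) = true := by decide +kernel

theorem e2_12 : allRange 24434 2141 (fun u => chkE tab 2 u) = true := by decide +kernel

theorem e2_13 : allRange 26575 1924 (fun u => chkE tab 2 u) = true := by decide +kernel

theorem e2_14 : allRange 28499 1895 (fun u => chkE tab 2 u) = true := by decide +kernel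

theorem e2_15 : allRange 30394 2168 (fun u => chkE tab 2 u) = true := by decide +kernel

theorem e2_16 : allRange 32562 2183 (fun u => chkE tab 2 u) = true := by decide +kernel

theorem e2_17 : allRange 34745 2032 (fun u => chkE tab 2 u) = true := by decide +kernel

theorem e2_18 : allRange 36777 1841 (fun u => chkE tab 2 u) = true := by decide +kernel

theorem e2_19 : allRange 38618 1931 (fun u => chkE tab 2 u) = true := by decide +kernel


end Cfsg.Agent.Helper9.TCData.X1690
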