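import Cfsg.Agent.Lib.Helper9.TCData.X1690.Main

set_option autoImplicit false
set_option maxRecDepth 1000000

namespace Cfsg.Agent.Helper9.TCData.X1690
open Cfsg.Agent.Helper9.TC2

theorem c_105 : allRange 280035 2667 (fun u => chkCls tab u) = true := by decide +kernel

theorem c_106 : allRange 282702 2667 (fun u => chkCls tab u) = true := by decide +kernel

theorem c_107 : allRange 285369 2667 (fun u => chkCls tab u) = true := by decide +kernel

theorem c_108 : allRange 288036 2667 (fun u => chkCls tab u) = true := by decide +kernel

theorem c_109 : allRange 290703 2667 (fun u => chkCls tab u) = true := by decide +kernel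

theorem c_110 : allRange 293370 2667 (fun u => chkCls tab u) = true := by decide +kernel

theorem c_111 : allRange 296037 2667 (fun u => chkCls tab u) = true := by decide +kernel

theorem c_112 : allRange 298704 2667 (fun u => chkCls tab u) = true := by decide +kernel

theorem c_113 : allRange 301371 2667 (fun u => chkCls tab u) = true := by decide +kernel

theorem c_114 : allRange 304038 2667 (fun u => chkCls tab u) = true := by decide +kernel


end Cfsg.Agent.Helper9.TCData.X1690
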