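import Cfsg.Agent.Lib.Helper9.TCData.X1690.Main

set_option autoImplicit false
set_option maxRecDepth 1000000

namespace Cfsg.Agent.Helper9.TCData.X1690
open Cfsg.Agent.Helper9.TC2

theorem c_115 : allRange 306705 2667 (fun u => chkCls tab u) = true := by decide +kernel

theorem c_116 : allRange 309372 2667 (fun u => chkCls tab u) = true := by decide +kernel

theorem c_117 : allRange 312039 2667 (fun u => chkCls tab u) = true := by decide +kernel

theorem c_118 : allRange 314706 2667 (fun u => chkCls tab u) = true := by decide +kernel

theorem c_119 : allRange 317373 2667 (fun u => chkCls tab u) = true := by decide +kernel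

theorem c_120 : allRange 320040 2667 (fun u => chkCls tab u) = true := by decide +kernel

theorem c_121 : allRange 322707 2667 (fun u => chkCls tab u) = true := by decide +kernel

theorem c_122 : allRange 325374 2667 (fun u => chkCls tab u) = true := by decide +kernel

theorem c_123 : allRange 328041 2667 (fun u => chkCls tab u) = true := by decide +kernel

theorem c_124 : allRange 330708 2667 (fun u => chkCls tab u) = true := by decide +kernel


end Cfsg.Agent.Helper9.TCData.X1690
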