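import Cfsg.Agent.Lib.Helper9.TCData.X1690.Main

set_option autoImplicit false
set_option maxRecDepth 1000000

namespace Cfsg.Agent.Helper9.TCData.X1690
open Cfsg.Agent.Helper9.TC2

theorem c_125 : allRange 333375 2667 (fun u => chkCls tab u) = true := by decide +kernel

theorem c_126 : allRange 336042 2667 (fun u => chkCls tab u) = true := by decide +kernel

theorem c_127 : allRange 338709 2667 (fun u => chkCls tab u) = true := by decide +kernel

theorem c_128 : allRange 341376 2667 (fun u => chkCls tab u) = true := by decide +kernel

theorem c_129 : allRange 344043 2667 (fun u => chkCls tab u) = true := by decide +kernel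

theorem c_130 : allRange 346710 2667 (fun u => chkCls tab u) = true := by decide +kernel

theorem c_131 : allRange 349377 2667 (fun u => chkCls tab u) = true := by decide +kernel

theorem c_132 : allRange 352044 2667 (fun u => chkCls tab u) = true := by decide +kernel

theorem c_133 : allRange 354711 2667 (fun u => chkCls tab u) = true := by decide +kernel

theorem c_134 : allRange 357378 2667 (fun u => chkCls tab u) = true := by decide +kernel


end Cfsg.Agent.Helper9.TCData.X1690
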