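import Cfsg.Agent.Lib.Helper9.TCData.X1690.Main

set_option autoImplicit false
set_option maxRecDepth 1000000

namespace Cfsg.Agent.Helper9.TCData.X1690
open Cfsg.Agent.Helper9.TC2

theorem c_135 : allRange 360045 2667 (fun u => chkCls tab u) = true := by decide +kernel

theorem c_136 : allRange 362712 2667 (fun u => chkCls tab u) = true := by decide +kernel

theorem c_137 : allRange 365379 2667 (fun u => chkCls tab u) = true := by decide +kernel

theorem c_138 : allRange 368046 2667 (fun u => chkCls tab u) = true := by decide +kernel

theorem c_139 : allRange 370713 2667 (fun u => chkCls tab u) = true := by decide +kernel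

theorem c_140 : allRange 373380 2667 (fun u => chkCls tab u) = true := by decide +kernel

theorem c_141 : allRange 376047 2667 (fun u => chkCls tab u) = true := by decide +kernel

theorem c_142 : allRange 378714 2667 (fun u => chkCls tab u) = true := by decide +kernel

theorem c_143 : allRange 381381 2667 (fun u => chkCls tab u) = true := by decide +kernel

theorem c_144 : allRange 384048 2667 (fun u => chkCls tab u) = true := by decide +kernel


end Cfsg.Agent.Helper9.TCData.X1690
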