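import Cfsg.Agent.Lib.Helper9.TCData.X1690.Main

set_option autoImplicit false
set_option maxRecDepth 1000000

namespace Cfsg.Agent.Helper9.TCData.X1690
open Cfsg.Agent.Helper9.TC2

theorem m1_20 : allRange 10740 537 (fun u => chkM1 tab u) = true := by decide +kernel

theorem m1_21 : allRange 11277 537 (fun u => chkM1 tab u) = true := by decide +kernel

theorem m1_22 : allRange 11814 537 (fun u => chkM1 tab u) = true := by decide +kernel

theorem m1_23 : allRange 12351 537 (fun u => chkM1 tab u) = true := by decide +kernel

theorem m1_24 : allRange 12888 537 (fun u => chkM1 tab u) = true := by decide +kernel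

theorem m1_25 : allRange 13425 537 (fun u => chkM1 tab u) = true := by decide +kernel

theorem m1_26 : allRange 13962 537 (fun u => chkM1 tab u) = true := by decide +kernel

theorem m1_27 : allRange 14499 537 (fun u => chkM1 tab u) = true := by decide +kernel

theorem m1_28 : allRange 15036 537 (fun u => chkM1 tab u) = true := by decide +kernel

theorem m1_29 : allRange 15573 537 (fun u => chkM1 tab u) = true := by decide +kernel


end Cfsg.Agent.Helper9.TCData.X1690
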