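import Cfsg.Agent.Lib.Helper9.TCData.X1690.Main

set_option autoImplicit false
set_option maxRecDepth 1000000

namespace Cfsg.Agent.Helper9.TCData.X1690
open Cfsg.Agent.Helper9.TC2

theorem m1_30 : allRange 16110 537 (fun u => chkM1 tab u) = true := by decide +kernel

theorem m1_31 : allRange 16647 537 (fun u => chkM1 tab u) = true := by decide +kernel

theorem m1_32 : allRange 17184 537 (fun u => chkM1 tab u) = true := by decide +kernel

theorem m1_33 : allRange 17721 537 (fun u => chkM1 tab u) = true := by decide +kernel

theorem m1_34 : allRange 18258 537 (fun u => chkM1 tab u) = true := by decide +kernel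

theorem m1_35 : allRange 18795 537 (fun u => chkM1 tab u) = true := by decide +kernel

theorem m1_36 : allRange 19332 537 (fun u => chkM1 tab u) = true := by decide +kernel

theorem m1_37 : allRange 19869 537 (fun u => chkM1 tab u) = true := by decide +kernel

theorem m1_38 : allRange 20406 537 (fun u => chkM1 tab u) = true := by decide +kernel

theorem m1_39 : allRange 20943 537 (fun u => chkM1 tab u) = true := by decide +kernel


end Cfsg.Agent.Helper9.TCData.X1690
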