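import Cfsg.Agent.Lib.Helper9.TCData.X1690.Main

set_option autoImplicit false
set_option maxRecDepth 1000000

namespace Cfsg.Agent.Helper9.TCData.X1690
open Cfsg.Agent.Helper9.TC2

theorem m1_40 : allRange 21480 537 (fun u => chkM1 tab u) = true := by decide +kernel

theorem m1_41 : allRange 22017 537 (fun u => chkM1 tab u) = true := by decide +kernel

theorem m1_42 : allRange 22554 537 (fun u => chkM1 tab u) = true := by decide +kernel

theorem m1_43 : allRange 23091 537 (fun u => chkM1 tab u) = true := by decide +kernel

theorem m1_44 : allRange 23628 537 (fun u => chkM1 tab u) = true := by decide +kernel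

theorem m1_45 : allRange 24165 537 (fun u => chkM1 tab u) = true := by decide +kernel

theorem m1_46 : allRange 24702 537 (fun u => chkM1 tab u) = true := by decide +kernel

theorem m1_47 : allRange 25239 537 (fun u => chkM1 tab u) = true := by decide +kernel

theorem m1_48 : allRange 25776 537 (fun u => chkM1 tab u) = true := by decide +kernel

theorem m1_49 : allRange 26313 537 (fun u => chkM1 tab u) = true := by decide +kernel


end Cfsg.Agent.Helper9.TCData.X1690
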