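import Cfsg.Agent.Lib.Helper9.TCData.X1690.Main

set_option autoImplicit false
set_option maxRecDepth 1000000

namespace Cfsg.Agent.Helper9.TCData.X1690
open Cfsg.Agent.Helper9.TC2

theorem m1_60 : allRange 32220 537 (fun u => chkM1 tab u) = true := by decide +kernel

theorem m1_61 : allRange 32757 537 (fun u => chkM1 tab u) = true := by decide +kernel

theorem m1_62 : allRange 33294 537 (fun u => chkM1 tab u) = true := by decide +kernel

theorem m1_63 : allRange 33831 537 (fun u => chkM1 tab u) = true := by decide +kernel

theorem m1_64 : allRange 34368 537 (fun u => chkM1 tab u) = true := by decide +kernel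

theorem m1_65 : allRange 34905 537 (fun u => chkM1 tab u) = true := by decide +kernel

theorem m1_66 : allRange 35442 537 (fun u => chkM1 tab u) = true := by decide +kernel

theorem m1_67 : allRange 35979 537 (fun u => chkM1 tab u) = true := by decide +kernel

theorem m1_68 : allRange 36516 537 (fun u => chkM1 tab u) = true := by decide +kernel

theorem m1_69 : allRange 37053 537 (fun u => chkM1 tab u) = true := by decide +kernel


end Cfsg.Agent.Helper9.TCData.X1690
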