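import Cfsg.Agent.Lib.Helper9.TCData.X1690.Main

set_option autoImplicit false
set_option maxRecDepth 1000000

namespace Cfsg.Agent.Helper9.TCData.X1690
open Cfsg.Agent.Helper9.TC2

theorem m1_80 : allRange 42960 537 (fun u => chkM1 tab u) = true := by decide +kernel

theorem m1_81 : allRange 43497 537 (fun u => chkM1 tab u) = true := by decide +kernel

theorem m1_82 : allRange 44034 537 (fun u => chkM1 tab u) = true := by decide +kernel

theorem m1_83 : allRange 44571 537 (fun u => chkM1 tab u) = true := by decide +kernel

theorem m1_84 : allRange 45108 537 (fun u => chkM1 tab u) = true := by decide +kernel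

theorem m1_85 : allRange 45645 537 (fun u => chkM1 tab u) = true := by decide +kernel

theorem m1_86 : allRange 46182 537 (fun u => chkM1 tab u) = true := by decide +kernel

theorem m1_87 : allRange 46719 537 (fun u => chkM1 tab u) = true := by decide +kernel

theorem m1_88 : allRange 47256 537 (fun u => chkM1 tab u) = true := by decide +kernel

theorem m1_89 : allRange 47793 537 (fun u => chkM1 tab u) = true := by decide +kernel


end Cfsg.Agent.Helper9.TCData.X1690
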