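import Cfsg.Agent.Lib.Helper9.TCData.X1690.Main

set_option autoImplicit false
set_option maxRecDepth 1000000

namespace Cfsg.Agent.Helper9.TCData.X1690
open Cfsg.Agent.Helper9.TC2

theorem m1_90 : allRange 48330 537 (fun u => chkM1 tab u) = true := by decide +kernel

theorem m1_91 : allRange 48867 537 (fun u => chkM1 tab u) = true := by decide +kernel

theorem m1_92 : allRange 49404 537 (fun u => chkM1 tab u) = true := by decide +kernel

theorem m1_93 : allRange 49941 537 (fun u => chkM1 tab u) = true := by decide +kernel

theorem m1_94 : allRange 50478 537 (fun u => chkM1 tab u) = true := by decide +kernel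

theorem m1_95 : allRange 51015 537 (fun u => chkM1 tab u) = true := by decide +kernel

theorem m1_96 : allRange 51552 537 (fun u => chkM1 tab u) = true := by decide +kernel

theorem m1_97 : allRange 52089 537 (fun u => chkM1 tab u) = true := by decide +kernel

theorem m1_98 : allRange 52626 537 (fun u => chkM1 tab u) = true := by decide +kernel

theorem m1_99 : allRange 53163 537 (fun u => chkM1 tab u) = true := by decide +kernel


end Cfsg.Agent.Helper9.TCData.X1690
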