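import Cfsg.Agent.Lib.Helper9.TCData.X1690.Main

set_option autoImplicit false
set_option maxRecDepth 1000000

namespace Cfsg.Agent.Helper9.TCData.X1690
open Cfsg.Agent.Helper9.TC2

theorem m1_100 : allRange 53700 537 (fun u => chkM1 tab u) = true := by decide +kernel

theorem m1_101 : allRange 54237 537 (fun u => chkM1 tab u) = true := by decide +kernel

theorem m1_102 : allRange 54774 537 (fun u => chkM1 tab u) = true := by decide +kernel

theorem m1_103 : allRange 55311 537 (fun u => chkM1 tab u) = true := by decide +kernel

theorem m1_104 : allRange 55848 537 (fun u => chkM1 tab u) = true := by decide +kernel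

theorem m1_105 : allRange 56385 537 (fun u => chkM1 tab u) = true := by decide +kernel

theorem m1_106 : allRange 56922 537 (fun u => chkM1 tab u) = true := by decide +kernel

theorem m1_107 : allRange 57459 537 (fun u => chkM1 tab u) = true := by decide +kernel

theorem m1_108 : allRange 57996 537 (fun u => chkM1 tab u) = true := by decide +kernel

theorem m1_109 : allRange 58533 537 (fun u => chkM1 tab u) = true := by decide +kernel


end Cfsg.Agent.Helper9.TCData.X1690
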