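import Cfsg.Agent.Lib.Helper9.TCData.X1690.Main

set_option autoImplicit false
set_option maxRecDepth 1000000

namespace Cfsg.Agent.Helper9.TCData.X1690
open Cfsg.Agent.Helper9.TC2

theorem m1_110 : allRange 59070 537 (fun u => chkM1 tab u) = true := by decide +kernel

theorem m1_111 : allRange 59607 537 (fun u => chkM1 tab u) = true := by decide +kernel

theorem m1_112 : allRange 60144 537 (fun u => chkM1 tab u) = true := by decide +kernel

theorem m1_113 : allRange 60681 537 (fun u => chkM1 tab u) = true := by decide +kernel

theorem m1_114 : allRange 61218 537 (fun u => chkM1 tab u) = true := by decide +kernel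

theorem m1_115 : allRange 61755 537 (fun u => chkM1 tab u) = true := by decide +kernel

theorem m1_116 : allRange 62292 537 (fun u => chkM1 tab u) = true := by decide +kernel

theorem m1_117 : allRange 62829 537 (fun u => chkM1 tab u) = true := by decide +kernel

theorem m1_118 : allRange 63366 537 (fun u => chkM1 tab u) = true := by decide +kernel

theorem m1_119 : allRange 63903 537 (fun u => chkM1 tab u) = true := by decide +kernel


end Cfsg.Agent.Helper9.TCData.X1690
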