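import Cfsg.Agent.Lib.Helper9.TCData.X1690.Main

set_option autoImplicit false
set_option maxRecDepth 1000000

namespace Cfsg.Agent.Helper9.TCData.X1690
open Cfsg.Agent.Helper9.TC2

theorem m1_130 : allRange 69810 537 (fun u => chkM1 tab u) = true := by decide +kernel

theorem m1_131 : allRange 70347 537 (fun u => chkM1 tab u) = true := by decide +kernel

theorem m1_132 : allRange 70884 537 (fun u => chkM1 tab u) = true := by decide +kernel

theorem m1_133 : allRange 71421 537 (fun u => chkM1 tab u) = true := by decide +kernel

theorem m1_134 : allRange 71958 537 (fun u => chkM1 tab u) = true := by decide +kernel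

theorem m1_135 : allRange 72495 537 (fun u => chkM1 tab u) = true := by decide +kernel

theorem m1_136 : allRange 73032 537 (fun u => chkM1 tab u) = true := by decide +kernel

theorem m1_137 : allRange 73569 537 (fun u => chkM1 tab u) = true := by decide +kernel

theorem m1_138 : allRange 74106 537 (fun u => chkM1 tab u) = true := by decide +kernel

theorem m1_139 : allRange 74643 537 (fun u => chkM1 tab u) = true := by decide +kernel


end Cfsg.Agent.Helper9.TCData.X1690
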