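import Cfsg.Agent.Lib.Helper9.TCData.X1690.Main

set_option autoImplicit false
set_option maxRecDepth 1000000

namespace Cfsg.Agent.Helper9.TCData.X1690
open Cfsg.Agent.Helper9.TC2

theorem m1_140 : allRange 75180 537 (fun u => chkM1 tab u) = true := by decide +kernel

theorem m1_141 : allRange 75717 537 (fun u => chkM1 tab u) = true := by decide +kernel

theorem m1_142 : allRange 76254 537 (fun u => chkM1 tab u) = true := by decide +kernel

theorem m1_143 : allRange 76791 537 (fun u => chkM1 tab u) = true := by decide +kernel

theorem m1_144 : allRange 77328 537 (fun u => chkM1 tab u) = true := by decide +kernel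

theorem m1_145 : allRange 77865 537 (fun u => chkM1 tab u) = true := by decide +kernel

theorem m1_146 : allRange 78402 537 (fun u => chkM1 tab u) = true := by decide +kernel

theorem m1_147 : allRange 78939 537 (fun u => chkM1 tab u) = true := by decide +kernel

theorem m1_148 : allRange 79476 537 (fun u => chkM1 tab u) = true := by decide +kernel

theorem m1_149 : allRange 80013 537 (fun u => chkM1 tab u) = true := by decide +kernel


end Cfsg.Agent.Helper9.TCData.X1690
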