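import Cfsg.Agent.Lib.Helper9.TCData.X1690.Main

set_option autoImplicit false
set_option maxRecDepth 1000000

namespace Cfsg.Agent.Helper9.TCData.X1690
open Cfsg.Agent.Helper9.TC2

theorem e2_30 : allRange 61427 2154 (fun u => chkE tab 2 u) = true := by decide +kernel

theorem e2_31 : allRange 63581 1950 (fun u => chkE tab 2 u) = true := by decide +kernel

theorem e2_32 : allRange 65531 2041 (fun u => chkE tab 2 u) = true := by decide +kernel

theorem e2_33 : allRange 67572 2030 (fun u => chkE tab 2 u) = true := by decide +kernel

theorem e2_34 : allRange 69602 1902 (fun u => chkE tab 2 u) = true := by decide +kernel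

theorem e2_35 : allRange 71504 1929 (fun u => chkE tab 2 u) = true := by decide +kernel

theorem e2_36 : allRange 73433 1921 (fun u => chkE tab 2 u) = true := by decide +kernel

theorem e2_37 : allRange 75354 1979 (fun u => chkE tab 2 u) = true := by decide +kernel

theorem e2_38 : allRange 77333 2005 (fun u => chkE tab 2 u) = true := by decide +kernel

theorem e2_39 : allRange 79338 2318 (fun u => chkE tab 2 u) = true := by decide +kernel


end Cfsg.Agent.Helper9.TCData.X1690
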