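import Cfsg.Agent.Lib.Helper9.TCData.X1690.Main

set_option autoImplicit false
set_option maxRecDepth 1000000

namespace Cfsg.Agent.Helper9.TCData.X1690
open Cfsg.Agent.Helper9.TC2

theorem m1_160 : allRange 85920 537 (fun u => chkM1 tab u) = true := by decide +kernel

theorem m1_161 : allRange 86457 537 (fun u => chkM1 tab u) = true := by decide +kernel

theorem m1_162 : allRange 86994 537 (fun u => chkM1 tab u) = true := by decide +kernel

theorem m1_163 : allRange 87531 537 (fun u => chkM1 tab u) = true := by decide +kernel

theorem m1_164 : allRange 88068 537 (fun u => chkM1 tab u) = true := by decide +kernel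

theorem m1_165 : allRange 88605 537 (fun u => chkM1 tab u) = true := by decide +kernel

theorem m1_166 : allRange 89142 537 (fun u => chkM1 tab u) = true := by decide +kernel

theorem m1_167 : allRange 89679 537 (fun u => chkM1 tab u) = true := by decide +kernel

theorem m1_168 : allRange 90216 537 (fun u => chkM1 tab u) = true := by decide +kernel

theorem m1_169 : allRange 90753 537 (fun u => chkM1 tab u) = true := by decide +kernel


end Cfsg.Agent.Helper9.TCData.X1690
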