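import Cfsg.Agent.Lib.Helper9.TCData.X1690.Main

set_option autoImplicit false
set_option maxRecDepth 1000000

namespace Cfsg.Agent.Helper9.TCData.X1690
open Cfsg.Agent.Helper9.TC2

theorem m1_180 : allRange 96660 537 (fun u => chkM1 tab u) = true := by decide +kernel

theorem m1_181 : allRange 97197 537 (fun u => chkM1 tab u) = true := by decide +kernel

theorem m1_182 : allRange 97734 537 (fun u => chkM1 tab u) = true := by decide +kernel

theorem m1_183 : allRange 98271 537 (fun u => chkM1 tab u) = true := by decide +kernel

theorem m1_184 : allRange 98808 537 (fun u => chkM1 tab u) = true := by decide +kernel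

theorem m1_185 : allRange 99345 537 (fun u => chkM1 tab u) = true := by decide +kernel

theorem m1_186 : allRange 99882 537 (fun u => chkM1 tab u) = true := by decide +kernel

theorem m1_187 : allRange 100419 537 (fun u => chkM1 tab u) = true := by decide +kernel

theorem m1_188 : allRange 100956 537 (fun u => chkM1 tab u) = true := by decide +kernel

theorem m1_189 : allRange 101493 537 (fun u => chkM1 tab u) = true := by decide +kernel


end Cfsg.Agent.Helper9.TCData.X1690
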