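import Cfsg.Agent.Lib.Helper9.TCData.X1690.Main

set_option autoImplicit false
set_option maxRecDepth 1000000

namespace Cfsg.Agent.Helper9.TCData.X1690
open Cfsg.Agent.Helper9.TC2

theorem m1_190 : allRange 102030 537 (fun u => chkM1 tab u) = true := by decide +kernel

theorem m1_191 : allRange 102567 537 (fun u => chkM1 tab u) = true := by decide +kernel

theorem m1_192 : allRange 103104 537 (fun u => chkM1 tab u) = true := by decide +kernel

theorem m1_193 : allRange 103641 537 (fun u => chkM1 tab u) = true := by decide +kernel

theorem m1_194 : allRange 104178 537 (fun u => chkM1 tab u) = true := by decide +kernel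

theorem m1_195 : allRange 104715 537 (fun u => chkM1 tab u) = true := by decide +kernel

theorem m1_196 : allRange 105252 537 (fun u => chkM1 tab u) = true := by decide +kernel

theorem m1_197 : allRange 105789 537 (fun u => chkM1 tab u) = true := by decide +kernel

theorem m1_198 : allRange 106326 537 (fun u => chkM1 tab u) = true := by decide +kernel

theorem m1_199 : allRange 106863 537 (fun u => chkM1 tab u) = true := by decide +kernel


end Cfsg.Agent.Helper9.TCData.X1690
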