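import Cfsg.Agent.Lib.Helper9.TCData.X1690.Main

set_option autoImplicit false
set_option maxRecDepth 1000000

namespace Cfsg.Agent.Helper9.TCData.X1690
open Cfsg.Agent.Helper9.TC2

theorem m1_200 : allRange 107400 537 (fun u => chkM1 tab u) = true := by decide +kernel

theorem m1_201 : allRange 107937 537 (fun u => chkM1 tab u) = true := by decide +kernel

theorem m1_202 : allRange 108474 537 (fun u => chkM1 tab u) = true := by decide +kernel

theorem m1_203 : allRange 109011 537 (fun u => chkM1 tab u) = true := by decide +kernel

theorem m1_204 : allRange 109548 537 (fun u => chkM1 tab u) = true := by decide +kernel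

theorem m1_205 : allRange 110085 537 (fun u => chkM1 tab u) = true := by decide +kernel

theorem m1_206 : allRange 110622 537 (fun u => chkM1 tab u) = true := by decide +kernel

theorem m1_207 : allRange 111159 537 (fun u => chkM1 tab u) = true := by decide +kernel

theorem m1_208 : allRange 111696 537 (fun u => chkM1 tab u) = true := by decide +kernel

theorem m1_209 : allRange 112233 537 (fun u => chkM1 tab u) = true := by decide +kernel


end Cfsg.Agent.Helper9.TCData.X1690
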