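import Cfsg.Agent.Lib.Helper9.TCData.X1690.Main

set_option autoImplicit false
set_option maxRecDepth 1000000

namespace Cfsg.Agent.Helper9.TCData.X1690
open Cfsg.Agent.Helper9.TC2

theorem m1_210 : allRange 112770 537 (fun u => chkM1 tab u) = true := by decide +kernel

theorem m1_211 : allRange 113307 537 (fun u => chkM1 tab u) = true := by decide +kernel

theorem m1_212 : allRange 113844 537 (fun u => chkM1 tab u) = true := by decide +kernel

theorem m1_213 : allRange 114381 537 (fun u => chkM1 tab u) = true := by decide +kernel

theorem m1_214 : allRange 114918 537 (fun u => chkM1 tab u) = true := by decide +kernel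

theorem m1_215 : allRange 115455 537 (fun u => chkM1 tab u) = true := by decide +kernel

theorem m1_216 : allRange 115992 537 (fun u => chkM1 tab u) = true := by decide +kernel

theorem m1_217 : allRange 116529 537 (fun u => chkM1 tab u) = true := by decide +kernel

theorem m1_218 : allRange 117066 537 (fun u => chkM1 tab u) = true := by decide +kernel

theorem m1_219 : allRange 117603 537 (fun u => chkM1 tab u) = true := by decide +kernel


end Cfsg.Agent.Helper9.TCData.X1690
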