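import Cfsg.Agent.Lib.Helper9.TCData.X1690.Main

set_option autoImplicit false
set_option maxRecDepth 1000000

namespace Cfsg.Agent.Helper9.TCData.X1690
open Cfsg.Agent.Helper9.TC2

theorem m1_220 : allRange 118140 537 (fun u => chkM1 tab u) = true := by decide +kernel

theorem m1_221 : allRange 118677 537 (fun u => chkM1 tab u) = true := by decide +kernel

theorem m1_222 : allRange 119214 537 (fun u => chkM1 tab u) = true := by decide +kernel

theorem m1_223 : allRange 119751 537 (fun u => chkM1 tab u) = true := by decide +kernel

theorem m1_224 : allRange 120288 537 (fun u => chkM1 tab u) = true := by decide +kernel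

theorem m1_225 : allRange 120825 537 (fun u => chkM1 tab u) = true := by decide +kernel

theorem m1_226 : allRange 121362 537 (fun u => chkM1 tab u) = true := by decide +kernel

theorem m1_227 : allRange 121899 537 (fun u => chkM1 tab u) = true := by decide +kernel

theorem m1_228 : allRange 122436 537 (fun u => chkM1 tab u) = true := by decide +kernel

theorem m1_229 : allRange 122973 537 (fun u => chkM1 tab u) = true := by decide +kernel


end Cfsg.Agent.Helper9.TCData.X1690
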