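import Cfsg.Agent.Lib.Helper9.TCData.X1690.Main

set_option autoImplicit false
set_option maxRecDepth 1000000

namespace Cfsg.Agent.Helper9.TCData.X1690
open Cfsg.Agent.Helper9.TC2

theorem m1_230 : allRange 123510 537 (fun u => chkM1 tab u) = true := by decide +kernel

theorem m1_231 : allRange 124047 537 (fun u => chkM1 tab u) = true := by decide +kernel

theorem m1_232 : allRange 124584 537 (fun u => chkM1 tab u) = true := by decide +kernel

theorem m1_233 : allRange 125121 537 (fun u => chkM1 tab u) = true := by decide +kernel

theorem m1_234 : allRange 125658 537 (fun u => chkM1 tab u) = true := by decide +kernel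

theorem m1_235 : allRange 126195 537 (fun u => chkM1 tab u) = true := by decide +kernel

theorem m1_236 : allRange 126732 537 (fun u => chkM1 tab u) = true := by decide +kernel

theorem m1_237 : allRange 127269 537 (fun u => chkM1 tab u) = true := by decide +kernel

theorem m1_238 : allRange 127806 537 (fun u => chkM1 tab u) = true := by decide +kernel

theorem m1_239 : allRange 128343 537 (fun u => chkM1 tab u) = true := by decide +kernel


end Cfsg.Agent.Helper9.TCData.X1690
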