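import Cfsg.Agent.Lib.Helper9.TCData.X1690.Main

set_option autoImplicit false
set_option maxRecDepth 1000000

namespace Cfsg.Agent.Helper9.TCData.X1690
open Cfsg.Agent.Helper9.TC2

theorem m1_240 : allRange 128880 537 (fun u => chkM1 tab u) = true := by decide +kernel

theorem m1_241 : allRange 129417 537 (fun u => chkM1 tab u) = true := by decide +kernel

theorem m1_242 : allRange 129954 537 (fun u => chkM1 tab u) = true := by decide +kernel

theorem m1_243 : allRange 130491 537 (fun u => chkM1 tab u) = true := by decide +kernel

theorem m1_244 : allRange 131028 537 (fun u => chkM1 tab u) = true := by decide +kernel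

theorem m1_245 : allRange 131565 537 (fun u => chkM1 tab u) = true := by decide +kernel

theorem m1_246 : allRange 132102 537 (fun u => chkM1 tab u) = true := by decide +kernel

theorem m1_247 : allRange 132639 537 (fun u => chkM1 tab u) = true := by decide +kernel

theorem m1_248 : allRange 133176 537 (fun u => chkM1 tab u) = true := by decide +kernel

theorem m1_249 : allRange 133713 537 (fun u => chkM1 tab u) = true := by decide +kernel


end Cfsg.Agent.Helper9.TCData.X1690
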