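import Cfsg.Agent.Lib.Helper9.TCData.X1690.Main

set_option autoImplicit false
set_option maxRecDepth 1000000

namespace Cfsg.Agent.Helper9.TCData.X1690
open Cfsg.Agent.Helper9.TC2

theorem e2_40 : allRange 81656 2454 (fun u => chkE tab 2 u) = true := by decide +kernel

theorem e2_41 : allRange 84110 2217 (fun u => chkE tab 2 u) = true := by decide +kernel

theorem e2_42 : allRange 86327 2090 (fun u => chkE tab 2 u) = true := by decide +kernel

theorem e2_43 : allRange 88417 1995 (fun u => chkE tab 2 u) = true := by decide +kernel

theorem e2_44 : allRange 90412 2050 (fun u => chkE tab 2 u) = true := by decide +kernel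

theorem e2_45 : allRange 92462 2156 (fun u => chkE tab 2 u) = true := by decide +kernel

theorem e2_46 : allRange 94618 1946 (fun u => chkE tab 2 u) = true := by decide +kernel

theorem e2_47 : allRange 96564 1944 (fun u => chkE tab 2 u) = true := by decide +kernel

theorem e2_48 : allRange 98508 1867 (fun u => chkE tab 2 u) = true := by decide +kernel

theorem e2_49 : allRange 100375 2022 (fun u => chkE tab 2 u) = true := by decide +kernel


end Cfsg.Agent.Helper9.TCData.X1690
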