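import Cfsg.Agent.Lib.Helper9.TCData.X1690.Main

set_option autoImplicit false
set_option maxRecDepth 1000000

namespace Cfsg.Agent.Helper9.TCData.X1690
open Cfsg.Agent.Helper9.TC2

theorem m1_250 : allRange 134250 537 (fun u => chkM1 tab u) = true := by decide +kernel

theorem m1_251 : allRange 134787 537 (fun u => chkM1 tab u) = true := by decide +kernel

theorem m1_252 : allRange 135324 537 (fun u => chkM1 tab u) = true := by decide +kernel

theorem m1_253 : allRange 135861 537 (fun u => chkM1 tab u) = true := by decide +kernel

theorem m1_254 : allRange 136398 537 (fun u => chkM1 tab u) = true := by decide +kernel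

theorem m1_255 : allRange 136935 537 (fun u => chkM1 tab u) = true := by decide +kernel

theorem m1_256 : allRange 137472 537 (fun u => chkM1 tab u) = true := by decide +kernel

theorem m1_257 : allRange 138009 537 (fun u => chkM1 tab u) = true := by decide +kernel

theorem m1_258 : allRange 138546 537 (fun u => chkM1 tab u) = true := by decide +kernel

theorem m1_259 : allRange 139083 537 (fun u => chkM1 tab u) = true := by decide +kernel


end Cfsg.Agent.Helper9.TCData.X1690
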