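import Cfsg.Agent.Lib.Helper9.TCData.X1690.Main

set_option autoImplicit false
set_option maxRecDepth 1000000

namespace Cfsg.Agent.Helper9.TCData.X1690
open Cfsg.Agent.Helper9.TC2

theorem m1_260 : allRange 139620 537 (fun u => chkM1 tab u) = true := by decide +kernel

theorem m1_261 : allRange 140157 537 (fun u => chkM1 tab u) = true := by decide +kernel

theorem m1_262 : allRange 140694 537 (fun u => chkM1 tab u) = true := by decide +kernel

theorem m1_263 : allRange 141231 537 (fun u => chkM1 tab u) = true := by decide +kernel

theorem m1_264 : allRange 141768 537 (fun u => chkM1 tab u) = true := by decide +kernel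

theorem m1_265 : allRange 142305 537 (fun u => chkM1 tab u) = true := by decide +kernel

theorem m1_266 : allRange 142842 537 (fun u => chkM1 tab u) = true := by decide +kernel

theorem m1_267 : allRange 143379 537 (fun u => chkM1 tab u) = true := by decide +kernel

theorem m1_268 : allRange 143916 537 (fun u => chkM1 tab u) = true := by decide +kernel

theorem m1_269 : allRange 144453 537 (fun u => chkM1 tab u) = true := by decide +kernel


end Cfsg.Agent.Helper9.TCData.X1690
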