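import Cfsg.Agent.Lib.Helper9.TCData.X1690.Main

set_option autoImplicit false
set_option maxRecDepth 1000000

namespace Cfsg.Agent.Helper9.TCData.X1690
open Cfsg.Agent.Helper9.TC2

theorem m1_270 : allRange 144990 537 (fun u => chkM1 tab u) = true := by decide +kernel

theorem m1_271 : allRange 145527 537 (fun u => chkM1 tab u) = true := by decide +kernel

theorem m1_272 : allRange 146064 537 (fun u => chkM1 tab u) = true := by decide +kernel

theorem m1_273 : allRange 146601 537 (fun u => chkM1 tab u) = true := by decide +kernel

theorem m1_274 : allRange 147138 537 (fun u => chkM1 tab u) = true := by decide +kernel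

theorem m1_275 : allRange 147675 537 (fun u => chkM1 tab u) = true := by decide +kernel

theorem m1_276 : allRange 148212 537 (fun u => chkM1 tab u) = true := by decide +kernel

theorem m1_277 : allRange 148749 537 (fun u => chkM1 tab u) = true := by decide +kernel

theorem m1_278 : allRange 149286 537 (fun u => chkM1 tab u) = true := by decide +kernel

theorem m1_279 : allRange 149823 537 (fun u => chkM1 tab u) = true := by decide +kernel


end Cfsg.Agent.Helper9.TCData.X1690
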