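import Cfsg.Agent.Lib.Helper9.TCData.X1690.Main

set_option autoImplicit false
set_option maxRecDepth 1000000

namespace Cfsg.Agent.Helper9.TCData.X1690
open Cfsg.Agent.Helper9.TC2

theorem m1_280 : allRange 150360 537 (fun u => chkM1 tab u) = true := by decide +kernel

theorem m1_281 : allRange 150897 537 (fun u => chkM1 tab u) = true := by decide +kernel

theorem m1_282 : allRange 151434 537 (fun u => chkM1 tab u) = true := by decide +kernel

theorem m1_283 : allRange 151971 537 (fun u => chkM1 tab u) = true := by decide +kernel

theorem m1_284 : allRange 152508 537 (fun u => chkM1 tab u) = true := by decide +kernel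

theorem m1_285 : allRange 153045 537 (fun u => chkM1 tab u) = true := by decide +kernel

theorem m1_286 : allRange 153582 537 (fun u => chkM1 tab u) = true := by decide +kernel

theorem m1_287 : allRange 154119 537 (fun u => chkM1 tab u) = true := by decide +kernel

theorem m1_288 : allRange 154656 537 (fun u => chkM1 tab u) = true := by decide +kernel

theorem m1_289 : allRange 155193 537 (fun u => chkM1 tab u) = true := by decide +kernel


end Cfsg.Agent.Helper9.TCData.X1690
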