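import Cfsg.Agent.Lib.Helper9.TCData.X1690.Main

set_option autoImplicit false
set_option maxRecDepth 1000000

namespace Cfsg.Agent.Helper9.TCData.X1690
open Cfsg.Agent.Helper9.TC2

theorem m1_300 : allRange 161100 537 (fun u => chkM1 tab u) = true := by decide +kernel

theorem m1_301 : allRange 161637 537 (fun u => chkM1 tab u) = true := by decide +kernel

theorem m1_302 : allRange 162174 537 (fun u => chkM1 tab u) = true := by decide +kernel

theorem m1_303 : allRange 162711 537 (fun u => chkM1 tab u) = true := by decide +kernel

theorem m1_304 : allRange 163248 537 (fun u => chkM1 tab u) = true := by decide +kernel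

theorem m1_305 : allRange 163785 537 (fun u => chkM1 tab u) = true := by decide +kernel

theorem m1_306 : allRange 164322 537 (fun u => chkM1 tab u) = true := by decide +kernel

theorem m1_307 : allRange 164859 537 (fun u => chkM1 tab u) = true := by decide +kernel

theorem m1_308 : allRange 165396 537 (fun u => chkM1 tab u) = true := by decide +kernel

theorem m1_309 : allRange 165933 537 (fun u => chkM1 tab u) = true := by decide +kernel


end Cfsg.Agent.Helper9.TCData.X1690
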