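import Cfsg.Agent.Lib.Helper9.TCData.X1690.Main

set_option autoImplicit false
set_option maxRecDepth 1000000

namespace Cfsg.Agent.Helper9.TCData.X1690
open Cfsg.Agent.Helper9.TC2

theorem m1_310 : allRange 166470 537 (fun u => chkM1 tab u) = true := by decide +kernel

theorem m1_311 : allRange 167007 537 (fun u => chkM1 tab u) = true := by decide +kernel

theorem m1_312 : allRange 167544 537 (fun u => chkM1 tab u) = true := by decide +kernel

theorem m1_313 : allRange 168081 537 (fun u => chkM1 tab u) = true := by decide +kernel

theorem m1_314 : allRange 168618 537 (fun u => chkM1 tab u) = true := by decide +kernel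

theorem m1_315 : allRange 169155 537 (fun u => chkM1 tab u) = true := by decide +kernel

theorem m1_316 : allRange 169692 537 (fun u => chkM1 tab u) = true := by decide +kernel

theorem m1_317 : allRange 170229 537 (fun u => chkM1 tab u) = true := by decide +kernel

theorem m1_318 : allRange 170766 537 (fun u => chkM1 tab u) = true := by decide +kernel

theorem m1_319 : allRange 171303 537 (fun u => chkM1 tab u) = true := by decide +kernel


end Cfsg.Agent.Helper9.TCData.X1690
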