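import Cfsg.Agent.Lib.Helper9.TCData.X1690.Main

set_option autoImplicit false
set_option maxRecDepth 1000000

namespace Cfsg.Agent.Helper9.TCData.X1690
open Cfsg.Agent.Helper9.TC2

theorem m1_320 : allRange 171840 537 (fun u => chkM1 tab u) = true := by decide +kernel

theorem m1_321 : allRange 172377 537 (fun u => chkM1 tab u) = true := by decide +kernel

theorem m1_322 : allRange 172914 537 (fun u => chkM1 tab u) = true := by decide +kernel

theorem m1_323 : allRange 173451 537 (fun u => chkM1 tab u) = true := by decide +kernel

theorem m1_324 : allRange 173988 537 (fun u => chkM1 tab u) = true := by decide +kernel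

theorem m1_325 : allRange 174525 537 (fun u => chkM1 tab u) = true := by decide +kernel

theorem m1_326 : allRange 175062 537 (fun u => chkM1 tab u) = true := by decide +kernel

theorem m1_327 : allRange 175599 537 (fun u => chkM1 tab u) = true := by decide +kernel

theorem m1_328 : allRange 176136 537 (fun u => chkM1 tab u) = true := by decide +kernel

theorem m1_329 : allRange 176673 537 (fun u => chkM1 tab u) = true := by decide +kernel


end Cfsg.Agent.Helper9.TCData.X1690
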