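import Cfsg.Agent.Lib.Helper9.TCData.X1690.Main

set_option autoImplicit false
set_option maxRecDepth 1000000

namespace Cfsg.Agent.Helper9.TCData.X1690
open Cfsg.Agent.Helper9.TC2

theorem m1_330 : allRange 177210 537 (fun u => chkM1 tab u) = true := by decide +kernel

theorem m1_331 : allRange 177747 537 (fun u => chkM1 tab u) = true := by decide +kernel

theorem m1_332 : allRange 178284 537 (fun u => chkM1 tab u) = true := by decide +kernel

theorem m1_333 : allRange 178821 537 (fun u => chkM1 tab u) = true := by decide +kernel

theorem m1_334 : allRange 179358 537 (fun u => chkM1 tab u) = true := by decide +kernel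

theorem m1_335 : allRange 179895 537 (fun u => chkM1 tab u) = true := by decide +kernel

theorem m1_336 : allRange 180432 537 (fun u => chkM1 tab u) = true := by decide +kernel

theorem m1_337 : allRange 180969 537 (fun u => chkM1 tab u) = true := by decide +kernel

theorem m1_338 : allRange 181506 537 (fun u => chkM1 tab u) = true := by decide +kernel

theorem m1_339 : allRange 182043 537 (fun u => chkM1 tab u) = true := by decide +kernel


end Cfsg.Agent.Helper9.TCData.X1690
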