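import Cfsg.Agent.Lib.Helper9.TCData.X1690.Main

set_option autoImplicit false
set_option maxRecDepth 1000000

namespace Cfsg.Agent.Helper9.TCData.X1690
open Cfsg.Agent.Helper9.TC2

theorem m1_340 : allRange 182580 537 (fun u => chkM1 tab u) = true := by decide +kernel

theorem m1_341 : allRange 183117 537 (fun u => chkM1 tab u) = true := by decide +kernel

theorem m1_342 : allRange 183654 537 (fun u => chkM1 tab u) = true := by decide +kernel

theorem m1_343 : allRange 184191 537 (fun u => chkM1 tab u) = true := by decide +kernel

theorem m1_344 : allRange 184728 537 (fun u => chkM1 tab u) = true := by decide +kernel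

theorem m1_345 : allRange 185265 537 (fun u => chkM1 tab u) = true := by decide +kernel

theorem m1_346 : allRange 185802 537 (fun u => chkM1 tab u) = true := by decide +kernel

theorem m1_347 : allRange 186339 537 (fun u => chkM1 tab u) = true := by decide +kernel

theorem m1_348 : allRange 186876 537 (fun u => chkM1 tab u) = true := by decide +kernel

theorem m1_349 : allRange 187413 537 (fun u => chkM1 tab u) = true := by decide +kernel


end Cfsg.Agent.Helper9.TCData.X1690
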