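import Cfsg.Agent.Lib.Helper9.TCData.X1690.Main

set_option autoImplicit false
set_option maxRecDepth 1000000

namespace Cfsg.Agent.Helper9.TCData.X1690
open Cfsg.Agent.Helper9.TC2

theorem e2_50 : allRange 102397 1903 (fun u => chkE tab 2 u) = true := by decide +kernel

theorem e2_51 : allRange 104300 1994 (fun u => chkE tab 2 u) = true := by decide +kernel

theorem e2_52 : allRange 106294 1960 (fun u => chkE tab 2 u) = true := by decide +kernel

theorem e2_53 : allRange 108254 2028 (fun u => chkE tab 2 u) = true := by decide +kernel

theorem e2_54 : allRange 110282 2444 (fun u => chkE tab 2 u) = true := by decide +kernel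

theorem e2_55 : allRange 112726 2449 (fun u => chkE tab 2 u) = true := by decide +kernel

theorem e2_56 : allRange 115175 2575 (fun u => chkE tab 2 u) = true := by decide +kernel

theorem e2_57 : allRange 117750 2494 (fun u => chkE tab 2 u) = true := by decide +kernel

theorem e2_58 : allRange 120244 2556 (fun u => chkE tab 2 u) = true := by decide +kernel

theorem e2_59 : allRange 122800 3515 (fun u => chkE tab 2 u) = true := by decide +kernel


end Cfsg.Agent.Helper9.TCData.X1690
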