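import Cfsg.Agent.Lib.Helper9.TCData.X1690.Main

set_option autoImplicit false
set_option maxRecDepth 1000000

namespace Cfsg.Agent.Helper9.TCData.X1690
open Cfsg.Agent.Helper9.TC2

theorem m1_350 : allRange 187950 537 (fun u => chkM1 tab u) = true := by decide +kernel

theorem m1_351 : allRange 188487 537 (fun u => chkM1 tab u) = true := by decide +kernel

theorem m1_352 : allRange 189024 537 (fun u => chkM1 tab u) = true := by decide +kernel

theorem m1_353 : allRange 189561 537 (fun u => chkM1 tab u) = true := by decide +kernel

theorem m1_354 : allRange 190098 537 (fun u => chkM1 tab u) = true := by decide +kernel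

theorem m1_355 : allRange 190635 537 (fun u => chkM1 tab u) = true := by decide +kernel

theorem m1_356 : allRange 191172 537 (fun u => chkM1 tab u) = true := by decide +kernel

theorem m1_357 : allRange 191709 537 (fun u => chkM1 tab u) = true := by decide +kernel

theorem m1_358 : allRange 192246 537 (fun u => chkM1 tab u) = true := by decide +kernel

theorem m1_359 : allRange 192783 537 (fun u => chkM1 tab u) = true := by decide +kernel


end Cfsg.Agent.Helper9.TCData.X1690
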