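import Cfsg.Agent.Lib.Helper9.TCData.X1690.Main

set_option autoImplicit false
set_option maxRecDepth 1000000

namespace Cfsg.Agent.Helper9.TCData.X1690
open Cfsg.Agent.Helper9.TC2

theorem m1_360 : allRange 193320 537 (fun u => chkM1 tab u) = true := by decide +kernel

theorem m1_361 : allRange 193857 537 (fun u => chkM1 tab u) = true := by decide +kernel

theorem m1_362 : allRange 194394 537 (fun u => chkM1 tab u) = true := by decide +kernel

theorem m1_363 : allRange 194931 537 (fun u => chkM1 tab u) = true := by decide +kernel

theorem m1_364 : allRange 195468 537 (fun u => chkM1 tab u) = true := by decide +kernel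

theorem m1_365 : allRange 196005 537 (fun u => chkM1 tab u) = true := by decide +kernel

theorem m1_366 : allRange 196542 537 (fun u => chkM1 tab u) = true := by decide +kernel

theorem m1_367 : allRange 197079 537 (fun u => chkM1 tab u) = true := by decide +kernel

theorem m1_368 : allRange 197616 537 (fun u => chkM1 tab u) = true := by decide +kernel

theorem m1_369 : allRange 198153 537 (fun u => chkM1 tab u) = true := by decide +kernel


end Cfsg.Agent.Helper9.TCData.X1690
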