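import Cfsg.Agent.Lib.Helper9.TCData.X1690.Main

set_option autoImplicit false
set_option maxRecDepth 1000000

namespace Cfsg.Agent.Helper9.TCData.X1690
open Cfsg.Agent.Helper9.TC2

theorem m1_370 : allRange 198690 537 (fun u => chkM1 tab u) = true := by decide +kernel

theorem m1_371 : allRange 199227 537 (fun u => chkM1 tab u) = true := by decide +kernel

theorem m1_372 : allRange 199764 537 (fun u => chkM1 tab u) = true := by decide +kernel

theorem m1_373 : allRange 200301 537 (fun u => chkM1 tab u) = true := by decide +kernel

theorem m1_374 : allRange 200838 537 (fun u => chkM1 tab u) = true := by decide +kernel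

theorem m1_375 : allRange 201375 537 (fun u => chkM1 tab u) = true := by decide +kernel

theorem m1_376 : allRange 201912 537 (fun u => chkM1 tab u) = true := by decide +kernel

theorem m1_377 : allRange 202449 537 (fun u => chkM1 tab u) = true := by decide +kernel

theorem m1_378 : allRange 202986 537 (fun u => chkM1 tab u) = true := by decide +kernel

theorem m1_379 : allRange 203523 537 (fun u => chkM1 tab u) = true := by decide +kernel


end Cfsg.Agent.Helper9.TCData.X1690
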