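import Cfsg.Agent.Lib.Helper9.TCData.X1690.Main

set_option autoImplicit false
set_option maxRecDepth 1000000

namespace Cfsg.Agent.Helper9.TCData.X1690
open Cfsg.Agent.Helper9.TC2

theorem m1_380 : allRange 204060 537 (fun u => chkM1 tab u) = true := by decide +kernel

theorem m1_381 : allRange 204597 537 (fun u => chkM1 tab u) = true := by decide +kernel

theorem m1_382 : allRange 205134 537 (fun u => chkM1 tab u) = true := by decide +kernel

theorem m1_383 : allRange 205671 537 (fun u => chkM1 tab u) = true := by decide +kernel

theorem m1_384 : allRange 206208 537 (fun u => chkM1 tab u) = true := by decide +kernel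

theorem m1_385 : allRange 206745 537 (fun u => chkM1 tab u) = true := by decide +kernel

theorem m1_386 : allRange 207282 537 (fun u => chkM1 tab u) = true := by decide +kernel

theorem m1_387 : allRange 207819 537 (fun u => chkM1 tab u) = true := by decide +kernel

theorem m1_388 : allRange 208356 537 (fun u => chkM1 tab u) = true := by decide +kernel

theorem m1_389 : allRange 208893 537 (fun u => chkM1 tab u) = true := by decide +kernel


end Cfsg.Agent.Helper9.TCData.X1690
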