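import Cfsg.Agent.Lib.Helper9.TCData.X1690.Main

set_option autoImplicit false
set_option maxRecDepth 1000000

namespace Cfsg.Agent.Helper9.TCData.X1690
open Cfsg.Agent.Helper9.TC2

theorem m1_390 : allRange 209430 537 (fun u => chkM1 tab u) = true := by decide +kernel

theorem m1_391 : allRange 209967 537 (fun u => chkM1 tab u) = true := by decide +kernel

theorem m1_392 : allRange 210504 537 (fun u => chkM1 tab u) = true := by decide +kernel

theorem m1_393 : allRange 211041 537 (fun u => chkM1 tab u) = true := by decide +kernel

theorem m1_394 : allRange 211578 537 (fun u => chkM1 tab u) = true := by decide +kernel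

theorem m1_395 : allRange 212115 537 (fun u => chkM1 tab u) = true := by decide +kernel

theorem m1_396 : allRange 212652 537 (fun u => chkM1 tab u) = true := by decide +kernel

theorem m1_397 : allRange 213189 537 (fun u => chkM1 tab u) = true := by decide +kernel

theorem m1_398 : allRange 213726 537 (fun u => chkM1 tab u) = true := by decide +kernel

theorem m1_399 : allRange 214263 537 (fun u => chkM1 tab u) = true := by decide +kernel


end Cfsg.Agent.Helper9.TCData.X1690
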