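import Cfsg.Agent.Lib.Helper9.TCData.X1690.Main

set_option autoImplicit false
set_option maxRecDepth 1000000

namespace Cfsg.Agent.Helper9.TCData.X1690
open Cfsg.Agent.Helper9.TC2

theorem m1_400 : allRange 214800 537 (fun u => chkM1 tab u) = true := by decide +kernel

theorem m1_401 : allRange 215337 537 (fun u => chkM1 tab u) = true := by decide +kernel

theorem m1_402 : allRange 215874 537 (fun u => chkM1 tab u) = true := by decide +kernel

theorem m1_403 : allRange 216411 537 (fun u => chkM1 tab u) = true := by decide +kernel

theorem m1_404 : allRange 216948 537 (fun u => chkM1 tab u) = true := by decide +kernel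

theorem m1_405 : allRange 217485 537 (fun u => chkM1 tab u) = true := by decide +kernel

theorem m1_406 : allRange 218022 537 (fun u => chkM1 tab u) = true := by decide +kernel

theorem m1_407 : allRange 218559 537 (fun u => chkM1 tab u) = true := by decide +kernel

theorem m1_408 : allRange 219096 537 (fun u => chkM1 tab u) = true := by decide +kernel

theorem m1_409 : allRange 219633 537 (fun u => chkM1 tab u) = true := by decide +kernel


end Cfsg.Agent.Helper9.TCData.X1690
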