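import Cfsg.Agent.Lib.Helper9.TCData.X1690.Main

set_option autoImplicit false
set_option maxRecDepth 1000000

namespace Cfsg.Agent.Helper9.TCData.X1690
open Cfsg.Agent.Helper9.TC2

theorem m1_420 : allRange 225540 537 (fun u => chkM1 tab u) = true := by decide +kernel

theorem m1_421 : allRange 226077 537 (fun u => chkM1 tab u) = true := by decide +kernel

theorem m1_422 : allRange 226614 537 (fun u => chkM1 tab u) = true := by decide +kernel

theorem m1_423 : allRange 227151 537 (fun u => chkM1 tab u) = true := by decide +kernel

theorem m1_424 : allRange 227688 537 (fun u => chkM1 tab u) = true := by decide +kernel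

theorem m1_425 : allRange 228225 537 (fun u => chkM1 tab u) = true := by decide +kernel

theorem m1_426 : allRange 228762 537 (fun u => chkM1 tab u) = true := by decide +kernel

theorem m1_427 : allRange 229299 537 (fun u => chkM1 tab u) = true := by decide +kernel

theorem m1_428 : allRange 229836 537 (fun u => chkM1 tab u) = true := by decide +kernel

theorem m1_429 : allRange 230373 537 (fun u => chkM1 tab u) = true := by decide +kernel


end Cfsg.Agent.Helper9.TCData.X1690
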