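import Cfsg.Agent.Lib.Helper9.TCData.X1690.Main

set_option autoImplicit false
set_option maxRecDepth 1000000

namespace Cfsg.Agent.Helper9.TCData.X1690
open Cfsg.Agent.Helper9.TC2

theorem m1_430 : allRange 230910 537 (fun u => chkM1 tab u) = true := by decide +kernel

theorem m1_431 : allRange 231447 537 (fun u => chkM1 tab u) = true := by decide +kernel

theorem m1_432 : allRange 231984 537 (fun u => chkM1 tab u) = true := by decide +kernel

theorem m1_433 : allRange 232521 537 (fun u => chkM1 tab u) = true := by decide +kernel

theorem m1_434 : allRange 233058 537 (fun u => chkM1 tab u) = true := by decide +kernel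

theorem m1_435 : allRange 233595 537 (fun u => chkM1 tab u) = true := by decide +kernel

theorem m1_436 : allRange 234132 537 (fun u => chkM1 tab u) = true := by decide +kernel

theorem m1_437 : allRange 234669 537 (fun u => chkM1 tab u) = true := by decide +kernel

theorem m1_438 : allRange 235206 537 (fun u => chkM1 tab u) = true := by decide +kernel

theorem m1_439 : allRange 235743 537 (fun u => chkM1 tab u) = true := by decide +kernel


end Cfsg.Agent.Helper9.TCData.X1690
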