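import Cfsg.Agent.Lib.Helper9.TCData.X1690.Main

set_option autoImplicit false
set_option maxRecDepth 1000000

namespace Cfsg.Agent.Helper9.TCData.X1690
open Cfsg.Agent.Helper9.TC2

theorem m1_440 : allRange 236280 537 (fun u => chkM1 tab u) = true := by decide +kernel

theorem m1_441 : allRange 236817 537 (fun u => chkM1 tab u) = true := by decide +kernel

theorem m1_442 : allRange 237354 537 (fun u => chkM1 tab u) = true := by decide +kernel

theorem m1_443 : allRange 237891 537 (fun u => chkM1 tab u) = true := by decide +kernel

theorem m1_444 : allRange 238428 537 (fun u => chkM1 tab u) = true := by decide +kernel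

theorem m1_445 : allRange 238965 537 (fun u => chkM1 tab u) = true := by decide +kernel

theorem m1_446 : allRange 239502 537 (fun u => chkM1 tab u) = true := by decide +kernel

theorem m1_447 : allRange 240039 537 (fun u => chkM1 tab u) = true := by decide +kernel

theorem m1_448 : allRange 240576 537 (fun u => chkM1 tab u) = true := by decide +kernel

theorem m1_449 : allRange 241113 537 (fun u => chkM1 tab u) = true := by decide +kernel


end Cfsg.Agent.Helper9.TCData.X1690
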