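import Cfsg.Agent.Lib.Helper9.TCData.X1690.Main

set_option autoImplicit false
set_option maxRecDepth 1000000

namespace Cfsg.Agent.Helper9.TCData.X1690
open Cfsg.Agent.Helper9.TC2

theorem e0_40 : allRange 80365 1635 (fun u => chkE tab 0 u) = true := by decide +kernel

theorem e0_41 : allRange 82000 1723 (fun u => chkE tab 0 u) = true := by decide +kernel

theorem e0_42 : allRange 83723 2778 (fun u => chkE tab 0 u) = true := by decide +kernel

theorem e0_43 : allRange 86501 4257 (fun u => chkE tab 0 u) = true := by decide +kernel

theorem e0_44 : allRange 90758 3491 (fun u => chkE tab 0 u) = true := by decide +kernel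

theorem e0_45 : allRange 94249 1673 (fun u => chkE tab 0 u) = true := by decide +kernel

theorem e0_46 : allRange 95922 1625 (fun u => chkE tab 0 u) = true := by decide +kernel

theorem e0_47 : allRange 97547 1661 (fun u => chkE tab 0 u) = true := by decide +kernel

theorem e0_48 : allRange 99208 1653 (fun u => chkE tab 0 u) = true := by decide +kernel

theorem e0_49 : allRange 100861 1668 (fun u => chkE tab 0 u) = true := by decide +kernel


end Cfsg.Agent.Helper9.TCData.X1690
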