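import Cfsg.Agent.Lib.Helper9.TCData.X1690.Main

set_option autoImplicit false
set_option maxRecDepth 1000000

namespace Cfsg.Agent.Helper9.TCData.X1690
open Cfsg.Agent.Helper9.TC2

theorem e2_60 : allRange 126315 3228 (fun u => chkE tab 2 u) = true := by decide +kernel

theorem e2_61 : allRange 129543 3192 (fun u => chkE tab 2 u) = true := by decide +kernel

theorem e2_62 : allRange 132735 2344 (fun u => chkE tab 2 u) = true := by decide +kernel

theorem e2_63 : allRange 135079 2223 (fun u => chkE tab 2 u) = true := by decide +kernel

theorem e2_64 : allRange 137302 2923 (fun u => chkE tab 2 u) = true := by decide +kernel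

theorem e2_65 : allRange 140225 3675 (fun u => chkE tab 2 u) = true := by decide +kernel

theorem e2_66 : allRange 143900 3373 (fun u => chkE tab 2 u) = true := by decide +kernel

theorem e2_67 : allRange 147273 3957 (fun u => chkE tab 2 u) = true := by decide +kernel

theorem e2_68 : allRange 151230 3663 (fun u => chkE tab 2 u) = true := by decide +kernel

theorem e2_69 : allRange 154893 5543 (fun u => chkE tab 2 u) = true := by decide +kernel


end Cfsg.Agent.Helper9.TCData.X1690
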