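import Cfsg.Agent.Lib.Helper9.TCData.X1690.Main

set_option autoImplicit false
set_option maxRecDepth 1000000

namespace Cfsg.Agent.Helper9.TCData.X1690
open Cfsg.Agent.Helper9.TC2

theorem m1_450 : allRange 241650 537 (fun u => chkM1 tab u) = true := by decide +kernel

theorem m1_451 : allRange 242187 537 (fun u => chkM1 tab u) = true := by decide +kernel

theorem m1_452 : allRange 242724 537 (fun u => chkM1 tab u) = true := by decide +kernel

theorem m1_453 : allRange 243261 537 (fun u => chkM1 tab u) = true := by decide +kernel

theorem m1_454 : allRange 243798 537 (fun u => chkM1 tab u) = true := by decide +kernel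

theorem m1_455 : allRange 244335 537 (fun u => chkM1 tab u) = true := by decide +kernel

theorem m1_456 : allRange 244872 537 (fun u => chkM1 tab u) = true := by decide +kernel

theorem m1_457 : allRange 245409 537 (fun u => chkM1 tab u) = true := by decide +kernel

theorem m1_458 : allRange 245946 537 (fun u => chkM1 tab u) = true := by decide +kernel

theorem m1_459 : allRange 246483 537 (fun u => chkM1 tab u) = true := by decide +kernel


end Cfsg.Agent.Helper9.TCData.X1690
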