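import Cfsg.Agent.Lib.Helper9.TCData.X1690.Main

set_option autoImplicit false
set_option maxRecDepth 1000000

namespace Cfsg.Agent.Helper9.TCData.X1690
open Cfsg.Agent.Helper9.TC2

theorem m1_460 : allRange 247020 537 (fun u => chkM1 tab u) = true := by decide +kernel

theorem m1_461 : allRange 247557 537 (fun u => chkM1 tab u) = true := by decide +kernel

theorem m1_462 : allRange 248094 537 (fun u => chkM1 tab u) = true := by decide +kernel

theorem m1_463 : allRange 248631 537 (fun u => chkM1 tab u) = true := by decide +kernel

theorem m1_464 : allRange 249168 537 (fun u => chkM1 tab u) = true := by decide +kernel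

theorem m1_465 : allRange 249705 537 (fun u => chkM1 tab u) = true := by decide +kernel

theorem m1_466 : allRange 250242 537 (fun u => chkM1 tab u) = true := by decide +kernel

theorem m1_467 : allRange 250779 537 (fun u => chkM1 tab u) = true := by decide +kernel

theorem m1_468 : allRange 251316 537 (fun u => chkM1 tab u) = true := by decide +kernel

theorem m1_469 : allRange 251853 537 (fun u => chkM1 tab u) = true := by decide +kernel


end Cfsg.Agent.Helper9.TCData.X1690
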