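import Cfsg.Agent.Lib.Helper9.TCData.X1690.Main

set_option autoImplicit false
set_option maxRecDepth 1000000

namespace Cfsg.Agent.Helper9.TCData.X1690
open Cfsg.Agent.Helper9.TC2

theorem m1_470 : allRange 252390 537 (fun u => chkM1 tab u) = true := by decide +kernel

theorem m1_471 : allRange 252927 537 (fun u => chkM1 tab u) = true := by decide +kernel

theorem m1_472 : allRange 253464 537 (fun u => chkM1 tab u) = true := by decide +kernel

theorem m1_473 : allRange 254001 537 (fun u => chkM1 tab u) = true := by decide +kernel

theorem m1_474 : allRange 254538 537 (fun u => chkM1 tab u) = true := by decide +kernel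

theorem m1_475 : allRange 255075 537 (fun u => chkM1 tab u) = true := by decide +kernel

theorem m1_476 : allRange 255612 537 (fun u => chkM1 tab u) = true := by decide +kernel

theorem m1_477 : allRange 256149 537 (fun u => chkM1 tab u) = true := by decide +kernel

theorem m1_478 : allRange 256686 537 (fun u => chkM1 tab u) = true := by decide +kernel

theorem m1_479 : allRange 257223 537 (fun u => chkM1 tab u) = true := by decide +kernel


end Cfsg.Agent.Helper9.TCData.X1690
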