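import Cfsg.Agent.Lib.Helper9.TCData.X1690.Main

set_option autoImplicit false
set_option maxRecDepth 1000000

namespace Cfsg.Agent.Helper9.TCData.X1690
open Cfsg.Agent.Helper9.TC2

theorem m1_480 : allRange 257760 537 (fun u => chkM1 tab u) = true := by decide +kernel

theorem m1_481 : allRange 258297 537 (fun u => chkM1 tab u) = true := by decide +kernel

theorem m1_482 : allRange 258834 537 (fun u => chkM1 tab u) = true := by decide +kernel

theorem m1_483 : allRange 259371 537 (fun u => chkM1 tab u) = true := by decide +kernel

theorem m1_484 : allRange 259908 537 (fun u => chkM1 tab u) = true := by decide +kernel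

theorem m1_485 : allRange 260445 537 (fun u => chkM1 tab u) = true := by decide +kernel

theorem m1_486 : allRange 260982 537 (fun u => chkM1 tab u) = true := by decide +kernel

theorem m1_487 : allRange 261519 537 (fun u => chkM1 tab u) = true := by decide +kernel

theorem m1_488 : allRange 262056 537 (fun u => chkM1 tab u) = true := by decide +kernel

theorem m1_489 : allRange 262593 537 (fun u => chkM1 tab u) = true := by decide +kernel


end Cfsg.Agent.Helper9.TCData.X1690
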