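import Cfsg.Agent.Lib.Helper9.TCData.X1690.Main

set_option autoImplicit false
set_option maxRecDepth 1000000

namespace Cfsg.Agent.Helper9.TCData.X1690
open Cfsg.Agent.Helper9.TC2

theorem m1_490 : allRange 263130 537 (fun u => chkM1 tab u) = true := by decide +kernel

theorem m1_491 : allRange 263667 537 (fun u => chkM1 tab u) = true := by decide +kernel

theorem m1_492 : allRange 264204 537 (fun u => chkM1 tab u) = true := by decide +kernel

theorem m1_493 : allRange 264741 537 (fun u => chkM1 tab u) = true := by decide +kernel

theorem m1_494 : allRange 265278 537 (fun u => chkM1 tab u) = true := by decide +kernel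

theorem m1_495 : allRange 265815 537 (fun u => chkM1 tab u) = true := by decide +kernel

theorem m1_496 : allRange 266352 537 (fun u => chkM1 tab u) = true := by decide +kernel

theorem m1_497 : allRange 266889 537 (fun u => chkM1 tab u) = true := by decide +kernel

theorem m1_498 : allRange 267426 537 (fun u => chkM1 tab u) = true := by decide +kernel

theorem m1_499 : allRange 267963 537 (fun u => chkM1 tab u) = true := by decide +kernel


end Cfsg.Agent.Helper9.TCData.X1690
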