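import Cfsg.Agent.Lib.Helper9.TCData.X1690.Main

set_option autoImplicit false
set_option maxRecDepth 1000000

namespace Cfsg.Agent.Helper9.TCData.X1690
open Cfsg.Agent.Helper9.TC2

theorem m1_500 : allRange 268500 537 (fun u => chkM1 tab u) = true := by decide +kernel

theorem m1_501 : allRange 269037 537 (fun u => chkM1 tab u) = true := by decide +kernel

theorem m1_502 : allRange 269574 537 (fun u => chkM1 tab u) = true := by decide +kernel

theorem m1_503 : allRange 270111 537 (fun u => chkM1 tab u) = true := by decide +kernel

theorem m1_504 : allRange 270648 537 (fun u => chkM1 tab u) = true := by decide +kernel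

theorem m1_505 : allRange 271185 537 (fun u => chkM1 tab u) = true := by decide +kernel

theorem m1_506 : allRange 271722 537 (fun u => chkM1 tab u) = true := by decide +kernel

theorem m1_507 : allRange 272259 537 (fun u => chkM1 tab u) = true := by decide +kernel

theorem m1_508 : allRange 272796 537 (fun u => chkM1 tab u) = true := by decide +kernel

theorem m1_509 : allRange 273333 537 (fun u => chkM1 tab u) = true := by decide +kernel


end Cfsg.Agent.Helper9.TCData.X1690
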