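import Cfsg.Agent.Lib.Helper9.TCData.X1690.Main

set_option autoImplicit false
set_option maxRecDepth 1000000

namespace Cfsg.Agent.Helper9.TCData.X1690
open Cfsg.Agent.Helper9.TC2

theorem m1_510 : allRange 273870 537 (fun u => chkM1 tab u) = true := by decide +kernel

theorem m1_511 : allRange 274407 537 (fun u => chkM1 tab u) = true := by decide +kernel

theorem m1_512 : allRange 274944 537 (fun u => chkM1 tab u) = true := by decide +kernel

theorem m1_513 : allRange 275481 537 (fun u => chkM1 tab u) = true := by decide +kernel

theorem m1_514 : allRange 276018 537 (fun u => chkM1 tab u) = true := by decide +kernel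

theorem m1_515 : allRange 276555 537 (fun u => chkM1 tab u) = true := by decide +kernel

theorem m1_516 : allRange 277092 537 (fun u => chkM1 tab u) = true := by decide +kernel

theorem m1_517 : allRange 277629 537 (fun u => chkM1 tab u) = true := by decide +kernel

theorem m1_518 : allRange 278166 537 (fun u => chkM1 tab u) = true := by decide +kernel

theorem m1_519 : allRange 278703 537 (fun u => chkM1 tab u) = true := by decide +kernel


end Cfsg.Agent.Helper9.TCData.X1690
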