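import Cfsg.Agent.Lib.Helper9.TCData.X1690.Main

set_option autoImplicit false
set_option maxRecDepth 1000000

namespace Cfsg.Agent.Helper9.TCData.X1690
open Cfsg.Agent.Helper9.TC2

theorem m1_520 : allRange 279240 537 (fun u => chkM1 tab u) = true := by decide +kernel

theorem m1_521 : allRange 279777 537 (fun u => chkM1 tab u) = true := by decide +kernel

theorem m1_522 : allRange 280314 537 (fun u => chkM1 tab u) = true := by decide +kernel

theorem m1_523 : allRange 280851 537 (fun u => chkM1 tab u) = true := by decide +kernel

theorem m1_524 : allRange 281388 537 (fun u => chkM1 tab u) = true := by decide +kernel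

theorem m1_525 : allRange 281925 537 (fun u => chkM1 tab u) = true := by decide +kernel

theorem m1_526 : allRange 282462 537 (fun u => chkM1 tab u) = true := by decide +kernel

theorem m1_527 : allRange 282999 537 (fun u => chkM1 tab u) = true := by decide +kernel

theorem m1_528 : allRange 283536 537 (fun u => chkM1 tab u) = true := by decide +kernel

theorem m1_529 : allRange 284073 537 (fun u => chkM1 tab u) = true := by decide +kernel


end Cfsg.Agent.Helper9.TCData.X1690
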