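import Cfsg.Agent.Lib.Helper9.TCData.X1690.Main

set_option autoImplicit false
set_option maxRecDepth 1000000

namespace Cfsg.Agent.Helper9.TCData.X1690
open Cfsg.Agent.Helper9.TC2

theorem m1_540 : allRange 289980 537 (fun u => chkM1 tab u) = true := by decide +kernel

theorem m1_541 : allRange 290517 537 (fun u => chkM1 tab u) = true := by decide +kernel

theorem m1_542 : allRange 291054 537 (fun u => chkM1 tab u) = true := by decide +kernel

theorem m1_543 : allRange 291591 537 (fun u => chkM1 tab u) = true := by decide +kernel

theorem m1_544 : allRange 292128 537 (fun u => chkM1 tab u) = true := by decide +kernel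

theorem m1_545 : allRange 292665 537 (fun u => chkM1 tab u) = true := by decide +kernel

theorem m1_546 : allRange 293202 537 (fun u => chkM1 tab u) = true := by decide +kernel

theorem m1_547 : allRange 293739 537 (fun u => chkM1 tab u) = true := by decide +kernel

theorem m1_548 : allRange 294276 537 (fun u => chkM1 tab u) = true := by decide +kernel

theorem m1_549 : allRange 294813 537 (fun u => chkM1 tab u) = true := by decide +kernel


end Cfsg.Agent.Helper9.TCData.X1690
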