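import Cfsg.Agent.Lib.Helper9.TCData.X1690.Main

set_option autoImplicit false
set_option maxRecDepth 1000000

namespace Cfsg.Agent.Helper9.TCData.X1690
open Cfsg.Agent.Helper9.TC2

theorem e2_70 : allRange 160436 3216 (fun u => chkE tab 2 u) = true := by decide +kernel

theorem e2_71 : allRange 163652 2444 (fun u => chkE tab 2 u) = true := by decide +kernel

theorem e2_72 : allRange 166096 2338 (fun u => chkE tab 2 u) = true := by decide +kernel

theorem e2_73 : allRange 168434 2045 (fun u => chkE tab 2 u) = true := by decide +kernel

theorem e2_74 : allRange 170479 2098 (fun u => chkE tab 2 u) = true := by decide +kernel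

theorem e2_75 : allRange 172577 2055 (fun u => chkE tab 2 u) = true := by decide +kernel

theorem e2_76 : allRange 174632 2225 (fun u => chkE tab 2 u) = true := by decide +kernel

theorem e2_77 : allRange 176857 2380 (fun u => chkE tab 2 u) = true := by decide +kernel

theorem e2_78 : allRange 179237 2677 (fun u => chkE tab 2 u) = true := by decide +kernel

theorem e2_79 : allRange 181914 2240 (fun u => chkE tab 2 u) = true := by decide +kernel


end Cfsg.Agent.Helper9.TCData.X1690
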