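import Cfsg.Agent.Lib.Helper9.TCData.X1690.Main

set_option autoImplicit false
set_option maxRecDepth 1000000

namespace Cfsg.Agent.Helper9.TCData.X1690
open Cfsg.Agent.Helper9.TC2

theorem m1_550 : allRange 295350 537 (fun u => chkM1 tab u) = true := by decide +kernel

theorem m1_551 : allRange 295887 537 (fun u => chkM1 tab u) = true := by decide +kernel

theorem m1_552 : allRange 296424 537 (fun u => chkM1 tab u) = true := by decide +kernel

theorem m1_553 : allRange 296961 537 (fun u => chkM1 tab u) = true := by decide +kernel

theorem m1_554 : allRange 297498 537 (fun u => chkM1 tab u) = true := by decide +kernel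

theorem m1_555 : allRange 298035 537 (fun u => chkM1 tab u) = true := by decide +kernel

theorem m1_556 : allRange 298572 537 (fun u => chkM1 tab u) = true := by decide +kernel

theorem m1_557 : allRange 299109 537 (fun u => chkM1 tab u) = true := by decide +kernel

theorem m1_558 : allRange 299646 537 (fun u => chkM1 tab u) = true := by decide +kernel

theorem m1_559 : allRange 300183 537 (fun u => chkM1 tab u) = true := by decide +kernel


end Cfsg.Agent.Helper9.TCData.X1690
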