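import Cfsg.Agent.Lib.Helper9.TCData.X1690.Main

set_option autoImplicit false
set_option maxRecDepth 1000000

namespace Cfsg.Agent.Helper9.TCData.X1690
open Cfsg.Agent.Helper9.TC2

theorem m1_560 : allRange 300720 537 (fun u => chkM1 tab u) = true := by decide +kernel

theorem m1_561 : allRange 301257 537 (fun u => chkM1 tab u) = true := by decide +kernel

theorem m1_562 : allRange 301794 537 (fun u => chkM1 tab u) = true := by decide +kernel

theorem m1_563 : allRange 302331 537 (fun u => chkM1 tab u) = true := by decide +kernel

theorem m1_564 : allRange 302868 537 (fun u => chkM1 tab u) = true := by decide +kernel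

theorem m1_565 : allRange 303405 537 (fun u => chkM1 tab u) = true := by decide +kernel

theorem m1_566 : allRange 303942 537 (fun u => chkM1 tab u) = true := by decide +kernel

theorem m1_567 : allRange 304479 537 (fun u => chkM1 tab u) = true := by decide +kernel

theorem m1_568 : allRange 305016 537 (fun u => chkM1 tab u) = true := by decide +kernel

theorem m1_569 : allRange 305553 537 (fun u => chkM1 tab u) = true := by decide +kernel


end Cfsg.Agent.Helper9.TCData.X1690
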