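import Cfsg.Agent.Lib.Helper9.TCData.X1690.Main

set_option autoImplicit false
set_option maxRecDepth 1000000

namespace Cfsg.Agent.Helper9.TCData.X1690
open Cfsg.Agent.Helper9.TC2

theorem m1_570 : allRange 306090 537 (fun u => chkM1 tab u) = true := by decide +kernel

theorem m1_571 : allRange 306627 309 (fun u => chkM1 tab u) = true := by decide +kernel

theorem ma_0 : allRange 0 548 (fun u => chkAux tab aux u) = true := by decide +kernel

theorem ma_1 : allRange 548 548 (fun u => chkAux tab aux u) = true := by decide +kernel

theorem ma_2 : allRange 1096 548 (fun u => chkAux tab aux u) = true := by decide +kernel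

theorem ma_3 : allRange 1644 548 (fun u => chkAux tab aux u) = true := by decide +kernel

theorem ma_4 : allRange 2192 548 (fun u => chkAux tab aux u) = true := by decide +kernel

theorem ma_5 : allRange 2740 548 (fun u => chkAux tab aux u) = true := by decide +kernel

theorem ma_6 : allRange 3288 548 (fun u => chkAux tab aux u) = true := by decide +kernel

theorem ma_7 : allRange 3836 548 (fun u => chkAux tab aux u) = true := by decide +kernel


end Cfsg.Agent.Helper9.TCData.X1690
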