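import Cfsg.Agent.Lib.Helper9.TCData.X1690.Main

set_option autoImplicit false
set_option maxRecDepth 1000000

namespace Cfsg.Agent.Helper9.TCData.X1690
open Cfsg.Agent.Helper9.TC2

theorem ma_8 : allRange 4384 548 (fun u => chkAux tab aux u) = true := by decide +kernel

theorem ma_9 : allRange 4932 548 (fun u => chkAux tab aux u) = true := by decide +kernel

theorem ma_10 : allRange 5480 548 (fun u => chkAux tab aux u) = true := by decide +kernel

theorem ma_11 : allRange 6028 548 (fun u => chkAux tab aux u) = true := by decide +kernel

theorem ma_12 : allRange 6576 548 (fun u => chkAux tab aux u) = true := by decide +kernel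

theorem ma_13 : allRange 7124 548 (fun u => chkAux tab aux u) = true := by decide +kernel

theorem ma_14 : allRange 7672 548 (fun u => chkAux tab aux u) = true := by decide +kernel

theorem ma_15 : allRange 8220 548 (fun u => chkAux tab aux u) = true := by decide +kernel

theorem ma_16 : allRange 8768 548 (fun u => chkAux tab aux u) = true := by decide +kernel

theorem ma_17 : allRange 9316 548 (fun u => chkAux tab aux u) = true := by decide +kernel


end Cfsg.Agent.Helper9.TCData.X1690
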