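import Cfsg.Agent.Lib.Helper9.TCData.X1690.Main

set_option autoImplicit false
set_option maxRecDepth 1000000

namespace Cfsg.Agent.Helper9.TCData.X1690
open Cfsg.Agent.Helper9.TC2

theorem ma_18 : allRange 9864 548 (fun u => chkAux tab aux u) = true := by decide +kernel

theorem ma_19 : allRange 10412 548 (fun u => chkAux tab aux u) = true := by decide +kernel

theorem ma_20 : allRange 10960 548 (fun u => chkAux tab aux u) = true := by decide +kernel

theorem ma_21 : allRange 11508 548 (fun u => chkAux tab aux u) = true := by decide +kernel

theorem ma_22 : allRange 12056 548 (fun u => chkAux tab aux u) = true := by decide +kernel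

theorem ma_23 : allRange 12604 548 (fun u => chkAux tab aux u) = true := by decide +kernel

theorem ma_24 : allRange 13152 548 (fun u => chkAux tab aux u) = true := by decide +kernel

theorem ma_25 : allRange 13700 548 (fun u => chkAux tab aux u) = true := by decide +kernel

theorem ma_26 : allRange 14248 548 (fun u => chkAux tab aux u) = true := by decide +kernel

theorem ma_27 : allRange 14796 548 (fun u => chkAux tab aux u) = true := by decide +kernel


end Cfsg.Agent.Helper9.TCData.X1690
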