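import Cfsg.Agent.Lib.Helper9.TCData.X1690.Main

set_option autoImplicit false
set_option maxRecDepth 1000000

namespace Cfsg.Agent.Helper9.TCData.X1690
open Cfsg.Agent.Helper9.TC2

theorem ma_28 : allRange 15344 548 (fun u => chkAux tab aux u) = true := by decide +kernel

theorem ma_29 : allRange 15892 548 (fun u => chkAux tab aux u) = true := by decide +kernel

theorem ma_30 : allRange 16440 548 (fun u => chkAux tab aux u) = true := by decide +kernel

theorem ma_31 : allRange 16988 548 (fun u => chkAux tab aux u) = true := by decide +kernel

theorem ma_32 : allRange 17536 548 (fun u => chkAux tab aux u) = true := by decide +kernel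

theorem ma_33 : allRange 18084 548 (fun u => chkAux tab aux u) = true := by decide +kernel

theorem ma_34 : allRange 18632 548 (fun u => chkAux tab aux u) = true := by decide +kernel

theorem ma_35 : allRange 19180 548 (fun u => chkAux tab aux u) = true := by decide +kernel

theorem ma_36 : allRange 19728 548 (fun u => chkAux tab aux u) = true := by decide +kernel

theorem ma_37 : allRange 20276 548 (fun u => chkAux tab aux u) = true := by decide +kernel


end Cfsg.Agent.Helper9.TCData.X1690
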