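import Cfsg.Agent.Lib.Helper9.TCData.X1690.Main

set_option autoImplicit false
set_option maxRecDepth 1000000

namespace Cfsg.Agent.Helper9.TCData.X1690
open Cfsg.Agent.Helper9.TC2

theorem ma_38 : allRange 20824 548 (fun u => chkAux tab aux u) = true := by decide +kernel

theorem ma_39 : allRange 21372 548 (fun u => chkAux tab aux u) = true := by decide +kernel

theorem ma_40 : allRange 21920 548 (fun u => chkAux tab aux u) = true := by decide +kernel

theorem ma_41 : allRange 22468 548 (fun u => chkAux tab aux u) = true := by decide +kernel

theorem ma_42 : allRange 23016 548 (fun u => chkAux tab aux u) = true := by decide +kernel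

theorem ma_43 : allRange 23564 548 (fun u => chkAux tab aux u) = true := by decide +kernel

theorem ma_44 : allRange 24112 548 (fun u => chkAux tab aux u) = true := by decide +kernel

theorem ma_45 : allRange 24660 548 (fun u => chkAux tab aux u) = true := by decide +kernel

theorem ma_46 : allRange 25208 548 (fun u => chkAux tab aux u) = true := by decide +kernel

theorem ma_47 : allRange 25756 548 (fun u => chkAux tab aux u) = true := by decide +kernel


end Cfsg.Agent.Helper9.TCData.X1690
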