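import Cfsg.Agent.Lib.Helper9.TCData.X1690.Main

set_option autoImplicit false
set_option maxRecDepth 1000000

namespace Cfsg.Agent.Helper9.TCData.X1690
open Cfsg.Agent.Helper9.TC2

theorem ma_48 : allRange 26304 548 (fun u => chkAux tab aux u) = true := by decide +kernel

theorem ma_49 : allRange 26852 548 (fun u => chkAux tab aux u) = true := by decide +kernel

theorem ma_50 : allRange 27400 548 (fun u => chkAux tab aux u) = true := by decide +kernel

theorem ma_51 : allRange 27948 548 (fun u => chkAux tab aux u) = true := by decide +kernel

theorem ma_52 : allRange 28496 548 (fun u => chkAux tab aux u) = true := by decide +kernel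

theorem ma_53 : allRange 29044 548 (fun u => chkAux tab aux u) = true := by decide +kernel

theorem ma_54 : allRange 29592 548 (fun u => chkAux tab aux u) = true := by decide +kernel

theorem ma_55 : allRange 30140 548 (fun u => chkAux tab aux u) = true := by decide +kernel

theorem ma_56 : allRange 30688 548 (fun u => chkAux tab aux u) = true := by decide +kernel

theorem ma_57 : allRange 31236 548 (fun u => chkAux tab aux u) = true := by decide +kernel


end Cfsg.Agent.Helper9.TCData.X1690
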