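import Cfsg.Agent.Lib.Helper9.TCData.X1690.Main

set_option autoImplicit false
set_option maxRecDepth 1000000

namespace Cfsg.Agent.Helper9.TCData.X1690
open Cfsg.Agent.Helper9.TC2

theorem ma_58 : allRange 31784 548 (fun u => chkAux tab aux u) = true := by decide +kernel

theorem ma_59 : allRange 32332 548 (fun u => chkAux tab aux u) = true := by decide +kernel

theorem ma_60 : allRange 32880 548 (fun u => chkAux tab aux u) = true := by decide +kernel

theorem ma_61 : allRange 33428 548 (fun u => chkAux tab aux u) = true := by decide +kernel

theorem ma_62 : allRange 33976 548 (fun u => chkAux tab aux u) = true := by decide +kernel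

theorem ma_63 : allRange 34524 548 (fun u => chkAux tab aux u) = true := by decide +kernel

theorem ma_64 : allRange 35072 548 (fun u => chkAux tab aux u) = true := by decide +kernel

theorem ma_65 : allRange 35620 548 (fun u => chkAux tab aux u) = true := by decide +kernel

theorem ma_66 : allRange 36168 548 (fun u => chkAux tab aux u) = true := by decide +kernel

theorem ma_67 : allRange 36716 548 (fun u => chkAux tab aux u) = true := by decide +kernel


end Cfsg.Agent.Helper9.TCData.X1690
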