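import Cfsg.Agent.Lib.Helper9.TCData.X1690.Main

set_option autoImplicit false
set_option maxRecDepth 1000000

namespace Cfsg.Agent.Helper9.TCData.X1690
open Cfsg.Agent.Helper9.TC2

theorem e2_80 : allRange 184154 2253 (fun u => chkE tab 2 u) = true := by decide +kernel

theorem e2_81 : allRange 186407 2137 (fun u => chkE tab 2 u) = true := by decide +kernel

theorem e2_82 : allRange 188544 2156 (fun u => chkE tab 2 u) = true := by decide +kernel

theorem e2_83 : allRange 190700 1969 (fun u => chkE tab 2 u) = true := by decide +kernel

theorem e2_84 : allRange 192669 2321 (fun u => chkE tab 2 u) = true := by decide +kernel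

theorem e2_85 : allRange 194990 2468 (fun u => chkE tab 2 u) = true := by decide +kernel

theorem e2_86 : allRange 197458 2660 (fun u => chkE tab 2 u) = true := by decide +kernel

theorem e2_87 : allRange 200118 2284 (fun u => chkE tab 2 u) = true := by decide +kernel

theorem e2_88 : allRange 202402 2352 (fun u => chkE tab 2 u) = true := by decide +kernel

theorem e2_89 : allRange 204754 2125 (fun u => chkE tab 2 u) = true := by decide +kernel


end Cfsg.Agent.Helper9.TCData.X1690
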