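import Cfsg.Agent.Lib.Helper9.TCData.X1690.Main

set_option autoImplicit false
set_option maxRecDepth 1000000

namespace Cfsg.Agent.Helper9.TCData.X1690
open Cfsg.Agent.Helper9.TC2

theorem ma_88 : allRange 48224 548 (fun u => chkAux tab aux u) = true := by decide +kernel

theorem ma_89 : allRange 48772 548 (fun u => chkAux tab aux u) = true := by decide +kernel

theorem ma_90 : allRange 49320 548 (fun u => chkAux tab aux u) = true := by decide +kernel

theorem ma_91 : allRange 49868 548 (fun u => chkAux tab aux u) = true := by decide +kernel

theorem ma_92 : allRange 50416 548 (fun u => chkAux tab aux u) = true := by decide +kernel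

theorem ma_93 : allRange 50964 548 (fun u => chkAux tab aux u) = true := by decide +kernel

theorem ma_94 : allRange 51512 548 (fun u => chkAux tab aux u) = true := by decide +kernel

theorem ma_95 : allRange 52060 548 (fun u => chkAux tab aux u) = true := by decide +kernel

theorem ma_96 : allRange 52608 548 (fun u => chkAux tab aux u) = true := by decide +kernel

theorem ma_97 : allRange 53156 548 (fun u => chkAux tab aux u) = true := by decide +kernel


end Cfsg.Agent.Helper9.TCData.X1690
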