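import Cfsg.Agent.Lib.Helper9.TCData.X1690.Main

set_option autoImplicit false
set_option maxRecDepth 1000000

namespace Cfsg.Agent.Helper9.TCData.X1690
open Cfsg.Agent.Helper9.TC2

theorem ma_98 : allRange 53704 548 (fun u => chkAux tab aux u) = true := by decide +kernel

theorem ma_99 : allRange 54252 548 (fun u => chkAux tab aux u) = true := by decide +kernel

theorem ma_100 : allRange 54800 548 (fun u => chkAux tab aux u) = true := by decide +kernel

theorem ma_101 : allRange 55348 548 (fun u => chkAux tab aux u) = true := by decide +kernel

theorem ma_102 : allRange 55896 548 (fun u => chkAux tab aux u) = true := by decide +kernel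

theorem ma_103 : allRange 56444 548 (fun u => chkAux tab aux u) = true := by decide +kernel

theorem ma_104 : allRange 56992 548 (fun u => chkAux tab aux u) = true := by decide +kernel

theorem ma_105 : allRange 57540 548 (fun u => chkAux tab aux u) = true := by decide +kernel

theorem ma_106 : allRange 58088 548 (fun u => chkAux tab aux u) = true := by decide +kernel

theorem ma_107 : allRange 58636 548 (fun u => chkAux tab aux u) = true := by decide +kernel


end Cfsg.Agent.Helper9.TCData.X1690
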