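import Cfsg.Agent.Lib.Helper9.TCData.X1690.Main

set_option autoImplicit false
set_option maxRecDepth 1000000

namespace Cfsg.Agent.Helper9.TCData.X1690
open Cfsg.Agent.Helper9.TC2

theorem ma_118 : allRange 64664 548 (fun u => chkAux tab aux u) = true := by decide +kernel

theorem ma_119 : allRange 65212 548 (fun u => chkAux tab aux u) = true := by decide +kernel

theorem ma_120 : allRange 65760 548 (fun u => chkAux tab aux u) = true := by decide +kernel

theorem ma_121 : allRange 66308 548 (fun u => chkAux tab aux u) = true := by decide +kernel

theorem ma_122 : allRange 66856 548 (fun u => chkAux tab aux u) = true := by decide +kernel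

theorem ma_123 : allRange 67404 548 (fun u => chkAux tab aux u) = true := by decide +kernel

theorem ma_124 : allRange 67952 548 (fun u => chkAux tab aux u) = true := by decide +kernel

theorem ma_125 : allRange 68500 548 (fun u => chkAux tab aux u) = true := by decide +kernel

theorem ma_126 : allRange 69048 548 (fun u => chkAux tab aux u) = true := by decide +kernel

theorem ma_127 : allRange 69596 548 (fun u => chkAux tab aux u) = true := by decide +kernel


end Cfsg.Agent.Helper9.TCData.X1690
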