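import Cfsg.Agent.Lib.Helper9.TCData.X1690.Main

set_option autoImplicit false
set_option maxRecDepth 1000000

namespace Cfsg.Agent.Helper9.TCData.X1690
open Cfsg.Agent.Helper9.TC2

theorem ma_128 : allRange 70144 548 (fun u => chkAux tab aux u) = true := by decide +kernel

theorem ma_129 : allRange 70692 548 (fun u => chkAux tab aux u) = true := by decide +kernel

theorem ma_130 : allRange 71240 548 (fun u => chkAux tab aux u) = true := by decide +kernel

theorem ma_131 : allRange 71788 548 (fun u => chkAux tab aux u) = true := by decide +kernel

theorem ma_132 : allRange 72336 548 (fun u => chkAux tab aux u) = true := by decide +kernel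

theorem ma_133 : allRange 72884 548 (fun u => chkAux tab aux u) = true := by decide +kernel

theorem ma_134 : allRange 73432 548 (fun u => chkAux tab aux u) = true := by decide +kernel

theorem ma_135 : allRange 73980 548 (fun u => chkAux tab aux u) = true := by decide +kernel

theorem ma_136 : allRange 74528 548 (fun u => chkAux tab aux u) = true := by decide +kernel

theorem ma_137 : allRange 75076 548 (fun u => chkAux tab aux u) = true := by decide +kernel


end Cfsg.Agent.Helper9.TCData.X1690
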