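import Cfsg.Agent.Lib.Helper9.TCData.X1690.Main

set_option autoImplicit false
set_option maxRecDepth 1000000

namespace Cfsg.Agent.Helper9.TCData.X1690
open Cfsg.Agent.Helper9.TC2

theorem ma_138 : allRange 75624 548 (fun u => chkAux tab aux u) = true := by decide +kernel

theorem ma_139 : allRange 76172 548 (fun u => chkAux tab aux u) = true := by decide +kernel

theorem ma_140 : allRange 76720 548 (fun u => chkAux tab aux u) = true := by decide +kernel

theorem ma_141 : allRange 77268 548 (fun u => chkAux tab aux u) = true := by decide +kernel

theorem ma_142 : allRange 77816 548 (fun u => chkAux tab aux u) = true := by decide +kernel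

theorem ma_143 : allRange 78364 548 (fun u => chkAux tab aux u) = true := by decide +kernel

theorem ma_144 : allRange 78912 548 (fun u => chkAux tab aux u) = true := by decide +kernel

theorem ma_145 : allRange 79460 548 (fun u => chkAux tab aux u) = true := by decide +kernel

theorem ma_146 : allRange 80008 548 (fun u => chkAux tab aux u) = true := by decide +kernel

theorem ma_147 : allRange 80556 548 (fun u => chkAux tab aux u) = true := by decide +kernel


end Cfsg.Agent.Helper9.TCData.X1690
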