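import Cfsg.Agent.Lib.Helper9.TCData.X1690.Main

set_option autoImplicit false
set_option maxRecDepth 1000000

namespace Cfsg.Agent.Helper9.TCData.X1690
open Cfsg.Agent.Helper9.TC2

theorem ma_148 : allRange 81104 548 (fun u => chkAux tab aux u) = true := by decide +kernel

theorem ma_149 : allRange 81652 548 (fun u => chkAux tab aux u) = true := by decide +kernel

theorem ma_150 : allRange 82200 548 (fun u => chkAux tab aux u) = true := by decide +kernel

theorem ma_151 : allRange 82748 548 (fun u => chkAux tab aux u) = true := by decide +kernel

theorem ma_152 : allRange 83296 548 (fun u => chkAux tab aux u) = true := by decide +kernel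

theorem ma_153 : allRange 83844 548 (fun u => chkAux tab aux u) = true := by decide +kernel

theorem ma_154 : allRange 84392 548 (fun u => chkAux tab aux u) = true := by decide +kernel

theorem ma_155 : allRange 84940 548 (fun u => chkAux tab aux u) = true := by decide +kernel

theorem ma_156 : allRange 85488 548 (fun u => chkAux tab aux u) = true := by decide +kernel

theorem ma_157 : allRange 86036 548 (fun u => chkAux tab aux u) = true := by decide +kernel


end Cfsg.Agent.Helper9.TCData.X1690
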