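import Cfsg.Agent.Lib.Helper9.TCData.X1690.Main

set_option autoImplicit false
set_option maxRecDepth 1000000

namespace Cfsg.Agent.Helper9.TCData.X1690
open Cfsg.Agent.Helper9.TC2

theorem ma_158 : allRange 86584 548 (fun u => chkAux tab aux u) = true := by decide +kernel

theorem ma_159 : allRange 87132 548 (fun u => chkAux tab aux u) = true := by decide +kernel

theorem ma_160 : allRange 87680 548 (fun u => chkAux tab aux u) = true := by decide +kernel

theorem ma_161 : allRange 88228 548 (fun u => chkAux tab aux u) = true := by decide +kernel

theorem ma_162 : allRange 88776 548 (fun u => chkAux tab aux u) = true := by decide +kernel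

theorem ma_163 : allRange 89324 548 (fun u => chkAux tab aux u) = true := by decide +kernel

theorem ma_164 : allRange 89872 548 (fun u => chkAux tab aux u) = true := by decide +kernel

theorem ma_165 : allRange 90420 548 (fun u => chkAux tab aux u) = true := by decide +kernel

theorem ma_166 : allRange 90968 548 (fun u => chkAux tab aux u) = true := by decide +kernel

theorem ma_167 : allRange 91516 548 (fun u => chkAux tab aux u) = true := by decide +kernel


end Cfsg.Agent.Helper9.TCData.X1690
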