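import Cfsg.Agent.Lib.Helper9.TCData.X1690.Main

set_option autoImplicit false
set_option maxRecDepth 1000000

namespace Cfsg.Agent.Helper9.TCData.X1690
open Cfsg.Agent.Helper9.TC2

theorem ma_168 : allRange 92064 548 (fun u => chkAux tab aux u) = true := by decide +kernel

theorem ma_169 : allRange 92612 548 (fun u => chkAux tab aux u) = true := by decide +kernel

theorem ma_170 : allRange 93160 548 (fun u => chkAux tab aux u) = true := by decide +kernel

theorem ma_171 : allRange 93708 548 (fun u => chkAux tab aux u) = true := by decide +kernel

theorem ma_172 : allRange 94256 548 (fun u => chkAux tab aux u) = true := by decide +kernel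

theorem ma_173 : allRange 94804 548 (fun u => chkAux tab aux u) = true := by decide +kernel

theorem ma_174 : allRange 95352 548 (fun u => chkAux tab aux u) = true := by decide +kernel

theorem ma_175 : allRange 95900 548 (fun u => chkAux tab aux u) = true := by decide +kernel

theorem ma_176 : allRange 96448 548 (fun u => chkAux tab aux u) = true := by decide +kernel

theorem ma_177 : allRange 96996 548 (fun u => chkAux tab aux u) = true := by decide +kernel


end Cfsg.Agent.Helper9.TCData.X1690
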