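import Cfsg.Agent.Lib.Helper9.TCData.X1690.Main

set_option autoImplicit false
set_option maxRecDepth 1000000

namespace Cfsg.Agent.Helper9.TCData.X1690
open Cfsg.Agent.Helper9.TC2

theorem e2_90 : allRange 206879 2254 (fun u => chkE tab 2 u) = true := by decide +kernel

theorem e2_91 : allRange 209133 1990 (fun u => chkE tab 2 u) = true := by decide +kernel

theorem e2_92 : allRange 211123 2004 (fun u => chkE tab 2 u) = true := by decide +kernel

theorem e2_93 : allRange 213127 2530 (fun u => chkE tab 2 u) = true := by decide +kernel

theorem e2_94 : allRange 215657 2593 (fun u => chkE tab 2 u) = true := by decide +kernel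

theorem e2_95 : allRange 218250 2639 (fun u => chkE tab 2 u) = true := by decide +kernel

theorem e2_96 : allRange 220889 2198 (fun u => chkE tab 2 u) = true := by decide +kernel

theorem e2_97 : allRange 223087 2361 (fun u => chkE tab 2 u) = true := by decide +kernel

theorem e2_98 : allRange 225448 2174 (fun u => chkE tab 2 u) = true := by decide +kernel

theorem e2_99 : allRange 227622 2215 (fun u => chkE tab 2 u) = true := by decide +kernel


end Cfsg.Agent.Helper9.TCData.X1690
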