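import Cfsg.Agent.Lib.Helper9.TCData.X1690.Main

set_option autoImplicit false
set_option maxRecDepth 1000000

namespace Cfsg.Agent.Helper9.TCData.X1690
open Cfsg.Agent.Helper9.TC2

theorem ma_178 : allRange 97544 548 (fun u => chkAux tab aux u) = true := by decide +kernel

theorem ma_179 : allRange 98092 548 (fun u => chkAux tab aux u) = true := by decide +kernel

theorem ma_180 : allRange 98640 548 (fun u => chkAux tab aux u) = true := by decide +kernel

theorem ma_181 : allRange 99188 548 (fun u => chkAux tab aux u) = true := by decide +kernel

theorem ma_182 : allRange 99736 548 (fun u => chkAux tab aux u) = true := by decide +kernel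

theorem ma_183 : allRange 100284 548 (fun u => chkAux tab aux u) = true := by decide +kernel

theorem ma_184 : allRange 100832 548 (fun u => chkAux tab aux u) = true := by decide +kernel

theorem ma_185 : allRange 101380 548 (fun u => chkAux tab aux u) = true := by decide +kernel

theorem ma_186 : allRange 101928 548 (fun u => chkAux tab aux u) = true := by decide +kernel

theorem ma_187 : allRange 102476 548 (fun u => chkAux tab aux u) = true := by decide +kernel


end Cfsg.Agent.Helper9.TCData.X1690
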