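import Cfsg.Agent.Lib.Helper9.TCData.X1690.Main

set_option autoImplicit false
set_option maxRecDepth 1000000

namespace Cfsg.Agent.Helper9.TCData.X1690
open Cfsg.Agent.Helper9.TC2

theorem ma_188 : allRange 103024 548 (fun u => chkAux tab aux u) = true := by decide +kernel

theorem ma_189 : allRange 103572 548 (fun u => chkAux tab aux u) = true := by decide +kernel

theorem ma_190 : allRange 104120 548 (fun u => chkAux tab aux u) = true := by decide +kernel

theorem ma_191 : allRange 104668 548 (fun u => chkAux tab aux u) = true := by decide +kernel

theorem ma_192 : allRange 105216 548 (fun u => chkAux tab aux u) = true := by decide +kernel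

theorem ma_193 : allRange 105764 548 (fun u => chkAux tab aux u) = true := by decide +kernel

theorem ma_194 : allRange 106312 548 (fun u => chkAux tab aux u) = true := by decide +kernel

theorem ma_195 : allRange 106860 548 (fun u => chkAux tab aux u) = true := by decide +kernel

theorem ma_196 : allRange 107408 548 (fun u => chkAux tab aux u) = true := by decide +kernel

theorem ma_197 : allRange 107956 548 (fun u => chkAux tab aux u) = true := by decide +kernel


end Cfsg.Agent.Helper9.TCData.X1690
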