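import Cfsg.Agent.Lib.Helper9.TCData.X1690.Main

set_option autoImplicit false
set_option maxRecDepth 1000000

namespace Cfsg.Agent.Helper9.TCData.X1690
open Cfsg.Agent.Helper9.TC2

theorem ma_208 : allRange 113984 548 (fun u => chkAux tab aux u) = true := by decide +kernel

theorem ma_209 : allRange 114532 548 (fun u => chkAux tab aux u) = true := by decide +kernel

theorem ma_210 : allRange 115080 548 (fun u => chkAux tab aux u) = true := by decide +kernel

theorem ma_211 : allRange 115628 548 (fun u => chkAux tab aux u) = true := by decide +kernel

theorem ma_212 : allRange 116176 548 (fun u => chkAux tab aux u) = true := by decide +kernel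

theorem ma_213 : allRange 116724 548 (fun u => chkAux tab aux u) = true := by decide +kernel

theorem ma_214 : allRange 117272 548 (fun u => chkAux tab aux u) = true := by decide +kernel

theorem ma_215 : allRange 117820 548 (fun u => chkAux tab aux u) = true := by decide +kernel

theorem ma_216 : allRange 118368 548 (fun u => chkAux tab aux u) = true := by decide +kernel

theorem ma_217 : allRange 118916 548 (fun u => chkAux tab aux u) = true := by decide +kernel


end Cfsg.Agent.Helper9.TCData.X1690
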