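import Cfsg.Agent.Lib.Helper9.TCData.X1690.Main

set_option autoImplicit false
set_option maxRecDepth 1000000

namespace Cfsg.Agent.Helper9.TCData.X1690
open Cfsg.Agent.Helper9.TC2

theorem ma_218 : allRange 119464 548 (fun u => chkAux tab aux u) = true := by decide +kernel

theorem ma_219 : allRange 120012 548 (fun u => chkAux tab aux u) = true := by decide +kernel

theorem ma_220 : allRange 120560 548 (fun u => chkAux tab aux u) = true := by decide +kernel

theorem ma_221 : allRange 121108 548 (fun u => chkAux tab aux u) = true := by decide +kernel

theorem ma_222 : allRange 121656 548 (fun u => chkAux tab aux u) = true := by decide +kernel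

theorem ma_223 : allRange 122204 548 (fun u => chkAux tab aux u) = true := by decide +kernel

theorem ma_224 : allRange 122752 548 (fun u => chkAux tab aux u) = true := by decide +kernel

theorem ma_225 : allRange 123300 548 (fun u => chkAux tab aux u) = true := by decide +kernel

theorem ma_226 : allRange 123848 548 (fun u => chkAux tab aux u) = true := by decide +kernel

theorem ma_227 : allRange 124396 548 (fun u => chkAux tab aux u) = true := by decide +kernel


end Cfsg.Agent.Helper9.TCData.X1690
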