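import Cfsg.Agent.Lib.Helper9.TCData.X1690.Main

set_option autoImplicit false
set_option maxRecDepth 1000000

namespace Cfsg.Agent.Helper9.TCData.X1690
open Cfsg.Agent.Helper9.TC2

theorem ma_228 : allRange 124944 548 (fun u => chkAux tab aux u) = true := by decide +kernel

theorem ma_229 : allRange 125492 548 (fun u => chkAux tab aux u) = true := by decide +kernel

theorem ma_230 : allRange 126040 548 (fun u => chkAux tab aux u) = true := by decide +kernel

theorem ma_231 : allRange 126588 548 (fun u => chkAux tab aux u) = true := by decide +kernel

theorem ma_232 : allRange 127136 548 (fun u => chkAux tab aux u) = true := by decide +kernel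

theorem ma_233 : allRange 127684 548 (fun u => chkAux tab aux u) = true := by decide +kernel

theorem ma_234 : allRange 128232 548 (fun u => chkAux tab aux u) = true := by decide +kernel

theorem ma_235 : allRange 128780 548 (fun u => chkAux tab aux u) = true := by decide +kernel

theorem ma_236 : allRange 129328 548 (fun u => chkAux tab aux u) = true := by decide +kernel

theorem ma_237 : allRange 129876 548 (fun u => chkAux tab aux u) = true := by decide +kernel


end Cfsg.Agent.Helper9.TCData.X1690
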