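import Cfsg.Agent.Lib.Helper9.TCData.X1690.Main

set_option autoImplicit false
set_option maxRecDepth 1000000

namespace Cfsg.Agent.Helper9.TCData.X1690
open Cfsg.Agent.Helper9.TC2

theorem ma_238 : allRange 130424 548 (fun u => chkAux tab aux u) = true := by decide +kernel

theorem ma_239 : allRange 130972 548 (fun u => chkAux tab aux u) = true := by decide +kernel

theorem ma_240 : allRange 131520 548 (fun u => chkAux tab aux u) = true := by decide +kernel

theorem ma_241 : allRange 132068 548 (fun u => chkAux tab aux u) = true := by decide +kernel

theorem ma_242 : allRange 132616 548 (fun u => chkAux tab aux u) = true := by decide +kernel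

theorem ma_243 : allRange 133164 548 (fun u => chkAux tab aux u) = true := by decide +kernel

theorem ma_244 : allRange 133712 548 (fun u => chkAux tab aux u) = true := by decide +kernel

theorem ma_245 : allRange 134260 548 (fun u => chkAux tab aux u) = true := by decide +kernel

theorem ma_246 : allRange 134808 548 (fun u => chkAux tab aux u) = true := by decide +kernel

theorem ma_247 : allRange 135356 548 (fun u => chkAux tab aux u) = true := by decide +kernel


end Cfsg.Agent.Helper9.TCData.X1690
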