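import Cfsg.Agent.Lib.Helper9.TCData.X1690.Main

set_option autoImplicit false
set_option maxRecDepth 1000000

namespace Cfsg.Agent.Helper9.TCData.X1690
open Cfsg.Agent.Helper9.TC2

theorem ma_248 : allRange 135904 548 (fun u => chkAux tab aux u) = true := by decide +kernel

theorem ma_249 : allRange 136452 548 (fun u => chkAux tab aux u) = true := by decide +kernel

theorem ma_250 : allRange 137000 548 (fun u => chkAux tab aux u) = true := by decide +kernel

theorem ma_251 : allRange 137548 548 (fun u => chkAux tab aux u) = true := by decide +kernel

theorem ma_252 : allRange 138096 548 (fun u => chkAux tab aux u) = true := by decide +kernel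

theorem ma_253 : allRange 138644 548 (fun u => chkAux tab aux u) = true := by decide +kernel

theorem ma_254 : allRange 139192 548 (fun u => chkAux tab aux u) = true := by decide +kernel

theorem ma_255 : allRange 139740 548 (fun u => chkAux tab aux u) = true := by decide +kernel

theorem ma_256 : allRange 140288 548 (fun u => chkAux tab aux u) = true := by decide +kernel

theorem ma_257 : allRange 140836 548 (fun u => chkAux tab aux u) = true := by decide +kernel


end Cfsg.Agent.Helper9.TCData.X1690
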