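import Cfsg.Agent.Lib.Helper9.TCData.X1690.Main

set_option autoImplicit false
set_option maxRecDepth 1000000

namespace Cfsg.Agent.Helper9.TCData.X1690
open Cfsg.Agent.Helper9.TC2

theorem ma_258 : allRange 141384 548 (fun u => chkAux tab aux u) = true := by decide +kernel

theorem ma_259 : allRange 141932 548 (fun u => chkAux tab aux u) = true := by decide +kernel

theorem ma_260 : allRange 142480 548 (fun u => chkAux tab aux u) = true := by decide +kernel

theorem ma_261 : allRange 143028 548 (fun u => chkAux tab aux u) = true := by decide +kernel

theorem ma_262 : allRange 143576 548 (fun u => chkAux tab aux u) = true := by decide +kernel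

theorem ma_263 : allRange 144124 548 (fun u => chkAux tab aux u) = true := by decide +kernel

theorem ma_264 : allRange 144672 548 (fun u => chkAux tab aux u) = true := by decide +kernel

theorem ma_265 : allRange 145220 548 (fun u => chkAux tab aux u) = true := by decide +kernel

theorem ma_266 : allRange 145768 548 (fun u => chkAux tab aux u) = true := by decide +kernel

theorem ma_267 : allRange 146316 548 (fun u => chkAux tab aux u) = true := by decide +kernel


end Cfsg.Agent.Helper9.TCData.X1690
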