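import Cfsg.Agent.Lib.Helper9.TCData.X1690.Main

set_option autoImplicit false
set_option maxRecDepth 1000000

namespace Cfsg.Agent.Helper9.TCData.X1690
open Cfsg.Agent.Helper9.TC2

theorem ma_268 : allRange 146864 548 (fun u => chkAux tab aux u) = true := by decide +kernel

theorem ma_269 : allRange 147412 548 (fun u => chkAux tab aux u) = true := by decide +kernel

theorem ma_270 : allRange 147960 548 (fun u => chkAux tab aux u) = true := by decide +kernel

theorem ma_271 : allRange 148508 548 (fun u => chkAux tab aux u) = true := by decide +kernel

theorem ma_272 : allRange 149056 548 (fun u => chkAux tab aux u) = true := by decide +kernel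

theorem ma_273 : allRange 149604 548 (fun u => chkAux tab aux u) = true := by decide +kernel

theorem ma_274 : allRange 150152 548 (fun u => chkAux tab aux u) = true := by decide +kernel

theorem ma_275 : allRange 150700 548 (fun u => chkAux tab aux u) = true := by decide +kernel

theorem ma_276 : allRange 151248 548 (fun u => chkAux tab aux u) = true := by decide +kernel

theorem ma_277 : allRange 151796 548 (fun u => chkAux tab aux u) = true := by decide +kernel


end Cfsg.Agent.Helper9.TCData.X1690
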