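import Cfsg.Agent.Lib.Helper9.TCData.X1690.Main

set_option autoImplicit false
set_option maxRecDepth 1000000

namespace Cfsg.Agent.Helper9.TCData.X1690
open Cfsg.Agent.Helper9.TC2

theorem e2_100 : allRange 229837 2057 (fun u => chkE tab 2 u) = true := by decide +kernel

theorem e2_101 : allRange 231894 2008 (fun u => chkE tab 2 u) = true := by decide +kernel

theorem e2_102 : allRange 233902 2249 (fun u => chkE tab 2 u) = true := by decide +kernel

theorem e2_103 : allRange 236151 2594 (fun u => chkE tab 2 u) = true := by decide +kernel

theorem e2_104 : allRange 238745 2634 (fun u => chkE tab 2 u) = true := by decide +kernel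

theorem e2_105 : allRange 241379 2557 (fun u => chkE tab 2 u) = true := by decide +kernel

theorem e2_106 : allRange 243936 2396 (fun u => chkE tab 2 u) = true := by decide +kernel

theorem e2_107 : allRange 246332 2339 (fun u => chkE tab 2 u) = true := by decide +kernel

theorem e2_108 : allRange 248671 2024 (fun u => chkE tab 2 u) = true := by decide +kernel

theorem e2_109 : allRange 250695 2355 (fun u => chkE tab 2 u) = true := by decide +kernel


end Cfsg.Agent.Helper9.TCData.X1690
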