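import Cfsg.Agent.Lib.Helper9.TCData.X1690.Main

set_option autoImplicit false
set_option maxRecDepth 1000000

namespace Cfsg.Agent.Helper9.TCData.X1690
open Cfsg.Agent.Helper9.TC2

theorem ma_278 : allRange 152344 548 (fun u => chkAux tab aux u) = true := by decide +kernel

theorem ma_279 : allRange 152892 548 (fun u => chkAux tab aux u) = true := by decide +kernel

theorem ma_280 : allRange 153440 548 (fun u => chkAux tab aux u) = true := by decide +kernel

theorem ma_281 : allRange 153988 548 (fun u => chkAux tab aux u) = true := by decide +kernel

theorem ma_282 : allRange 154536 548 (fun u => chkAux tab aux u) = true := by decide +kernel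

theorem ma_283 : allRange 155084 548 (fun u => chkAux tab aux u) = true := by decide +kernel

theorem ma_284 : allRange 155632 548 (fun u => chkAux tab aux u) = true := by decide +kernel

theorem ma_285 : allRange 156180 548 (fun u => chkAux tab aux u) = true := by decide +kernel

theorem ma_286 : allRange 156728 548 (fun u => chkAux tab aux u) = true := by decide +kernel

theorem ma_287 : allRange 157276 548 (fun u => chkAux tab aux u) = true := by decide +kernel


end Cfsg.Agent.Helper9.TCData.X1690
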