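import Cfsg.Agent.Lib.Helper9.TCData.X1690.Main

set_option autoImplicit false
set_option maxRecDepth 1000000

namespace Cfsg.Agent.Helper9.TCData.X1690
open Cfsg.Agent.Helper9.TC2

theorem ma_288 : allRange 157824 548 (fun u => chkAux tab aux u) = true := by decide +kernel

theorem ma_289 : allRange 158372 548 (fun u => chkAux tab aux u) = true := by decide +kernel

theorem ma_290 : allRange 158920 548 (fun u => chkAux tab aux u) = true := by decide +kernel

theorem ma_291 : allRange 159468 548 (fun u => chkAux tab aux u) = true := by decide +kernel

theorem ma_292 : allRange 160016 548 (fun u => chkAux tab aux u) = true := by decide +kernel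

theorem ma_293 : allRange 160564 548 (fun u => chkAux tab aux u) = true := by decide +kernel

theorem ma_294 : allRange 161112 548 (fun u => chkAux tab aux u) = true := by decide +kernel

theorem ma_295 : allRange 161660 548 (fun u => chkAux tab aux u) = true := by decide +kernel

theorem ma_296 : allRange 162208 548 (fun u => chkAux tab aux u) = true := by decide +kernel

theorem ma_297 : allRange 162756 548 (fun u => chkAux tab aux u) = true := by decide +kernel


end Cfsg.Agent.Helper9.TCData.X1690
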