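import Cfsg.Agent.Lib.Helper9.TCData.X1690.Main

set_option autoImplicit false
set_option maxRecDepth 1000000

namespace Cfsg.Agent.Helper9.TCData.X1690
open Cfsg.Agent.Helper9.TC2

theorem ma_298 : allRange 163304 548 (fun u => chkAux tab aux u) = true := by decide +kernel

theorem ma_299 : allRange 163852 548 (fun u => chkAux tab aux u) = true := by decide +kernel

theorem ma_300 : allRange 164400 548 (fun u => chkAux tab aux u) = true := by decide +kernel

theorem ma_301 : allRange 164948 548 (fun u => chkAux tab aux u) = true := by decide +kernel

theorem ma_302 : allRange 165496 548 (fun u => chkAux tab aux u) = true := by decide +kernel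

theorem ma_303 : allRange 166044 548 (fun u => chkAux tab aux u) = true := by decide +kernel

theorem ma_304 : allRange 166592 548 (fun u => chkAux tab aux u) = true := by decide +kernel

theorem ma_305 : allRange 167140 548 (fun u => chkAux tab aux u) = true := by decide +kernel

theorem ma_306 : allRange 167688 548 (fun u => chkAux tab aux u) = true := by decide +kernel

theorem ma_307 : allRange 168236 548 (fun u => chkAux tab aux u) = true := by decide +kernel


end Cfsg.Agent.Helper9.TCData.X1690
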