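import Cfsg.Agent.Lib.Helper9.TCData.X1690.Main

set_option autoImplicit false
set_option maxRecDepth 1000000

namespace Cfsg.Agent.Helper9.TCData.X1690
open Cfsg.Agent.Helper9.TC2

theorem ma_308 : allRange 168784 548 (fun u => chkAux tab aux u) = true := by decide +kernel

theorem ma_309 : allRange 169332 548 (fun u => chkAux tab aux u) = true := by decide +kernel

theorem ma_310 : allRange 169880 548 (fun u => chkAux tab aux u) = true := by decide +kernel

theorem ma_311 : allRange 170428 548 (fun u => chkAux tab aux u) = true := by decide +kernel

theorem ma_312 : allRange 170976 548 (fun u => chkAux tab aux u) = true := by decide +kernel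

theorem ma_313 : allRange 171524 548 (fun u => chkAux tab aux u) = true := by decide +kernel

theorem ma_314 : allRange 172072 548 (fun u => chkAux tab aux u) = true := by decide +kernel

theorem ma_315 : allRange 172620 548 (fun u => chkAux tab aux u) = true := by decide +kernel

theorem ma_316 : allRange 173168 548 (fun u => chkAux tab aux u) = true := by decide +kernel

theorem ma_317 : allRange 173716 548 (fun u => chkAux tab aux u) = true := by decide +kernel


end Cfsg.Agent.Helper9.TCData.X1690
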