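import Cfsg.Agent.Lib.Helper9.TCData.X1690.Main

set_option autoImplicit false
set_option maxRecDepth 1000000

namespace Cfsg.Agent.Helper9.TCData.X1690
open Cfsg.Agent.Helper9.TC2

theorem ma_328 : allRange 179744 548 (fun u => chkAux tab aux u) = true := by decide +kernel

theorem ma_329 : allRange 180292 548 (fun u => chkAux tab aux u) = true := by decide +kernel

theorem ma_330 : allRange 180840 548 (fun u => chkAux tab aux u) = true := by decide +kernel

theorem ma_331 : allRange 181388 548 (fun u => chkAux tab aux u) = true := by decide +kernel

theorem ma_332 : allRange 181936 548 (fun u => chkAux tab aux u) = true := by decide +kernel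

theorem ma_333 : allRange 182484 548 (fun u => chkAux tab aux u) = true := by decide +kernel

theorem ma_334 : allRange 183032 548 (fun u => chkAux tab aux u) = true := by decide +kernel

theorem ma_335 : allRange 183580 548 (fun u => chkAux tab aux u) = true := by decide +kernel

theorem ma_336 : allRange 184128 548 (fun u => chkAux tab aux u) = true := by decide +kernel

theorem ma_337 : allRange 184676 548 (fun u => chkAux tab aux u) = true := by decide +kernel


end Cfsg.Agent.Helper9.TCData.X1690
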