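import Cfsg.Agent.Lib.Helper9.TCData.X1690.Main

set_option autoImplicit false
set_option maxRecDepth 1000000

namespace Cfsg.Agent.Helper9.TCData.X1690
open Cfsg.Agent.Helper9.TC2

theorem ma_338 : allRange 185224 548 (fun u => chkAux tab aux u) = true := by decide +kernel

theorem ma_339 : allRange 185772 548 (fun u => chkAux tab aux u) = true := by decide +kernel

theorem ma_340 : allRange 186320 548 (fun u => chkAux tab aux u) = true := by decide +kernel

theorem ma_341 : allRange 186868 548 (fun u => chkAux tab aux u) = true := by decide +kernel

theorem ma_342 : allRange 187416 548 (fun u => chkAux tab aux u) = true := by decide +kernel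

theorem ma_343 : allRange 187964 548 (fun u => chkAux tab aux u) = true := by decide +kernel

theorem ma_344 : allRange 188512 548 (fun u => chkAux tab aux u) = true := by decide +kernel

theorem ma_345 : allRange 189060 548 (fun u => chkAux tab aux u) = true := by decide +kernel

theorem ma_346 : allRange 189608 548 (fun u => chkAux tab aux u) = true := by decide +kernel

theorem ma_347 : allRange 190156 548 (fun u => chkAux tab aux u) = true := by decide +kernel


end Cfsg.Agent.Helper9.TCData.X1690
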