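import Cfsg.Agent.Lib.Helper9.TCData.X1690.Main

set_option autoImplicit false
set_option maxRecDepth 1000000

namespace Cfsg.Agent.Helper9.TCData.X1690
open Cfsg.Agent.Helper9.TC2

theorem ma_348 : allRange 190704 548 (fun u => chkAux tab aux u) = true := by decide +kernel

theorem ma_349 : allRange 191252 548 (fun u => chkAux tab aux u) = true := by decide +kernel

theorem ma_350 : allRange 191800 548 (fun u => chkAux tab aux u) = true := by decide +kernel

theorem ma_351 : allRange 192348 548 (fun u => chkAux tab aux u) = true := by decide +kernel

theorem ma_352 : allRange 192896 548 (fun u => chkAux tab aux u) = true := by decide +kernel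

theorem ma_353 : allRange 193444 548 (fun u => chkAux tab aux u) = true := by decide +kernel

theorem ma_354 : allRange 193992 548 (fun u => chkAux tab aux u) = true := by decide +kernel

theorem ma_355 : allRange 194540 548 (fun u => chkAux tab aux u) = true := by decide +kernel

theorem ma_356 : allRange 195088 548 (fun u => chkAux tab aux u) = true := by decide +kernel

theorem ma_357 : allRange 195636 548 (fun u => chkAux tab aux u) = true := by decide +kernel


end Cfsg.Agent.Helper9.TCData.X1690
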