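import Cfsg.Agent.Lib.Helper9.TCData.X1690.Main

set_option autoImplicit false
set_option maxRecDepth 1000000

namespace Cfsg.Agent.Helper9.TCData.X1690
open Cfsg.Agent.Helper9.TC2

theorem ma_358 : allRange 196184 548 (fun u => chkAux tab aux u) = true := by decide +kernel

theorem ma_359 : allRange 196732 548 (fun u => chkAux tab aux u) = true := by decide +kernel

theorem ma_360 : allRange 197280 548 (fun u => chkAux tab aux u) = true := by decide +kernel

theorem ma_361 : allRange 197828 548 (fun u => chkAux tab aux u) = true := by decide +kernel

theorem ma_362 : allRange 198376 548 (fun u => chkAux tab aux u) = true := by decide +kernel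

theorem ma_363 : allRange 198924 548 (fun u => chkAux tab aux u) = true := by decide +kernel

theorem ma_364 : allRange 199472 548 (fun u => chkAux tab aux u) = true := by decide +kernel

theorem ma_365 : allRange 200020 548 (fun u => chkAux tab aux u) = true := by decide +kernel

theorem ma_366 : allRange 200568 548 (fun u => chkAux tab aux u) = true := by decide +kernel

theorem ma_367 : allRange 201116 548 (fun u => chkAux tab aux u) = true := by decide +kernel


end Cfsg.Agent.Helper9.TCData.X1690
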