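import Cfsg.Agent.Lib.Helper9.TCData.X1690.Main

set_option autoImplicit false
set_option maxRecDepth 1000000

namespace Cfsg.Agent.Helper9.TCData.X1690
open Cfsg.Agent.Helper9.TC2

theorem ma_368 : allRange 201664 548 (fun u => chkAux tab aux u) = true := by decide +kernel

theorem ma_369 : allRange 202212 548 (fun u => chkAux tab aux u) = true := by decide +kernel

theorem ma_370 : allRange 202760 548 (fun u => chkAux tab aux u) = true := by decide +kernel

theorem ma_371 : allRange 203308 548 (fun u => chkAux tab aux u) = true := by decide +kernel

theorem ma_372 : allRange 203856 548 (fun u => chkAux tab aux u) = true := by decide +kernel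

theorem ma_373 : allRange 204404 548 (fun u => chkAux tab aux u) = true := by decide +kernel

theorem ma_374 : allRange 204952 548 (fun u => chkAux tab aux u) = true := by decide +kernel

theorem ma_375 : allRange 205500 548 (fun u => chkAux tab aux u) = true := by decide +kernel

theorem ma_376 : allRange 206048 548 (fun u => chkAux tab aux u) = true := by decide +kernel

theorem ma_377 : allRange 206596 548 (fun u => chkAux tab aux u) = true := by decide +kernel


end Cfsg.Agent.Helper9.TCData.X1690
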