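import Cfsg.Agent.Lib.Helper9.TCData.X1690.Main

set_option autoImplicit false
set_option maxRecDepth 1000000

namespace Cfsg.Agent.Helper9.TCData.X1690
open Cfsg.Agent.Helper9.TC2

theorem e2_110 : allRange 253050 1969 (fun u => chkE tab 2 u) = true := by decide +kernel

theorem e2_111 : allRange 255019 1907 (fun u => chkE tab 2 u) = true := by decide +kernel

theorem e2_112 : allRange 256926 2293 (fun u => chkE tab 2 u) = true := by decide +kernel

theorem e2_113 : allRange 259219 2623 (fun u => chkE tab 2 u) = true := by decide +kernel

theorem e2_114 : allRange 261842 2742 (fun u => chkE tab 2 u) = true := by decide +kernel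

theorem e2_115 : allRange 264584 2587 (fun u => chkE tab 2 u) = true := by decide +kernel

theorem e2_116 : allRange 267171 2375 (fun u => chkE tab 2 u) = true := by decide +kernel

theorem e2_117 : allRange 269546 2417 (fun u => chkE tab 2 u) = true := by decide +kernel

theorem e2_118 : allRange 271963 2011 (fun u => chkE tab 2 u) = true := by decide +kernel

theorem e2_119 : allRange 273974 2284 (fun u => chkE tab 2 u) = true := by decide +kernel


end Cfsg.Agent.Helper9.TCData.X1690
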