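import Cfsg.Agent.Lib.Helper9.TCData.X1690.Main

set_option autoImplicit false
set_option maxRecDepth 1000000

namespace Cfsg.Agent.Helper9.TCData.X1690
open Cfsg.Agent.Helper9.TC2

theorem ma_378 : allRange 207144 548 (fun u => chkAux tab aux u) = true := by decide +kernel

theorem ma_379 : allRange 207692 548 (fun u => chkAux tab aux u) = true := by decide +kernel

theorem ma_380 : allRange 208240 548 (fun u => chkAux tab aux u) = true := by decide +kernel

theorem ma_381 : allRange 208788 548 (fun u => chkAux tab aux u) = true := by decide +kernel

theorem ma_382 : allRange 209336 548 (fun u => chkAux tab aux u) = true := by decide +kernel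

theorem ma_383 : allRange 209884 548 (fun u => chkAux tab aux u) = true := by decide +kernel

theorem ma_384 : allRange 210432 548 (fun u => chkAux tab aux u) = true := by decide +kernel

theorem ma_385 : allRange 210980 548 (fun u => chkAux tab aux u) = true := by decide +kernel

theorem ma_386 : allRange 211528 548 (fun u => chkAux tab aux u) = true := by decide +kernel

theorem ma_387 : allRange 212076 548 (fun u => chkAux tab aux u) = true := by decide +kernel


end Cfsg.Agent.Helper9.TCData.X1690
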