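import Cfsg.Agent.Lib.Helper9.TCData.X1690.Main

set_option autoImplicit false
set_option maxRecDepth 1000000

namespace Cfsg.Agent.Helper9.TCData.X1690
open Cfsg.Agent.Helper9.TC2

theorem ma_388 : allRange 212624 548 (fun u => chkAux tab aux u) = true := by decide +kernel

theorem ma_389 : allRange 213172 548 (fun u => chkAux tab aux u) = true := by decide +kernel

theorem ma_390 : allRange 213720 548 (fun u => chkAux tab aux u) = true := by decide +kernel

theorem ma_391 : allRange 214268 548 (fun u => chkAux tab aux u) = true := by decide +kernel

theorem ma_392 : allRange 214816 548 (fun u => chkAux tab aux u) = true := by decide +kernel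

theorem ma_393 : allRange 215364 548 (fun u => chkAux tab aux u) = true := by decide +kernel

theorem ma_394 : allRange 215912 548 (fun u => chkAux tab aux u) = true := by decide +kernel

theorem ma_395 : allRange 216460 548 (fun u => chkAux tab aux u) = true := by decide +kernel

theorem ma_396 : allRange 217008 548 (fun u => chkAux tab aux u) = true := by decide +kernel

theorem ma_397 : allRange 217556 548 (fun u => chkAux tab aux u) = true := by decide +kernel


end Cfsg.Agent.Helper9.TCData.X1690
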