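import Cfsg.Agent.Lib.Helper9.TCData.X1690.Main

set_option autoImplicit false
set_option maxRecDepth 1000000

namespace Cfsg.Agent.Helper9.TCData.X1690
open Cfsg.Agent.Helper9.TC2

theorem ma_398 : allRange 218104 548 (fun u => chkAux tab aux u) = true := by decide +kernel

theorem ma_399 : allRange 218652 548 (fun u => chkAux tab aux u) = true := by decide +kernel

theorem ma_400 : allRange 219200 548 (fun u => chkAux tab aux u) = true := by decide +kernel

theorem ma_401 : allRange 219748 548 (fun u => chkAux tab aux u) = true := by decide +kernel

theorem ma_402 : allRange 220296 548 (fun u => chkAux tab aux u) = true := by decide +kernel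

theorem ma_403 : allRange 220844 548 (fun u => chkAux tab aux u) = true := by decide +kernel

theorem ma_404 : allRange 221392 548 (fun u => chkAux tab aux u) = true := by decide +kernel

theorem ma_405 : allRange 221940 548 (fun u => chkAux tab aux u) = true := by decide +kernel

theorem ma_406 : allRange 222488 548 (fun u => chkAux tab aux u) = true := by decide +kernel

theorem ma_407 : allRange 223036 548 (fun u => chkAux tab aux u) = true := by decide +kernel


end Cfsg.Agent.Helper9.TCData.X1690
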