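import Cfsg.Agent.Lib.Helper9.TCData.X1690.Main

set_option autoImplicit false
set_option maxRecDepth 1000000

namespace Cfsg.Agent.Helper9.TCData.X1690
open Cfsg.Agent.Helper9.TC2

theorem ma_408 : allRange 223584 548 (fun u => chkAux tab aux u) = true := by decide +kernel

theorem ma_409 : allRange 224132 548 (fun u => chkAux tab aux u) = true := by decide +kernel

theorem ma_410 : allRange 224680 548 (fun u => chkAux tab aux u) = true := by decide +kernel

theorem ma_411 : allRange 225228 548 (fun u => chkAux tab aux u) = true := by decide +kernel

theorem ma_412 : allRange 225776 548 (fun u => chkAux tab aux u) = true := by decide +kernel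

theorem ma_413 : allRange 226324 548 (fun u => chkAux tab aux u) = true := by decide +kernel

theorem ma_414 : allRange 226872 548 (fun u => chkAux tab aux u) = true := by decide +kernel

theorem ma_415 : allRange 227420 548 (fun u => chkAux tab aux u) = true := by decide +kernel

theorem ma_416 : allRange 227968 548 (fun u => chkAux tab aux u) = true := by decide +kernel

theorem ma_417 : allRange 228516 548 (fun u => chkAux tab aux u) = true := by decide +kernel


end Cfsg.Agent.Helper9.TCData.X1690
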