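import Cfsg.Agent.Lib.Helper9.TCData.X1690.Main

set_option autoImplicit false
set_option maxRecDepth 1000000

namespace Cfsg.Agent.Helper9.TCData.X1690
open Cfsg.Agent.Helper9.TC2

theorem ma_418 : allRange 229064 548 (fun u => chkAux tab aux u) = true := by decide +kernel

theorem ma_419 : allRange 229612 548 (fun u => chkAux tab aux u) = true := by decide +kernel

theorem ma_420 : allRange 230160 548 (fun u => chkAux tab aux u) = true := by decide +kernel

theorem ma_421 : allRange 230708 548 (fun u => chkAux tab aux u) = true := by decide +kernel

theorem ma_422 : allRange 231256 548 (fun u => chkAux tab aux u) = true := by decide +kernel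

theorem ma_423 : allRange 231804 548 (fun u => chkAux tab aux u) = true := by decide +kernel

theorem ma_424 : allRange 232352 548 (fun u => chkAux tab aux u) = true := by decide +kernel

theorem ma_425 : allRange 232900 548 (fun u => chkAux tab aux u) = true := by decide +kernel

theorem ma_426 : allRange 233448 548 (fun u => chkAux tab aux u) = true := by decide +kernel

theorem ma_427 : allRange 233996 548 (fun u => chkAux tab aux u) = true := by decide +kernel


end Cfsg.Agent.Helper9.TCData.X1690
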