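import Cfsg.Agent.Lib.Helper9.TCData.X1690.Main

set_option autoImplicit false
set_option maxRecDepth 1000000

namespace Cfsg.Agent.Helper9.TCData.X1690
open Cfsg.Agent.Helper9.TC2

theorem ma_428 : allRange 234544 548 (fun u => chkAux tab aux u) = true := by decide +kernel

theorem ma_429 : allRange 235092 548 (fun u => chkAux tab aux u) = true := by decide +kernel

theorem ma_430 : allRange 235640 548 (fun u => chkAux tab aux u) = true := by decide +kernel

theorem ma_431 : allRange 236188 548 (fun u => chkAux tab aux u) = true := by decide +kernel

theorem ma_432 : allRange 236736 548 (fun u => chkAux tab aux u) = true := by decide +kernel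

theorem ma_433 : allRange 237284 548 (fun u => chkAux tab aux u) = true := by decide +kernel

theorem ma_434 : allRange 237832 548 (fun u => chkAux tab aux u) = true := by decide +kernel

theorem ma_435 : allRange 238380 548 (fun u => chkAux tab aux u) = true := by decide +kernel

theorem ma_436 : allRange 238928 548 (fun u => chkAux tab aux u) = true := by decide +kernel

theorem ma_437 : allRange 239476 548 (fun u => chkAux tab aux u) = true := by decide +kernel


end Cfsg.Agent.Helper9.TCData.X1690
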