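import Cfsg.Agent.Lib.Helper9.TCData.X1690.Main

set_option autoImplicit false
set_option maxRecDepth 1000000

namespace Cfsg.Agent.Helper9.TCData.X1690
open Cfsg.Agent.Helper9.TC2

theorem ma_448 : allRange 245504 548 (fun u => chkAux tab aux u) = true := by decide +kernel

theorem ma_449 : allRange 246052 548 (fun u => chkAux tab aux u) = true := by decide +kernel

theorem ma_450 : allRange 246600 548 (fun u => chkAux tab aux u) = true := by decide +kernel

theorem ma_451 : allRange 247148 548 (fun u => chkAux tab aux u) = true := by decide +kernel

theorem ma_452 : allRange 247696 548 (fun u => chkAux tab aux u) = true := by decide +kernel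

theorem ma_453 : allRange 248244 548 (fun u => chkAux tab aux u) = true := by decide +kernel

theorem ma_454 : allRange 248792 548 (fun u => chkAux tab aux u) = true := by decide +kernel

theorem ma_455 : allRange 249340 548 (fun u => chkAux tab aux u) = true := by decide +kernel

theorem ma_456 : allRange 249888 548 (fun u => chkAux tab aux u) = true := by decide +kernel

theorem ma_457 : allRange 250436 548 (fun u => chkAux tab aux u) = true := by decide +kernel


end Cfsg.Agent.Helper9.TCData.X1690
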