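import Cfsg.Agent.Lib.Helper9.TCData.X1690.Main

set_option autoImplicit false
set_option maxRecDepth 1000000

namespace Cfsg.Agent.Helper9.TCData.X1690
open Cfsg.Agent.Helper9.TC2

theorem ma_458 : allRange 250984 548 (fun u => chkAux tab aux u) = true := by decide +kernel

theorem ma_459 : allRange 251532 548 (fun u => chkAux tab aux u) = true := by decide +kernel

theorem ma_460 : allRange 252080 548 (fun u => chkAux tab aux u) = true := by decide +kernel

theorem ma_461 : allRange 252628 548 (fun u => chkAux tab aux u) = true := by decide +kernel

theorem ma_462 : allRange 253176 548 (fun u => chkAux tab aux u) = true := by decide +kernel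

theorem ma_463 : allRange 253724 548 (fun u => chkAux tab aux u) = true := by decide +kernel

theorem ma_464 : allRange 254272 548 (fun u => chkAux tab aux u) = true := by decide +kernel

theorem ma_465 : allRange 254820 548 (fun u => chkAux tab aux u) = true := by decide +kernel

theorem ma_466 : allRange 255368 548 (fun u => chkAux tab aux u) = true := by decide +kernel

theorem ma_467 : allRange 255916 548 (fun u => chkAux tab aux u) = true := by decide +kernel


end Cfsg.Agent.Helper9.TCData.X1690
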