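import Cfsg.Agent.Lib.Helper9.TCData.X1690.Main

set_option autoImplicit false
set_option maxRecDepth 1000000

namespace Cfsg.Agent.Helper9.TCData.X1690
open Cfsg.Agent.Helper9.TC2

theorem ma_468 : allRange 256464 548 (fun u => chkAux tab aux u) = true := by decide +kernel

theorem ma_469 : allRange 257012 548 (fun u => chkAux tab aux u) = true := by decide +kernel

theorem ma_470 : allRange 257560 548 (fun u => chkAux tab aux u) = true := by decide +kernel

theorem ma_471 : allRange 258108 548 (fun u => chkAux tab aux u) = true := by decide +kernel

theorem ma_472 : allRange 258656 548 (fun u => chkAux tab aux u) = true := by decide +kernel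

theorem ma_473 : allRange 259204 548 (fun u => chkAux tab aux u) = true := by decide +kernel

theorem ma_474 : allRange 259752 548 (fun u => chkAux tab aux u) = true := by decide +kernel

theorem ma_475 : allRange 260300 548 (fun u => chkAux tab aux u) = true := by decide +kernel

theorem ma_476 : allRange 260848 548 (fun u => chkAux tab aux u) = true := by decide +kernel

theorem ma_477 : allRange 261396 548 (fun u => chkAux tab aux u) = true := by decide +kernel


end Cfsg.Agent.Helper9.TCData.X1690
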