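import Cfsg.Agent.Lib.Helper9.TCData.X1690.Main

set_option autoImplicit false
set_option maxRecDepth 1000000

namespace Cfsg.Agent.Helper9.TCData.X1690
open Cfsg.Agent.Helper9.TC2

theorem e2_120 : allRange 276258 2122 (fun u => chkE tab 2 u) = true := by decide +kernel

theorem e2_121 : allRange 278380 1903 (fun u => chkE tab 2 u) = true := by decide +kernel

theorem e2_122 : allRange 280283 1841 (fun u => chkE tab 2 u) = true := by decide +kernel

theorem e2_123 : allRange 282124 2878 (fun u => chkE tab 2 u) = true := by decide +kernel

theorem e2_124 : allRange 285002 2792 (fun u => chkE tab 2 u) = true := by decide +kernel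

theorem e2_125 : allRange 287794 2685 (fun u => chkE tab 2 u) = true := by decide +kernel

theorem e2_126 : allRange 290479 2274 (fun u => chkE tab 2 u) = true := by decide +kernel

theorem e2_127 : allRange 292753 2553 (fun u => chkE tab 2 u) = true := by decide +kernel

theorem e2_128 : allRange 295306 2255 (fun u => chkE tab 2 u) = true := by decide +kernel

theorem e2_129 : allRange 297561 2170 (fun u => chkE tab 2 u) = true := by decide +kernel


end Cfsg.Agent.Helper9.TCData.X1690
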