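import Cfsg.Agent.Lib.Helper9.TCData.X1690.Main

set_option autoImplicit false
set_option maxRecDepth 1000000

namespace Cfsg.Agent.Helper9.TCData.X1690
open Cfsg.Agent.Helper9.TC2

theorem ma_478 : allRange 261944 548 (fun u => chkAux tab aux u) = true := by decide +kernel

theorem ma_479 : allRange 262492 548 (fun u => chkAux tab aux u) = true := by decide +kernel

theorem ma_480 : allRange 263040 548 (fun u => chkAux tab aux u) = true := by decide +kernel

theorem ma_481 : allRange 263588 548 (fun u => chkAux tab aux u) = true := by decide +kernel

theorem ma_482 : allRange 264136 548 (fun u => chkAux tab aux u) = true := by decide +kernel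

theorem ma_483 : allRange 264684 548 (fun u => chkAux tab aux u) = true := by decide +kernel

theorem ma_484 : allRange 265232 548 (fun u => chkAux tab aux u) = true := by decide +kernel

theorem ma_485 : allRange 265780 548 (fun u => chkAux tab aux u) = true := by decide +kernel

theorem ma_486 : allRange 266328 548 (fun u => chkAux tab aux u) = true := by decide +kernel

theorem ma_487 : allRange 266876 548 (fun u => chkAux tab aux u) = true := by decide +kernel


end Cfsg.Agent.Helper9.TCData.X1690
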