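import Cfsg.Agent.Lib.Helper9.TCData.X1690.Main

set_option autoImplicit false
set_option maxRecDepth 1000000

namespace Cfsg.Agent.Helper9.TCData.X1690
open Cfsg.Agent.Helper9.TC2

theorem ma_488 : allRange 267424 548 (fun u => chkAux tab aux u) = true := by decide +kernel

theorem ma_489 : allRange 267972 548 (fun u => chkAux tab aux u) = true := by decide +kernel

theorem ma_490 : allRange 268520 548 (fun u => chkAux tab aux u) = true := by decide +kernel

theorem ma_491 : allRange 269068 548 (fun u => chkAux tab aux u) = true := by decide +kernel

theorem ma_492 : allRange 269616 548 (fun u => chkAux tab aux u) = true := by decide +kernel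

theorem ma_493 : allRange 270164 548 (fun u => chkAux tab aux u) = true := by decide +kernel

theorem ma_494 : allRange 270712 548 (fun u => chkAux tab aux u) = true := by decide +kernel

theorem ma_495 : allRange 271260 548 (fun u => chkAux tab aux u) = true := by decide +kernel

theorem ma_496 : allRange 271808 548 (fun u => chkAux tab aux u) = true := by decide +kernel

theorem ma_497 : allRange 272356 548 (fun u => chkAux tab aux u) = true := by decide +kernel


end Cfsg.Agent.Helper9.TCData.X1690
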