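import Cfsg.Agent.Lib.Helper9.TCData.X1690.Main

set_option autoImplicit false
set_option maxRecDepth 1000000

namespace Cfsg.Agent.Helper9.TCData.X1690
open Cfsg.Agent.Helper9.TC2

theorem ma_498 : allRange 272904 548 (fun u => chkAux tab aux u) = true := by decide +kernel

theorem ma_499 : allRange 273452 548 (fun u => chkAux tab aux u) = true := by decide +kernel

theorem ma_500 : allRange 274000 548 (fun u => chkAux tab aux u) = true := by decide +kernel

theorem ma_501 : allRange 274548 548 (fun u => chkAux tab aux u) = true := by decide +kernel

theorem ma_502 : allRange 275096 548 (fun u => chkAux tab aux u) = true := by decide +kernel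

theorem ma_503 : allRange 275644 548 (fun u => chkAux tab aux u) = true := by decide +kernel

theorem ma_504 : allRange 276192 548 (fun u => chkAux tab aux u) = true := by decide +kernel

theorem ma_505 : allRange 276740 548 (fun u => chkAux tab aux u) = true := by decide +kernel

theorem ma_506 : allRange 277288 548 (fun u => chkAux tab aux u) = true := by decide +kernel

theorem ma_507 : allRange 277836 548 (fun u => chkAux tab aux u) = true := by decide +kernel


end Cfsg.Agent.Helper9.TCData.X1690
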