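import Cfsg.Agent.Lib.Helper9.TCData.X1690.Main

set_option autoImplicit false
set_option maxRecDepth 1000000

namespace Cfsg.Agent.Helper9.TCData.X1690
open Cfsg.Agent.Helper9.TC2

theorem ma_508 : allRange 278384 548 (fun u => chkAux tab aux u) = true := by decide +kernel

theorem ma_509 : allRange 278932 548 (fun u => chkAux tab aux u) = true := by decide +kernel

theorem ma_510 : allRange 279480 548 (fun u => chkAux tab aux u) = true := by decide +kernel

theorem ma_511 : allRange 280028 548 (fun u => chkAux tab aux u) = true := by decide +kernel

theorem ma_512 : allRange 280576 548 (fun u => chkAux tab aux u) = true := by decide +kernel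

theorem ma_513 : allRange 281124 548 (fun u => chkAux tab aux u) = true := by decide +kernel

theorem ma_514 : allRange 281672 548 (fun u => chkAux tab aux u) = true := by decide +kernel

theorem ma_515 : allRange 282220 548 (fun u => chkAux tab aux u) = true := by decide +kernel

theorem ma_516 : allRange 282768 548 (fun u => chkAux tab aux u) = true := by decide +kernel

theorem ma_517 : allRange 283316 548 (fun u => chkAux tab aux u) = true := by decide +kernel


end Cfsg.Agent.Helper9.TCData.X1690
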