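import Cfsg.Agent.Lib.Helper9.TCData.X1690.Main

set_option autoImplicit false
set_option maxRecDepth 1000000

namespace Cfsg.Agent.Helper9.TCData.X1690
open Cfsg.Agent.Helper9.TC2

theorem ma_518 : allRange 283864 548 (fun u => chkAux tab aux u) = true := by decide +kernel

theorem ma_519 : allRange 284412 548 (fun u => chkAux tab aux u) = true := by decide +kernel

theorem ma_520 : allRange 284960 548 (fun u => chkAux tab aux u) = true := by decide +kernel

theorem ma_521 : allRange 285508 548 (fun u => chkAux tab aux u) = true := by decide +kernel

theorem ma_522 : allRange 286056 548 (fun u => chkAux tab aux u) = true := by decide +kernel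

theorem ma_523 : allRange 286604 548 (fun u => chkAux tab aux u) = true := by decide +kernel

theorem ma_524 : allRange 287152 548 (fun u => chkAux tab aux u) = true := by decide +kernel

theorem ma_525 : allRange 287700 548 (fun u => chkAux tab aux u) = true := by decide +kernel

theorem ma_526 : allRange 288248 548 (fun u => chkAux tab aux u) = true := by decide +kernel

theorem ma_527 : allRange 288796 548 (fun u => chkAux tab aux u) = true := by decide +kernel


end Cfsg.Agent.Helper9.TCData.X1690
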