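import Cfsg.Agent.Lib.Helper9.TCData.X1690.Main

set_option autoImplicit false
set_option maxRecDepth 1000000

namespace Cfsg.Agent.Helper9.TCData.X1690
open Cfsg.Agent.Helper9.TC2

theorem ma_528 : allRange 289344 548 (fun u => chkAux tab aux u) = true := by decide +kernel

theorem ma_529 : allRange 289892 548 (fun u => chkAux tab aux u) = true := by decide +kernel

theorem ma_530 : allRange 290440 548 (fun u => chkAux tab aux u) = true := by decide +kernel

theorem ma_531 : allRange 290988 548 (fun u => chkAux tab aux u) = true := by decide +kernel

theorem ma_532 : allRange 291536 548 (fun u => chkAux tab aux u) = true := by decide +kernel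

theorem ma_533 : allRange 292084 548 (fun u => chkAux tab aux u) = true := by decide +kernel

theorem ma_534 : allRange 292632 548 (fun u => chkAux tab aux u) = true := by decide +kernel

theorem ma_535 : allRange 293180 548 (fun u => chkAux tab aux u) = true := by decide +kernel

theorem ma_536 : allRange 293728 548 (fun u => chkAux tab aux u) = true := by decide +kernel

theorem ma_537 : allRange 294276 548 (fun u => chkAux tab aux u) = true := by decide +kernel


end Cfsg.Agent.Helper9.TCData.X1690
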