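import Cfsg.Agent.Lib.Helper9.TCData.X1690.Main

set_option autoImplicit false
set_option maxRecDepth 1000000

namespace Cfsg.Agent.Helper9.TCData.X1690
open Cfsg.Agent.Helper9.TC2

theorem ma_538 : allRange 294824 548 (fun u => chkAux tab aux u) = true := by decide +kernel

theorem ma_539 : allRange 295372 548 (fun u => chkAux tab aux u) = true := by decide +kernel

theorem ma_540 : allRange 295920 548 (fun u => chkAux tab aux u) = true := by decide +kernel

theorem ma_541 : allRange 296468 548 (fun u => chkAux tab aux u) = true := by decide +kernel

theorem ma_542 : allRange 297016 548 (fun u => chkAux tab aux u) = true := by decide +kernel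

theorem ma_543 : allRange 297564 548 (fun u => chkAux tab aux u) = true := by decide +kernel

theorem ma_544 : allRange 298112 548 (fun u => chkAux tab aux u) = true := by decide +kernel

theorem ma_545 : allRange 298660 548 (fun u => chkAux tab aux u) = true := by decide +kernel

theorem ma_546 : allRange 299208 548 (fun u => chkAux tab aux u) = true := by decide +kernel

theorem ma_547 : allRange 299756 548 (fun u => chkAux tab aux u) = true := by decide +kernel


end Cfsg.Agent.Helper9.TCData.X1690
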