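import Cfsg.Agent.Lib.Helper9.TCData.X1690.Main

set_option autoImplicit false
set_option maxRecDepth 1000000

namespace Cfsg.Agent.Helper9.TCData.X1690
open Cfsg.Agent.Helper9.TC2

theorem ma_548 : allRange 300304 548 (fun u => chkAux tab aux u) = true := by decide +kernel

theorem ma_549 : allRange 300852 548 (fun u => chkAux tab aux u) = true := by decide +kernel

theorem ma_550 : allRange 301400 548 (fun u => chkAux tab aux u) = true := by decide +kernel

theorem ma_551 : allRange 301948 548 (fun u => chkAux tab aux u) = true := by decide +kernel

theorem ma_552 : allRange 302496 548 (fun u => chkAux tab aux u) = true := by decide +kernel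

theorem ma_553 : allRange 303044 548 (fun u => chkAux tab aux u) = true := by decide +kernel

theorem ma_554 : allRange 303592 548 (fun u => chkAux tab aux u) = true := by decide +kernel

theorem ma_555 : allRange 304140 548 (fun u => chkAux tab aux u) = true := by decide +kernel

theorem ma_556 : allRange 304688 548 (fun u => chkAux tab aux u) = true := by decide +kernel

theorem ma_557 : allRange 305236 548 (fun u => chkAux tab aux u) = true := by decide +kernel


end Cfsg.Agent.Helper9.TCData.X1690
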