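import Cfsg.Agent.Lib.Helper9.TCData.X1690.Main

set_option autoImplicit false
set_option maxRecDepth 1000000

namespace Cfsg.Agent.Helper9.TCData.X1690
open Cfsg.Agent.Helper9.TC2

theorem e2_130 : allRange 299731 2239 (fun u => chkE tab 2 u) = true := by decide +kernel

theorem e2_131 : allRange 301970 2128 (fun u => chkE tab 2 u) = true := by decide +kernel

theorem e2_132 : allRange 304098 1868 (fun u => chkE tab 2 u) = true := by decide +kernel

theorem e2_133 : allRange 305966 2012 (fun u => chkE tab 2 u) = true := by decide +kernel

theorem e2_134 : allRange 307978 3070 (fun u => chkE tab 2 u) = true := by decide +kernel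

theorem e2_135 : allRange 311048 2879 (fun u => chkE tab 2 u) = true := by decide +kernel

theorem e2_136 : allRange 313927 2611 (fun u => chkE tab 2 u) = true := by decide +kernel

theorem e2_137 : allRange 316538 2423 (fun u => chkE tab 2 u) = true := by decide +kernel

theorem e2_138 : allRange 318961 2453 (fun u => chkE tab 2 u) = true := by decide +kernel

theorem e2_139 : allRange 321414 2294 (fun u => chkE tab 2 u) = true := by decide +kernel


end Cfsg.Agent.Helper9.TCData.X1690
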