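import Cfsg.Agent.Lib.Helper9.TCData.X1690.Main

set_option autoImplicit false
set_option maxRecDepth 1000000

namespace Cfsg.Agent.Helper9.TCData.X1690
open Cfsg.Agent.Helper9.TC2

theorem m2_27 : allRange 1161 43 (fun u => chkFix tab mwordsA u) = true := by decide +kernel

theorem m2_28 : allRange 1204 43 (fun u => chkFix tab mwordsA u) = true := by decide +kernel

theorem m2_29 : allRange 1247 43 (fun u => chkFix tab mwordsA u) = true := by decide +kernel

theorem m2_30 : allRange 1290 43 (fun u => chkFix tab mwordsA u) = true := by decide +kernel

theorem m2_31 : allRange 1333 43 (fun u => chkFix tab mwordsA u) = true := by decide +kernel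

theorem m2_32 : allRange 1376 43 (fun u => chkFix tab mwordsA u) = true := by decide +kernel

theorem m2_33 : allRange 1419 43 (fun u => chkFix tab mwordsA u) = true := by decide +kernel

theorem m2_34 : allRange 1462 43 (fun u => chkFix tab mwordsA u) = true := by decide +kernel

theorem m2_35 : allRange 1505 43 (fun u => chkFix tab mwordsA u) = true := by decide +kernel

theorem m2_36 : allRange 1548 43 (fun u => chkFix tab mwordsA u) = true := by decide +kernel


end Cfsg.Agent.Helper9.TCData.X1690
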