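import Cfsg.Agent.Lib.Helper9.TCData.X1690.Main

set_option autoImplicit false
set_option maxRecDepth 1000000

namespace Cfsg.Agent.Helper9.TCData.X1690
open Cfsg.Agent.Helper9.TC2

theorem m2_37 : allRange 1591 43 (fun u => chkFix tab mwordsA u) = true := by decide +kernel

theorem m2_38 : allRange 1634 43 (fun u => chkFix tab mwordsA u) = true := by decide +kernel

theorem m2_39 : allRange 1677 43 (fun u => chkFix tab mwordsA u) = true := by decide +kernel

theorem m2_40 : allRange 1720 43 (fun u => chkFix tab mwordsA u) = true := by decide +kernel

theorem m2_41 : allRange 1763 43 (fun u => chkFix tab mwordsA u) = true := by decide +kernel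

theorem m2_42 : allRange 1806 43 (fun u => chkFix tab mwordsA u) = true := by decide +kernel

theorem m2_43 : allRange 1849 43 (fun u => chkFix tab mwordsA u) = true := by decide +kernel

theorem m2_44 : allRange 1892 43 (fun u => chkFix tab mwordsA u) = true := by decide +kernel

theorem m2_45 : allRange 1935 43 (fun u => chkFix tab mwordsA u) = true := by decide +kernel

theorem m2_46 : allRange 1978 43 (fun u => chkFix tab mwordsA u) = true := by decide +kernel


end Cfsg.Agent.Helper9.TCData.X1690
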