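import Cfsg.Agent.Lib.Helper9.TCData.X1690.Main

set_option autoImplicit false
set_option maxRecDepth 1000000

namespace Cfsg.Agent.Helper9.TCData.X1690
open Cfsg.Agent.Helper9.TC2

theorem m2_47 : allRange 2021 43 (fun u => chkFix tab mwordsA u) = true := by decide +kernel

theorem m2_48 : allRange 2064 43 (fun u => chkFix tab mwordsA u) = true := by decide +kernel

theorem m2_49 : allRange 2107 43 (fun u => chkFix tab mwordsA u) = true := by decide +kernel

theorem m2_50 : allRange 2150 43 (fun u => chkFix tab mwordsA u) = true := by decide +kernel

theorem m2_51 : allRange 2193 43 (fun u => chkFix tab mwordsA u) = true := by decide +kernel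

theorem m2_52 : allRange 2236 43 (fun u => chkFix tab mwordsA u) = true := by decide +kernel

theorem m2_53 : allRange 2279 43 (fun u => chkFix tab mwordsA u) = true := by decide +kernel

theorem m2_54 : allRange 2322 43 (fun u => chkFix tab mwordsA u) = true := by decide +kernel

theorem m2_55 : allRange 2365 43 (fun u => chkFix tab mwordsA u) = true := by decide +kernel

theorem m2_56 : allRange 2408 43 (fun u => chkFix tab mwordsA u) = true := by decide +kernel


end Cfsg.Agent.Helper9.TCData.X1690
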