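import Cfsg.Agent.Lib.Helper9.TCData.X1690.Main

set_option autoImplicit false
set_option maxRecDepth 1000000

namespace Cfsg.Agent.Helper9.TCData.X1690
open Cfsg.Agent.Helper9.TC2

theorem m2_57 : allRange 2451 43 (fun u => chkFix tab mwordsA u) = true := by decide +kernel

theorem m2_58 : allRange 2494 43 (fun u => chkFix tab mwordsA u) = true := by decide +kernel

theorem m2_59 : allRange 2537 43 (fun u => chkFix tab mwordsA u) = true := by decide +kernel

theorem m2_60 : allRange 2580 43 (fun u => chkFix tab mwordsA u) = true := by decide +kernel

theorem m2_61 : allRange 2623 43 (fun u => chkFix tab mwordsA u) = true := by decide +kernel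

theorem m2_62 : allRange 2666 43 (fun u => chkFix tab mwordsA u) = true := by decide +kernel

theorem m2_63 : allRange 2709 43 (fun u => chkFix tab mwordsA u) = true := by decide +kernel

theorem m2_64 : allRange 2752 43 (fun u => chkFix tab mwordsA u) = true := by decide +kernel

theorem m2_65 : allRange 2795 43 (fun u => chkFix tab mwordsA u) = true := by decide +kernel

theorem m2_66 : allRange 2838 43 (fun u => chkFix tab mwordsA u) = true := by decide +kernel


end Cfsg.Agent.Helper9.TCData.X1690
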