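import Cfsg.Agent.Lib.Helper9.TCData.X1690.Main

set_option autoImplicit false
set_option maxRecDepth 1000000

namespace Cfsg.Agent.Helper9.TCData.X1690
open Cfsg.Agent.Helper9.TC2

theorem m2_67 : allRange 2881 43 (fun u => chkFix tab mwordsA u) = true := by decide +kernel

theorem m2_68 : allRange 2924 43 (fun u => chkFix tab mwordsA u) = true := by decide +kernel

theorem m2_69 : allRange 2967 43 (fun u => chkFix tab mwordsA u) = true := by decide +kernel

theorem m2_70 : allRange 3010 43 (fun u => chkFix tab mwordsA u) = true := by decide +kernel

theorem m2_71 : allRange 3053 43 (fun u => chkFix tab mwordsA u) = true := by decide +kernel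

theorem m2_72 : allRange 3096 43 (fun u => chkFix tab mwordsA u) = true := by decide +kernel

theorem m2_73 : allRange 3139 43 (fun u => chkFix tab mwordsA u) = true := by decide +kernel

theorem m2_74 : allRange 3182 43 (fun u => chkFix tab mwordsA u) = true := by decide +kernel

theorem m2_75 : allRange 3225 43 (fun u => chkFix tab mwordsA u) = true := by decide +kernel

theorem m2_76 : allRange 3268 43 (fun u => chkFix tab mwordsA u) = true := by decide +kernel


end Cfsg.Agent.Helper9.TCData.X1690
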