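import Cfsg.Agent.Lib.Helper9.TCData.X1690.Main

set_option autoImplicit false
set_option maxRecDepth 1000000

namespace Cfsg.Agent.Helper9.TCData.X1690
open Cfsg.Agent.Helper9.TC2

theorem m2_97 : allRange 4171 43 (fun u => chkFix tab mwordsA u) = true := by decide +kernel

theorem m2_98 : allRange 4214 43 (fun u => chkFix tab mwordsA u) = true := by decide +kernel

theorem m2_99 : allRange 4257 43 (fun u => chkFix tab mwordsA u) = true := by decide +kernel

theorem m2_100 : allRange 4300 43 (fun u => chkFix tab mwordsA u) = true := by decide +kernel

theorem m2_101 : allRange 4343 43 (fun u => chkFix tab mwordsA u) = true := by decide +kernel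

theorem m2_102 : allRange 4386 43 (fun u => chkFix tab mwordsA u) = true := by decide +kernel

theorem m2_103 : allRange 4429 43 (fun u => chkFix tab mwordsA u) = true := by decide +kernel

theorem m2_104 : allRange 4472 43 (fun u => chkFix tab mwordsA u) = true := by decide +kernel

theorem m2_105 : allRange 4515 43 (fun u => chkFix tab mwordsA u) = true := by decide +kernel

theorem m2_106 : allRange 4558 43 (fun u => chkFix tab mwordsA u) = true := by decide +kernel


end Cfsg.Agent.Helper9.TCData.X1690
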