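import Cfsg.Agent.Lib.Helper9.TCData.X1690.Main

set_option autoImplicit false
set_option maxRecDepth 1000000

namespace Cfsg.Agent.Helper9.TCData.X1690
open Cfsg.Agent.Helper9.TC2

theorem m2_137 : allRange 5891 43 (fun u => chkFix tab mwordsA u) = true := by decide +kernel

theorem m2_138 : allRange 5934 43 (fun u => chkFix tab mwordsA u) = true := by decide +kernel

theorem m2_139 : allRange 5977 43 (fun u => chkFix tab mwordsA u) = true := by decide +kernel

theorem m2_140 : allRange 6020 43 (fun u => chkFix tab mwordsA u) = true := by decide +kernel

theorem m2_141 : allRange 6063 43 (fun u => chkFix tab mwordsA u) = true := by decide +kernel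

theorem m2_142 : allRange 6106 43 (fun u => chkFix tab mwordsA u) = true := by decide +kernel

theorem m2_143 : allRange 6149 43 (fun u => chkFix tab mwordsA u) = true := by decide +kernel

theorem m2_144 : allRange 6192 43 (fun u => chkFix tab mwordsA u) = true := by decide +kernel

theorem m2_145 : allRange 6235 43 (fun u => chkFix tab mwordsA u) = true := by decide +kernel

theorem m2_146 : allRange 6278 43 (fun u => chkFix tab mwordsA u) = true := by decide +kernel


end Cfsg.Agent.Helper9.TCData.X1690
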