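import Cfsg.Agent.Lib.Helper9.TCData.X1690.Main

set_option autoImplicit false
set_option maxRecDepth 1000000

namespace Cfsg.Agent.Helper9.TCData.X1690
open Cfsg.Agent.Helper9.TC2

theorem m2_187 : allRange 8041 43 (fun u => chkFix tab mwordsA u) = true := by decide +kernel

theorem m2_188 : allRange 8084 43 (fun u => chkFix tab mwordsA u) = true := by decide +kernel

theorem m2_189 : allRange 8127 43 (fun u => chkFix tab mwordsA u) = true := by decide +kernel

theorem m2_190 : allRange 8170 43 (fun u => chkFix tab mwordsA u) = true := by decide +kernel

theorem m2_191 : allRange 8213 43 (fun u => chkFix tab mwordsA u) = true := by decide +kernel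

theorem m2_192 : allRange 8256 43 (fun u => chkFix tab mwordsA u) = true := by decide +kernel

theorem m2_193 : allRange 8299 43 (fun u => chkFix tab mwordsA u) = true := by decide +kernel

theorem m2_194 : allRange 8342 43 (fun u => chkFix tab mwordsA u) = true := by decide +kernel

theorem m2_195 : allRange 8385 43 (fun u => chkFix tab mwordsA u) = true := by decide +kernel

theorem m2_196 : allRange 8428 43 (fun u => chkFix tab mwordsA u) = true := by decide +kernel


end Cfsg.Agent.Helper9.TCData.X1690
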