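import Cfsg.Agent.Lib.Helper9.TCData.X1690.Main

set_option autoImplicit false
set_option maxRecDepth 1000000

namespace Cfsg.Agent.Helper9.TCData.X1690
open Cfsg.Agent.Helper9.TC2

theorem e2_150 : allRange 348400 2224 (fun u => chkE tab 2 u) = true := by decide +kernel

theorem e2_151 : allRange 350624 2209 (fun u => chkE tab 2 u) = true := by decide +kernel

theorem e2_152 : allRange 352833 1926 (fun u => chkE tab 2 u) = true := by decide +kernel

theorem e2_153 : allRange 354759 3105 (fun u => chkE tab 2 u) = true := by decide +kernel

theorem e2_154 : allRange 357864 3267 (fun u => chkE tab 2 u) = true := by decide +kernel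

theorem e2_155 : allRange 361131 2752 (fun u => chkE tab 2 u) = true := by decide +kernel

theorem e2_156 : allRange 363883 2615 (fun u => chkE tab 2 u) = true := by decide +kernel

theorem e2_157 : allRange 366498 2302 (fun u => chkE tab 2 u) = true := by decide +kernel

theorem e2_158 : allRange 368800 2293 (fun u => chkE tab 2 u) = true := by decide +kernel

theorem e2_159 : allRange 371093 2488 (fun u => chkE tab 2 u) = true := by decide +kernel


end Cfsg.Agent.Helper9.TCData.X1690
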