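import Cfsg.Agent.Lib.Helper9.TCData.X1690.Main

set_option autoImplicit false
set_option maxRecDepth 1000000

namespace Cfsg.Agent.Helper9.TCData.X1690
open Cfsg.Agent.Helper9.TC2

theorem m2_257 : allRange 11051 43 (fun u => chkFix tab mwordsA u) = true := by decide +kernel

theorem m2_258 : allRange 11094 43 (fun u => chkFix tab mwordsA u) = true := by decide +kernel

theorem m2_259 : allRange 11137 43 (fun u => chkFix tab mwordsA u) = true := by decide +kernel

theorem m2_260 : allRange 11180 43 (fun u => chkFix tab mwordsA u) = true := by decide +kernel

theorem m2_261 : allRange 11223 43 (fun u => chkFix tab mwordsA u) = true := by decide +kernel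

theorem m2_262 : allRange 11266 43 (fun u => chkFix tab mwordsA u) = true := by decide +kernel

theorem m2_263 : allRange 11309 43 (fun u => chkFix tab mwordsA u) = true := by decide +kernel

theorem m2_264 : allRange 11352 43 (fun u => chkFix tab mwordsA u) = true := by decide +kernel

theorem m2_265 : allRange 11395 43 (fun u => chkFix tab mwordsA u) = true := by decide +kernel

theorem m2_266 : allRange 11438 43 (fun u => chkFix tab mwordsA u) = true := by decide +kernel


end Cfsg.Agent.Helper9.TCData.X1690
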