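import Cfsg.Agent.Lib.Helper9.TCData.X1690.Main

set_option autoImplicit false
set_option maxRecDepth 1000000

namespace Cfsg.Agent.Helper9.TCData.X1690
open Cfsg.Agent.Helper9.TC2

theorem m2_287 : allRange 12341 43 (fun u => chkFix tab mwordsA u) = true := by decide +kernel

theorem m2_288 : allRange 12384 43 (fun u => chkFix tab mwordsA u) = true := by decide +kernel

theorem m2_289 : allRange 12427 43 (fun u => chkFix tab mwordsA u) = true := by decide +kernel

theorem m2_290 : allRange 12470 43 (fun u => chkFix tab mwordsA u) = true := by decide +kernel

theorem m2_291 : allRange 12513 43 (fun u => chkFix tab mwordsA u) = true := by decide +kernel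

theorem m2_292 : allRange 12556 43 (fun u => chkFix tab mwordsA u) = true := by decide +kernel

theorem m2_293 : allRange 12599 43 (fun u => chkFix tab mwordsA u) = true := by decide +kernel

theorem m2_294 : allRange 12642 43 (fun u => chkFix tab mwordsA u) = true := by decide +kernel

theorem m2_295 : allRange 12685 43 (fun u => chkFix tab mwordsA u) = true := by decide +kernel

theorem m2_296 : allRange 12728 43 (fun u => chkFix tab mwordsA u) = true := by decide +kernel


end Cfsg.Agent.Helper9.TCData.X1690
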