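import Cfsg.Agent.Lib.Helper9.TCData.X1690.Main

set_option autoImplicit false
set_option maxRecDepth 1000000

namespace Cfsg.Agent.Helper9.TCData.X1690
open Cfsg.Agent.Helper9.TC2

theorem e0_50 : allRange 102529 1669 (fun u => chkE tab 0 u) = true := by decide +kernel

theorem e0_51 : allRange 104198 1720 (fun u => chkE tab 0 u) = true := by decide +kernel

theorem e0_52 : allRange 105918 1668 (fun u => chkE tab 0 u) = true := by decide +kernel

theorem e0_53 : allRange 107586 1650 (fun u => chkE tab 0 u) = true := by decide +kernel

theorem e0_54 : allRange 109236 1739 (fun u => chkE tab 0 u) = true := by decide +kernel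

theorem e0_55 : allRange 110975 1649 (fun u => chkE tab 0 u) = true := by decide +kernel

theorem e0_56 : allRange 112624 1673 (fun u => chkE tab 0 u) = true := by decide +kernel

theorem e0_57 : allRange 114297 1786 (fun u => chkE tab 0 u) = true := by decide +kernel

theorem e0_58 : allRange 116083 2841 (fun u => chkE tab 0 u) = true := by decide +kernel

theorem e0_59 : allRange 118924 7189 (fun u => chkE tab 0 u) = true := by decide +kernel


end Cfsg.Agent.Helper9.TCData.X1690
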