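import Cfsg.Agent.Lib.Helper9.TCData.X1690.Main

set_option autoImplicit false
set_option maxRecDepth 1000000

namespace Cfsg.Agent.Helper9.TCData.X1690
open Cfsg.Agent.Helper9.TC2

theorem e2_160 : allRange 373581 3429 (fun u => chkE tab 2 u) = true := by decide +kernel

theorem e2_161 : allRange 377010 2771 (fun u => chkE tab 2 u) = true := by decide +kernel

theorem e2_162 : allRange 379781 2309 (fun u => chkE tab 2 u) = true := by decide +kernel

theorem e2_163 : allRange 382090 2613 (fun u => chkE tab 2 u) = true := by decide +kernel

theorem e2_164 : allRange 384703 3112 (fun u => chkE tab 2 u) = true := by decide +kernel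

theorem e2_165 : allRange 387815 2511 (fun u => chkE tab 2 u) = true := by decide +kernel

theorem e2_166 : allRange 390326 2939 (fun u => chkE tab 2 u) = true := by decide +kernel

theorem e2_167 : allRange 393265 1189 (fun u => chkE tab 2 u) = true := by decide +kernel

theorem e3_0 : allRange 0 1966 (fun u => chkE tab 3 u) = true := by decide +kernel

theorem e3_1 : allRange 1966 1986 (fun u => chkE tab 3 u) = true := by decide +kernel


end Cfsg.Agent.Helper9.TCData.X1690
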