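import Cfsg.Agent.Lib.Helper9.TCData.X1690.Main

set_option autoImplicit false
set_option maxRecDepth 1000000

namespace Cfsg.Agent.Helper9.TCData.X1690
open Cfsg.Agent.Helper9.TC2

theorem m2_317 : allRange 13631 43 (fun u => chkFix tab mwordsA u) = true := by decide +kernel

theorem m2_318 : allRange 13674 43 (fun u => chkFix tab mwordsA u) = true := by decide +kernel

theorem m2_319 : allRange 13717 43 (fun u => chkFix tab mwordsA u) = true := by decide +kernel

theorem m2_320 : allRange 13760 43 (fun u => chkFix tab mwordsA u) = true := by decide +kernel

theorem m2_321 : allRange 13803 43 (fun u => chkFix tab mwordsA u) = true := by decide +kernel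

theorem m2_322 : allRange 13846 43 (fun u => chkFix tab mwordsA u) = true := by decide +kernel

theorem m2_323 : allRange 13889 43 (fun u => chkFix tab mwordsA u) = true := by decide +kernel

theorem m2_324 : allRange 13932 43 (fun u => chkFix tab mwordsA u) = true := by decide +kernel

theorem m2_325 : allRange 13975 43 (fun u => chkFix tab mwordsA u) = true := by decide +kernel

theorem m2_326 : allRange 14018 43 (fun u => chkFix tab mwordsA u) = true := by decide +kernel


end Cfsg.Agent.Helper9.TCData.X1690
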