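import Cfsg.Agent.Lib.Helper9.TCData.X1690.Main

set_option autoImplicit false
set_option maxRecDepth 1000000

namespace Cfsg.Agent.Helper9.TCData.X1690
open Cfsg.Agent.Helper9.TC2

theorem m2_327 : allRange 14061 43 (fun u => chkFix tab mwordsA u) = true := by decide +kernel

theorem m2_328 : allRange 14104 43 (fun u => chkFix tab mwordsA u) = true := by decide +kernel

theorem m2_329 : allRange 14147 43 (fun u => chkFix tab mwordsA u) = true := by decide +kernel

theorem m2_330 : allRange 14190 43 (fun u => chkFix tab mwordsA u) = true := by decide +kernel

theorem m2_331 : allRange 14233 43 (fun u => chkFix tab mwordsA u) = true := by decide +kernel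

theorem m2_332 : allRange 14276 43 (fun u => chkFix tab mwordsA u) = true := by decide +kernel

theorem m2_333 : allRange 14319 43 (fun u => chkFix tab mwordsA u) = true := by decide +kernel

theorem m2_334 : allRange 14362 43 (fun u => chkFix tab mwordsA u) = true := by decide +kernel

theorem m2_335 : allRange 14405 43 (fun u => chkFix tab mwordsA u) = true := by decide +kernel

theorem m2_336 : allRange 14448 43 (fun u => chkFix tab mwordsA u) = true := by decide +kernel


end Cfsg.Agent.Helper9.TCData.X1690
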