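import Cfsg.Agent.Lib.Helper9.TCData.X1690.Main

set_option autoImplicit false
set_option maxRecDepth 1000000

namespace Cfsg.Agent.Helper9.TCData.X1690
open Cfsg.Agent.Helper9.TC2

theorem m2_337 : allRange 14491 43 (fun u => chkFix tab mwordsA u) = true := by decide +kernel

theorem m2_338 : allRange 14534 43 (fun u => chkFix tab mwordsA u) = true := by decide +kernel

theorem m2_339 : allRange 14577 43 (fun u => chkFix tab mwordsA u) = true := by decide +kernel

theorem m2_340 : allRange 14620 43 (fun u => chkFix tab mwordsA u) = true := by decide +kernel

theorem m2_341 : allRange 14663 43 (fun u => chkFix tab mwordsA u) = true := by decide +kernel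

theorem m2_342 : allRange 14706 43 (fun u => chkFix tab mwordsA u) = true := by decide +kernel

theorem m2_343 : allRange 14749 43 (fun u => chkFix tab mwordsA u) = true := by decide +kernel

theorem m2_344 : allRange 14792 43 (fun u => chkFix tab mwordsA u) = true := by decide +kernel

theorem m2_345 : allRange 14835 43 (fun u => chkFix tab mwordsA u) = true := by decide +kernel

theorem m2_346 : allRange 14878 43 (fun u => chkFix tab mwordsA u) = true := by decide +kernel


end Cfsg.Agent.Helper9.TCData.X1690
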