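import Cfsg.Agent.Lib.Helper9.TCData.X1690.Main

set_option autoImplicit false
set_option maxRecDepth 1000000

namespace Cfsg.Agent.Helper9.TCData.X1690
open Cfsg.Agent.Helper9.TC2

theorem m2_347 : allRange 14921 43 (fun u => chkFix tab mwordsA u) = true := by decide +kernel

theorem m2_348 : allRange 14964 43 (fun u => chkFix tab mwordsA u) = true := by decide +kernel

theorem m2_349 : allRange 15007 43 (fun u => chkFix tab mwordsA u) = true := by decide +kernel

theorem m2_350 : allRange 15050 43 (fun u => chkFix tab mwordsA u) = true := by decide +kernel

theorem m2_351 : allRange 15093 43 (fun u => chkFix tab mwordsA u) = true := by decide +kernel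

theorem m2_352 : allRange 15136 43 (fun u => chkFix tab mwordsA u) = true := by decide +kernel

theorem m2_353 : allRange 15179 43 (fun u => chkFix tab mwordsA u) = true := by decide +kernel

theorem m2_354 : allRange 15222 43 (fun u => chkFix tab mwordsA u) = true := by decide +kernel

theorem m2_355 : allRange 15265 43 (fun u => chkFix tab mwordsA u) = true := by decide +kernel

theorem m2_356 : allRange 15308 43 (fun u => chkFix tab mwordsA u) = true := by decide +kernel


end Cfsg.Agent.Helper9.TCData.X1690
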