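import Cfsg.Agent.Lib.Helper9.TCData.X1690.Main

set_option autoImplicit false
set_option maxRecDepth 1000000

namespace Cfsg.Agent.Helper9.TCData.X1690
open Cfsg.Agent.Helper9.TC2

theorem m2_367 : allRange 15781 43 (fun u => chkFix tab mwordsA u) = true := by decide +kernel

theorem m2_368 : allRange 15824 43 (fun u => chkFix tab mwordsA u) = true := by decide +kernel

theorem m2_369 : allRange 15867 43 (fun u => chkFix tab mwordsA u) = true := by decide +kernel

theorem m2_370 : allRange 15910 43 (fun u => chkFix tab mwordsA u) = true := by decide +kernel

theorem m2_371 : allRange 15953 43 (fun u => chkFix tab mwordsA u) = true := by decide +kernel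

theorem m2_372 : allRange 15996 43 (fun u => chkFix tab mwordsA u) = true := by decide +kernel

theorem m2_373 : allRange 16039 43 (fun u => chkFix tab mwordsA u) = true := by decide +kernel

theorem m2_374 : allRange 16082 43 (fun u => chkFix tab mwordsA u) = true := by decide +kernel

theorem m2_375 : allRange 16125 43 (fun u => chkFix tab mwordsA u) = true := by decide +kernel

theorem m2_376 : allRange 16168 43 (fun u => chkFix tab mwordsA u) = true := by decide +kernel


end Cfsg.Agent.Helper9.TCData.X1690
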