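import Cfsg.Agent.Lib.Helper9.TCData.X1690.Main

set_option autoImplicit false
set_option maxRecDepth 1000000

namespace Cfsg.Agent.Helper9.TCData.X1690
open Cfsg.Agent.Helper9.TC2

theorem e3_2 : allRange 3952 1973 (fun u => chkE tab 3 u) = true := by decide +kernel

theorem e3_3 : allRange 5925 2026 (fun u => chkE tab 3 u) = true := by decide +kernel

theorem e3_4 : allRange 7951 2333 (fun u => chkE tab 3 u) = true := by decide +kernel

theorem e3_5 : allRange 10284 2448 (fun u => chkE tab 3 u) = true := by decide +kernel

theorem e3_6 : allRange 12732 1995 (fun u => chkE tab 3 u) = true := by decide +kernel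

theorem e3_7 : allRange 14727 2092 (fun u => chkE tab 3 u) = true := by decide +kernel

theorem e3_8 : allRange 16819 1993 (fun u => chkE tab 3 u) = true := by decide +kernel

theorem e3_9 : allRange 18812 2175 (fun u => chkE tab 3 u) = true := by decide +kernel

theorem e3_10 : allRange 20987 1921 (fun u => chkE tab 3 u) = true := by decide +kernel

theorem e3_11 : allRange 22908 2074 (fun u => chkE tab 3 u) = true := by decide +kernel


end Cfsg.Agent.Helper9.TCData.X1690
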