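import Cfsg.Agent.Lib.Helper9.TCData.X1690.Main

set_option autoImplicit false
set_option maxRecDepth 1000000

namespace Cfsg.Agent.Helper9.TCData.X1690
open Cfsg.Agent.Helper9.TC2

theorem m2_417 : allRange 17931 43 (fun u => chkFix tab mwordsA u) = true := by decide +kernel

theorem m2_418 : allRange 17974 43 (fun u => chkFix tab mwordsA u) = true := by decide +kernel

theorem m2_419 : allRange 18017 43 (fun u => chkFix tab mwordsA u) = true := by decide +kernel

theorem m2_420 : allRange 18060 43 (fun u => chkFix tab mwordsA u) = true := by decide +kernel

theorem m2_421 : allRange 18103 43 (fun u => chkFix tab mwordsA u) = true := by decide +kernel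

theorem m2_422 : allRange 18146 43 (fun u => chkFix tab mwordsA u) = true := by decide +kernel

theorem m2_423 : allRange 18189 43 (fun u => chkFix tab mwordsA u) = true := by decide +kernel

theorem m2_424 : allRange 18232 43 (fun u => chkFix tab mwordsA u) = true := by decide +kernel

theorem m2_425 : allRange 18275 43 (fun u => chkFix tab mwordsA u) = true := by decide +kernel

theorem m2_426 : allRange 18318 43 (fun u => chkFix tab mwordsA u) = true := by decide +kernel


end Cfsg.Agent.Helper9.TCData.X1690
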