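import Cfsg.Agent.Lib.Helper9.TCData.X1690.Main

set_option autoImplicit false
set_option maxRecDepth 1000000

namespace Cfsg.Agent.Helper9.TCData.X1690
open Cfsg.Agent.Helper9.TC2

theorem m2_497 : allRange 21371 43 (fun u => chkFix tab mwordsA u) = true := by decide +kernel

theorem m2_498 : allRange 21414 43 (fun u => chkFix tab mwordsA u) = true := by decide +kernel

theorem m2_499 : allRange 21457 43 (fun u => chkFix tab mwordsA u) = true := by decide +kernel

theorem m2_500 : allRange 21500 43 (fun u => chkFix tab mwordsA u) = true := by decide +kernel

theorem m2_501 : allRange 21543 43 (fun u => chkFix tab mwordsA u) = true := by decide +kernel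

theorem m2_502 : allRange 21586 43 (fun u => chkFix tab mwordsA u) = true := by decide +kernel

theorem m2_503 : allRange 21629 43 (fun u => chkFix tab mwordsA u) = true := by decide +kernel

theorem m2_504 : allRange 21672 43 (fun u => chkFix tab mwordsA u) = true := by decide +kernel

theorem m2_505 : allRange 21715 43 (fun u => chkFix tab mwordsA u) = true := by decide +kernel

theorem m2_506 : allRange 21758 43 (fun u => chkFix tab mwordsA u) = true := by decide +kernel


end Cfsg.Agent.Helper9.TCData.X1690
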