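import Cfsg.Agent.Lib.Helper9.TCData.X1690.Main

set_option autoImplicit false
set_option maxRecDepth 1000000

namespace Cfsg.Agent.Helper9.TCData.X1690
open Cfsg.Agent.Helper9.TC2

theorem m2_507 : allRange 21801 43 (fun u => chkFix tab mwordsA u) = true := by decide +kernel

theorem m2_508 : allRange 21844 43 (fun u => chkFix tab mwordsA u) = true := by decide +kernel

theorem m2_509 : allRange 21887 43 (fun u => chkFix tab mwordsA u) = true := by decide +kernel

theorem m2_510 : allRange 21930 43 (fun u => chkFix tab mwordsA u) = true := by decide +kernel

theorem m2_511 : allRange 21973 43 (fun u => chkFix tab mwordsA u) = true := by decide +kernel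

theorem m2_512 : allRange 22016 43 (fun u => chkFix tab mwordsA u) = true := by decide +kernel

theorem m2_513 : allRange 22059 43 (fun u => chkFix tab mwordsA u) = true := by decide +kernel

theorem m2_514 : allRange 22102 43 (fun u => chkFix tab mwordsA u) = true := by decide +kernel

theorem m2_515 : allRange 22145 43 (fun u => chkFix tab mwordsA u) = true := by decide +kernel

theorem m2_516 : allRange 22188 43 (fun u => chkFix tab mwordsA u) = true := by decide +kernel


end Cfsg.Agent.Helper9.TCData.X1690
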