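import Cfsg.Agent.Lib.Helper9.TCData.X1690.Main

set_option autoImplicit false
set_option maxRecDepth 1000000

namespace Cfsg.Agent.Helper9.TCData.X1690
open Cfsg.Agent.Helper9.TC2

theorem e3_12 : allRange 24982 2178 (fun u => chkE tab 3 u) = true := by decide +kernel

theorem e3_13 : allRange 27160 1968 (fun u => chkE tab 3 u) = true := by decide +kernel

theorem e3_14 : allRange 29128 2032 (fun u => chkE tab 3 u) = true := by decide +kernel

theorem e3_15 : allRange 31160 2056 (fun u => chkE tab 3 u) = true := by decide +kernel

theorem e3_16 : allRange 33216 2194 (fun u => chkE tab 3 u) = true := by decide +kernel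

theorem e3_17 : allRange 35410 2085 (fun u => chkE tab 3 u) = true := by decide +kernel

theorem e3_18 : allRange 37495 1912 (fun u => chkE tab 3 u) = true := by decide +kernel

theorem e3_19 : allRange 39407 1991 (fun u => chkE tab 3 u) = true := by decide +kernel

theorem e3_20 : allRange 41398 2112 (fun u => chkE tab 3 u) = true := by decide +kernel

theorem e3_21 : allRange 43510 2275 (fun u => chkE tab 3 u) = true := by decide +kernel


end Cfsg.Agent.Helper9.TCData.X1690
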