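import Cfsg.Agent.Lib.Helper9.TCData.X1690.Main

set_option autoImplicit false
set_option maxRecDepth 1000000

namespace Cfsg.Agent.Helper9.TCData.X1690
open Cfsg.Agent.Helper9.TC2

theorem m2_557 : allRange 23951 43 (fun u => chkFix tab mwordsA u) = true := by decide +kernel

theorem m2_558 : allRange 23994 43 (fun u => chkFix tab mwordsA u) = true := by decide +kernel

theorem m2_559 : allRange 24037 43 (fun u => chkFix tab mwordsA u) = true := by decide +kernel

theorem m2_560 : allRange 24080 43 (fun u => chkFix tab mwordsA u) = true := by decide +kernel

theorem m2_561 : allRange 24123 43 (fun u => chkFix tab mwordsA u) = true := by decide +kernel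

theorem m2_562 : allRange 24166 43 (fun u => chkFix tab mwordsA u) = true := by decide +kernel

theorem m2_563 : allRange 24209 43 (fun u => chkFix tab mwordsA u) = true := by decide +kernel

theorem m2_564 : allRange 24252 43 (fun u => chkFix tab mwordsA u) = true := by decide +kernel

theorem m2_565 : allRange 24295 43 (fun u => chkFix tab mwordsA u) = true := by decide +kernel

theorem m2_566 : allRange 24338 43 (fun u => chkFix tab mwordsA u) = true := by decide +kernel


end Cfsg.Agent.Helper9.TCData.X1690
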