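import Cfsg.Agent.Lib.Helper9.TCData.X1690.Main

set_option autoImplicit false
set_option maxRecDepth 1000000

namespace Cfsg.Agent.Helper9.TCData.X1690
open Cfsg.Agent.Helper9.TC2

theorem m2_567 : allRange 24381 43 (fun u => chkFix tab mwordsA u) = true := by decide +kernel

theorem m2_568 : allRange 24424 43 (fun u => chkFix tab mwordsA u) = true := by decide +kernel

theorem m2_569 : allRange 24467 43 (fun u => chkFix tab mwordsA u) = true := by decide +kernel

theorem m2_570 : allRange 24510 43 (fun u => chkFix tab mwordsA u) = true := by decide +kernel

theorem m2_571 : allRange 24553 43 (fun u => chkFix tab mwordsA u) = true := by decide +kernel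

theorem m2_572 : allRange 24596 43 (fun u => chkFix tab mwordsA u) = true := by decide +kernel

theorem m2_573 : allRange 24639 43 (fun u => chkFix tab mwordsA u) = true := by decide +kernel

theorem m2_574 : allRange 24682 43 (fun u => chkFix tab mwordsA u) = true := by decide +kernel

theorem m2_575 : allRange 24725 43 (fun u => chkFix tab mwordsA u) = true := by decide +kernel

theorem m2_576 : allRange 24768 43 (fun u => chkFix tab mwordsA u) = true := by decide +kernel


end Cfsg.Agent.Helper9.TCData.X1690
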