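import Cfsg.Agent.Lib.Helper9.TCData.X1690.Main

set_option autoImplicit false
set_option maxRecDepth 1000000

namespace Cfsg.Agent.Helper9.TCData.X1690
open Cfsg.Agent.Helper9.TC2

theorem m2_607 : allRange 26101 43 (fun u => chkFix tab mwordsA u) = true := by decide +kernel

theorem m2_608 : allRange 26144 43 (fun u => chkFix tab mwordsA u) = true := by decide +kernel

theorem m2_609 : allRange 26187 43 (fun u => chkFix tab mwordsA u) = true := by decide +kernel

theorem m2_610 : allRange 26230 43 (fun u => chkFix tab mwordsA u) = true := by decide +kernel

theorem m2_611 : allRange 26273 43 (fun u => chkFix tab mwordsA u) = true := by decide +kernel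

theorem m2_612 : allRange 26316 43 (fun u => chkFix tab mwordsA u) = true := by decide +kernel

theorem m2_613 : allRange 26359 43 (fun u => chkFix tab mwordsA u) = true := by decide +kernel

theorem m2_614 : allRange 26402 43 (fun u => chkFix tab mwordsA u) = true := by decide +kernel

theorem m2_615 : allRange 26445 43 (fun u => chkFix tab mwordsA u) = true := by decide +kernel

theorem m2_616 : allRange 26488 43 (fun u => chkFix tab mwordsA u) = true := by decide +kernel


end Cfsg.Agent.Helper9.TCData.X1690
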