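import Cfsg.Agent.Lib.Helper9.TCData.X1690.Main

set_option autoImplicit false
set_option maxRecDepth 1000000

namespace Cfsg.Agent.Helper9.TCData.X1690
open Cfsg.Agent.Helper9.TC2

theorem e3_22 : allRange 45785 2023 (fun u => chkE tab 3 u) = true := by decide +kernel

theorem e3_23 : allRange 47808 2159 (fun u => chkE tab 3 u) = true := by decide +kernel

theorem e3_24 : allRange 49967 1962 (fun u => chkE tab 3 u) = true := by decide +kernel

theorem e3_25 : allRange 51929 1963 (fun u => chkE tab 3 u) = true := by decide +kernel

theorem e3_26 : allRange 53892 2015 (fun u => chkE tab 3 u) = true := by decide +kernel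

theorem e3_27 : allRange 55907 2163 (fun u => chkE tab 3 u) = true := by decide +kernel

theorem e3_28 : allRange 58070 2054 (fun u => chkE tab 3 u) = true := by decide +kernel

theorem e3_29 : allRange 60124 2272 (fun u => chkE tab 3 u) = true := by decide +kernel

theorem e3_30 : allRange 62396 2170 (fun u => chkE tab 3 u) = true := by decide +kernel

theorem e3_31 : allRange 64566 2132 (fun u => chkE tab 3 u) = true := by decide +kernel


end Cfsg.Agent.Helper9.TCData.X1690
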