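import Cfsg.Agent.Lib.Helper9.TCData.X1690.Main

set_option autoImplicit false
set_option maxRecDepth 1000000

namespace Cfsg.Agent.Helper9.TCData.X1690
open Cfsg.Agent.Helper9.TC2

theorem m2_627 : allRange 26961 43 (fun u => chkFix tab mwordsA u) = true := by decide +kernel

theorem m2_628 : allRange 27004 43 (fun u => chkFix tab mwordsA u) = true := by decide +kernel

theorem m2_629 : allRange 27047 43 (fun u => chkFix tab mwordsA u) = true := by decide +kernel

theorem m2_630 : allRange 27090 43 (fun u => chkFix tab mwordsA u) = true := by decide +kernel

theorem m2_631 : allRange 27133 43 (fun u => chkFix tab mwordsA u) = true := by decide +kernel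

theorem m2_632 : allRange 27176 43 (fun u => chkFix tab mwordsA u) = true := by decide +kernel

theorem m2_633 : allRange 27219 43 (fun u => chkFix tab mwordsA u) = true := by decide +kernel

theorem m2_634 : allRange 27262 43 (fun u => chkFix tab mwordsA u) = true := by decide +kernel

theorem m2_635 : allRange 27305 43 (fun u => chkFix tab mwordsA u) = true := by decide +kernel

theorem m2_636 : allRange 27348 43 (fun u => chkFix tab mwordsA u) = true := by decide +kernel


end Cfsg.Agent.Helper9.TCData.X1690
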