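import Cfsg.Agent.Lib.Helper9.TCData.X1690.Main

set_option autoImplicit false
set_option maxRecDepth 1000000

namespace Cfsg.Agent.Helper9.TCData.X1690
open Cfsg.Agent.Helper9.TC2

theorem m2_667 : allRange 28681 43 (fun u => chkFix tab mwordsA u) = true := by decide +kernel

theorem m2_668 : allRange 28724 43 (fun u => chkFix tab mwordsA u) = true := by decide +kernel

theorem m2_669 : allRange 28767 43 (fun u => chkFix tab mwordsA u) = true := by decide +kernel

theorem m2_670 : allRange 28810 43 (fun u => chkFix tab mwordsA u) = true := by decide +kernel

theorem m2_671 : allRange 28853 43 (fun u => chkFix tab mwordsA u) = true := by decide +kernel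

theorem m2_672 : allRange 28896 43 (fun u => chkFix tab mwordsA u) = true := by decide +kernel

theorem m2_673 : allRange 28939 43 (fun u => chkFix tab mwordsA u) = true := by decide +kernel

theorem m2_674 : allRange 28982 43 (fun u => chkFix tab mwordsA u) = true := by decide +kernel

theorem m2_675 : allRange 29025 43 (fun u => chkFix tab mwordsA u) = true := by decide +kernel

theorem m2_676 : allRange 29068 43 (fun u => chkFix tab mwordsA u) = true := by decide +kernel


end Cfsg.Agent.Helper9.TCData.X1690
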