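import Cfsg.Agent.Lib.Helper9.TCData.X1690.Main

set_option autoImplicit false
set_option maxRecDepth 1000000

namespace Cfsg.Agent.Helper9.TCData.X1690
open Cfsg.Agent.Helper9.TC2

theorem m2_707 : allRange 30401 43 (fun u => chkFix tab mwordsA u) = true := by decide +kernel

theorem m2_708 : allRange 30444 43 (fun u => chkFix tab mwordsA u) = true := by decide +kernel

theorem m2_709 : allRange 30487 43 (fun u => chkFix tab mwordsA u) = true := by decide +kernel

theorem m2_710 : allRange 30530 43 (fun u => chkFix tab mwordsA u) = true := by decide +kernel

theorem m2_711 : allRange 30573 43 (fun u => chkFix tab mwordsA u) = true := by decide +kernel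

theorem m2_712 : allRange 30616 43 (fun u => chkFix tab mwordsA u) = true := by decide +kernel

theorem m2_713 : allRange 30659 43 (fun u => chkFix tab mwordsA u) = true := by decide +kernel

theorem m2_714 : allRange 30702 43 (fun u => chkFix tab mwordsA u) = true := by decide +kernel

theorem m2_715 : allRange 30745 43 (fun u => chkFix tab mwordsA u) = true := by decide +kernel

theorem m2_716 : allRange 30788 43 (fun u => chkFix tab mwordsA u) = true := by decide +kernel


end Cfsg.Agent.Helper9.TCData.X1690
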