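import Cfsg.Agent.Lib.Helper9.TCData.X1690.Main

set_option autoImplicit false
set_option maxRecDepth 1000000

namespace Cfsg.Agent.Helper9.TCData.X1690
open Cfsg.Agent.Helper9.TC2

theorem e3_32 : allRange 66698 2086 (fun u => chkE tab 3 u) = true := by decide +kernel

theorem e3_33 : allRange 68784 2012 (fun u => chkE tab 3 u) = true := by decide +kernel

theorem e3_34 : allRange 70796 1948 (fun u => chkE tab 3 u) = true := by decide +kernel

theorem e3_35 : allRange 72744 2006 (fun u => chkE tab 3 u) = true := by decide +kernel

theorem e3_36 : allRange 74750 2059 (fun u => chkE tab 3 u) = true := by decide +kernel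

theorem e3_37 : allRange 76809 2191 (fun u => chkE tab 3 u) = true := by decide +kernel

theorem e3_38 : allRange 79000 2066 (fun u => chkE tab 3 u) = true := by decide +kernel

theorem e3_39 : allRange 81066 2106 (fun u => chkE tab 3 u) = true := by decide +kernel

theorem e3_40 : allRange 83172 2195 (fun u => chkE tab 3 u) = true := by decide +kernel

theorem e3_41 : allRange 85367 2391 (fun u => chkE tab 3 u) = true := by decide +kernel


end Cfsg.Agent.Helper9.TCData.X1690
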