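import Cfsg.Agent.Lib.Helper9.TCData.X1690.Main

set_option autoImplicit false
set_option maxRecDepth 1000000

namespace Cfsg.Agent.Helper9.TCData.X1690
open Cfsg.Agent.Helper9.TC2

theorem m2_727 : allRange 31261 43 (fun u => chkFix tab mwordsA u) = true := by decide +kernel

theorem m2_728 : allRange 31304 43 (fun u => chkFix tab mwordsA u) = true := by decide +kernel

theorem m2_729 : allRange 31347 43 (fun u => chkFix tab mwordsA u) = true := by decide +kernel

theorem m2_730 : allRange 31390 43 (fun u => chkFix tab mwordsA u) = true := by decide +kernel

theorem m2_731 : allRange 31433 43 (fun u => chkFix tab mwordsA u) = true := by decide +kernel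

theorem m2_732 : allRange 31476 43 (fun u => chkFix tab mwordsA u) = true := by decide +kernel

theorem m2_733 : allRange 31519 43 (fun u => chkFix tab mwordsA u) = true := by decide +kernel

theorem m2_734 : allRange 31562 43 (fun u => chkFix tab mwordsA u) = true := by decide +kernel

theorem m2_735 : allRange 31605 43 (fun u => chkFix tab mwordsA u) = true := by decide +kernel

theorem m2_736 : allRange 31648 43 (fun u => chkFix tab mwordsA u) = true := by decide +kernel


end Cfsg.Agent.Helper9.TCData.X1690
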