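import Cfsg.Agent.Lib.Helper9.TCData.X1690.Main

set_option autoImplicit false
set_option maxRecDepth 1000000

namespace Cfsg.Agent.Helper9.TCData.X1690
open Cfsg.Agent.Helper9.TC2

theorem m2_767 : allRange 32981 43 (fun u => chkFix tab mwordsA u) = true := by decide +kernel

theorem m2_768 : allRange 33024 43 (fun u => chkFix tab mwordsA u) = true := by decide +kernel

theorem m2_769 : allRange 33067 43 (fun u => chkFix tab mwordsA u) = true := by decide +kernel

theorem m2_770 : allRange 33110 43 (fun u => chkFix tab mwordsA u) = true := by decide +kernel

theorem m2_771 : allRange 33153 43 (fun u => chkFix tab mwordsA u) = true := by decide +kernel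

theorem m2_772 : allRange 33196 43 (fun u => chkFix tab mwordsA u) = true := by decide +kernel

theorem m2_773 : allRange 33239 43 (fun u => chkFix tab mwordsA u) = true := by decide +kernel

theorem m2_774 : allRange 33282 43 (fun u => chkFix tab mwordsA u) = true := by decide +kernel

theorem m2_775 : allRange 33325 43 (fun u => chkFix tab mwordsA u) = true := by decide +kernel

theorem m2_776 : allRange 33368 43 (fun u => chkFix tab mwordsA u) = true := by decide +kernel


end Cfsg.Agent.Helper9.TCData.X1690
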