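import Cfsg.Agent.Lib.Helper9.TCData.X1690.Main

set_option autoImplicit false
set_option maxRecDepth 1000000

namespace Cfsg.Agent.Helper9.TCData.X1690
open Cfsg.Agent.Helper9.TC2

theorem m2_777 : allRange 33411 43 (fun u => chkFix tab mwordsA u) = true := by decide +kernel

theorem m2_778 : allRange 33454 43 (fun u => chkFix tab mwordsA u) = true := by decide +kernel

theorem m2_779 : allRange 33497 43 (fun u => chkFix tab mwordsA u) = true := by decide +kernel

theorem m2_780 : allRange 33540 43 (fun u => chkFix tab mwordsA u) = true := by decide +kernel

theorem m2_781 : allRange 33583 43 (fun u => chkFix tab mwordsA u) = true := by decide +kernel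

theorem m2_782 : allRange 33626 43 (fun u => chkFix tab mwordsA u) = true := by decide +kernel

theorem m2_783 : allRange 33669 43 (fun u => chkFix tab mwordsA u) = true := by decide +kernel

theorem m2_784 : allRange 33712 43 (fun u => chkFix tab mwordsA u) = true := by decide +kernel

theorem m2_785 : allRange 33755 43 (fun u => chkFix tab mwordsA u) = true := by decide +kernel

theorem m2_786 : allRange 33798 43 (fun u => chkFix tab mwordsA u) = true := by decide +kernel


end Cfsg.Agent.Helper9.TCData.X1690
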