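import Cfsg.Agent.Lib.Helper9.TCData.X1690.Main

set_option autoImplicit false
set_option maxRecDepth 1000000

namespace Cfsg.Agent.Helper9.TCData.X1690
open Cfsg.Agent.Helper9.TC2

theorem m2_787 : allRange 33841 43 (fun u => chkFix tab mwordsA u) = true := by decide +kernel

theorem m2_788 : allRange 33884 43 (fun u => chkFix tab mwordsA u) = true := by decide +kernel

theorem m2_789 : allRange 33927 43 (fun u => chkFix tab mwordsA u) = true := by decide +kernel

theorem m2_790 : allRange 33970 43 (fun u => chkFix tab mwordsA u) = true := by decide +kernel

theorem m2_791 : allRange 34013 43 (fun u => chkFix tab mwordsA u) = true := by decide +kernel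

theorem m2_792 : allRange 34056 43 (fun u => chkFix tab mwordsA u) = true := by decide +kernel

theorem m2_793 : allRange 34099 43 (fun u => chkFix tab mwordsA u) = true := by decide +kernel

theorem m2_794 : allRange 34142 43 (fun u => chkFix tab mwordsA u) = true := by decide +kernel

theorem m2_795 : allRange 34185 43 (fun u => chkFix tab mwordsA u) = true := by decide +kernel

theorem m2_796 : allRange 34228 43 (fun u => chkFix tab mwordsA u) = true := by decide +kernel


end Cfsg.Agent.Helper9.TCData.X1690
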