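import Cfsg.Agent.Lib.Helper9.TCData.X1690.Main

set_option autoImplicit false
set_option maxRecDepth 1000000

namespace Cfsg.Agent.Helper9.TCData.X1690
open Cfsg.Agent.Helper9.TC2

theorem m2_797 : allRange 34271 43 (fun u => chkFix tab mwordsA u) = true := by decide +kernel

theorem m2_798 : allRange 34314 43 (fun u => chkFix tab mwordsA u) = true := by decide +kernel

theorem m2_799 : allRange 34357 43 (fun u => chkFix tab mwordsA u) = true := by decide +kernel

theorem m2_800 : allRange 34400 43 (fun u => chkFix tab mwordsA u) = true := by decide +kernel

theorem m2_801 : allRange 34443 43 (fun u => chkFix tab mwordsA u) = true := by decide +kernel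

theorem m2_802 : allRange 34486 43 (fun u => chkFix tab mwordsA u) = true := by decide +kernel

theorem m2_803 : allRange 34529 43 (fun u => chkFix tab mwordsA u) = true := by decide +kernel

theorem m2_804 : allRange 34572 43 (fun u => chkFix tab mwordsA u) = true := by decide +kernel

theorem m2_805 : allRange 34615 43 (fun u => chkFix tab mwordsA u) = true := by decide +kernel

theorem m2_806 : allRange 34658 43 (fun u => chkFix tab mwordsA u) = true := by decide +kernel


end Cfsg.Agent.Helper9.TCData.X1690
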