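import Cfsg.Agent.Lib.Helper9.TCData.X1690.Main

set_option autoImplicit false
set_option maxRecDepth 1000000

namespace Cfsg.Agent.Helper9.TCData.X1690
open Cfsg.Agent.Helper9.TC2

theorem m2_807 : allRange 34701 43 (fun u => chkFix tab mwordsA u) = true := by decide +kernel

theorem m2_808 : allRange 34744 43 (fun u => chkFix tab mwordsA u) = true := by decide +kernel

theorem m2_809 : allRange 34787 43 (fun u => chkFix tab mwordsA u) = true := by decide +kernel

theorem m2_810 : allRange 34830 43 (fun u => chkFix tab mwordsA u) = true := by decide +kernel

theorem m2_811 : allRange 34873 43 (fun u => chkFix tab mwordsA u) = true := by decide +kernel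

theorem m2_812 : allRange 34916 43 (fun u => chkFix tab mwordsA u) = true := by decide +kernel

theorem m2_813 : allRange 34959 43 (fun u => chkFix tab mwordsA u) = true := by decide +kernel

theorem m2_814 : allRange 35002 43 (fun u => chkFix tab mwordsA u) = true := by decide +kernel

theorem m2_815 : allRange 35045 43 (fun u => chkFix tab mwordsA u) = true := by decide +kernel

theorem m2_816 : allRange 35088 43 (fun u => chkFix tab mwordsA u) = true := by decide +kernel


end Cfsg.Agent.Helper9.TCData.X1690
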