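import Cfsg.Agent.Lib.Helper9.TCData.X1690.Main

set_option autoImplicit false
set_option maxRecDepth 1000000

namespace Cfsg.Agent.Helper9.TCData.X1690
open Cfsg.Agent.Helper9.TC2

theorem e3_42 : allRange 87758 2044 (fun u => chkE tab 3 u) = true := by decide +kernel

theorem e3_43 : allRange 89802 2075 (fun u => chkE tab 3 u) = true := by decide +kernel

theorem e3_44 : allRange 91877 2202 (fun u => chkE tab 3 u) = true := by decide +kernel

theorem e3_45 : allRange 94079 2106 (fun u => chkE tab 3 u) = true := by decide +kernel

theorem e3_46 : allRange 96185 2034 (fun u => chkE tab 3 u) = true := by decide +kernel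

theorem e3_47 : allRange 98219 1951 (fun u => chkE tab 3 u) = true := by decide +kernel

theorem e3_48 : allRange 100170 2091 (fun u => chkE tab 3 u) = true := by decide +kernel

theorem e3_49 : allRange 102261 1970 (fun u => chkE tab 3 u) = true := by decide +kernel

theorem e3_50 : allRange 104231 2101 (fun u => chkE tab 3 u) = true := by decide +kernel

theorem e3_51 : allRange 106332 2006 (fun u => chkE tab 3 u) = true := by decide +kernel


end Cfsg.Agent.Helper9.TCData.X1690
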