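import Cfsg.Agent.Lib.Helper9.TCData.X1690.Main

set_option autoImplicit false
set_option maxRecDepth 1000000

namespace Cfsg.Agent.Helper9.TCData.X1690
open Cfsg.Agent.Helper9.TC2

theorem m2_847 : allRange 36421 43 (fun u => chkFix tab mwordsA u) = true := by decide +kernel

theorem m2_848 : allRange 36464 43 (fun u => chkFix tab mwordsA u) = true := by decide +kernel

theorem m2_849 : allRange 36507 43 (fun u => chkFix tab mwordsA u) = true := by decide +kernel

theorem m2_850 : allRange 36550 43 (fun u => chkFix tab mwordsA u) = true := by decide +kernel

theorem m2_851 : allRange 36593 43 (fun u => chkFix tab mwordsA u) = true := by decide +kernel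

theorem m2_852 : allRange 36636 43 (fun u => chkFix tab mwordsA u) = true := by decide +kernel

theorem m2_853 : allRange 36679 43 (fun u => chkFix tab mwordsA u) = true := by decide +kernel

theorem m2_854 : allRange 36722 43 (fun u => chkFix tab mwordsA u) = true := by decide +kernel

theorem m2_855 : allRange 36765 43 (fun u => chkFix tab mwordsA u) = true := by decide +kernel

theorem m2_856 : allRange 36808 43 (fun u => chkFix tab mwordsA u) = true := by decide +kernel


end Cfsg.Agent.Helper9.TCData.X1690
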