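import Cfsg.Agent.Lib.Helper9.TCData.X1690.Main

set_option autoImplicit false
set_option maxRecDepth 1000000

namespace Cfsg.Agent.Helper9.TCData.X1690
open Cfsg.Agent.Helper9.TC2

theorem m2_877 : allRange 37711 43 (fun u => chkFix tab mwordsA u) = true := by decide +kernel

theorem m2_878 : allRange 37754 43 (fun u => chkFix tab mwordsA u) = true := by decide +kernel

theorem m2_879 : allRange 37797 43 (fun u => chkFix tab mwordsA u) = true := by decide +kernel

theorem m2_880 : allRange 37840 43 (fun u => chkFix tab mwordsA u) = true := by decide +kernel

theorem m2_881 : allRange 37883 43 (fun u => chkFix tab mwordsA u) = true := by decide +kernel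

theorem m2_882 : allRange 37926 43 (fun u => chkFix tab mwordsA u) = true := by decide +kernel

theorem m2_883 : allRange 37969 43 (fun u => chkFix tab mwordsA u) = true := by decide +kernel

theorem m2_884 : allRange 38012 43 (fun u => chkFix tab mwordsA u) = true := by decide +kernel

theorem m2_885 : allRange 38055 43 (fun u => chkFix tab mwordsA u) = true := by decide +kernel

theorem m2_886 : allRange 38098 43 (fun u => chkFix tab mwordsA u) = true := by decide +kernel


end Cfsg.Agent.Helper9.TCData.X1690
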