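import Cfsg.Agent.Lib.Helper9.TCData.X1690.Main

set_option autoImplicit false
set_option maxRecDepth 1000000

namespace Cfsg.Agent.Helper9.TCData.X1690
open Cfsg.Agent.Helper9.TC2

theorem m2_887 : allRange 38141 43 (fun u => chkFix tab mwordsA u) = true := by decide +kernel

theorem m2_888 : allRange 38184 43 (fun u => chkFix tab mwordsA u) = true := by decide +kernel

theorem m2_889 : allRange 38227 43 (fun u => chkFix tab mwordsA u) = true := by decide +kernel

theorem m2_890 : allRange 38270 43 (fun u => chkFix tab mwordsA u) = true := by decide +kernel

theorem m2_891 : allRange 38313 43 (fun u => chkFix tab mwordsA u) = true := by decide +kernel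

theorem m2_892 : allRange 38356 43 (fun u => chkFix tab mwordsA u) = true := by decide +kernel

theorem m2_893 : allRange 38399 43 (fun u => chkFix tab mwordsA u) = true := by decide +kernel

theorem m2_894 : allRange 38442 43 (fun u => chkFix tab mwordsA u) = true := by decide +kernel

theorem m2_895 : allRange 38485 43 (fun u => chkFix tab mwordsA u) = true := by decide +kernel

theorem m2_896 : allRange 38528 43 (fun u => chkFix tab mwordsA u) = true := by decide +kernel


end Cfsg.Agent.Helper9.TCData.X1690
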