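import Cfsg.Agent.Lib.Helper9.TCData.X1690.Main

set_option autoImplicit false
set_option maxRecDepth 1000000

namespace Cfsg.Agent.Helper9.TCData.X1690
open Cfsg.Agent.Helper9.TC2

theorem e3_52 : allRange 108338 2265 (fun u => chkE tab 3 u) = true := by decide +kernel

theorem e3_53 : allRange 110603 2147 (fun u => chkE tab 3 u) = true := by decide +kernel

theorem e3_54 : allRange 112750 2136 (fun u => chkE tab 3 u) = true := by decide +kernel

theorem e3_55 : allRange 114886 2212 (fun u => chkE tab 3 u) = true := by decide +kernel

theorem e3_56 : allRange 117098 2866 (fun u => chkE tab 3 u) = true := by decide +kernel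

theorem e3_57 : allRange 119964 2940 (fun u => chkE tab 3 u) = true := by decide +kernel

theorem e3_58 : allRange 122904 3915 (fun u => chkE tab 3 u) = true := by decide +kernel

theorem e3_59 : allRange 126819 3852 (fun u => chkE tab 3 u) = true := by decide +kernel

theorem e3_60 : allRange 130671 2905 (fun u => chkE tab 3 u) = true := by decide +kernel

theorem e3_61 : allRange 133576 2651 (fun u => chkE tab 3 u) = true := by decide +kernel


end Cfsg.Agent.Helper9.TCData.X1690
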