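import Cfsg.Agent.Lib.Helper9.TCData.X1690.Main

set_option autoImplicit false
set_option maxRecDepth 1000000

namespace Cfsg.Agent.Helper9.TCData.X1690
open Cfsg.Agent.Helper9.TC2

theorem m2_977 : allRange 42011 43 (fun u => chkFix tab mwordsA u) = true := by decide +kernel

theorem m2_978 : allRange 42054 43 (fun u => chkFix tab mwordsA u) = true := by decide +kernel

theorem m2_979 : allRange 42097 43 (fun u => chkFix tab mwordsA u) = true := by decide +kernel

theorem m2_980 : allRange 42140 43 (fun u => chkFix tab mwordsA u) = true := by decide +kernel

theorem m2_981 : allRange 42183 43 (fun u => chkFix tab mwordsA u) = true := by decide +kernel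

theorem m2_982 : allRange 42226 43 (fun u => chkFix tab mwordsA u) = true := by decide +kernel

theorem m2_983 : allRange 42269 43 (fun u => chkFix tab mwordsA u) = true := by decide +kernel

theorem m2_984 : allRange 42312 43 (fun u => chkFix tab mwordsA u) = true := by decide +kernel

theorem m2_985 : allRange 42355 43 (fun u => chkFix tab mwordsA u) = true := by decide +kernel

theorem m2_986 : allRange 42398 43 (fun u => chkFix tab mwordsA u) = true := by decide +kernel


end Cfsg.Agent.Helper9.TCData.X1690
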