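import Cfsg.Agent.Lib.Helper9.TCData.X1690.Main

set_option autoImplicit false
set_option maxRecDepth 1000000

namespace Cfsg.Agent.Helper9.TCData.X1690
open Cfsg.Agent.Helper9.TC2

theorem m2_1007 : allRange 43301 43 (fun u => chkFix tab mwordsA u) = true := by decide +kernel

theorem m2_1008 : allRange 43344 43 (fun u => chkFix tab mwordsA u) = true := by decide +kernel

theorem m2_1009 : allRange 43387 43 (fun u => chkFix tab mwordsA u) = true := by decide +kernel

theorem m2_1010 : allRange 43430 43 (fun u => chkFix tab mwordsA u) = true := by decide +kernel

theorem m2_1011 : allRange 43473 43 (fun u => chkFix tab mwordsA u) = true := by decide +kernel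

theorem m2_1012 : allRange 43516 43 (fun u => chkFix tab mwordsA u) = true := by decide +kernel

theorem m2_1013 : allRange 43559 43 (fun u => chkFix tab mwordsA u) = true := by decide +kernel

theorem m2_1014 : allRange 43602 43 (fun u => chkFix tab mwordsA u) = true := by decide +kernel

theorem m2_1015 : allRange 43645 43 (fun u => chkFix tab mwordsA u) = true := by decide +kernel

theorem m2_1016 : allRange 43688 43 (fun u => chkFix tab mwordsA u) = true := by decide +kernel


end Cfsg.Agent.Helper9.TCData.X1690
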