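import Cfsg.Agent.Lib.Helper9.TCData.X1690.Main

set_option autoImplicit false
set_option maxRecDepth 1000000

namespace Cfsg.Agent.Helper9.TCData.X1690
open Cfsg.Agent.Helper9.TC2

theorem e3_62 : allRange 136227 2727 (fun u => chkE tab 3 u) = true := by decide +kernel

theorem e3_63 : allRange 138954 3852 (fun u => chkE tab 3 u) = true := by decide +kernel

theorem e3_64 : allRange 142806 3982 (fun u => chkE tab 3 u) = true := by decide +kernel

theorem e3_65 : allRange 146788 4728 (fun u => chkE tab 3 u) = true := by decide +kernel

theorem e3_66 : allRange 151516 3337 (fun u => chkE tab 3 u) = true := by decide +kernel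

theorem e3_67 : allRange 154853 5296 (fun u => chkE tab 3 u) = true := by decide +kernel

theorem e3_68 : allRange 160149 3417 (fun u => chkE tab 3 u) = true := by decide +kernel

theorem e3_69 : allRange 163566 2395 (fun u => chkE tab 3 u) = true := by decide +kernel

theorem e3_70 : allRange 165961 2409 (fun u => chkE tab 3 u) = true := by decide +kernel

theorem e3_71 : allRange 168370 2167 (fun u => chkE tab 3 u) = true := by decide +kernel


end Cfsg.Agent.Helper9.TCData.X1690
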