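import Cfsg.Agent.Lib.Helper9.TCData.X1690.Main

set_option autoImplicit false
set_option maxRecDepth 1000000

namespace Cfsg.Agent.Helper9.TCData.X1690
open Cfsg.Agent.Helper9.TC2

theorem m2_1047 : allRange 45021 43 (fun u => chkFix tab mwordsA u) = true := by decide +kernel

theorem m2_1048 : allRange 45064 43 (fun u => chkFix tab mwordsA u) = true := by decide +kernel

theorem m2_1049 : allRange 45107 43 (fun u => chkFix tab mwordsA u) = true := by decide +kernel

theorem m2_1050 : allRange 45150 43 (fun u => chkFix tab mwordsA u) = true := by decide +kernel

theorem m2_1051 : allRange 45193 43 (fun u => chkFix tab mwordsA u) = true := by decide +kernel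

theorem m2_1052 : allRange 45236 43 (fun u => chkFix tab mwordsA u) = true := by decide +kernel

theorem m2_1053 : allRange 45279 43 (fun u => chkFix tab mwordsA u) = true := by decide +kernel

theorem m2_1054 : allRange 45322 43 (fun u => chkFix tab mwordsA u) = true := by decide +kernel

theorem m2_1055 : allRange 45365 43 (fun u => chkFix tab mwordsA u) = true := by decide +kernel

theorem m2_1056 : allRange 45408 43 (fun u => chkFix tab mwordsA u) = true := by decide +kernel


end Cfsg.Agent.Helper9.TCData.X1690
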