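import Cfsg.Agent.Lib.Helper9.TCData.X1690.Main

set_option autoImplicit false
set_option maxRecDepth 1000000

namespace Cfsg.Agent.Helper9.TCData.X1690
open Cfsg.Agent.Helper9.TC2

theorem m2_1057 : allRange 45451 43 (fun u => chkFix tab mwordsA u) = true := by decide +kernel

theorem m2_1058 : allRange 45494 43 (fun u => chkFix tab mwordsA u) = true := by decide +kernel

theorem m2_1059 : allRange 45537 43 (fun u => chkFix tab mwordsA u) = true := by decide +kernel

theorem m2_1060 : allRange 45580 43 (fun u => chkFix tab mwordsA u) = true := by decide +kernel

theorem m2_1061 : allRange 45623 43 (fun u => chkFix tab mwordsA u) = true := by decide +kernel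

theorem m2_1062 : allRange 45666 43 (fun u => chkFix tab mwordsA u) = true := by decide +kernel

theorem m2_1063 : allRange 45709 43 (fun u => chkFix tab mwordsA u) = true := by decide +kernel

theorem m2_1064 : allRange 45752 43 (fun u => chkFix tab mwordsA u) = true := by decide +kernel

theorem m2_1065 : allRange 45795 43 (fun u => chkFix tab mwordsA u) = true := by decide +kernel

theorem m2_1066 : allRange 45838 43 (fun u => chkFix tab mwordsA u) = true := by decide +kernel


end Cfsg.Agent.Helper9.TCData.X1690
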