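import Cfsg.Agent.Lib.Helper9.TCData.X1690.Main

set_option autoImplicit false
set_option maxRecDepth 1000000

namespace Cfsg.Agent.Helper9.TCData.X1690
open Cfsg.Agent.Helper9.TC2

theorem m2_1067 : allRange 45881 43 (fun u => chkFix tab mwordsA u) = true := by decide +kernel

theorem m2_1068 : allRange 45924 43 (fun u => chkFix tab mwordsA u) = true := by decide +kernel

theorem m2_1069 : allRange 45967 43 (fun u => chkFix tab mwordsA u) = true := by decide +kernel

theorem m2_1070 : allRange 46010 43 (fun u => chkFix tab mwordsA u) = true := by decide +kernel

theorem m2_1071 : allRange 46053 43 (fun u => chkFix tab mwordsA u) = true := by decide +kernel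

theorem m2_1072 : allRange 46096 43 (fun u => chkFix tab mwordsA u) = true := by decide +kernel

theorem m2_1073 : allRange 46139 43 (fun u => chkFix tab mwordsA u) = true := by decide +kernel

theorem m2_1074 : allRange 46182 43 (fun u => chkFix tab mwordsA u) = true := by decide +kernel

theorem m2_1075 : allRange 46225 43 (fun u => chkFix tab mwordsA u) = true := by decide +kernel

theorem m2_1076 : allRange 46268 43 (fun u => chkFix tab mwordsA u) = true := by decide +kernel


end Cfsg.Agent.Helper9.TCData.X1690
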