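import Cfsg.Agent.Lib.Helper9.TCData.X1690.Main

set_option autoImplicit false
set_option maxRecDepth 1000000

namespace Cfsg.Agent.Helper9.TCData.X1690
open Cfsg.Agent.Helper9.TC2

theorem m2_1087 : allRange 46741 43 (fun u => chkFix tab mwordsA u) = true := by decide +kernel

theorem m2_1088 : allRange 46784 43 (fun u => chkFix tab mwordsA u) = true := by decide +kernel

theorem m2_1089 : allRange 46827 43 (fun u => chkFix tab mwordsA u) = true := by decide +kernel

theorem m2_1090 : allRange 46870 43 (fun u => chkFix tab mwordsA u) = true := by decide +kernel

theorem m2_1091 : allRange 46913 43 (fun u => chkFix tab mwordsA u) = true := by decide +kernel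

theorem m2_1092 : allRange 46956 43 (fun u => chkFix tab mwordsA u) = true := by decide +kernel

theorem m2_1093 : allRange 46999 43 (fun u => chkFix tab mwordsA u) = true := by decide +kernel

theorem m2_1094 : allRange 47042 43 (fun u => chkFix tab mwordsA u) = true := by decide +kernel

theorem m2_1095 : allRange 47085 43 (fun u => chkFix tab mwordsA u) = true := by decide +kernel

theorem m2_1096 : allRange 47128 43 (fun u => chkFix tab mwordsA u) = true := by decide +kernel


end Cfsg.Agent.Helper9.TCData.X1690
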