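import Cfsg.Agent.Lib.Helper9.TCData.X1690.Main

set_option autoImplicit false
set_option maxRecDepth 1000000

namespace Cfsg.Agent.Helper9.TCData.X1690
open Cfsg.Agent.Helper9.TC2

theorem m2_1097 : allRange 47171 43 (fun u => chkFix tab mwordsA u) = true := by decide +kernel

theorem m2_1098 : allRange 47214 43 (fun u => chkFix tab mwordsA u) = true := by decide +kernel

theorem m2_1099 : allRange 47257 43 (fun u => chkFix tab mwordsA u) = true := by decide +kernel

theorem m2_1100 : allRange 47300 43 (fun u => chkFix tab mwordsA u) = true := by decide +kernel

theorem m2_1101 : allRange 47343 43 (fun u => chkFix tab mwordsA u) = true := by decide +kernel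

theorem m2_1102 : allRange 47386 43 (fun u => chkFix tab mwordsA u) = true := by decide +kernel

theorem m2_1103 : allRange 47429 43 (fun u => chkFix tab mwordsA u) = true := by decide +kernel

theorem m2_1104 : allRange 47472 43 (fun u => chkFix tab mwordsA u) = true := by decide +kernel

theorem m2_1105 : allRange 47515 43 (fun u => chkFix tab mwordsA u) = true := by decide +kernel

theorem m2_1106 : allRange 47558 43 (fun u => chkFix tab mwordsA u) = true := by decide +kernel


end Cfsg.Agent.Helper9.TCData.X1690
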