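import Cfsg.Agent.Lib.Helper9.TCData.X1690.Main

set_option autoImplicit false
set_option maxRecDepth 1000000

namespace Cfsg.Agent.Helper9.TCData.X1690
open Cfsg.Agent.Helper9.TC2

theorem m2_1107 : allRange 47601 43 (fun u => chkFix tab mwordsA u) = true := by decide +kernel

theorem m2_1108 : allRange 47644 43 (fun u => chkFix tab mwordsA u) = true := by decide +kernel

theorem m2_1109 : allRange 47687 43 (fun u => chkFix tab mwordsA u) = true := by decide +kernel

theorem m2_1110 : allRange 47730 43 (fun u => chkFix tab mwordsA u) = true := by decide +kernel

theorem m2_1111 : allRange 47773 43 (fun u => chkFix tab mwordsA u) = true := by decide +kernel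

theorem m2_1112 : allRange 47816 43 (fun u => chkFix tab mwordsA u) = true := by decide +kernel

theorem m2_1113 : allRange 47859 43 (fun u => chkFix tab mwordsA u) = true := by decide +kernel

theorem m2_1114 : allRange 47902 43 (fun u => chkFix tab mwordsA u) = true := by decide +kernel

theorem m2_1115 : allRange 47945 43 (fun u => chkFix tab mwordsA u) = true := by decide +kernel

theorem m2_1116 : allRange 47988 43 (fun u => chkFix tab mwordsA u) = true := by decide +kernel


end Cfsg.Agent.Helper9.TCData.X1690
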