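import Cfsg.Agent.Lib.Helper9.TCData.X1690.Main

set_option autoImplicit false
set_option maxRecDepth 1000000

namespace Cfsg.Agent.Helper9.TCData.X1690
open Cfsg.Agent.Helper9.TC2

theorem e3_72 : allRange 170537 2177 (fun u => chkE tab 3 u) = true := by decide +kernel

theorem e3_73 : allRange 172714 2091 (fun u => chkE tab 3 u) = true := by decide +kernel

theorem e3_74 : allRange 174805 2412 (fun u => chkE tab 3 u) = true := by decide +kernel

theorem e3_75 : allRange 177217 2457 (fun u => chkE tab 3 u) = true := by decide +kernel

theorem e3_76 : allRange 179674 2513 (fun u => chkE tab 3 u) = true := by decide +kernel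

theorem e3_77 : allRange 182187 2359 (fun u => chkE tab 3 u) = true := by decide +kernel

theorem e3_78 : allRange 184546 2284 (fun u => chkE tab 3 u) = true := by decide +kernel

theorem e3_79 : allRange 186830 2186 (fun u => chkE tab 3 u) = true := by decide +kernel

theorem e3_80 : allRange 189016 2102 (fun u => chkE tab 3 u) = true := by decide +kernel

theorem e3_81 : allRange 191118 2101 (fun u => chkE tab 3 u) = true := by decide +kernel


end Cfsg.Agent.Helper9.TCData.X1690
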