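import Cfsg.Agent.Lib.Helper9.TCData.X1690.Main

set_option autoImplicit false
set_option maxRecDepth 1000000

namespace Cfsg.Agent.Helper9.TCData.X1690
open Cfsg.Agent.Helper9.TC2

theorem m2_1117 : allRange 48031 43 (fun u => chkFix tab mwordsA u) = true := by decide +kernel

theorem m2_1118 : allRange 48074 43 (fun u => chkFix tab mwordsA u) = true := by decide +kernel

theorem m2_1119 : allRange 48117 43 (fun u => chkFix tab mwordsA u) = true := by decide +kernel

theorem m2_1120 : allRange 48160 43 (fun u => chkFix tab mwordsA u) = true := by decide +kernel

theorem m2_1121 : allRange 48203 43 (fun u => chkFix tab mwordsA u) = true := by decide +kernel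

theorem m2_1122 : allRange 48246 43 (fun u => chkFix tab mwordsA u) = true := by decide +kernel

theorem m2_1123 : allRange 48289 43 (fun u => chkFix tab mwordsA u) = true := by decide +kernel

theorem m2_1124 : allRange 48332 43 (fun u => chkFix tab mwordsA u) = true := by decide +kernel

theorem m2_1125 : allRange 48375 43 (fun u => chkFix tab mwordsA u) = true := by decide +kernel

theorem m2_1126 : allRange 48418 43 (fun u => chkFix tab mwordsA u) = true := by decide +kernel


end Cfsg.Agent.Helper9.TCData.X1690
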