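import Cfsg.Agent.Lib.Helper9.TCData.X1690.Main

set_option autoImplicit false
set_option maxRecDepth 1000000

namespace Cfsg.Agent.Helper9.TCData.X1690
open Cfsg.Agent.Helper9.TC2

theorem m2_1127 : allRange 48461 43 (fun u => chkFix tab mwordsA u) = true := by decide +kernel

theorem m2_1128 : allRange 48504 43 (fun u => chkFix tab mwordsA u) = true := by decide +kernel

theorem m2_1129 : allRange 48547 43 (fun u => chkFix tab mwordsA u) = true := by decide +kernel

theorem m2_1130 : allRange 48590 43 (fun u => chkFix tab mwordsA u) = true := by decide +kernel

theorem m2_1131 : allRange 48633 43 (fun u => chkFix tab mwordsA u) = true := by decide +kernel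

theorem m2_1132 : allRange 48676 43 (fun u => chkFix tab mwordsA u) = true := by decide +kernel

theorem m2_1133 : allRange 48719 43 (fun u => chkFix tab mwordsA u) = true := by decide +kernel

theorem m2_1134 : allRange 48762 43 (fun u => chkFix tab mwordsA u) = true := by decide +kernel

theorem m2_1135 : allRange 48805 43 (fun u => chkFix tab mwordsA u) = true := by decide +kernel

theorem m2_1136 : allRange 48848 43 (fun u => chkFix tab mwordsA u) = true := by decide +kernel


end Cfsg.Agent.Helper9.TCData.X1690
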