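import Cfsg.Agent.Lib.Helper9.TCData.X1690.Main

set_option autoImplicit false
set_option maxRecDepth 1000000

namespace Cfsg.Agent.Helper9.TCData.X1690
open Cfsg.Agent.Helper9.TC2

theorem m2_1137 : allRange 48891 43 (fun u => chkFix tab mwordsA u) = true := by decide +kernel

theorem m2_1138 : allRange 48934 43 (fun u => chkFix tab mwordsA u) = true := by decide +kernel

theorem m2_1139 : allRange 48977 43 (fun u => chkFix tab mwordsA u) = true := by decide +kernel

theorem m2_1140 : allRange 49020 43 (fun u => chkFix tab mwordsA u) = true := by decide +kernel

theorem m2_1141 : allRange 49063 43 (fun u => chkFix tab mwordsA u) = true := by decide +kernel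

theorem m2_1142 : allRange 49106 43 (fun u => chkFix tab mwordsA u) = true := by decide +kernel

theorem m2_1143 : allRange 49149 43 (fun u => chkFix tab mwordsA u) = true := by decide +kernel

theorem m2_1144 : allRange 49192 43 (fun u => chkFix tab mwordsA u) = true := by decide +kernel

theorem m2_1145 : allRange 49235 43 (fun u => chkFix tab mwordsA u) = true := by decide +kernel

theorem m2_1146 : allRange 49278 43 (fun u => chkFix tab mwordsA u) = true := by decide +kernel


end Cfsg.Agent.Helper9.TCData.X1690
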