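import Cfsg.Agent.Lib.Helper9.TCData.X1690.Main

set_option autoImplicit false
set_option maxRecDepth 1000000

namespace Cfsg.Agent.Helper9.TCData.X1690
open Cfsg.Agent.Helper9.TC2

theorem m2_1147 : allRange 49321 43 (fun u => chkFix tab mwordsA u) = true := by decide +kernel

theorem m2_1148 : allRange 49364 43 (fun u => chkFix tab mwordsA u) = true := by decide +kernel

theorem m2_1149 : allRange 49407 43 (fun u => chkFix tab mwordsA u) = true := by decide +kernel

theorem m2_1150 : allRange 49450 43 (fun u => chkFix tab mwordsA u) = true := by decide +kernel

theorem m2_1151 : allRange 49493 43 (fun u => chkFix tab mwordsA u) = true := by decide +kernel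

theorem m2_1152 : allRange 49536 43 (fun u => chkFix tab mwordsA u) = true := by decide +kernel

theorem m2_1153 : allRange 49579 43 (fun u => chkFix tab mwordsA u) = true := by decide +kernel

theorem m2_1154 : allRange 49622 43 (fun u => chkFix tab mwordsA u) = true := by decide +kernel

theorem m2_1155 : allRange 49665 43 (fun u => chkFix tab mwordsA u) = true := by decide +kernel

theorem m2_1156 : allRange 49708 43 (fun u => chkFix tab mwordsA u) = true := by decide +kernel


end Cfsg.Agent.Helper9.TCData.X1690
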