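import Cfsg.Agent.Lib.Helper9.TCData.X1690.Main

set_option autoImplicit false
set_option maxRecDepth 1000000

namespace Cfsg.Agent.Helper9.TCData.X1690
open Cfsg.Agent.Helper9.TC2

theorem m2_1157 : allRange 49751 43 (fun u => chkFix tab mwordsA u) = true := by decide +kernel

theorem m2_1158 : allRange 49794 43 (fun u => chkFix tab mwordsA u) = true := by decide +kernel

theorem m2_1159 : allRange 49837 43 (fun u => chkFix tab mwordsA u) = true := by decide +kernel

theorem m2_1160 : allRange 49880 43 (fun u => chkFix tab mwordsA u) = true := by decide +kernel

theorem m2_1161 : allRange 49923 43 (fun u => chkFix tab mwordsA u) = true := by decide +kernel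

theorem m2_1162 : allRange 49966 43 (fun u => chkFix tab mwordsA u) = true := by decide +kernel

theorem m2_1163 : allRange 50009 43 (fun u => chkFix tab mwordsA u) = true := by decide +kernel

theorem m2_1164 : allRange 50052 43 (fun u => chkFix tab mwordsA u) = true := by decide +kernel

theorem m2_1165 : allRange 50095 43 (fun u => chkFix tab mwordsA u) = true := by decide +kernel

theorem m2_1166 : allRange 50138 43 (fun u => chkFix tab mwordsA u) = true := by decide +kernel


end Cfsg.Agent.Helper9.TCData.X1690
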