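import Cfsg.Agent.Lib.Helper9.TCData.X1690.Main

set_option autoImplicit false
set_option maxRecDepth 1000000

namespace Cfsg.Agent.Helper9.TCData.X1690
open Cfsg.Agent.Helper9.TC2

theorem m2_1167 : allRange 50181 43 (fun u => chkFix tab mwordsA u) = true := by decide +kernel

theorem m2_1168 : allRange 50224 43 (fun u => chkFix tab mwordsA u) = true := by decide +kernel

theorem m2_1169 : allRange 50267 43 (fun u => chkFix tab mwordsA u) = true := by decide +kernel

theorem m2_1170 : allRange 50310 43 (fun u => chkFix tab mwordsA u) = true := by decide +kernel

theorem m2_1171 : allRange 50353 43 (fun u => chkFix tab mwordsA u) = true := by decide +kernel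

theorem m2_1172 : allRange 50396 43 (fun u => chkFix tab mwordsA u) = true := by decide +kernel

theorem m2_1173 : allRange 50439 43 (fun u => chkFix tab mwordsA u) = true := by decide +kernel

theorem m2_1174 : allRange 50482 43 (fun u => chkFix tab mwordsA u) = true := by decide +kernel

theorem m2_1175 : allRange 50525 43 (fun u => chkFix tab mwordsA u) = true := by decide +kernel

theorem m2_1176 : allRange 50568 43 (fun u => chkFix tab mwordsA u) = true := by decide +kernel


end Cfsg.Agent.Helper9.TCData.X1690
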