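import Cfsg.Agent.Lib.Helper9.TCData.X1690.Main

set_option autoImplicit false
set_option maxRecDepth 1000000

namespace Cfsg.Agent.Helper9.TCData.X1690
open Cfsg.Agent.Helper9.TC2

theorem e3_82 : allRange 193219 2440 (fun u => chkE tab 3 u) = true := by decide +kernel

theorem e3_83 : allRange 195659 2545 (fun u => chkE tab 3 u) = true := by decide +kernel

theorem e3_84 : allRange 198204 2503 (fun u => chkE tab 3 u) = true := by decide +kernel

theorem e3_85 : allRange 200707 2289 (fun u => chkE tab 3 u) = true := by decide +kernel

theorem e3_86 : allRange 202996 2374 (fun u => chkE tab 3 u) = true := by decide +kernel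

theorem e3_87 : allRange 205370 2287 (fun u => chkE tab 3 u) = true := by decide +kernel

theorem e3_88 : allRange 207657 2214 (fun u => chkE tab 3 u) = true := by decide +kernel

theorem e3_89 : allRange 209871 2087 (fun u => chkE tab 3 u) = true := by decide +kernel

theorem e3_90 : allRange 211958 2148 (fun u => chkE tab 3 u) = true := by decide +kernel

theorem e3_91 : allRange 214106 2578 (fun u => chkE tab 3 u) = true := by decide +kernel


end Cfsg.Agent.Helper9.TCData.X1690
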