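import Cfsg.Agent.Lib.Helper9.TCData.X1690.Main

set_option autoImplicit false
set_option maxRecDepth 1000000

namespace Cfsg.Agent.Helper9.TCData.X1690
open Cfsg.Agent.Helper9.TC2

theorem m2_1217 : allRange 52331 43 (fun u => chkFix tab mwordsA u) = true := by decide +kernel

theorem m2_1218 : allRange 52374 43 (fun u => chkFix tab mwordsA u) = true := by decide +kernel

theorem m2_1219 : allRange 52417 43 (fun u => chkFix tab mwordsA u) = true := by decide +kernel

theorem m2_1220 : allRange 52460 43 (fun u => chkFix tab mwordsA u) = true := by decide +kernel

theorem m2_1221 : allRange 52503 43 (fun u => chkFix tab mwordsA u) = true := by decide +kernel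

theorem m2_1222 : allRange 52546 43 (fun u => chkFix tab mwordsA u) = true := by decide +kernel

theorem m2_1223 : allRange 52589 43 (fun u => chkFix tab mwordsA u) = true := by decide +kernel

theorem m2_1224 : allRange 52632 43 (fun u => chkFix tab mwordsA u) = true := by decide +kernel

theorem m2_1225 : allRange 52675 43 (fun u => chkFix tab mwordsA u) = true := by decide +kernel

theorem m2_1226 : allRange 52718 43 (fun u => chkFix tab mwordsA u) = true := by decide +kernel


end Cfsg.Agent.Helper9.TCData.X1690
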