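import Cfsg.Agent.Lib.Helper9.TCData.X1690.Main

set_option autoImplicit false
set_option maxRecDepth 1000000

namespace Cfsg.Agent.Helper9.TCData.X1690
open Cfsg.Agent.Helper9.TC2

theorem m2_1247 : allRange 53621 43 (fun u => chkFix tab mwordsA u) = true := by decide +kernel

theorem m2_1248 : allRange 53664 43 (fun u => chkFix tab mwordsA u) = true := by decide +kernel

theorem m2_1249 : allRange 53707 43 (fun u => chkFix tab mwordsA u) = true := by decide +kernel

theorem m2_1250 : allRange 53750 43 (fun u => chkFix tab mwordsA u) = true := by decide +kernel

theorem m2_1251 : allRange 53793 43 (fun u => chkFix tab mwordsA u) = true := by decide +kernel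

theorem m2_1252 : allRange 53836 43 (fun u => chkFix tab mwordsA u) = true := by decide +kernel

theorem m2_1253 : allRange 53879 43 (fun u => chkFix tab mwordsA u) = true := by decide +kernel

theorem m2_1254 : allRange 53922 43 (fun u => chkFix tab mwordsA u) = true := by decide +kernel

theorem m2_1255 : allRange 53965 43 (fun u => chkFix tab mwordsA u) = true := by decide +kernel

theorem m2_1256 : allRange 54008 43 (fun u => chkFix tab mwordsA u) = true := by decide +kernel


end Cfsg.Agent.Helper9.TCData.X1690
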