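import Cfsg.Agent.Lib.Helper9.TCData.X1690.Main

set_option autoImplicit false
set_option maxRecDepth 1000000

namespace Cfsg.Agent.Helper9.TCData.X1690
open Cfsg.Agent.Helper9.TC2

theorem m2_1257 : allRange 54051 43 (fun u => chkFix tab mwordsA u) = true := by decide +kernel

theorem m2_1258 : allRange 54094 43 (fun u => chkFix tab mwordsA u) = true := by decide +kernel

theorem m2_1259 : allRange 54137 43 (fun u => chkFix tab mwordsA u) = true := by decide +kernel

theorem m2_1260 : allRange 54180 43 (fun u => chkFix tab mwordsA u) = true := by decide +kernel

theorem m2_1261 : allRange 54223 43 (fun u => chkFix tab mwordsA u) = true := by decide +kernel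

theorem m2_1262 : allRange 54266 43 (fun u => chkFix tab mwordsA u) = true := by decide +kernel

theorem m2_1263 : allRange 54309 43 (fun u => chkFix tab mwordsA u) = true := by decide +kernel

theorem m2_1264 : allRange 54352 43 (fun u => chkFix tab mwordsA u) = true := by decide +kernel

theorem m2_1265 : allRange 54395 43 (fun u => chkFix tab mwordsA u) = true := by decide +kernel

theorem m2_1266 : allRange 54438 43 (fun u => chkFix tab mwordsA u) = true := by decide +kernel


end Cfsg.Agent.Helper9.TCData.X1690
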