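import Cfsg.Agent.Lib.Helper9.TCData.X1690.Main

set_option autoImplicit false
set_option maxRecDepth 1000000

namespace Cfsg.Agent.Helper9.TCData.X1690
open Cfsg.Agent.Helper9.TC2

theorem m2_1287 : allRange 55341 43 (fun u => chkFix tab mwordsA u) = true := by decide +kernel

theorem m2_1288 : allRange 55384 43 (fun u => chkFix tab mwordsA u) = true := by decide +kernel

theorem m2_1289 : allRange 55427 43 (fun u => chkFix tab mwordsA u) = true := by decide +kernel

theorem m2_1290 : allRange 55470 43 (fun u => chkFix tab mwordsA u) = true := by decide +kernel

theorem m2_1291 : allRange 55513 43 (fun u => chkFix tab mwordsA u) = true := by decide +kernel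

theorem m2_1292 : allRange 55556 43 (fun u => chkFix tab mwordsA u) = true := by decide +kernel

theorem m2_1293 : allRange 55599 43 (fun u => chkFix tab mwordsA u) = true := by decide +kernel

theorem m2_1294 : allRange 55642 43 (fun u => chkFix tab mwordsA u) = true := by decide +kernel

theorem m2_1295 : allRange 55685 43 (fun u => chkFix tab mwordsA u) = true := by decide +kernel

theorem m2_1296 : allRange 55728 43 (fun u => chkFix tab mwordsA u) = true := by decide +kernel


end Cfsg.Agent.Helper9.TCData.X1690
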