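import Cfsg.Agent.Lib.Helper9.TCData.X1690.Main

set_option autoImplicit false
set_option maxRecDepth 1000000

namespace Cfsg.Agent.Helper9.TCData.X1690
open Cfsg.Agent.Helper9.TC2

theorem m2_1297 : allRange 55771 43 (fun u => chkFix tab mwordsA u) = true := by decide +kernel

theorem m2_1298 : allRange 55814 43 (fun u => chkFix tab mwordsA u) = true := by decide +kernel

theorem m2_1299 : allRange 55857 43 (fun u => chkFix tab mwordsA u) = true := by decide +kernel

theorem m2_1300 : allRange 55900 43 (fun u => chkFix tab mwordsA u) = true := by decide +kernel

theorem m2_1301 : allRange 55943 43 (fun u => chkFix tab mwordsA u) = true := by decide +kernel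

theorem m2_1302 : allRange 55986 43 (fun u => chkFix tab mwordsA u) = true := by decide +kernel

theorem m2_1303 : allRange 56029 43 (fun u => chkFix tab mwordsA u) = true := by decide +kernel

theorem m2_1304 : allRange 56072 43 (fun u => chkFix tab mwordsA u) = true := by decide +kernel

theorem m2_1305 : allRange 56115 43 (fun u => chkFix tab mwordsA u) = true := by decide +kernel

theorem m2_1306 : allRange 56158 43 (fun u => chkFix tab mwordsA u) = true := by decide +kernel


end Cfsg.Agent.Helper9.TCData.X1690
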