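import Cfsg.Agent.Lib.Helper9.TCData.X1690.Main

set_option autoImplicit false
set_option maxRecDepth 1000000

namespace Cfsg.Agent.Helper9.TCData.X1690
open Cfsg.Agent.Helper9.TC2

theorem m2_1307 : allRange 56201 43 (fun u => chkFix tab mwordsA u) = true := by decide +kernel

theorem m2_1308 : allRange 56244 43 (fun u => chkFix tab mwordsA u) = true := by decide +kernel

theorem m2_1309 : allRange 56287 43 (fun u => chkFix tab mwordsA u) = true := by decide +kernel

theorem m2_1310 : allRange 56330 43 (fun u => chkFix tab mwordsA u) = true := by decide +kernel

theorem m2_1311 : allRange 56373 43 (fun u => chkFix tab mwordsA u) = true := by decide +kernel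

theorem m2_1312 : allRange 56416 43 (fun u => chkFix tab mwordsA u) = true := by decide +kernel

theorem m2_1313 : allRange 56459 43 (fun u => chkFix tab mwordsA u) = true := by decide +kernel

theorem m2_1314 : allRange 56502 43 (fun u => chkFix tab mwordsA u) = true := by decide +kernel

theorem m2_1315 : allRange 56545 43 (fun u => chkFix tab mwordsA u) = true := by decide +kernel

theorem m2_1316 : allRange 56588 43 (fun u => chkFix tab mwordsA u) = true := by decide +kernel


end Cfsg.Agent.Helper9.TCData.X1690
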