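import Cfsg.Agent.Lib.Helper9.TCData.X1690.Main

set_option autoImplicit false
set_option maxRecDepth 1000000

namespace Cfsg.Agent.Helper9.TCData.X1690
open Cfsg.Agent.Helper9.TC2

theorem e0_60 : allRange 126113 5015 (fun u => chkE tab 0 u) = true := by decide +kernel

theorem e0_61 : allRange 131128 2258 (fun u => chkE tab 0 u) = true := by decide +kernel

theorem e0_62 : allRange 133386 2403 (fun u => chkE tab 0 u) = true := by decide +kernel

theorem e0_63 : allRange 135789 2038 (fun u => chkE tab 0 u) = true := by decide +kernel

theorem e0_64 : allRange 137827 5219 (fun u => chkE tab 0 u) = true := by decide +kernel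

theorem e0_65 : allRange 143046 4091 (fun u => chkE tab 0 u) = true := by decide +kernel

theorem e0_66 : allRange 147137 3622 (fun u => chkE tab 0 u) = true := by decide +kernel

theorem e0_67 : allRange 150759 2247 (fun u => chkE tab 0 u) = true := by decide +kernel

theorem e0_68 : allRange 153006 1988 (fun u => chkE tab 0 u) = true := by decide +kernel

theorem e0_69 : allRange 154994 2174 (fun u => chkE tab 0 u) = true := by decide +kernel


end Cfsg.Agent.Helper9.TCData.X1690
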