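import Cfsg.Agent.Lib.Helper9.TCData.X1690.Main

set_option autoImplicit false
set_option maxRecDepth 1000000

namespace Cfsg.Agent.Helper9.TCData.X1690
open Cfsg.Agent.Helper9.TC2

theorem m2_1327 : allRange 57061 43 (fun u => chkFix tab mwordsA u) = true := by decide +kernel

theorem m2_1328 : allRange 57104 43 (fun u => chkFix tab mwordsA u) = true := by decide +kernel

theorem m2_1329 : allRange 57147 43 (fun u => chkFix tab mwordsA u) = true := by decide +kernel

theorem m2_1330 : allRange 57190 43 (fun u => chkFix tab mwordsA u) = true := by decide +kernel

theorem m2_1331 : allRange 57233 43 (fun u => chkFix tab mwordsA u) = true := by decide +kernel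

theorem m2_1332 : allRange 57276 43 (fun u => chkFix tab mwordsA u) = true := by decide +kernel

theorem m2_1333 : allRange 57319 43 (fun u => chkFix tab mwordsA u) = true := by decide +kernel

theorem m2_1334 : allRange 57362 43 (fun u => chkFix tab mwordsA u) = true := by decide +kernel

theorem m2_1335 : allRange 57405 43 (fun u => chkFix tab mwordsA u) = true := by decide +kernel

theorem m2_1336 : allRange 57448 43 (fun u => chkFix tab mwordsA u) = true := by decide +kernel


end Cfsg.Agent.Helper9.TCData.X1690
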