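import Cfsg.Agent.Lib.Helper9.TCData.X1690.Main

set_option autoImplicit false
set_option maxRecDepth 1000000

namespace Cfsg.Agent.Helper9.TCData.X1690
open Cfsg.Agent.Helper9.TC2

theorem m2_1337 : allRange 57491 43 (fun u => chkFix tab mwordsA u) = true := by decide +kernel

theorem m2_1338 : allRange 57534 43 (fun u => chkFix tab mwordsA u) = true := by decide +kernel

theorem m2_1339 : allRange 57577 43 (fun u => chkFix tab mwordsA u) = true := by decide +kernel

theorem m2_1340 : allRange 57620 43 (fun u => chkFix tab mwordsA u) = true := by decide +kernel

theorem m2_1341 : allRange 57663 43 (fun u => chkFix tab mwordsA u) = true := by decide +kernel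

theorem m2_1342 : allRange 57706 43 (fun u => chkFix tab mwordsA u) = true := by decide +kernel

theorem m2_1343 : allRange 57749 43 (fun u => chkFix tab mwordsA u) = true := by decide +kernel

theorem m2_1344 : allRange 57792 43 (fun u => chkFix tab mwordsA u) = true := by decide +kernel

theorem m2_1345 : allRange 57835 43 (fun u => chkFix tab mwordsA u) = true := by decide +kernel

theorem m2_1346 : allRange 57878 43 (fun u => chkFix tab mwordsA u) = true := by decide +kernel


end Cfsg.Agent.Helper9.TCData.X1690
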