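import Cfsg.Agent.Lib.Helper9.TCData.X1690.Main

set_option autoImplicit false
set_option maxRecDepth 1000000

namespace Cfsg.Agent.Helper9.TCData.X1690
open Cfsg.Agent.Helper9.TC2

theorem m2_1347 : allRange 57921 43 (fun u => chkFix tab mwordsA u) = true := by decide +kernel

theorem m2_1348 : allRange 57964 43 (fun u => chkFix tab mwordsA u) = true := by decide +kernel

theorem m2_1349 : allRange 58007 43 (fun u => chkFix tab mwordsA u) = true := by decide +kernel

theorem m2_1350 : allRange 58050 43 (fun u => chkFix tab mwordsA u) = true := by decide +kernel

theorem m2_1351 : allRange 58093 43 (fun u => chkFix tab mwordsA u) = true := by decide +kernel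

theorem m2_1352 : allRange 58136 43 (fun u => chkFix tab mwordsA u) = true := by decide +kernel

theorem m2_1353 : allRange 58179 43 (fun u => chkFix tab mwordsA u) = true := by decide +kernel

theorem m2_1354 : allRange 58222 43 (fun u => chkFix tab mwordsA u) = true := by decide +kernel

theorem m2_1355 : allRange 58265 43 (fun u => chkFix tab mwordsA u) = true := by decide +kernel

theorem m2_1356 : allRange 58308 43 (fun u => chkFix tab mwordsA u) = true := by decide +kernel


end Cfsg.Agent.Helper9.TCData.X1690
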