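import Cfsg.Agent.Lib.Helper9.TCData.X1690.Main

set_option autoImplicit false
set_option maxRecDepth 1000000

namespace Cfsg.Agent.Helper9.TCData.X1690
open Cfsg.Agent.Helper9.TC2

theorem m2_1357 : allRange 58351 43 (fun u => chkFix tab mwordsA u) = true := by decide +kernel

theorem m2_1358 : allRange 58394 43 (fun u => chkFix tab mwordsA u) = true := by decide +kernel

theorem m2_1359 : allRange 58437 43 (fun u => chkFix tab mwordsA u) = true := by decide +kernel

theorem m2_1360 : allRange 58480 43 (fun u => chkFix tab mwordsA u) = true := by decide +kernel

theorem m2_1361 : allRange 58523 43 (fun u => chkFix tab mwordsA u) = true := by decide +kernel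

theorem m2_1362 : allRange 58566 43 (fun u => chkFix tab mwordsA u) = true := by decide +kernel

theorem m2_1363 : allRange 58609 43 (fun u => chkFix tab mwordsA u) = true := by decide +kernel

theorem m2_1364 : allRange 58652 43 (fun u => chkFix tab mwordsA u) = true := by decide +kernel

theorem m2_1365 : allRange 58695 43 (fun u => chkFix tab mwordsA u) = true := by decide +kernel

theorem m2_1366 : allRange 58738 43 (fun u => chkFix tab mwordsA u) = true := by decide +kernel


end Cfsg.Agent.Helper9.TCData.X1690
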