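import Cfsg.Agent.Lib.Helper9.TCData.X1690.Main

set_option autoImplicit false
set_option maxRecDepth 1000000

namespace Cfsg.Agent.Helper9.TCData.X1690
open Cfsg.Agent.Helper9.TC2

theorem m2_1367 : allRange 58781 43 (fun u => chkFix tab mwordsA u) = true := by decide +kernel

theorem m2_1368 : allRange 58824 43 (fun u => chkFix tab mwordsA u) = true := by decide +kernel

theorem m2_1369 : allRange 58867 43 (fun u => chkFix tab mwordsA u) = true := by decide +kernel

theorem m2_1370 : allRange 58910 43 (fun u => chkFix tab mwordsA u) = true := by decide +kernel

theorem m2_1371 : allRange 58953 43 (fun u => chkFix tab mwordsA u) = true := by decide +kernel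

theorem m2_1372 : allRange 58996 43 (fun u => chkFix tab mwordsA u) = true := by decide +kernel

theorem m2_1373 : allRange 59039 43 (fun u => chkFix tab mwordsA u) = true := by decide +kernel

theorem m2_1374 : allRange 59082 43 (fun u => chkFix tab mwordsA u) = true := by decide +kernel

theorem m2_1375 : allRange 59125 43 (fun u => chkFix tab mwordsA u) = true := by decide +kernel

theorem m2_1376 : allRange 59168 43 (fun u => chkFix tab mwordsA u) = true := by decide +kernel


end Cfsg.Agent.Helper9.TCData.X1690
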