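import Cfsg.Agent.Lib.Helper9.TCData.X1690.Main

set_option autoImplicit false
set_option maxRecDepth 1000000

namespace Cfsg.Agent.Helper9.TCData.X1690
open Cfsg.Agent.Helper9.TC2

theorem m2_1377 : allRange 59211 43 (fun u => chkFix tab mwordsA u) = true := by decide +kernel

theorem m2_1378 : allRange 59254 43 (fun u => chkFix tab mwordsA u) = true := by decide +kernel

theorem m2_1379 : allRange 59297 43 (fun u => chkFix tab mwordsA u) = true := by decide +kernel

theorem m2_1380 : allRange 59340 43 (fun u => chkFix tab mwordsA u) = true := by decide +kernel

theorem m2_1381 : allRange 59383 43 (fun u => chkFix tab mwordsA u) = true := by decide +kernel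

theorem m2_1382 : allRange 59426 43 (fun u => chkFix tab mwordsA u) = true := by decide +kernel

theorem m2_1383 : allRange 59469 43 (fun u => chkFix tab mwordsA u) = true := by decide +kernel

theorem m2_1384 : allRange 59512 43 (fun u => chkFix tab mwordsA u) = true := by decide +kernel

theorem m2_1385 : allRange 59555 43 (fun u => chkFix tab mwordsA u) = true := by decide +kernel

theorem m2_1386 : allRange 59598 43 (fun u => chkFix tab mwordsA u) = true := by decide +kernel


end Cfsg.Agent.Helper9.TCData.X1690
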