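import Cfsg.Agent.Lib.Helper9.TCData.X1690.Main

set_option autoImplicit false
set_option maxRecDepth 1000000

namespace Cfsg.Agent.Helper9.TCData.X1690
open Cfsg.Agent.Helper9.TC2

theorem m2_1387 : allRange 59641 43 (fun u => chkFix tab mwordsA u) = true := by decide +kernel

theorem m2_1388 : allRange 59684 43 (fun u => chkFix tab mwordsA u) = true := by decide +kernel

theorem m2_1389 : allRange 59727 43 (fun u => chkFix tab mwordsA u) = true := by decide +kernel

theorem m2_1390 : allRange 59770 43 (fun u => chkFix tab mwordsA u) = true := by decide +kernel

theorem m2_1391 : allRange 59813 43 (fun u => chkFix tab mwordsA u) = true := by decide +kernel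

theorem m2_1392 : allRange 59856 43 (fun u => chkFix tab mwordsA u) = true := by decide +kernel

theorem m2_1393 : allRange 59899 43 (fun u => chkFix tab mwordsA u) = true := by decide +kernel

theorem m2_1394 : allRange 59942 43 (fun u => chkFix tab mwordsA u) = true := by decide +kernel

theorem m2_1395 : allRange 59985 43 (fun u => chkFix tab mwordsA u) = true := by decide +kernel

theorem m2_1396 : allRange 60028 43 (fun u => chkFix tab mwordsA u) = true := by decide +kernel


end Cfsg.Agent.Helper9.TCData.X1690
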