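import Cfsg.Agent.Lib.Helper9.TCData.X1690.Main

set_option autoImplicit false
set_option maxRecDepth 1000000

namespace Cfsg.Agent.Helper9.TCData.X1690
open Cfsg.Agent.Helper9.TC2

theorem m2_1407 : allRange 60501 43 (fun u => chkFix tab mwordsA u) = true := by decide +kernel

theorem m2_1408 : allRange 60544 43 (fun u => chkFix tab mwordsA u) = true := by decide +kernel

theorem m2_1409 : allRange 60587 43 (fun u => chkFix tab mwordsA u) = true := by decide +kernel

theorem m2_1410 : allRange 60630 43 (fun u => chkFix tab mwordsA u) = true := by decide +kernel

theorem m2_1411 : allRange 60673 43 (fun u => chkFix tab mwordsA u) = true := by decide +kernel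

theorem m2_1412 : allRange 60716 43 (fun u => chkFix tab mwordsA u) = true := by decide +kernel

theorem m2_1413 : allRange 60759 43 (fun u => chkFix tab mwordsA u) = true := by decide +kernel

theorem m2_1414 : allRange 60802 43 (fun u => chkFix tab mwordsA u) = true := by decide +kernel

theorem m2_1415 : allRange 60845 43 (fun u => chkFix tab mwordsA u) = true := by decide +kernel

theorem m2_1416 : allRange 60888 43 (fun u => chkFix tab mwordsA u) = true := by decide +kernel


end Cfsg.Agent.Helper9.TCData.X1690
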