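import Cfsg.Agent.Lib.Helper9.TCData.X1690.Main

set_option autoImplicit false
set_option maxRecDepth 1000000

namespace Cfsg.Agent.Helper9.TCData.X1690
open Cfsg.Agent.Helper9.TC2

theorem e3_102 : allRange 240490 2524 (fun u => chkE tab 3 u) = true := by decide +kernel

theorem e3_103 : allRange 243014 2314 (fun u => chkE tab 3 u) = true := by decide +kernel

theorem e3_104 : allRange 245328 2405 (fun u => chkE tab 3 u) = true := by decide +kernel

theorem e3_105 : allRange 247733 2372 (fun u => chkE tab 3 u) = true := by decide +kernel

theorem e3_106 : allRange 250105 2278 (fun u => chkE tab 3 u) = true := by decide +kernel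

theorem e3_107 : allRange 252383 2111 (fun u => chkE tab 3 u) = true := by decide +kernel

theorem e3_108 : allRange 254494 2112 (fun u => chkE tab 3 u) = true := by decide +kernel

theorem e3_109 : allRange 256606 2305 (fun u => chkE tab 3 u) = true := by decide +kernel

theorem e3_110 : allRange 258911 2792 (fun u => chkE tab 3 u) = true := by decide +kernel

theorem e3_111 : allRange 261703 2682 (fun u => chkE tab 3 u) = true := by decide +kernel


end Cfsg.Agent.Helper9.TCData.X1690
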