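import Cfsg.Agent.Lib.Helper9.TCData.X1690.Main

set_option autoImplicit false
set_option maxRecDepth 1000000

namespace Cfsg.Agent.Helper9.TCData.X1690
open Cfsg.Agent.Helper9.TC2

theorem m2_1417 : allRange 60931 43 (fun u => chkFix tab mwordsA u) = true := by decide +kernel

theorem m2_1418 : allRange 60974 43 (fun u => chkFix tab mwordsA u) = true := by decide +kernel

theorem m2_1419 : allRange 61017 43 (fun u => chkFix tab mwordsA u) = true := by decide +kernel

theorem m2_1420 : allRange 61060 43 (fun u => chkFix tab mwordsA u) = true := by decide +kernel

theorem m2_1421 : allRange 61103 43 (fun u => chkFix tab mwordsA u) = true := by decide +kernel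

theorem m2_1422 : allRange 61146 43 (fun u => chkFix tab mwordsA u) = true := by decide +kernel

theorem m2_1423 : allRange 61189 43 (fun u => chkFix tab mwordsA u) = true := by decide +kernel

theorem m2_1424 : allRange 61232 43 (fun u => chkFix tab mwordsA u) = true := by decide +kernel

theorem m2_1425 : allRange 61275 43 (fun u => chkFix tab mwordsA u) = true := by decide +kernel

theorem m2_1426 : allRange 61318 43 (fun u => chkFix tab mwordsA u) = true := by decide +kernel


end Cfsg.Agent.Helper9.TCData.X1690
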