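import Cfsg.Agent.Lib.Helper9.TCData.X1690.Main

set_option autoImplicit false
set_option maxRecDepth 1000000

namespace Cfsg.Agent.Helper9.TCData.X1690
open Cfsg.Agent.Helper9.TC2

theorem m2_1457 : allRange 62651 43 (fun u => chkFix tab mwordsA u) = true := by decide +kernel

theorem m2_1458 : allRange 62694 43 (fun u => chkFix tab mwordsA u) = true := by decide +kernel

theorem m2_1459 : allRange 62737 43 (fun u => chkFix tab mwordsA u) = true := by decide +kernel

theorem m2_1460 : allRange 62780 43 (fun u => chkFix tab mwordsA u) = true := by decide +kernel

theorem m2_1461 : allRange 62823 43 (fun u => chkFix tab mwordsA u) = true := by decide +kernel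

theorem m2_1462 : allRange 62866 43 (fun u => chkFix tab mwordsA u) = true := by decide +kernel

theorem m2_1463 : allRange 62909 43 (fun u => chkFix tab mwordsA u) = true := by decide +kernel

theorem m2_1464 : allRange 62952 43 (fun u => chkFix tab mwordsA u) = true := by decide +kernel

theorem m2_1465 : allRange 62995 43 (fun u => chkFix tab mwordsA u) = true := by decide +kernel

theorem m2_1466 : allRange 63038 43 (fun u => chkFix tab mwordsA u) = true := by decide +kernel


end Cfsg.Agent.Helper9.TCData.X1690
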