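import Cfsg.Agent.Lib.Helper9.TCData.X1690.Main

set_option autoImplicit false
set_option maxRecDepth 1000000

namespace Cfsg.Agent.Helper9.TCData.X1690
open Cfsg.Agent.Helper9.TC2

theorem m2_1467 : allRange 63081 43 (fun u => chkFix tab mwordsA u) = true := by decide +kernel

theorem m2_1468 : allRange 63124 43 (fun u => chkFix tab mwordsA u) = true := by decide +kernel

theorem m2_1469 : allRange 63167 43 (fun u => chkFix tab mwordsA u) = true := by decide +kernel

theorem m2_1470 : allRange 63210 43 (fun u => chkFix tab mwordsA u) = true := by decide +kernel

theorem m2_1471 : allRange 63253 43 (fun u => chkFix tab mwordsA u) = true := by decide +kernel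

theorem m2_1472 : allRange 63296 43 (fun u => chkFix tab mwordsA u) = true := by decide +kernel

theorem m2_1473 : allRange 63339 43 (fun u => chkFix tab mwordsA u) = true := by decide +kernel

theorem m2_1474 : allRange 63382 43 (fun u => chkFix tab mwordsA u) = true := by decide +kernel

theorem m2_1475 : allRange 63425 43 (fun u => chkFix tab mwordsA u) = true := by decide +kernel

theorem m2_1476 : allRange 63468 43 (fun u => chkFix tab mwordsA u) = true := by decide +kernel


end Cfsg.Agent.Helper9.TCData.X1690
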