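import Cfsg.Agent.Lib.Helper9.TCData.X1690.Main

set_option autoImplicit false
set_option maxRecDepth 1000000

namespace Cfsg.Agent.Helper9.TCData.X1690
open Cfsg.Agent.Helper9.TC2

theorem m2_1477 : allRange 63511 43 (fun u => chkFix tab mwordsA u) = true := by decide +kernel

theorem m2_1478 : allRange 63554 43 (fun u => chkFix tab mwordsA u) = true := by decide +kernel

theorem m2_1479 : allRange 63597 43 (fun u => chkFix tab mwordsA u) = true := by decide +kernel

theorem m2_1480 : allRange 63640 43 (fun u => chkFix tab mwordsA u) = true := by decide +kernel

theorem m2_1481 : allRange 63683 43 (fun u => chkFix tab mwordsA u) = true := by decide +kernel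

theorem m2_1482 : allRange 63726 43 (fun u => chkFix tab mwordsA u) = true := by decide +kernel

theorem m2_1483 : allRange 63769 43 (fun u => chkFix tab mwordsA u) = true := by decide +kernel

theorem m2_1484 : allRange 63812 43 (fun u => chkFix tab mwordsA u) = true := by decide +kernel

theorem m2_1485 : allRange 63855 43 (fun u => chkFix tab mwordsA u) = true := by decide +kernel

theorem m2_1486 : allRange 63898 43 (fun u => chkFix tab mwordsA u) = true := by decide +kernel


end Cfsg.Agent.Helper9.TCData.X1690
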