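import Cfsg.Agent.Lib.Helper9.TCData.X1690.Main

set_option autoImplicit false
set_option maxRecDepth 1000000

namespace Cfsg.Agent.Helper9.TCData.X1690
open Cfsg.Agent.Helper9.TC2

theorem m2_1487 : allRange 63941 43 (fun u => chkFix tab mwordsA u) = true := by decide +kernel

theorem m2_1488 : allRange 63984 43 (fun u => chkFix tab mwordsA u) = true := by decide +kernel

theorem m2_1489 : allRange 64027 43 (fun u => chkFix tab mwordsA u) = true := by decide +kernel

theorem m2_1490 : allRange 64070 43 (fun u => chkFix tab mwordsA u) = true := by decide +kernel

theorem m2_1491 : allRange 64113 43 (fun u => chkFix tab mwordsA u) = true := by decide +kernel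

theorem m2_1492 : allRange 64156 43 (fun u => chkFix tab mwordsA u) = true := by decide +kernel

theorem m2_1493 : allRange 64199 43 (fun u => chkFix tab mwordsA u) = true := by decide +kernel

theorem m2_1494 : allRange 64242 43 (fun u => chkFix tab mwordsA u) = true := by decide +kernel

theorem m2_1495 : allRange 64285 43 (fun u => chkFix tab mwordsA u) = true := by decide +kernel

theorem m2_1496 : allRange 64328 43 (fun u => chkFix tab mwordsA u) = true := by decide +kernel


end Cfsg.Agent.Helper9.TCData.X1690
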