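import Cfsg.Agent.Lib.Helper9.TCData.X1690.Main

set_option autoImplicit false
set_option maxRecDepth 1000000

namespace Cfsg.Agent.Helper9.TCData.X1690
open Cfsg.Agent.Helper9.TC2

theorem m2_1497 : allRange 64371 43 (fun u => chkFix tab mwordsA u) = true := by decide +kernel

theorem m2_1498 : allRange 64414 43 (fun u => chkFix tab mwordsA u) = true := by decide +kernel

theorem m2_1499 : allRange 64457 43 (fun u => chkFix tab mwordsA u) = true := by decide +kernel

theorem m2_1500 : allRange 64500 43 (fun u => chkFix tab mwordsA u) = true := by decide +kernel

theorem m2_1501 : allRange 64543 43 (fun u => chkFix tab mwordsA u) = true := by decide +kernel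

theorem m2_1502 : allRange 64586 43 (fun u => chkFix tab mwordsA u) = true := by decide +kernel

theorem m2_1503 : allRange 64629 43 (fun u => chkFix tab mwordsA u) = true := by decide +kernel

theorem m2_1504 : allRange 64672 43 (fun u => chkFix tab mwordsA u) = true := by decide +kernel

theorem m2_1505 : allRange 64715 43 (fun u => chkFix tab mwordsA u) = true := by decide +kernel

theorem m2_1506 : allRange 64758 43 (fun u => chkFix tab mwordsA u) = true := by decide +kernel


end Cfsg.Agent.Helper9.TCData.X1690
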