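import Cfsg.Agent.Lib.Helper9.TCData.X1690.Main

set_option autoImplicit false
set_option maxRecDepth 1000000

namespace Cfsg.Agent.Helper9.TCData.X1690
open Cfsg.Agent.Helper9.TC2

theorem m2_1507 : allRange 64801 43 (fun u => chkFix tab mwordsA u) = true := by decide +kernel

theorem m2_1508 : allRange 64844 43 (fun u => chkFix tab mwordsA u) = true := by decide +kernel

theorem m2_1509 : allRange 64887 43 (fun u => chkFix tab mwordsA u) = true := by decide +kernel

theorem m2_1510 : allRange 64930 43 (fun u => chkFix tab mwordsA u) = true := by decide +kernel

theorem m2_1511 : allRange 64973 43 (fun u => chkFix tab mwordsA u) = true := by decide +kernel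

theorem m2_1512 : allRange 65016 43 (fun u => chkFix tab mwordsA u) = true := by decide +kernel

theorem m2_1513 : allRange 65059 43 (fun u => chkFix tab mwordsA u) = true := by decide +kernel

theorem m2_1514 : allRange 65102 43 (fun u => chkFix tab mwordsA u) = true := by decide +kernel

theorem m2_1515 : allRange 65145 43 (fun u => chkFix tab mwordsA u) = true := by decide +kernel

theorem m2_1516 : allRange 65188 43 (fun u => chkFix tab mwordsA u) = true := by decide +kernel


end Cfsg.Agent.Helper9.TCData.X1690
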