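import Cfsg.Agent.Lib.Helper9.TCData.X1690.Main

set_option autoImplicit false
set_option maxRecDepth 1000000

namespace Cfsg.Agent.Helper9.TCData.X1690
open Cfsg.Agent.Helper9.TC2

theorem e3_112 : allRange 264385 2526 (fun u => chkE tab 3 u) = true := by decide +kernel

theorem e3_113 : allRange 266911 2412 (fun u => chkE tab 3 u) = true := by decide +kernel

theorem e3_114 : allRange 269323 2328 (fun u => chkE tab 3 u) = true := by decide +kernel

theorem e3_115 : allRange 271651 2393 (fun u => chkE tab 3 u) = true := by decide +kernel

theorem e3_116 : allRange 274044 2266 (fun u => chkE tab 3 u) = true := by decide +kernel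

theorem e3_117 : allRange 276310 2137 (fun u => chkE tab 3 u) = true := by decide +kernel

theorem e3_118 : allRange 278447 2017 (fun u => chkE tab 3 u) = true := by decide +kernel

theorem e3_119 : allRange 280464 2171 (fun u => chkE tab 3 u) = true := by decide +kernel

theorem e3_120 : allRange 282635 2853 (fun u => chkE tab 3 u) = true := by decide +kernel

theorem e3_121 : allRange 285488 2869 (fun u => chkE tab 3 u) = true := by decide +kernel


end Cfsg.Agent.Helper9.TCData.X1690
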