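import Cfsg.Agent.Lib.Helper9.TCData.X1690.Main

set_option autoImplicit false
set_option maxRecDepth 1000000

namespace Cfsg.Agent.Helper9.TCData.X1690
open Cfsg.Agent.Helper9.TC2

theorem m2_1517 : allRange 65231 43 (fun u => chkFix tab mwordsA u) = true := by decide +kernel

theorem m2_1518 : allRange 65274 43 (fun u => chkFix tab mwordsA u) = true := by decide +kernel

theorem m2_1519 : allRange 65317 43 (fun u => chkFix tab mwordsA u) = true := by decide +kernel

theorem m2_1520 : allRange 65360 43 (fun u => chkFix tab mwordsA u) = true := by decide +kernel

theorem m2_1521 : allRange 65403 43 (fun u => chkFix tab mwordsA u) = true := by decide +kernel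

theorem m2_1522 : allRange 65446 43 (fun u => chkFix tab mwordsA u) = true := by decide +kernel

theorem m2_1523 : allRange 65489 43 (fun u => chkFix tab mwordsA u) = true := by decide +kernel

theorem m2_1524 : allRange 65532 43 (fun u => chkFix tab mwordsA u) = true := by decide +kernel

theorem m2_1525 : allRange 65575 43 (fun u => chkFix tab mwordsA u) = true := by decide +kernel

theorem m2_1526 : allRange 65618 43 (fun u => chkFix tab mwordsA u) = true := by decide +kernel


end Cfsg.Agent.Helper9.TCData.X1690
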