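import Cfsg.Agent.Lib.Helper9.TCData.X1690.Main

set_option autoImplicit false
set_option maxRecDepth 1000000

namespace Cfsg.Agent.Helper9.TCData.X1690
open Cfsg.Agent.Helper9.TC2

theorem m2_1527 : allRange 65661 43 (fun u => chkFix tab mwordsA u) = true := by decide +kernel

theorem m2_1528 : allRange 65704 43 (fun u => chkFix tab mwordsA u) = true := by decide +kernel

theorem m2_1529 : allRange 65747 43 (fun u => chkFix tab mwordsA u) = true := by decide +kernel

theorem m2_1530 : allRange 65790 43 (fun u => chkFix tab mwordsA u) = true := by decide +kernel

theorem m2_1531 : allRange 65833 43 (fun u => chkFix tab mwordsA u) = true := by decide +kernel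

theorem m2_1532 : allRange 65876 43 (fun u => chkFix tab mwordsA u) = true := by decide +kernel

theorem m2_1533 : allRange 65919 43 (fun u => chkFix tab mwordsA u) = true := by decide +kernel

theorem m2_1534 : allRange 65962 43 (fun u => chkFix tab mwordsA u) = true := by decide +kernel

theorem m2_1535 : allRange 66005 43 (fun u => chkFix tab mwordsA u) = true := by decide +kernel

theorem m2_1536 : allRange 66048 43 (fun u => chkFix tab mwordsA u) = true := by decide +kernel


end Cfsg.Agent.Helper9.TCData.X1690
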