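import Cfsg.Agent.Lib.Helper9.TCData.X1690.Main

set_option autoImplicit false
set_option maxRecDepth 1000000

namespace Cfsg.Agent.Helper9.TCData.X1690
open Cfsg.Agent.Helper9.TC2

theorem m2_1537 : allRange 66091 43 (fun u => chkFix tab mwordsA u) = true := by decide +kernel

theorem m2_1538 : allRange 66134 43 (fun u => chkFix tab mwordsA u) = true := by decide +kernel

theorem m2_1539 : allRange 66177 43 (fun u => chkFix tab mwordsA u) = true := by decide +kernel

theorem m2_1540 : allRange 66220 43 (fun u => chkFix tab mwordsA u) = true := by decide +kernel

theorem m2_1541 : allRange 66263 43 (fun u => chkFix tab mwordsA u) = true := by decide +kernel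

theorem m2_1542 : allRange 66306 43 (fun u => chkFix tab mwordsA u) = true := by decide +kernel

theorem m2_1543 : allRange 66349 43 (fun u => chkFix tab mwordsA u) = true := by decide +kernel

theorem m2_1544 : allRange 66392 43 (fun u => chkFix tab mwordsA u) = true := by decide +kernel

theorem m2_1545 : allRange 66435 43 (fun u => chkFix tab mwordsA u) = true := by decide +kernel

theorem m2_1546 : allRange 66478 43 (fun u => chkFix tab mwordsA u) = true := by decide +kernel


end Cfsg.Agent.Helper9.TCData.X1690
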