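import Cfsg.Agent.Lib.Helper9.TCData.X1690.Main

set_option autoImplicit false
set_option maxRecDepth 1000000

namespace Cfsg.Agent.Helper9.TCData.X1690
open Cfsg.Agent.Helper9.TC2

theorem m2_1547 : allRange 66521 43 (fun u => chkFix tab mwordsA u) = true := by decide +kernel

theorem m2_1548 : allRange 66564 43 (fun u => chkFix tab mwordsA u) = true := by decide +kernel

theorem m2_1549 : allRange 66607 43 (fun u => chkFix tab mwordsA u) = true := by decide +kernel

theorem m2_1550 : allRange 66650 43 (fun u => chkFix tab mwordsA u) = true := by decide +kernel

theorem m2_1551 : allRange 66693 43 (fun u => chkFix tab mwordsA u) = true := by decide +kernel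

theorem m2_1552 : allRange 66736 43 (fun u => chkFix tab mwordsA u) = true := by decide +kernel

theorem m2_1553 : allRange 66779 43 (fun u => chkFix tab mwordsA u) = true := by decide +kernel

theorem m2_1554 : allRange 66822 43 (fun u => chkFix tab mwordsA u) = true := by decide +kernel

theorem m2_1555 : allRange 66865 43 (fun u => chkFix tab mwordsA u) = true := by decide +kernel

theorem m2_1556 : allRange 66908 43 (fun u => chkFix tab mwordsA u) = true := by decide +kernel


end Cfsg.Agent.Helper9.TCData.X1690
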