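import Cfsg.Agent.Lib.Helper9.TCData.X1690.Main

set_option autoImplicit false
set_option maxRecDepth 1000000

namespace Cfsg.Agent.Helper9.TCData.X1690
open Cfsg.Agent.Helper9.TC2

theorem m2_1567 : allRange 67381 43 (fun u => chkFix tab mwordsA u) = true := by decide +kernel

theorem m2_1568 : allRange 67424 43 (fun u => chkFix tab mwordsA u) = true := by decide +kernel

theorem m2_1569 : allRange 67467 43 (fun u => chkFix tab mwordsA u) = true := by decide +kernel

theorem m2_1570 : allRange 67510 43 (fun u => chkFix tab mwordsA u) = true := by decide +kernel

theorem m2_1571 : allRange 67553 43 (fun u => chkFix tab mwordsA u) = true := by decide +kernel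

theorem m2_1572 : allRange 67596 43 (fun u => chkFix tab mwordsA u) = true := by decide +kernel

theorem m2_1573 : allRange 67639 43 (fun u => chkFix tab mwordsA u) = true := by decide +kernel

theorem m2_1574 : allRange 67682 43 (fun u => chkFix tab mwordsA u) = true := by decide +kernel

theorem m2_1575 : allRange 67725 43 (fun u => chkFix tab mwordsA u) = true := by decide +kernel

theorem m2_1576 : allRange 67768 43 (fun u => chkFix tab mwordsA u) = true := by decide +kernel


end Cfsg.Agent.Helper9.TCData.X1690
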