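import Cfsg.Agent.Lib.Helper9.TCData.X1690.Main

set_option autoImplicit false
set_option maxRecDepth 1000000

namespace Cfsg.Agent.Helper9.TCData.X1690
open Cfsg.Agent.Helper9.TC2

theorem m2_1577 : allRange 67811 43 (fun u => chkFix tab mwordsA u) = true := by decide +kernel

theorem m2_1578 : allRange 67854 43 (fun u => chkFix tab mwordsA u) = true := by decide +kernel

theorem m2_1579 : allRange 67897 43 (fun u => chkFix tab mwordsA u) = true := by decide +kernel

theorem m2_1580 : allRange 67940 43 (fun u => chkFix tab mwordsA u) = true := by decide +kernel

theorem m2_1581 : allRange 67983 43 (fun u => chkFix tab mwordsA u) = true := by decide +kernel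

theorem m2_1582 : allRange 68026 43 (fun u => chkFix tab mwordsA u) = true := by decide +kernel

theorem m2_1583 : allRange 68069 43 (fun u => chkFix tab mwordsA u) = true := by decide +kernel

theorem m2_1584 : allRange 68112 43 (fun u => chkFix tab mwordsA u) = true := by decide +kernel

theorem m2_1585 : allRange 68155 43 (fun u => chkFix tab mwordsA u) = true := by decide +kernel

theorem m2_1586 : allRange 68198 43 (fun u => chkFix tab mwordsA u) = true := by decide +kernel


end Cfsg.Agent.Helper9.TCData.X1690
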