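import Cfsg.Agent.Lib.Helper9.TCData.X1690.Main

set_option autoImplicit false
set_option maxRecDepth 1000000

namespace Cfsg.Agent.Helper9.TCData.X1690
open Cfsg.Agent.Helper9.TC2

theorem m2_1587 : allRange 68241 43 (fun u => chkFix tab mwordsA u) = true := by decide +kernel

theorem m2_1588 : allRange 68284 43 (fun u => chkFix tab mwordsA u) = true := by decide +kernel

theorem m2_1589 : allRange 68327 43 (fun u => chkFix tab mwordsA u) = true := by decide +kernel

theorem m2_1590 : allRange 68370 43 (fun u => chkFix tab mwordsA u) = true := by decide +kernel

theorem m2_1591 : allRange 68413 43 (fun u => chkFix tab mwordsA u) = true := by decide +kernel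

theorem m2_1592 : allRange 68456 43 (fun u => chkFix tab mwordsA u) = true := by decide +kernel

theorem m2_1593 : allRange 68499 43 (fun u => chkFix tab mwordsA u) = true := by decide +kernel

theorem m2_1594 : allRange 68542 43 (fun u => chkFix tab mwordsA u) = true := by decide +kernel

theorem m2_1595 : allRange 68585 43 (fun u => chkFix tab mwordsA u) = true := by decide +kernel

theorem m2_1596 : allRange 68628 43 (fun u => chkFix tab mwordsA u) = true := by decide +kernel


end Cfsg.Agent.Helper9.TCData.X1690
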