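import Cfsg.Agent.Lib.Helper9.TCData.X1690.Main

set_option autoImplicit false
set_option maxRecDepth 1000000

namespace Cfsg.Agent.Helper9.TCData.X1690
open Cfsg.Agent.Helper9.TC2

theorem m2_1597 : allRange 68671 43 (fun u => chkFix tab mwordsA u) = true := by decide +kernel

theorem m2_1598 : allRange 68714 43 (fun u => chkFix tab mwordsA u) = true := by decide +kernel

theorem m2_1599 : allRange 68757 43 (fun u => chkFix tab mwordsA u) = true := by decide +kernel

theorem m2_1600 : allRange 68800 43 (fun u => chkFix tab mwordsA u) = true := by decide +kernel

theorem m2_1601 : allRange 68843 43 (fun u => chkFix tab mwordsA u) = true := by decide +kernel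

theorem m2_1602 : allRange 68886 43 (fun u => chkFix tab mwordsA u) = true := by decide +kernel

theorem m2_1603 : allRange 68929 43 (fun u => chkFix tab mwordsA u) = true := by decide +kernel

theorem m2_1604 : allRange 68972 43 (fun u => chkFix tab mwordsA u) = true := by decide +kernel

theorem m2_1605 : allRange 69015 43 (fun u => chkFix tab mwordsA u) = true := by decide +kernel

theorem m2_1606 : allRange 69058 43 (fun u => chkFix tab mwordsA u) = true := by decide +kernel


end Cfsg.Agent.Helper9.TCData.X1690
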