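import Cfsg.Agent.Lib.Helper9.TCData.X1690.Main

set_option autoImplicit false
set_option maxRecDepth 1000000

namespace Cfsg.Agent.Helper9.TCData.X1690
open Cfsg.Agent.Helper9.TC2

theorem m2_1607 : allRange 69101 43 (fun u => chkFix tab mwordsA u) = true := by decide +kernel

theorem m2_1608 : allRange 69144 43 (fun u => chkFix tab mwordsA u) = true := by decide +kernel

theorem m2_1609 : allRange 69187 43 (fun u => chkFix tab mwordsA u) = true := by decide +kernel

theorem m2_1610 : allRange 69230 43 (fun u => chkFix tab mwordsA u) = true := by decide +kernel

theorem m2_1611 : allRange 69273 43 (fun u => chkFix tab mwordsA u) = true := by decide +kernel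

theorem m2_1612 : allRange 69316 43 (fun u => chkFix tab mwordsA u) = true := by decide +kernel

theorem m2_1613 : allRange 69359 43 (fun u => chkFix tab mwordsA u) = true := by decide +kernel

theorem m2_1614 : allRange 69402 43 (fun u => chkFix tab mwordsA u) = true := by decide +kernel

theorem m2_1615 : allRange 69445 43 (fun u => chkFix tab mwordsA u) = true := by decide +kernel

theorem m2_1616 : allRange 69488 43 (fun u => chkFix tab mwordsA u) = true := by decide +kernel


end Cfsg.Agent.Helper9.TCData.X1690
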