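import Cfsg.Agent.Lib.Helper9.TCData.X1690.Main

set_option autoImplicit false
set_option maxRecDepth 1000000

namespace Cfsg.Agent.Helper9.TCData.X1690
open Cfsg.Agent.Helper9.TC2

theorem e3_122 : allRange 288357 2618 (fun u => chkE tab 3 u) = true := by decide +kernel

theorem e3_123 : allRange 290975 2363 (fun u => chkE tab 3 u) = true := by decide +kernel

theorem e3_124 : allRange 293338 2427 (fun u => chkE tab 3 u) = true := by decide +kernel

theorem e3_125 : allRange 295765 2393 (fun u => chkE tab 3 u) = true := by decide +kernel

theorem e3_126 : allRange 298158 2375 (fun u => chkE tab 3 u) = true := by decide +kernel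

theorem e3_127 : allRange 300533 2208 (fun u => chkE tab 3 u) = true := by decide +kernel

theorem e3_128 : allRange 302741 2088 (fun u => chkE tab 3 u) = true := by decide +kernel

theorem e3_129 : allRange 304829 2109 (fun u => chkE tab 3 u) = true := by decide +kernel

theorem e3_130 : allRange 306938 2612 (fun u => chkE tab 3 u) = true := by decide +kernel

theorem e3_131 : allRange 309550 2924 (fun u => chkE tab 3 u) = true := by decide +kernel


end Cfsg.Agent.Helper9.TCData.X1690
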