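import Cfsg.Agent.Lib.Helper9.TCData.X1690.Main

set_option autoImplicit false
set_option maxRecDepth 1000000

namespace Cfsg.Agent.Helper9.TCData.X1690
open Cfsg.Agent.Helper9.TC2

theorem m2_1627 : allRange 69961 43 (fun u => chkFix tab mwordsA u) = true := by decide +kernel

theorem m2_1628 : allRange 70004 43 (fun u => chkFix tab mwordsA u) = true := by decide +kernel

theorem m2_1629 : allRange 70047 43 (fun u => chkFix tab mwordsA u) = true := by decide +kernel

theorem m2_1630 : allRange 70090 43 (fun u => chkFix tab mwordsA u) = true := by decide +kernel

theorem m2_1631 : allRange 70133 43 (fun u => chkFix tab mwordsA u) = true := by decide +kernel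

theorem m2_1632 : allRange 70176 43 (fun u => chkFix tab mwordsA u) = true := by decide +kernel

theorem m2_1633 : allRange 70219 43 (fun u => chkFix tab mwordsA u) = true := by decide +kernel

theorem m2_1634 : allRange 70262 43 (fun u => chkFix tab mwordsA u) = true := by decide +kernel

theorem m2_1635 : allRange 70305 43 (fun u => chkFix tab mwordsA u) = true := by decide +kernel

theorem m2_1636 : allRange 70348 43 (fun u => chkFix tab mwordsA u) = true := by decide +kernel


end Cfsg.Agent.Helper9.TCData.X1690
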