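import Cfsg.Agent.Lib.Helper9.TCData.X1690.Main

set_option autoImplicit false
set_option maxRecDepth 1000000

namespace Cfsg.Agent.Helper9.TCData.X1690
open Cfsg.Agent.Helper9.TC2

theorem m2_1647 : allRange 70821 43 (fun u => chkFix tab mwordsA u) = true := by decide +kernel

theorem m2_1648 : allRange 70864 43 (fun u => chkFix tab mwordsA u) = true := by decide +kernel

theorem m2_1649 : allRange 70907 43 (fun u => chkFix tab mwordsA u) = true := by decide +kernel

theorem m2_1650 : allRange 70950 43 (fun u => chkFix tab mwordsA u) = true := by decide +kernel

theorem m2_1651 : allRange 70993 43 (fun u => chkFix tab mwordsA u) = true := by decide +kernel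

theorem m2_1652 : allRange 71036 43 (fun u => chkFix tab mwordsA u) = true := by decide +kernel

theorem m2_1653 : allRange 71079 43 (fun u => chkFix tab mwordsA u) = true := by decide +kernel

theorem m2_1654 : allRange 71122 43 (fun u => chkFix tab mwordsA u) = true := by decide +kernel

theorem m2_1655 : allRange 71165 43 (fun u => chkFix tab mwordsA u) = true := by decide +kernel

theorem m2_1656 : allRange 71208 43 (fun u => chkFix tab mwordsA u) = true := by decide +kernel


end Cfsg.Agent.Helper9.TCData.X1690
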