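import Cfsg.Agent.Lib.Helper9.TCData.X1690.Main

set_option autoImplicit false
set_option maxRecDepth 1000000

namespace Cfsg.Agent.Helper9.TCData.X1690
open Cfsg.Agent.Helper9.TC2

theorem m2_1687 : allRange 72541 43 (fun u => chkFix tab mwordsA u) = true := by decide +kernel

theorem m2_1688 : allRange 72584 43 (fun u => chkFix tab mwordsA u) = true := by decide +kernel

theorem m2_1689 : allRange 72627 43 (fun u => chkFix tab mwordsA u) = true := by decide +kernel

theorem m2_1690 : allRange 72670 43 (fun u => chkFix tab mwordsA u) = true := by decide +kernel

theorem m2_1691 : allRange 72713 43 (fun u => chkFix tab mwordsA u) = true := by decide +kernel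

theorem m2_1692 : allRange 72756 43 (fun u => chkFix tab mwordsA u) = true := by decide +kernel

theorem m2_1693 : allRange 72799 43 (fun u => chkFix tab mwordsA u) = true := by decide +kernel

theorem m2_1694 : allRange 72842 43 (fun u => chkFix tab mwordsA u) = true := by decide +kernel

theorem m2_1695 : allRange 72885 43 (fun u => chkFix tab mwordsA u) = true := by decide +kernel

theorem m2_1696 : allRange 72928 43 (fun u => chkFix tab mwordsA u) = true := by decide +kernel


end Cfsg.Agent.Helper9.TCData.X1690
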