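import Cfsg.Agent.Lib.Helper9.TCData.X1690.Main

set_option autoImplicit false
set_option maxRecDepth 1000000

namespace Cfsg.Agent.Helper9.TCData.X1690
open Cfsg.Agent.Helper9.TC2

theorem m2_1707 : allRange 73401 43 (fun u => chkFix tab mwordsA u) = true := by decide +kernel

theorem m2_1708 : allRange 73444 43 (fun u => chkFix tab mwordsA u) = true := by decide +kernel

theorem m2_1709 : allRange 73487 43 (fun u => chkFix tab mwordsA u) = true := by decide +kernel

theorem m2_1710 : allRange 73530 43 (fun u => chkFix tab mwordsA u) = true := by decide +kernel

theorem m2_1711 : allRange 73573 43 (fun u => chkFix tab mwordsA u) = true := by decide +kernel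

theorem m2_1712 : allRange 73616 43 (fun u => chkFix tab mwordsA u) = true := by decide +kernel

theorem m2_1713 : allRange 73659 43 (fun u => chkFix tab mwordsA u) = true := by decide +kernel

theorem m2_1714 : allRange 73702 43 (fun u => chkFix tab mwordsA u) = true := by decide +kernel

theorem m2_1715 : allRange 73745 43 (fun u => chkFix tab mwordsA u) = true := by decide +kernel

theorem m2_1716 : allRange 73788 43 (fun u => chkFix tab mwordsA u) = true := by decide +kernel


end Cfsg.Agent.Helper9.TCData.X1690
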