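import Cfsg.Agent.Lib.Helper9.TCData.X1690.Main

set_option autoImplicit false
set_option maxRecDepth 1000000

namespace Cfsg.Agent.Helper9.TCData.X1690
open Cfsg.Agent.Helper9.TC2

theorem e3_132 : allRange 312474 2788 (fun u => chkE tab 3 u) = true := by decide +kernel

theorem e3_133 : allRange 315262 2583 (fun u => chkE tab 3 u) = true := by decide +kernel

theorem e3_134 : allRange 317845 2432 (fun u => chkE tab 3 u) = true := by decide +kernel

theorem e3_135 : allRange 320277 2407 (fun u => chkE tab 3 u) = true := by decide +kernel

theorem e3_136 : allRange 322684 2452 (fun u => chkE tab 3 u) = true := by decide +kernel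

theorem e3_137 : allRange 325136 2274 (fun u => chkE tab 3 u) = true := by decide +kernel

theorem e3_138 : allRange 327410 2183 (fun u => chkE tab 3 u) = true := by decide +kernel

theorem e3_139 : allRange 329593 1992 (fun u => chkE tab 3 u) = true := by decide +kernel

theorem e3_140 : allRange 331585 2487 (fun u => chkE tab 3 u) = true := by decide +kernel

theorem e3_141 : allRange 334072 2967 (fun u => chkE tab 3 u) = true := by decide +kernel


end Cfsg.Agent.Helper9.TCData.X1690
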