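import Cfsg.Agent.Lib.Helper9.TCData.X1690.Main

set_option autoImplicit false
set_option maxRecDepth 1000000

namespace Cfsg.Agent.Helper9.TCData.X1690
open Cfsg.Agent.Helper9.TC2

theorem m2_1717 : allRange 73831 43 (fun u => chkFix tab mwordsA u) = true := by decide +kernel

theorem m2_1718 : allRange 73874 43 (fun u => chkFix tab mwordsA u) = true := by decide +kernel

theorem m2_1719 : allRange 73917 43 (fun u => chkFix tab mwordsA u) = true := by decide +kernel

theorem m2_1720 : allRange 73960 43 (fun u => chkFix tab mwordsA u) = true := by decide +kernel

theorem m2_1721 : allRange 74003 43 (fun u => chkFix tab mwordsA u) = true := by decide +kernel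

theorem m2_1722 : allRange 74046 43 (fun u => chkFix tab mwordsA u) = true := by decide +kernel

theorem m2_1723 : allRange 74089 43 (fun u => chkFix tab mwordsA u) = true := by decide +kernel

theorem m2_1724 : allRange 74132 43 (fun u => chkFix tab mwordsA u) = true := by decide +kernel

theorem m2_1725 : allRange 74175 43 (fun u => chkFix tab mwordsA u) = true := by decide +kernel

theorem m2_1726 : allRange 74218 43 (fun u => chkFix tab mwordsA u) = true := by decide +kernel


end Cfsg.Agent.Helper9.TCData.X1690
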