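import Cfsg.Agent.Lib.Helper9.TCData.X1690.Main

set_option autoImplicit false
set_option maxRecDepth 1000000

namespace Cfsg.Agent.Helper9.TCData.X1690
open Cfsg.Agent.Helper9.TC2

theorem m2_1727 : allRange 74261 43 (fun u => chkFix tab mwordsA u) = true := by decide +kernel

theorem m2_1728 : allRange 74304 43 (fun u => chkFix tab mwordsA u) = true := by decide +kernel

theorem m2_1729 : allRange 74347 43 (fun u => chkFix tab mwordsA u) = true := by decide +kernel

theorem m2_1730 : allRange 74390 43 (fun u => chkFix tab mwordsA u) = true := by decide +kernel

theorem m2_1731 : allRange 74433 43 (fun u => chkFix tab mwordsA u) = true := by decide +kernel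

theorem m2_1732 : allRange 74476 43 (fun u => chkFix tab mwordsA u) = true := by decide +kernel

theorem m2_1733 : allRange 74519 43 (fun u => chkFix tab mwordsA u) = true := by decide +kernel

theorem m2_1734 : allRange 74562 43 (fun u => chkFix tab mwordsA u) = true := by decide +kernel

theorem m2_1735 : allRange 74605 43 (fun u => chkFix tab mwordsA u) = true := by decide +kernel

theorem m2_1736 : allRange 74648 43 (fun u => chkFix tab mwordsA u) = true := by decide +kernel


end Cfsg.Agent.Helper9.TCData.X1690
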