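import Cfsg.Agent.Lib.Helper9.TCData.X1690.Main

set_option autoImplicit false
set_option maxRecDepth 1000000

namespace Cfsg.Agent.Helper9.TCData.X1690
open Cfsg.Agent.Helper9.TC2

theorem m2_1737 : allRange 74691 43 (fun u => chkFix tab mwordsA u) = true := by decide +kernel

theorem m2_1738 : allRange 74734 43 (fun u => chkFix tab mwordsA u) = true := by decide +kernel

theorem m2_1739 : allRange 74777 43 (fun u => chkFix tab mwordsA u) = true := by decide +kernel

theorem m2_1740 : allRange 74820 43 (fun u => chkFix tab mwordsA u) = true := by decide +kernel

theorem m2_1741 : allRange 74863 43 (fun u => chkFix tab mwordsA u) = true := by decide +kernel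

theorem m2_1742 : allRange 74906 43 (fun u => chkFix tab mwordsA u) = true := by decide +kernel

theorem m2_1743 : allRange 74949 43 (fun u => chkFix tab mwordsA u) = true := by decide +kernel

theorem m2_1744 : allRange 74992 43 (fun u => chkFix tab mwordsA u) = true := by decide +kernel

theorem m2_1745 : allRange 75035 43 (fun u => chkFix tab mwordsA u) = true := by decide +kernel

theorem m2_1746 : allRange 75078 43 (fun u => chkFix tab mwordsA u) = true := by decide +kernel


end Cfsg.Agent.Helper9.TCData.X1690
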