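import Cfsg.Agent.Lib.Helper9.TCData.X1690.Main

set_option autoImplicit false
set_option maxRecDepth 1000000

namespace Cfsg.Agent.Helper9.TCData.X1690
open Cfsg.Agent.Helper9.TC2

theorem m2_1747 : allRange 75121 43 (fun u => chkFix tab mwordsA u) = true := by decide +kernel

theorem m2_1748 : allRange 75164 43 (fun u => chkFix tab mwordsA u) = true := by decide +kernel

theorem m2_1749 : allRange 75207 43 (fun u => chkFix tab mwordsA u) = true := by decide +kernel

theorem m2_1750 : allRange 75250 43 (fun u => chkFix tab mwordsA u) = true := by decide +kernel

theorem m2_1751 : allRange 75293 43 (fun u => chkFix tab mwordsA u) = true := by decide +kernel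

theorem m2_1752 : allRange 75336 43 (fun u => chkFix tab mwordsA u) = true := by decide +kernel

theorem m2_1753 : allRange 75379 43 (fun u => chkFix tab mwordsA u) = true := by decide +kernel

theorem m2_1754 : allRange 75422 43 (fun u => chkFix tab mwordsA u) = true := by decide +kernel

theorem m2_1755 : allRange 75465 43 (fun u => chkFix tab mwordsA u) = true := by decide +kernel

theorem m2_1756 : allRange 75508 43 (fun u => chkFix tab mwordsA u) = true := by decide +kernel


end Cfsg.Agent.Helper9.TCData.X1690
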