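import Cfsg.Agent.Lib.Helper9.TCData.X1690.Main

set_option autoImplicit false
set_option maxRecDepth 1000000

namespace Cfsg.Agent.Helper9.TCData.X1690
open Cfsg.Agent.Helper9.TC2

theorem m2_1757 : allRange 75551 43 (fun u => chkFix tab mwordsA u) = true := by decide +kernel

theorem m2_1758 : allRange 75594 43 (fun u => chkFix tab mwordsA u) = true := by decide +kernel

theorem m2_1759 : allRange 75637 43 (fun u => chkFix tab mwordsA u) = true := by decide +kernel

theorem m2_1760 : allRange 75680 43 (fun u => chkFix tab mwordsA u) = true := by decide +kernel

theorem m2_1761 : allRange 75723 43 (fun u => chkFix tab mwordsA u) = true := by decide +kernel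

theorem m2_1762 : allRange 75766 43 (fun u => chkFix tab mwordsA u) = true := by decide +kernel

theorem m2_1763 : allRange 75809 43 (fun u => chkFix tab mwordsA u) = true := by decide +kernel

theorem m2_1764 : allRange 75852 43 (fun u => chkFix tab mwordsA u) = true := by decide +kernel

theorem m2_1765 : allRange 75895 43 (fun u => chkFix tab mwordsA u) = true := by decide +kernel

theorem m2_1766 : allRange 75938 43 (fun u => chkFix tab mwordsA u) = true := by decide +kernel


end Cfsg.Agent.Helper9.TCData.X1690
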