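import Cfsg.Agent.Lib.Helper9.TCData.X1690.Main

set_option autoImplicit false
set_option maxRecDepth 1000000

namespace Cfsg.Agent.Helper9.TCData.X1690
open Cfsg.Agent.Helper9.TC2

theorem m2_1767 : allRange 75981 43 (fun u => chkFix tab mwordsA u) = true := by decide +kernel

theorem m2_1768 : allRange 76024 43 (fun u => chkFix tab mwordsA u) = true := by decide +kernel

theorem m2_1769 : allRange 76067 43 (fun u => chkFix tab mwordsA u) = true := by decide +kernel

theorem m2_1770 : allRange 76110 43 (fun u => chkFix tab mwordsA u) = true := by decide +kernel

theorem m2_1771 : allRange 76153 43 (fun u => chkFix tab mwordsA u) = true := by decide +kernel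

theorem m2_1772 : allRange 76196 43 (fun u => chkFix tab mwordsA u) = true := by decide +kernel

theorem m2_1773 : allRange 76239 43 (fun u => chkFix tab mwordsA u) = true := by decide +kernel

theorem m2_1774 : allRange 76282 43 (fun u => chkFix tab mwordsA u) = true := by decide +kernel

theorem m2_1775 : allRange 76325 43 (fun u => chkFix tab mwordsA u) = true := by decide +kernel

theorem m2_1776 : allRange 76368 43 (fun u => chkFix tab mwordsA u) = true := by decide +kernel


end Cfsg.Agent.Helper9.TCData.X1690
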