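import Cfsg.Agent.Lib.Helper9.TCData.X1690.Main

set_option autoImplicit false
set_option maxRecDepth 1000000

namespace Cfsg.Agent.Helper9.TCData.X1690
open Cfsg.Agent.Helper9.TC2

theorem m2_1777 : allRange 76411 43 (fun u => chkFix tab mwordsA u) = true := by decide +kernel

theorem m2_1778 : allRange 76454 43 (fun u => chkFix tab mwordsA u) = true := by decide +kernel

theorem m2_1779 : allRange 76497 43 (fun u => chkFix tab mwordsA u) = true := by decide +kernel

theorem m2_1780 : allRange 76540 43 (fun u => chkFix tab mwordsA u) = true := by decide +kernel

theorem m2_1781 : allRange 76583 43 (fun u => chkFix tab mwordsA u) = true := by decide +kernel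

theorem m2_1782 : allRange 76626 43 (fun u => chkFix tab mwordsA u) = true := by decide +kernel

theorem m2_1783 : allRange 76669 43 (fun u => chkFix tab mwordsA u) = true := by decide +kernel

theorem m2_1784 : allRange 76712 43 (fun u => chkFix tab mwordsA u) = true := by decide +kernel

theorem m2_1785 : allRange 76755 43 (fun u => chkFix tab mwordsA u) = true := by decide +kernel

theorem m2_1786 : allRange 76798 43 (fun u => chkFix tab mwordsA u) = true := by decide +kernel


end Cfsg.Agent.Helper9.TCData.X1690
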