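import Cfsg.Agent.Lib.Helper9.TCData.X1690.Main

set_option autoImplicit false
set_option maxRecDepth 1000000

namespace Cfsg.Agent.Helper9.TCData.X1690
open Cfsg.Agent.Helper9.TC2

theorem m2_1787 : allRange 76841 43 (fun u => chkFix tab mwordsA u) = true := by decide +kernel

theorem m2_1788 : allRange 76884 43 (fun u => chkFix tab mwordsA u) = true := by decide +kernel

theorem m2_1789 : allRange 76927 43 (fun u => chkFix tab mwordsA u) = true := by decide +kernel

theorem m2_1790 : allRange 76970 43 (fun u => chkFix tab mwordsA u) = true := by decide +kernel

theorem m2_1791 : allRange 77013 43 (fun u => chkFix tab mwordsA u) = true := by decide +kernel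

theorem m2_1792 : allRange 77056 43 (fun u => chkFix tab mwordsA u) = true := by decide +kernel

theorem m2_1793 : allRange 77099 43 (fun u => chkFix tab mwordsA u) = true := by decide +kernel

theorem m2_1794 : allRange 77142 43 (fun u => chkFix tab mwordsA u) = true := by decide +kernel

theorem m2_1795 : allRange 77185 43 (fun u => chkFix tab mwordsA u) = true := by decide +kernel

theorem m2_1796 : allRange 77228 43 (fun u => chkFix tab mwordsA u) = true := by decide +kernel


end Cfsg.Agent.Helper9.TCData.X1690
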