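import Cfsg.Agent.Lib.Helper9.TCData.X1690.Main

set_option autoImplicit false
set_option maxRecDepth 1000000

namespace Cfsg.Agent.Helper9.TCData.X1690
open Cfsg.Agent.Helper9.TC2

theorem m2_1807 : allRange 77701 43 (fun u => chkFix tab mwordsA u) = true := by decide +kernel

theorem m2_1808 : allRange 77744 43 (fun u => chkFix tab mwordsA u) = true := by decide +kernel

theorem m2_1809 : allRange 77787 43 (fun u => chkFix tab mwordsA u) = true := by decide +kernel

theorem m2_1810 : allRange 77830 43 (fun u => chkFix tab mwordsA u) = true := by decide +kernel

theorem m2_1811 : allRange 77873 43 (fun u => chkFix tab mwordsA u) = true := by decide +kernel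

theorem m2_1812 : allRange 77916 43 (fun u => chkFix tab mwordsA u) = true := by decide +kernel

theorem m2_1813 : allRange 77959 43 (fun u => chkFix tab mwordsA u) = true := by decide +kernel

theorem m2_1814 : allRange 78002 43 (fun u => chkFix tab mwordsA u) = true := by decide +kernel

theorem m2_1815 : allRange 78045 43 (fun u => chkFix tab mwordsA u) = true := by decide +kernel

theorem m2_1816 : allRange 78088 43 (fun u => chkFix tab mwordsA u) = true := by decide +kernel


end Cfsg.Agent.Helper9.TCData.X1690
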