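import Cfsg.Agent.Lib.Helper9.TCData.X1690.Main

set_option autoImplicit false
set_option maxRecDepth 1000000

namespace Cfsg.Agent.Helper9.TCData.X1690
open Cfsg.Agent.Helper9.TC2

theorem e3_142 : allRange 337039 2948 (fun u => chkE tab 3 u) = true := by decide +kernel

theorem e3_143 : allRange 339987 2678 (fun u => chkE tab 3 u) = true := by decide +kernel

theorem e3_144 : allRange 342665 2479 (fun u => chkE tab 3 u) = true := by decide +kernel

theorem e3_145 : allRange 345144 2349 (fun u => chkE tab 3 u) = true := by decide +kernel

theorem e3_146 : allRange 347493 2507 (fun u => chkE tab 3 u) = true := by decide +kernel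

theorem e3_147 : allRange 350000 2251 (fun u => chkE tab 3 u) = true := by decide +kernel

theorem e3_148 : allRange 352251 2049 (fun u => chkE tab 3 u) = true := by decide +kernel

theorem e3_149 : allRange 354300 2638 (fun u => chkE tab 3 u) = true := by decide +kernel

theorem e3_150 : allRange 356938 3132 (fun u => chkE tab 3 u) = true := by decide +kernel

theorem e3_151 : allRange 360070 2906 (fun u => chkE tab 3 u) = true := by decide +kernel


end Cfsg.Agent.Helper9.TCData.X1690
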