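import Cfsg.Agent.Lib.Helper9.TCData.X1690.Main

set_option autoImplicit false
set_option maxRecDepth 1000000

namespace Cfsg.Agent.Helper9.TCData.X1690
open Cfsg.Agent.Helper9.TC2

theorem m2_1817 : allRange 78131 43 (fun u => chkFix tab mwordsA u) = true := by decide +kernel

theorem m2_1818 : allRange 78174 43 (fun u => chkFix tab mwordsA u) = true := by decide +kernel

theorem m2_1819 : allRange 78217 43 (fun u => chkFix tab mwordsA u) = true := by decide +kernel

theorem m2_1820 : allRange 78260 43 (fun u => chkFix tab mwordsA u) = true := by decide +kernel

theorem m2_1821 : allRange 78303 43 (fun u => chkFix tab mwordsA u) = true := by decide +kernel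

theorem m2_1822 : allRange 78346 43 (fun u => chkFix tab mwordsA u) = true := by decide +kernel

theorem m2_1823 : allRange 78389 43 (fun u => chkFix tab mwordsA u) = true := by decide +kernel

theorem m2_1824 : allRange 78432 43 (fun u => chkFix tab mwordsA u) = true := by decide +kernel

theorem m2_1825 : allRange 78475 43 (fun u => chkFix tab mwordsA u) = true := by decide +kernel

theorem m2_1826 : allRange 78518 43 (fun u => chkFix tab mwordsA u) = true := by decide +kernel


end Cfsg.Agent.Helper9.TCData.X1690
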