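import Cfsg.Agent.Lib.Helper9.TCData.X1690.Main

set_option autoImplicit false
set_option maxRecDepth 1000000

namespace Cfsg.Agent.Helper9.TCData.X1690
open Cfsg.Agent.Helper9.TC2

theorem m2_1827 : allRange 78561 43 (fun u => chkFix tab mwordsA u) = true := by decide +kernel

theorem m2_1828 : allRange 78604 43 (fun u => chkFix tab mwordsA u) = true := by decide +kernel

theorem m2_1829 : allRange 78647 43 (fun u => chkFix tab mwordsA u) = true := by decide +kernel

theorem m2_1830 : allRange 78690 43 (fun u => chkFix tab mwordsA u) = true := by decide +kernel

theorem m2_1831 : allRange 78733 43 (fun u => chkFix tab mwordsA u) = true := by decide +kernel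

theorem m2_1832 : allRange 78776 43 (fun u => chkFix tab mwordsA u) = true := by decide +kernel

theorem m2_1833 : allRange 78819 43 (fun u => chkFix tab mwordsA u) = true := by decide +kernel

theorem m2_1834 : allRange 78862 43 (fun u => chkFix tab mwordsA u) = true := by decide +kernel

theorem m2_1835 : allRange 78905 43 (fun u => chkFix tab mwordsA u) = true := by decide +kernel

theorem m2_1836 : allRange 78948 43 (fun u => chkFix tab mwordsA u) = true := by decide +kernel


end Cfsg.Agent.Helper9.TCData.X1690
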