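import Cfsg.Agent.Lib.Helper9.TCData.X1690.Main

set_option autoImplicit false
set_option maxRecDepth 1000000

namespace Cfsg.Agent.Helper9.TCData.X1690
open Cfsg.Agent.Helper9.TC2

theorem m2_1837 : allRange 78991 43 (fun u => chkFix tab mwordsA u) = true := by decide +kernel

theorem m2_1838 : allRange 79034 43 (fun u => chkFix tab mwordsA u) = true := by decide +kernel

theorem m2_1839 : allRange 79077 43 (fun u => chkFix tab mwordsA u) = true := by decide +kernel

theorem m2_1840 : allRange 79120 43 (fun u => chkFix tab mwordsA u) = true := by decide +kernel

theorem m2_1841 : allRange 79163 43 (fun u => chkFix tab mwordsA u) = true := by decide +kernel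

theorem m2_1842 : allRange 79206 43 (fun u => chkFix tab mwordsA u) = true := by decide +kernel

theorem m2_1843 : allRange 79249 43 (fun u => chkFix tab mwordsA u) = true := by decide +kernel

theorem m2_1844 : allRange 79292 43 (fun u => chkFix tab mwordsA u) = true := by decide +kernel

theorem m2_1845 : allRange 79335 43 (fun u => chkFix tab mwordsA u) = true := by decide +kernel

theorem m2_1846 : allRange 79378 43 (fun u => chkFix tab mwordsA u) = true := by decide +kernel


end Cfsg.Agent.Helper9.TCData.X1690
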