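import Cfsg.Agent.Lib.Helper9.TCData.X1690.Main

set_option autoImplicit false
set_option maxRecDepth 1000000

namespace Cfsg.Agent.Helper9.TCData.X1690
open Cfsg.Agent.Helper9.TC2

theorem m2_1857 : allRange 79851 43 (fun u => chkFix tab mwordsA u) = true := by decide +kernel

theorem m2_1858 : allRange 79894 43 (fun u => chkFix tab mwordsA u) = true := by decide +kernel

theorem m2_1859 : allRange 79937 43 (fun u => chkFix tab mwordsA u) = true := by decide +kernel

theorem m2_1860 : allRange 79980 43 (fun u => chkFix tab mwordsA u) = true := by decide +kernel

theorem m2_1861 : allRange 80023 43 (fun u => chkFix tab mwordsA u) = true := by decide +kernel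

theorem m2_1862 : allRange 80066 43 (fun u => chkFix tab mwordsA u) = true := by decide +kernel

theorem m2_1863 : allRange 80109 43 (fun u => chkFix tab mwordsA u) = true := by decide +kernel

theorem m2_1864 : allRange 80152 43 (fun u => chkFix tab mwordsA u) = true := by decide +kernel

theorem m2_1865 : allRange 80195 43 (fun u => chkFix tab mwordsA u) = true := by decide +kernel

theorem m2_1866 : allRange 80238 43 (fun u => chkFix tab mwordsA u) = true := by decide +kernel


end Cfsg.Agent.Helper9.TCData.X1690
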