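import Cfsg.Agent.Lib.Helper9.TCData.X1690.Main

set_option autoImplicit false
set_option maxRecDepth 1000000

namespace Cfsg.Agent.Helper9.TCData.X1690
open Cfsg.Agent.Helper9.TC2

theorem m2_1877 : allRange 80711 43 (fun u => chkFix tab mwordsA u) = true := by decide +kernel

theorem m2_1878 : allRange 80754 43 (fun u => chkFix tab mwordsA u) = true := by decide +kernel

theorem m2_1879 : allRange 80797 43 (fun u => chkFix tab mwordsA u) = true := by decide +kernel

theorem m2_1880 : allRange 80840 43 (fun u => chkFix tab mwordsA u) = true := by decide +kernel

theorem m2_1881 : allRange 80883 43 (fun u => chkFix tab mwordsA u) = true := by decide +kernel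

theorem m2_1882 : allRange 80926 43 (fun u => chkFix tab mwordsA u) = true := by decide +kernel

theorem m2_1883 : allRange 80969 43 (fun u => chkFix tab mwordsA u) = true := by decide +kernel

theorem m2_1884 : allRange 81012 43 (fun u => chkFix tab mwordsA u) = true := by decide +kernel

theorem m2_1885 : allRange 81055 43 (fun u => chkFix tab mwordsA u) = true := by decide +kernel

theorem m2_1886 : allRange 81098 43 (fun u => chkFix tab mwordsA u) = true := by decide +kernel


end Cfsg.Agent.Helper9.TCData.X1690
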