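import Cfsg.Agent.Lib.Helper9.TCData.X1690.Main

set_option autoImplicit false
set_option maxRecDepth 1000000

namespace Cfsg.Agent.Helper9.TCData.X1690
open Cfsg.Agent.Helper9.TC2

theorem m2_1907 : allRange 82001 43 (fun u => chkFix tab mwordsA u) = true := by decide +kernel

theorem m2_1908 : allRange 82044 43 (fun u => chkFix tab mwordsA u) = true := by decide +kernel

theorem m2_1909 : allRange 82087 43 (fun u => chkFix tab mwordsA u) = true := by decide +kernel

theorem m2_1910 : allRange 82130 43 (fun u => chkFix tab mwordsA u) = true := by decide +kernel

theorem m2_1911 : allRange 82173 43 (fun u => chkFix tab mwordsA u) = true := by decide +kernel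

theorem m2_1912 : allRange 82216 43 (fun u => chkFix tab mwordsA u) = true := by decide +kernel

theorem m2_1913 : allRange 82259 43 (fun u => chkFix tab mwordsA u) = true := by decide +kernel

theorem m2_1914 : allRange 82302 43 (fun u => chkFix tab mwordsA u) = true := by decide +kernel

theorem m2_1915 : allRange 82345 43 (fun u => chkFix tab mwordsA u) = true := by decide +kernel

theorem m2_1916 : allRange 82388 43 (fun u => chkFix tab mwordsA u) = true := by decide +kernel


end Cfsg.Agent.Helper9.TCData.X1690
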