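import Cfsg.Agent.Lib.Helper9.TCData.X1690.Main

set_option autoImplicit false
set_option maxRecDepth 1000000

namespace Cfsg.Agent.Helper9.TCData.X1690
open Cfsg.Agent.Helper9.TC2

theorem e3_152 : allRange 362976 2558 (fun u => chkE tab 3 u) = true := by decide +kernel

theorem e3_153 : allRange 365534 2448 (fun u => chkE tab 3 u) = true := by decide +kernel

theorem e3_154 : allRange 367982 2382 (fun u => chkE tab 3 u) = true := by decide +kernel

theorem e3_155 : allRange 370364 2114 (fun u => chkE tab 3 u) = true := by decide +kernel

theorem e3_156 : allRange 372478 3068 (fun u => chkE tab 3 u) = true := by decide +kernel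

theorem e3_157 : allRange 375546 2835 (fun u => chkE tab 3 u) = true := by decide +kernel

theorem e3_158 : allRange 378381 2574 (fun u => chkE tab 3 u) = true := by decide +kernel

theorem e3_159 : allRange 380955 2331 (fun u => chkE tab 3 u) = true := by decide +kernel

theorem e3_160 : allRange 383286 2962 (fun u => chkE tab 3 u) = true := by decide +kernel

theorem e3_161 : allRange 386248 2584 (fun u => chkE tab 3 u) = true := by decide +kernel


end Cfsg.Agent.Helper9.TCData.X1690
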