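import Cfsg.Agent.Lib.Helper9.TCData.X1690.Main

set_option autoImplicit false
set_option maxRecDepth 1000000

namespace Cfsg.Agent.Helper9.TCData.X1690
open Cfsg.Agent.Helper9.TC2

theorem m2_1927 : allRange 82861 43 (fun u => chkFix tab mwordsA u) = true := by decide +kernel

theorem m2_1928 : allRange 82904 43 (fun u => chkFix tab mwordsA u) = true := by decide +kernel

theorem m2_1929 : allRange 82947 43 (fun u => chkFix tab mwordsA u) = true := by decide +kernel

theorem m2_1930 : allRange 82990 43 (fun u => chkFix tab mwordsA u) = true := by decide +kernel

theorem m2_1931 : allRange 83033 43 (fun u => chkFix tab mwordsA u) = true := by decide +kernel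

theorem m2_1932 : allRange 83076 43 (fun u => chkFix tab mwordsA u) = true := by decide +kernel

theorem m2_1933 : allRange 83119 43 (fun u => chkFix tab mwordsA u) = true := by decide +kernel

theorem m2_1934 : allRange 83162 43 (fun u => chkFix tab mwordsA u) = true := by decide +kernel

theorem m2_1935 : allRange 83205 43 (fun u => chkFix tab mwordsA u) = true := by decide +kernel

theorem m2_1936 : allRange 83248 43 (fun u => chkFix tab mwordsA u) = true := by decide +kernel


end Cfsg.Agent.Helper9.TCData.X1690
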