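import Cfsg.Agent.Lib.Helper9.TCData.X1690.Main

set_option autoImplicit false
set_option maxRecDepth 1000000

namespace Cfsg.Agent.Helper9.TCData.X1690
open Cfsg.Agent.Helper9.TC2

theorem m2_1947 : allRange 83721 43 (fun u => chkFix tab mwordsA u) = true := by decide +kernel

theorem m2_1948 : allRange 83764 43 (fun u => chkFix tab mwordsA u) = true := by decide +kernel

theorem m2_1949 : allRange 83807 43 (fun u => chkFix tab mwordsA u) = true := by decide +kernel

theorem m2_1950 : allRange 83850 43 (fun u => chkFix tab mwordsA u) = true := by decide +kernel

theorem m2_1951 : allRange 83893 43 (fun u => chkFix tab mwordsA u) = true := by decide +kernel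

theorem m2_1952 : allRange 83936 43 (fun u => chkFix tab mwordsA u) = true := by decide +kernel

theorem m2_1953 : allRange 83979 43 (fun u => chkFix tab mwordsA u) = true := by decide +kernel

theorem m2_1954 : allRange 84022 43 (fun u => chkFix tab mwordsA u) = true := by decide +kernel

theorem m2_1955 : allRange 84065 43 (fun u => chkFix tab mwordsA u) = true := by decide +kernel

theorem m2_1956 : allRange 84108 43 (fun u => chkFix tab mwordsA u) = true := by decide +kernel


end Cfsg.Agent.Helper9.TCData.X1690
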