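import Cfsg.Agent.Lib.Helper9.TCData.X1690.Main

set_option autoImplicit false
set_option maxRecDepth 1000000

namespace Cfsg.Agent.Helper9.TCData.X1690
open Cfsg.Agent.Helper9.TC2

theorem m2_1967 : allRange 84581 43 (fun u => chkFix tab mwordsA u) = true := by decide +kernel

theorem m2_1968 : allRange 84624 43 (fun u => chkFix tab mwordsA u) = true := by decide +kernel

theorem m2_1969 : allRange 84667 43 (fun u => chkFix tab mwordsA u) = true := by decide +kernel

theorem m2_1970 : allRange 84710 43 (fun u => chkFix tab mwordsA u) = true := by decide +kernel

theorem m2_1971 : allRange 84753 43 (fun u => chkFix tab mwordsA u) = true := by decide +kernel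

theorem m2_1972 : allRange 84796 43 (fun u => chkFix tab mwordsA u) = true := by decide +kernel

theorem m2_1973 : allRange 84839 43 (fun u => chkFix tab mwordsA u) = true := by decide +kernel

theorem m2_1974 : allRange 84882 43 (fun u => chkFix tab mwordsA u) = true := by decide +kernel

theorem m2_1975 : allRange 84925 43 (fun u => chkFix tab mwordsA u) = true := by decide +kernel

theorem m2_1976 : allRange 84968 43 (fun u => chkFix tab mwordsA u) = true := by decide +kernel


end Cfsg.Agent.Helper9.TCData.X1690
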