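import Cfsg.Agent.Lib.Helper9.TCData.X1690.Main

set_option autoImplicit false
set_option maxRecDepth 1000000

namespace Cfsg.Agent.Helper9.TCData.X1690
open Cfsg.Agent.Helper9.TC2

theorem m2_1977 : allRange 85011 43 (fun u => chkFix tab mwordsA u) = true := by decide +kernel

theorem m2_1978 : allRange 85054 43 (fun u => chkFix tab mwordsA u) = true := by decide +kernel

theorem m2_1979 : allRange 85097 43 (fun u => chkFix tab mwordsA u) = true := by decide +kernel

theorem m2_1980 : allRange 85140 43 (fun u => chkFix tab mwordsA u) = true := by decide +kernel

theorem m2_1981 : allRange 85183 43 (fun u => chkFix tab mwordsA u) = true := by decide +kernel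

theorem m2_1982 : allRange 85226 43 (fun u => chkFix tab mwordsA u) = true := by decide +kernel

theorem m2_1983 : allRange 85269 43 (fun u => chkFix tab mwordsA u) = true := by decide +kernel

theorem m2_1984 : allRange 85312 43 (fun u => chkFix tab mwordsA u) = true := by decide +kernel

theorem m2_1985 : allRange 85355 43 (fun u => chkFix tab mwordsA u) = true := by decide +kernel

theorem m2_1986 : allRange 85398 43 (fun u => chkFix tab mwordsA u) = true := by decide +kernel


end Cfsg.Agent.Helper9.TCData.X1690
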