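import Cfsg.Agent.Lib.Helper9.TCData.X1690.Main

set_option autoImplicit false
set_option maxRecDepth 1000000

namespace Cfsg.Agent.Helper9.TCData.X1690
open Cfsg.Agent.Helper9.TC2

theorem m2_1987 : allRange 85441 43 (fun u => chkFix tab mwordsA u) = true := by decide +kernel

theorem m2_1988 : allRange 85484 43 (fun u => chkFix tab mwordsA u) = true := by decide +kernel

theorem m2_1989 : allRange 85527 43 (fun u => chkFix tab mwordsA u) = true := by decide +kernel

theorem m2_1990 : allRange 85570 43 (fun u => chkFix tab mwordsA u) = true := by decide +kernel

theorem m2_1991 : allRange 85613 43 (fun u => chkFix tab mwordsA u) = true := by decide +kernel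

theorem m2_1992 : allRange 85656 43 (fun u => chkFix tab mwordsA u) = true := by decide +kernel

theorem m2_1993 : allRange 85699 43 (fun u => chkFix tab mwordsA u) = true := by decide +kernel

theorem m2_1994 : allRange 85742 43 (fun u => chkFix tab mwordsA u) = true := by decide +kernel

theorem m2_1995 : allRange 85785 43 (fun u => chkFix tab mwordsA u) = true := by decide +kernel

theorem m2_1996 : allRange 85828 43 (fun u => chkFix tab mwordsA u) = true := by decide +kernel


end Cfsg.Agent.Helper9.TCData.X1690
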