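import Cfsg.Agent.Lib.Helper9.TCData.X1690.Main

set_option autoImplicit false
set_option maxRecDepth 1000000

namespace Cfsg.Agent.Helper9.TCData.X1690
open Cfsg.Agent.Helper9.TC2

theorem m2_1997 : allRange 85871 43 (fun u => chkFix tab mwordsA u) = true := by decide +kernel

theorem m2_1998 : allRange 85914 43 (fun u => chkFix tab mwordsA u) = true := by decide +kernel

theorem m2_1999 : allRange 85957 43 (fun u => chkFix tab mwordsA u) = true := by decide +kernel

theorem m2_2000 : allRange 86000 43 (fun u => chkFix tab mwordsA u) = true := by decide +kernel

theorem m2_2001 : allRange 86043 43 (fun u => chkFix tab mwordsA u) = true := by decide +kernel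

theorem m2_2002 : allRange 86086 43 (fun u => chkFix tab mwordsA u) = true := by decide +kernel

theorem m2_2003 : allRange 86129 43 (fun u => chkFix tab mwordsA u) = true := by decide +kernel

theorem m2_2004 : allRange 86172 43 (fun u => chkFix tab mwordsA u) = true := by decide +kernel

theorem m2_2005 : allRange 86215 43 (fun u => chkFix tab mwordsA u) = true := by decide +kernel

theorem m2_2006 : allRange 86258 43 (fun u => chkFix tab mwordsA u) = true := by decide +kernel


end Cfsg.Agent.Helper9.TCData.X1690
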