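import Cfsg.Agent.Lib.Helper9.TCData.X1690.Main

set_option autoImplicit false
set_option maxRecDepth 1000000

namespace Cfsg.Agent.Helper9.TCData.X1690
open Cfsg.Agent.Helper9.TC2

theorem m2_2007 : allRange 86301 43 (fun u => chkFix tab mwordsA u) = true := by decide +kernel

theorem m2_2008 : allRange 86344 43 (fun u => chkFix tab mwordsA u) = true := by decide +kernel

theorem m2_2009 : allRange 86387 43 (fun u => chkFix tab mwordsA u) = true := by decide +kernel

theorem m2_2010 : allRange 86430 43 (fun u => chkFix tab mwordsA u) = true := by decide +kernel

theorem m2_2011 : allRange 86473 43 (fun u => chkFix tab mwordsA u) = true := by decide +kernel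

theorem m2_2012 : allRange 86516 43 (fun u => chkFix tab mwordsA u) = true := by decide +kernel

theorem m2_2013 : allRange 86559 43 (fun u => chkFix tab mwordsA u) = true := by decide +kernel

theorem m2_2014 : allRange 86602 43 (fun u => chkFix tab mwordsA u) = true := by decide +kernel

theorem m2_2015 : allRange 86645 43 (fun u => chkFix tab mwordsA u) = true := by decide +kernel

theorem m2_2016 : allRange 86688 43 (fun u => chkFix tab mwordsA u) = true := by decide +kernel


end Cfsg.Agent.Helper9.TCData.X1690
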