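import Cfsg.Agent.Lib.Helper9.TCData.X1690.Main

set_option autoImplicit false
set_option maxRecDepth 1000000

namespace Cfsg.Agent.Helper9.TCData.X1690
open Cfsg.Agent.Helper9.TC2

theorem e3_162 : allRange 388832 2623 (fun u => chkE tab 3 u) = true := by decide +kernel

theorem e3_163 : allRange 391455 2681 (fun u => chkE tab 3 u) = true := by decide +kernel

theorem e3_164 : allRange 394136 318 (fun u => chkE tab 3 u) = true := by decide +kernel

theorem e4_0 : allRange 0 2024 (fun u => chkE tab 4 u) = true := by decide +kernel

theorem e4_1 : allRange 2024 2080 (fun u => chkE tab 4 u) = true := by decide +kernel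

theorem e4_2 : allRange 4104 2063 (fun u => chkE tab 4 u) = true := by decide +kernel

theorem e4_3 : allRange 6167 2059 (fun u => chkE tab 4 u) = true := by decide +kernel

theorem e4_4 : allRange 8226 2560 (fun u => chkE tab 4 u) = true := by decide +kernel

theorem e4_5 : allRange 10786 2313 (fun u => chkE tab 4 u) = true := by decide +kernel

theorem e4_6 : allRange 13099 2106 (fun u => chkE tab 4 u) = true := by decide +kernel


end Cfsg.Agent.Helper9.TCData.X1690
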