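import Cfsg.Agent.Lib.Helper9.TCData.X1690.Main

set_option autoImplicit false
set_option maxRecDepth 1000000

namespace Cfsg.Agent.Helper9.TCData.X1690
open Cfsg.Agent.Helper9.TC2

theorem m2_2027 : allRange 87161 43 (fun u => chkFix tab mwordsA u) = true := by decide +kernel

theorem m2_2028 : allRange 87204 43 (fun u => chkFix tab mwordsA u) = true := by decide +kernel

theorem m2_2029 : allRange 87247 43 (fun u => chkFix tab mwordsA u) = true := by decide +kernel

theorem m2_2030 : allRange 87290 43 (fun u => chkFix tab mwordsA u) = true := by decide +kernel

theorem m2_2031 : allRange 87333 43 (fun u => chkFix tab mwordsA u) = true := by decide +kernel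

theorem m2_2032 : allRange 87376 43 (fun u => chkFix tab mwordsA u) = true := by decide +kernel

theorem m2_2033 : allRange 87419 43 (fun u => chkFix tab mwordsA u) = true := by decide +kernel

theorem m2_2034 : allRange 87462 43 (fun u => chkFix tab mwordsA u) = true := by decide +kernel

theorem m2_2035 : allRange 87505 43 (fun u => chkFix tab mwordsA u) = true := by decide +kernel

theorem m2_2036 : allRange 87548 43 (fun u => chkFix tab mwordsA u) = true := by decide +kernel


end Cfsg.Agent.Helper9.TCData.X1690
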