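import Cfsg.Agent.Lib.Helper9.TCData.X1690.Main

set_option autoImplicit false
set_option maxRecDepth 1000000

namespace Cfsg.Agent.Helper9.TCData.X1690
open Cfsg.Agent.Helper9.TC2

theorem m2_2047 : allRange 88021 43 (fun u => chkFix tab mwordsA u) = true := by decide +kernel

theorem m2_2048 : allRange 88064 43 (fun u => chkFix tab mwordsA u) = true := by decide +kernel

theorem m2_2049 : allRange 88107 43 (fun u => chkFix tab mwordsA u) = true := by decide +kernel

theorem m2_2050 : allRange 88150 43 (fun u => chkFix tab mwordsA u) = true := by decide +kernel

theorem m2_2051 : allRange 88193 43 (fun u => chkFix tab mwordsA u) = true := by decide +kernel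

theorem m2_2052 : allRange 88236 43 (fun u => chkFix tab mwordsA u) = true := by decide +kernel

theorem m2_2053 : allRange 88279 43 (fun u => chkFix tab mwordsA u) = true := by decide +kernel

theorem m2_2054 : allRange 88322 43 (fun u => chkFix tab mwordsA u) = true := by decide +kernel

theorem m2_2055 : allRange 88365 43 (fun u => chkFix tab mwordsA u) = true := by decide +kernel

theorem m2_2056 : allRange 88408 43 (fun u => chkFix tab mwordsA u) = true := by decide +kernel


end Cfsg.Agent.Helper9.TCData.X1690
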