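import Cfsg.Agent.Lib.Helper9.TCData.X1690.Main

set_option autoImplicit false
set_option maxRecDepth 1000000

namespace Cfsg.Agent.Helper9.TCData.X1690
open Cfsg.Agent.Helper9.TC2

theorem m2_2057 : allRange 88451 43 (fun u => chkFix tab mwordsA u) = true := by decide +kernel

theorem m2_2058 : allRange 88494 43 (fun u => chkFix tab mwordsA u) = true := by decide +kernel

theorem m2_2059 : allRange 88537 43 (fun u => chkFix tab mwordsA u) = true := by decide +kernel

theorem m2_2060 : allRange 88580 43 (fun u => chkFix tab mwordsA u) = true := by decide +kernel

theorem m2_2061 : allRange 88623 43 (fun u => chkFix tab mwordsA u) = true := by decide +kernel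

theorem m2_2062 : allRange 88666 43 (fun u => chkFix tab mwordsA u) = true := by decide +kernel

theorem m2_2063 : allRange 88709 43 (fun u => chkFix tab mwordsA u) = true := by decide +kernel

theorem m2_2064 : allRange 88752 43 (fun u => chkFix tab mwordsA u) = true := by decide +kernel

theorem m2_2065 : allRange 88795 43 (fun u => chkFix tab mwordsA u) = true := by decide +kernel

theorem m2_2066 : allRange 88838 43 (fun u => chkFix tab mwordsA u) = true := by decide +kernel


end Cfsg.Agent.Helper9.TCData.X1690
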