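import Cfsg.Agent.Lib.Helper9.TCData.X1690.Main

set_option autoImplicit false
set_option maxRecDepth 1000000

namespace Cfsg.Agent.Helper9.TCData.X1690
open Cfsg.Agent.Helper9.TC2

theorem m2_2067 : allRange 88881 43 (fun u => chkFix tab mwordsA u) = true := by decide +kernel

theorem m2_2068 : allRange 88924 43 (fun u => chkFix tab mwordsA u) = true := by decide +kernel

theorem m2_2069 : allRange 88967 43 (fun u => chkFix tab mwordsA u) = true := by decide +kernel

theorem m2_2070 : allRange 89010 43 (fun u => chkFix tab mwordsA u) = true := by decide +kernel

theorem m2_2071 : allRange 89053 43 (fun u => chkFix tab mwordsA u) = true := by decide +kernel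

theorem m2_2072 : allRange 89096 43 (fun u => chkFix tab mwordsA u) = true := by decide +kernel

theorem m2_2073 : allRange 89139 43 (fun u => chkFix tab mwordsA u) = true := by decide +kernel

theorem m2_2074 : allRange 89182 43 (fun u => chkFix tab mwordsA u) = true := by decide +kernel

theorem m2_2075 : allRange 89225 43 (fun u => chkFix tab mwordsA u) = true := by decide +kernel

theorem m2_2076 : allRange 89268 43 (fun u => chkFix tab mwordsA u) = true := by decide +kernel


end Cfsg.Agent.Helper9.TCData.X1690
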