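import Cfsg.Agent.Lib.Helper9.TCData.X1690.Main

set_option autoImplicit false
set_option maxRecDepth 1000000

namespace Cfsg.Agent.Helper9.TCData.X1690
open Cfsg.Agent.Helper9.TC2

theorem m2_2077 : allRange 89311 43 (fun u => chkFix tab mwordsA u) = true := by decide +kernel

theorem m2_2078 : allRange 89354 43 (fun u => chkFix tab mwordsA u) = true := by decide +kernel

theorem m2_2079 : allRange 89397 43 (fun u => chkFix tab mwordsA u) = true := by decide +kernel

theorem m2_2080 : allRange 89440 43 (fun u => chkFix tab mwordsA u) = true := by decide +kernel

theorem m2_2081 : allRange 89483 43 (fun u => chkFix tab mwordsA u) = true := by decide +kernel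

theorem m2_2082 : allRange 89526 43 (fun u => chkFix tab mwordsA u) = true := by decide +kernel

theorem m2_2083 : allRange 89569 43 (fun u => chkFix tab mwordsA u) = true := by decide +kernel

theorem m2_2084 : allRange 89612 43 (fun u => chkFix tab mwordsA u) = true := by decide +kernel

theorem m2_2085 : allRange 89655 43 (fun u => chkFix tab mwordsA u) = true := by decide +kernel

theorem m2_2086 : allRange 89698 43 (fun u => chkFix tab mwordsA u) = true := by decide +kernel


end Cfsg.Agent.Helper9.TCData.X1690
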