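import Cfsg.Agent.Lib.Helper9.TCData.X1690.Main

set_option autoImplicit false
set_option maxRecDepth 1000000

namespace Cfsg.Agent.Helper9.TCData.X1690
open Cfsg.Agent.Helper9.TC2

theorem m2_2087 : allRange 89741 43 (fun u => chkFix tab mwordsA u) = true := by decide +kernel

theorem m2_2088 : allRange 89784 43 (fun u => chkFix tab mwordsA u) = true := by decide +kernel

theorem m2_2089 : allRange 89827 43 (fun u => chkFix tab mwordsA u) = true := by decide +kernel

theorem m2_2090 : allRange 89870 43 (fun u => chkFix tab mwordsA u) = true := by decide +kernel

theorem m2_2091 : allRange 89913 43 (fun u => chkFix tab mwordsA u) = true := by decide +kernel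

theorem m2_2092 : allRange 89956 43 (fun u => chkFix tab mwordsA u) = true := by decide +kernel

theorem m2_2093 : allRange 89999 43 (fun u => chkFix tab mwordsA u) = true := by decide +kernel

theorem m2_2094 : allRange 90042 43 (fun u => chkFix tab mwordsA u) = true := by decide +kernel

theorem m2_2095 : allRange 90085 43 (fun u => chkFix tab mwordsA u) = true := by decide +kernel

theorem m2_2096 : allRange 90128 43 (fun u => chkFix tab mwordsA u) = true := by decide +kernel


end Cfsg.Agent.Helper9.TCData.X1690
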