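import Cfsg.Agent.Lib.Helper9.TCData.X1690.Main

set_option autoImplicit false
set_option maxRecDepth 1000000

namespace Cfsg.Agent.Helper9.TCData.X1690
open Cfsg.Agent.Helper9.TC2

theorem m2_2097 : allRange 90171 43 (fun u => chkFix tab mwordsA u) = true := by decide +kernel

theorem m2_2098 : allRange 90214 43 (fun u => chkFix tab mwordsA u) = true := by decide +kernel

theorem m2_2099 : allRange 90257 43 (fun u => chkFix tab mwordsA u) = true := by decide +kernel

theorem m2_2100 : allRange 90300 43 (fun u => chkFix tab mwordsA u) = true := by decide +kernel

theorem m2_2101 : allRange 90343 43 (fun u => chkFix tab mwordsA u) = true := by decide +kernel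

theorem m2_2102 : allRange 90386 43 (fun u => chkFix tab mwordsA u) = true := by decide +kernel

theorem m2_2103 : allRange 90429 43 (fun u => chkFix tab mwordsA u) = true := by decide +kernel

theorem m2_2104 : allRange 90472 43 (fun u => chkFix tab mwordsA u) = true := by decide +kernel

theorem m2_2105 : allRange 90515 43 (fun u => chkFix tab mwordsA u) = true := by decide +kernel

theorem m2_2106 : allRange 90558 43 (fun u => chkFix tab mwordsA u) = true := by decide +kernel


end Cfsg.Agent.Helper9.TCData.X1690
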