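import Cfsg.Agent.Lib.Helper9.TCData.X1690.Main

set_option autoImplicit false
set_option maxRecDepth 1000000

namespace Cfsg.Agent.Helper9.TCData.X1690
open Cfsg.Agent.Helper9.TC2

theorem m2_2107 : allRange 90601 43 (fun u => chkFix tab mwordsA u) = true := by decide +kernel

theorem m2_2108 : allRange 90644 43 (fun u => chkFix tab mwordsA u) = true := by decide +kernel

theorem m2_2109 : allRange 90687 43 (fun u => chkFix tab mwordsA u) = true := by decide +kernel

theorem m2_2110 : allRange 90730 43 (fun u => chkFix tab mwordsA u) = true := by decide +kernel

theorem m2_2111 : allRange 90773 43 (fun u => chkFix tab mwordsA u) = true := by decide +kernel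

theorem m2_2112 : allRange 90816 43 (fun u => chkFix tab mwordsA u) = true := by decide +kernel

theorem m2_2113 : allRange 90859 43 (fun u => chkFix tab mwordsA u) = true := by decide +kernel

theorem m2_2114 : allRange 90902 43 (fun u => chkFix tab mwordsA u) = true := by decide +kernel

theorem m2_2115 : allRange 90945 43 (fun u => chkFix tab mwordsA u) = true := by decide +kernel

theorem m2_2116 : allRange 90988 43 (fun u => chkFix tab mwordsA u) = true := by decide +kernel


end Cfsg.Agent.Helper9.TCData.X1690
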