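import Cfsg.Agent.Lib.Helper9.TCData.X1690.Main

set_option autoImplicit false
set_option maxRecDepth 1000000

namespace Cfsg.Agent.Helper9.TCData.X1690
open Cfsg.Agent.Helper9.TC2

theorem e4_7 : allRange 15205 2074 (fun u => chkE tab 4 u) = true := by decide +kernel

theorem e4_8 : allRange 17279 2136 (fun u => chkE tab 4 u) = true := by decide +kernel

theorem e4_9 : allRange 19415 2124 (fun u => chkE tab 4 u) = true := by decide +kernel

theorem e4_10 : allRange 21539 2050 (fun u => chkE tab 4 u) = true := by decide +kernel

theorem e4_11 : allRange 23589 2152 (fun u => chkE tab 4 u) = true := by decide +kernel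

theorem e4_12 : allRange 25741 2127 (fun u => chkE tab 4 u) = true := by decide +kernel

theorem e4_13 : allRange 27868 2114 (fun u => chkE tab 4 u) = true := by decide +kernel

theorem e4_14 : allRange 29982 2082 (fun u => chkE tab 4 u) = true := by decide +kernel

theorem e4_15 : allRange 32064 2157 (fun u => chkE tab 4 u) = true := by decide +kernel

theorem e4_16 : allRange 34221 2107 (fun u => chkE tab 4 u) = true := by decide +kernel


end Cfsg.Agent.Helper9.TCData.X1690
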