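import Cfsg.Agent.Lib.Helper9.TCData.X1690.Main

set_option autoImplicit false
set_option maxRecDepth 1000000

namespace Cfsg.Agent.Helper9.TCData.X1690
open Cfsg.Agent.Helper9.TC2

theorem m2_2127 : allRange 91461 43 (fun u => chkFix tab mwordsA u) = true := by decide +kernel

theorem m2_2128 : allRange 91504 43 (fun u => chkFix tab mwordsA u) = true := by decide +kernel

theorem m2_2129 : allRange 91547 43 (fun u => chkFix tab mwordsA u) = true := by decide +kernel

theorem m2_2130 : allRange 91590 43 (fun u => chkFix tab mwordsA u) = true := by decide +kernel

theorem m2_2131 : allRange 91633 43 (fun u => chkFix tab mwordsA u) = true := by decide +kernel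

theorem m2_2132 : allRange 91676 43 (fun u => chkFix tab mwordsA u) = true := by decide +kernel

theorem m2_2133 : allRange 91719 43 (fun u => chkFix tab mwordsA u) = true := by decide +kernel

theorem m2_2134 : allRange 91762 43 (fun u => chkFix tab mwordsA u) = true := by decide +kernel

theorem m2_2135 : allRange 91805 43 (fun u => chkFix tab mwordsA u) = true := by decide +kernel

theorem m2_2136 : allRange 91848 43 (fun u => chkFix tab mwordsA u) = true := by decide +kernel


end Cfsg.Agent.Helper9.TCData.X1690
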