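import Cfsg.Agent.Lib.Helper9.TCData.X1690.Main

set_option autoImplicit false
set_option maxRecDepth 1000000

namespace Cfsg.Agent.Helper9.TCData.X1690
open Cfsg.Agent.Helper9.TC2

theorem m2_2137 : allRange 91891 43 (fun u => chkFix tab mwordsA u) = true := by decide +kernel

theorem m2_2138 : allRange 91934 43 (fun u => chkFix tab mwordsA u) = true := by decide +kernel

theorem m2_2139 : allRange 91977 43 (fun u => chkFix tab mwordsA u) = true := by decide +kernel

theorem m2_2140 : allRange 92020 43 (fun u => chkFix tab mwordsA u) = true := by decide +kernel

theorem m2_2141 : allRange 92063 43 (fun u => chkFix tab mwordsA u) = true := by decide +kernel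

theorem m2_2142 : allRange 92106 43 (fun u => chkFix tab mwordsA u) = true := by decide +kernel

theorem m2_2143 : allRange 92149 43 (fun u => chkFix tab mwordsA u) = true := by decide +kernel

theorem m2_2144 : allRange 92192 43 (fun u => chkFix tab mwordsA u) = true := by decide +kernel

theorem m2_2145 : allRange 92235 43 (fun u => chkFix tab mwordsA u) = true := by decide +kernel

theorem m2_2146 : allRange 92278 43 (fun u => chkFix tab mwordsA u) = true := by decide +kernel


end Cfsg.Agent.Helper9.TCData.X1690
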