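import Cfsg.Agent.Lib.Helper9.TCData.X1690.Main

set_option autoImplicit false
set_option maxRecDepth 1000000

namespace Cfsg.Agent.Helper9.TCData.X1690
open Cfsg.Agent.Helper9.TC2

theorem m2_2147 : allRange 92321 43 (fun u => chkFix tab mwordsA u) = true := by decide +kernel

theorem m2_2148 : allRange 92364 43 (fun u => chkFix tab mwordsA u) = true := by decide +kernel

theorem m2_2149 : allRange 92407 43 (fun u => chkFix tab mwordsA u) = true := by decide +kernel

theorem m2_2150 : allRange 92450 43 (fun u => chkFix tab mwordsA u) = true := by decide +kernel

theorem m2_2151 : allRange 92493 43 (fun u => chkFix tab mwordsA u) = true := by decide +kernel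

theorem m2_2152 : allRange 92536 43 (fun u => chkFix tab mwordsA u) = true := by decide +kernel

theorem m2_2153 : allRange 92579 43 (fun u => chkFix tab mwordsA u) = true := by decide +kernel

theorem m2_2154 : allRange 92622 43 (fun u => chkFix tab mwordsA u) = true := by decide +kernel

theorem m2_2155 : allRange 92665 43 (fun u => chkFix tab mwordsA u) = true := by decide +kernel

theorem m2_2156 : allRange 92708 43 (fun u => chkFix tab mwordsA u) = true := by decide +kernel


end Cfsg.Agent.Helper9.TCData.X1690
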