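import Cfsg.Agent.Lib.Helper9.TCData.X1690.Main

set_option autoImplicit false
set_option maxRecDepth 1000000

namespace Cfsg.Agent.Helper9.TCData.X1690
open Cfsg.Agent.Helper9.TC2

theorem m2_2167 : allRange 93181 43 (fun u => chkFix tab mwordsA u) = true := by decide +kernel

theorem m2_2168 : allRange 93224 43 (fun u => chkFix tab mwordsA u) = true := by decide +kernel

theorem m2_2169 : allRange 93267 43 (fun u => chkFix tab mwordsA u) = true := by decide +kernel

theorem m2_2170 : allRange 93310 43 (fun u => chkFix tab mwordsA u) = true := by decide +kernel

theorem m2_2171 : allRange 93353 43 (fun u => chkFix tab mwordsA u) = true := by decide +kernel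

theorem m2_2172 : allRange 93396 43 (fun u => chkFix tab mwordsA u) = true := by decide +kernel

theorem m2_2173 : allRange 93439 43 (fun u => chkFix tab mwordsA u) = true := by decide +kernel

theorem m2_2174 : allRange 93482 43 (fun u => chkFix tab mwordsA u) = true := by decide +kernel

theorem m2_2175 : allRange 93525 43 (fun u => chkFix tab mwordsA u) = true := by decide +kernel

theorem m2_2176 : allRange 93568 43 (fun u => chkFix tab mwordsA u) = true := by decide +kernel


end Cfsg.Agent.Helper9.TCData.X1690
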