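import Cfsg.Agent.Lib.Helper9.TCData.X1690.Main

set_option autoImplicit false
set_option maxRecDepth 1000000

namespace Cfsg.Agent.Helper9.TCData.X1690
open Cfsg.Agent.Helper9.TC2

theorem m2_2177 : allRange 93611 43 (fun u => chkFix tab mwordsA u) = true := by decide +kernel

theorem m2_2178 : allRange 93654 43 (fun u => chkFix tab mwordsA u) = true := by decide +kernel

theorem m2_2179 : allRange 93697 43 (fun u => chkFix tab mwordsA u) = true := by decide +kernel

theorem m2_2180 : allRange 93740 43 (fun u => chkFix tab mwordsA u) = true := by decide +kernel

theorem m2_2181 : allRange 93783 43 (fun u => chkFix tab mwordsA u) = true := by decide +kernel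

theorem m2_2182 : allRange 93826 43 (fun u => chkFix tab mwordsA u) = true := by decide +kernel

theorem m2_2183 : allRange 93869 43 (fun u => chkFix tab mwordsA u) = true := by decide +kernel

theorem m2_2184 : allRange 93912 43 (fun u => chkFix tab mwordsA u) = true := by decide +kernel

theorem m2_2185 : allRange 93955 43 (fun u => chkFix tab mwordsA u) = true := by decide +kernel

theorem m2_2186 : allRange 93998 43 (fun u => chkFix tab mwordsA u) = true := by decide +kernel


end Cfsg.Agent.Helper9.TCData.X1690
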