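import Cfsg.Agent.Lib.Helper9.TCData.X1690.Main

set_option autoImplicit false
set_option maxRecDepth 1000000

namespace Cfsg.Agent.Helper9.TCData.X1690
open Cfsg.Agent.Helper9.TC2

theorem m2_2187 : allRange 94041 43 (fun u => chkFix tab mwordsA u) = true := by decide +kernel

theorem m2_2188 : allRange 94084 43 (fun u => chkFix tab mwordsA u) = true := by decide +kernel

theorem m2_2189 : allRange 94127 43 (fun u => chkFix tab mwordsA u) = true := by decide +kernel

theorem m2_2190 : allRange 94170 43 (fun u => chkFix tab mwordsA u) = true := by decide +kernel

theorem m2_2191 : allRange 94213 43 (fun u => chkFix tab mwordsA u) = true := by decide +kernel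

theorem m2_2192 : allRange 94256 43 (fun u => chkFix tab mwordsA u) = true := by decide +kernel

theorem m2_2193 : allRange 94299 43 (fun u => chkFix tab mwordsA u) = true := by decide +kernel

theorem m2_2194 : allRange 94342 43 (fun u => chkFix tab mwordsA u) = true := by decide +kernel

theorem m2_2195 : allRange 94385 43 (fun u => chkFix tab mwordsA u) = true := by decide +kernel

theorem m2_2196 : allRange 94428 43 (fun u => chkFix tab mwordsA u) = true := by decide +kernel


end Cfsg.Agent.Helper9.TCData.X1690
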