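import Cfsg.Agent.Lib.Helper9.TCData.X1690.Main

set_option autoImplicit false
set_option maxRecDepth 1000000

namespace Cfsg.Agent.Helper9.TCData.X1690
open Cfsg.Agent.Helper9.TC2

theorem m2_2197 : allRange 94471 43 (fun u => chkFix tab mwordsA u) = true := by decide +kernel

theorem m2_2198 : allRange 94514 43 (fun u => chkFix tab mwordsA u) = true := by decide +kernel

theorem m2_2199 : allRange 94557 43 (fun u => chkFix tab mwordsA u) = true := by decide +kernel

theorem m2_2200 : allRange 94600 43 (fun u => chkFix tab mwordsA u) = true := by decide +kernel

theorem m2_2201 : allRange 94643 43 (fun u => chkFix tab mwordsA u) = true := by decide +kernel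

theorem m2_2202 : allRange 94686 43 (fun u => chkFix tab mwordsA u) = true := by decide +kernel

theorem m2_2203 : allRange 94729 43 (fun u => chkFix tab mwordsA u) = true := by decide +kernel

theorem m2_2204 : allRange 94772 43 (fun u => chkFix tab mwordsA u) = true := by decide +kernel

theorem m2_2205 : allRange 94815 43 (fun u => chkFix tab mwordsA u) = true := by decide +kernel

theorem m2_2206 : allRange 94858 43 (fun u => chkFix tab mwordsA u) = true := by decide +kernel


end Cfsg.Agent.Helper9.TCData.X1690
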