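import Cfsg.Agent.Lib.Helper9.TCData.X1690.Main

set_option autoImplicit false
set_option maxRecDepth 1000000

namespace Cfsg.Agent.Helper9.TCData.X1690
open Cfsg.Agent.Helper9.TC2

theorem m2_2207 : allRange 94901 43 (fun u => chkFix tab mwordsA u) = true := by decide +kernel

theorem m2_2208 : allRange 94944 43 (fun u => chkFix tab mwordsA u) = true := by decide +kernel

theorem m2_2209 : allRange 94987 43 (fun u => chkFix tab mwordsA u) = true := by decide +kernel

theorem m2_2210 : allRange 95030 43 (fun u => chkFix tab mwordsA u) = true := by decide +kernel

theorem m2_2211 : allRange 95073 43 (fun u => chkFix tab mwordsA u) = true := by decide +kernel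

theorem m2_2212 : allRange 95116 43 (fun u => chkFix tab mwordsA u) = true := by decide +kernel

theorem m2_2213 : allRange 95159 43 (fun u => chkFix tab mwordsA u) = true := by decide +kernel

theorem m2_2214 : allRange 95202 43 (fun u => chkFix tab mwordsA u) = true := by decide +kernel

theorem m2_2215 : allRange 95245 43 (fun u => chkFix tab mwordsA u) = true := by decide +kernel

theorem m2_2216 : allRange 95288 43 (fun u => chkFix tab mwordsA u) = true := by decide +kernel


end Cfsg.Agent.Helper9.TCData.X1690
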