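import Cfsg.Agent.Lib.Helper9.TCData.X1690.Main

set_option autoImplicit false
set_option maxRecDepth 1000000

namespace Cfsg.Agent.Helper9.TCData.X1690
open Cfsg.Agent.Helper9.TC2

theorem e4_17 : allRange 36328 2135 (fun u => chkE tab 4 u) = true := by decide +kernel

theorem e4_18 : allRange 38463 2081 (fun u => chkE tab 4 u) = true := by decide +kernel

theorem e4_19 : allRange 40544 2112 (fun u => chkE tab 4 u) = true := by decide +kernel

theorem e4_20 : allRange 42656 2099 (fun u => chkE tab 4 u) = true := by decide +kernel

theorem e4_21 : allRange 44755 2207 (fun u => chkE tab 4 u) = true := by decide +kernel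

theorem e4_22 : allRange 46962 2199 (fun u => chkE tab 4 u) = true := by decide +kernel

theorem e4_23 : allRange 49161 2164 (fun u => chkE tab 4 u) = true := by decide +kernel

theorem e4_24 : allRange 51325 2091 (fun u => chkE tab 4 u) = true := by decide +kernel

theorem e4_25 : allRange 53416 2072 (fun u => chkE tab 4 u) = true := by decide +kernel

theorem e4_26 : allRange 55488 2112 (fun u => chkE tab 4 u) = true := by decide +kernel


end Cfsg.Agent.Helper9.TCData.X1690
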