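import Cfsg.Agent.Lib.Helper9.TCData.X1690.Main

set_option autoImplicit false
set_option maxRecDepth 1000000

namespace Cfsg.Agent.Helper9.TCData.X1690
open Cfsg.Agent.Helper9.TC2

theorem m2_2217 : allRange 95331 43 (fun u => chkFix tab mwordsA u) = true := by decide +kernel

theorem m2_2218 : allRange 95374 43 (fun u => chkFix tab mwordsA u) = true := by decide +kernel

theorem m2_2219 : allRange 95417 43 (fun u => chkFix tab mwordsA u) = true := by decide +kernel

theorem m2_2220 : allRange 95460 43 (fun u => chkFix tab mwordsA u) = true := by decide +kernel

theorem m2_2221 : allRange 95503 43 (fun u => chkFix tab mwordsA u) = true := by decide +kernel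

theorem m2_2222 : allRange 95546 43 (fun u => chkFix tab mwordsA u) = true := by decide +kernel

theorem m2_2223 : allRange 95589 43 (fun u => chkFix tab mwordsA u) = true := by decide +kernel

theorem m2_2224 : allRange 95632 43 (fun u => chkFix tab mwordsA u) = true := by decide +kernel

theorem m2_2225 : allRange 95675 43 (fun u => chkFix tab mwordsA u) = true := by decide +kernel

theorem m2_2226 : allRange 95718 43 (fun u => chkFix tab mwordsA u) = true := by decide +kernel


end Cfsg.Agent.Helper9.TCData.X1690
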