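import Cfsg.Agent.Lib.Helper9.TCData.X1690.Main

set_option autoImplicit false
set_option maxRecDepth 1000000

namespace Cfsg.Agent.Helper9.TCData.X1690
open Cfsg.Agent.Helper9.TC2

theorem m2_2227 : allRange 95761 43 (fun u => chkFix tab mwordsA u) = true := by decide +kernel

theorem m2_2228 : allRange 95804 43 (fun u => chkFix tab mwordsA u) = true := by decide +kernel

theorem m2_2229 : allRange 95847 43 (fun u => chkFix tab mwordsA u) = true := by decide +kernel

theorem m2_2230 : allRange 95890 43 (fun u => chkFix tab mwordsA u) = true := by decide +kernel

theorem m2_2231 : allRange 95933 43 (fun u => chkFix tab mwordsA u) = true := by decide +kernel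

theorem m2_2232 : allRange 95976 43 (fun u => chkFix tab mwordsA u) = true := by decide +kernel

theorem m2_2233 : allRange 96019 43 (fun u => chkFix tab mwordsA u) = true := by decide +kernel

theorem m2_2234 : allRange 96062 43 (fun u => chkFix tab mwordsA u) = true := by decide +kernel

theorem m2_2235 : allRange 96105 43 (fun u => chkFix tab mwordsA u) = true := by decide +kernel

theorem m2_2236 : allRange 96148 43 (fun u => chkFix tab mwordsA u) = true := by decide +kernel


end Cfsg.Agent.Helper9.TCData.X1690
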