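import Cfsg.Agent.Lib.Helper9.TCData.X1690.Main

set_option autoImplicit false
set_option maxRecDepth 1000000

namespace Cfsg.Agent.Helper9.TCData.X1690
open Cfsg.Agent.Helper9.TC2

theorem m2_2237 : allRange 96191 43 (fun u => chkFix tab mwordsA u) = true := by decide +kernel

theorem m2_2238 : allRange 96234 43 (fun u => chkFix tab mwordsA u) = true := by decide +kernel

theorem m2_2239 : allRange 96277 43 (fun u => chkFix tab mwordsA u) = true := by decide +kernel

theorem m2_2240 : allRange 96320 43 (fun u => chkFix tab mwordsA u) = true := by decide +kernel

theorem m2_2241 : allRange 96363 43 (fun u => chkFix tab mwordsA u) = true := by decide +kernel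

theorem m2_2242 : allRange 96406 43 (fun u => chkFix tab mwordsA u) = true := by decide +kernel

theorem m2_2243 : allRange 96449 43 (fun u => chkFix tab mwordsA u) = true := by decide +kernel

theorem m2_2244 : allRange 96492 43 (fun u => chkFix tab mwordsA u) = true := by decide +kernel

theorem m2_2245 : allRange 96535 43 (fun u => chkFix tab mwordsA u) = true := by decide +kernel

theorem m2_2246 : allRange 96578 43 (fun u => chkFix tab mwordsA u) = true := by decide +kernel


end Cfsg.Agent.Helper9.TCData.X1690
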