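import Cfsg.Agent.Lib.Helper9.TCData.X1690.Main

set_option autoImplicit false
set_option maxRecDepth 1000000

namespace Cfsg.Agent.Helper9.TCData.X1690
open Cfsg.Agent.Helper9.TC2

theorem m2_2247 : allRange 96621 43 (fun u => chkFix tab mwordsA u) = true := by decide +kernel

theorem m2_2248 : allRange 96664 43 (fun u => chkFix tab mwordsA u) = true := by decide +kernel

theorem m2_2249 : allRange 96707 43 (fun u => chkFix tab mwordsA u) = true := by decide +kernel

theorem m2_2250 : allRange 96750 43 (fun u => chkFix tab mwordsA u) = true := by decide +kernel

theorem m2_2251 : allRange 96793 43 (fun u => chkFix tab mwordsA u) = true := by decide +kernel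

theorem m2_2252 : allRange 96836 43 (fun u => chkFix tab mwordsA u) = true := by decide +kernel

theorem m2_2253 : allRange 96879 43 (fun u => chkFix tab mwordsA u) = true := by decide +kernel

theorem m2_2254 : allRange 96922 43 (fun u => chkFix tab mwordsA u) = true := by decide +kernel

theorem m2_2255 : allRange 96965 43 (fun u => chkFix tab mwordsA u) = true := by decide +kernel

theorem m2_2256 : allRange 97008 43 (fun u => chkFix tab mwordsA u) = true := by decide +kernel


end Cfsg.Agent.Helper9.TCData.X1690
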