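import Cfsg.Agent.Lib.Helper9.TCData.X1690.Main

set_option autoImplicit false
set_option maxRecDepth 1000000

namespace Cfsg.Agent.Helper9.TCData.X1690
open Cfsg.Agent.Helper9.TC2

theorem m2_2257 : allRange 97051 43 (fun u => chkFix tab mwordsA u) = true := by decide +kernel

theorem m2_2258 : allRange 97094 43 (fun u => chkFix tab mwordsA u) = true := by decide +kernel

theorem m2_2259 : allRange 97137 43 (fun u => chkFix tab mwordsA u) = true := by decide +kernel

theorem m2_2260 : allRange 97180 43 (fun u => chkFix tab mwordsA u) = true := by decide +kernel

theorem m2_2261 : allRange 97223 43 (fun u => chkFix tab mwordsA u) = true := by decide +kernel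

theorem m2_2262 : allRange 97266 43 (fun u => chkFix tab mwordsA u) = true := by decide +kernel

theorem m2_2263 : allRange 97309 43 (fun u => chkFix tab mwordsA u) = true := by decide +kernel

theorem m2_2264 : allRange 97352 43 (fun u => chkFix tab mwordsA u) = true := by decide +kernel

theorem m2_2265 : allRange 97395 43 (fun u => chkFix tab mwordsA u) = true := by decide +kernel

theorem m2_2266 : allRange 97438 43 (fun u => chkFix tab mwordsA u) = true := by decide +kernel


end Cfsg.Agent.Helper9.TCData.X1690
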