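import Cfsg.Agent.Lib.Helper9.TCData.X1690.Main

set_option autoImplicit false
set_option maxRecDepth 1000000

namespace Cfsg.Agent.Helper9.TCData.X1690
open Cfsg.Agent.Helper9.TC2

theorem m2_2267 : allRange 97481 43 (fun u => chkFix tab mwordsA u) = true := by decide +kernel

theorem m2_2268 : allRange 97524 43 (fun u => chkFix tab mwordsA u) = true := by decide +kernel

theorem m2_2269 : allRange 97567 43 (fun u => chkFix tab mwordsA u) = true := by decide +kernel

theorem m2_2270 : allRange 97610 43 (fun u => chkFix tab mwordsA u) = true := by decide +kernel

theorem m2_2271 : allRange 97653 43 (fun u => chkFix tab mwordsA u) = true := by decide +kernel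

theorem m2_2272 : allRange 97696 43 (fun u => chkFix tab mwordsA u) = true := by decide +kernel

theorem m2_2273 : allRange 97739 43 (fun u => chkFix tab mwordsA u) = true := by decide +kernel

theorem m2_2274 : allRange 97782 43 (fun u => chkFix tab mwordsA u) = true := by decide +kernel

theorem m2_2275 : allRange 97825 43 (fun u => chkFix tab mwordsA u) = true := by decide +kernel

theorem m2_2276 : allRange 97868 43 (fun u => chkFix tab mwordsA u) = true := by decide +kernel


end Cfsg.Agent.Helper9.TCData.X1690
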