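import Cfsg.Agent.Lib.Helper9.TCData.X1690.Main

set_option autoImplicit false
set_option maxRecDepth 1000000

namespace Cfsg.Agent.Helper9.TCData.X1690
open Cfsg.Agent.Helper9.TC2

theorem m2_2287 : allRange 98341 43 (fun u => chkFix tab mwordsA u) = true := by decide +kernel

theorem m2_2288 : allRange 98384 43 (fun u => chkFix tab mwordsA u) = true := by decide +kernel

theorem m2_2289 : allRange 98427 43 (fun u => chkFix tab mwordsA u) = true := by decide +kernel

theorem m2_2290 : allRange 98470 43 (fun u => chkFix tab mwordsA u) = true := by decide +kernel

theorem m2_2291 : allRange 98513 43 (fun u => chkFix tab mwordsA u) = true := by decide +kernel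

theorem m2_2292 : allRange 98556 43 (fun u => chkFix tab mwordsA u) = true := by decide +kernel

theorem m2_2293 : allRange 98599 43 (fun u => chkFix tab mwordsA u) = true := by decide +kernel

theorem m2_2294 : allRange 98642 43 (fun u => chkFix tab mwordsA u) = true := by decide +kernel

theorem m2_2295 : allRange 98685 43 (fun u => chkFix tab mwordsA u) = true := by decide +kernel

theorem m2_2296 : allRange 98728 43 (fun u => chkFix tab mwordsA u) = true := by decide +kernel


end Cfsg.Agent.Helper9.TCData.X1690
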