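import Cfsg.Agent.Lib.Helper9.TCData.X1690.Main

set_option autoImplicit false
set_option maxRecDepth 1000000

namespace Cfsg.Agent.Helper9.TCData.X1690
open Cfsg.Agent.Helper9.TC2

theorem m2_2297 : allRange 98771 43 (fun u => chkFix tab mwordsA u) = true := by decide +kernel

theorem m2_2298 : allRange 98814 43 (fun u => chkFix tab mwordsA u) = true := by decide +kernel

theorem m2_2299 : allRange 98857 43 (fun u => chkFix tab mwordsA u) = true := by decide +kernel

theorem m2_2300 : allRange 98900 43 (fun u => chkFix tab mwordsA u) = true := by decide +kernel

theorem m2_2301 : allRange 98943 43 (fun u => chkFix tab mwordsA u) = true := by decide +kernel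

theorem m2_2302 : allRange 98986 43 (fun u => chkFix tab mwordsA u) = true := by decide +kernel

theorem m2_2303 : allRange 99029 43 (fun u => chkFix tab mwordsA u) = true := by decide +kernel

theorem m2_2304 : allRange 99072 43 (fun u => chkFix tab mwordsA u) = true := by decide +kernel

theorem m2_2305 : allRange 99115 43 (fun u => chkFix tab mwordsA u) = true := by decide +kernel

theorem m2_2306 : allRange 99158 43 (fun u => chkFix tab mwordsA u) = true := by decide +kernel


end Cfsg.Agent.Helper9.TCData.X1690
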