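import Cfsg.Agent.Lib.Helper9.TCData.X1690.Main

set_option autoImplicit false
set_option maxRecDepth 1000000

namespace Cfsg.Agent.Helper9.TCData.X1690
open Cfsg.Agent.Helper9.TC2

theorem m2_2307 : allRange 99201 43 (fun u => chkFix tab mwordsA u) = true := by decide +kernel

theorem m2_2308 : allRange 99244 43 (fun u => chkFix tab mwordsA u) = true := by decide +kernel

theorem m2_2309 : allRange 99287 43 (fun u => chkFix tab mwordsA u) = true := by decide +kernel

theorem m2_2310 : allRange 99330 43 (fun u => chkFix tab mwordsA u) = true := by decide +kernel

theorem m2_2311 : allRange 99373 43 (fun u => chkFix tab mwordsA u) = true := by decide +kernel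

theorem m2_2312 : allRange 99416 43 (fun u => chkFix tab mwordsA u) = true := by decide +kernel

theorem m2_2313 : allRange 99459 43 (fun u => chkFix tab mwordsA u) = true := by decide +kernel

theorem m2_2314 : allRange 99502 43 (fun u => chkFix tab mwordsA u) = true := by decide +kernel

theorem m2_2315 : allRange 99545 43 (fun u => chkFix tab mwordsA u) = true := by decide +kernel

theorem m2_2316 : allRange 99588 43 (fun u => chkFix tab mwordsA u) = true := by decide +kernel


end Cfsg.Agent.Helper9.TCData.X1690
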