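import Cfsg.Agent.Lib.Helper9.TCData.X1690.Main

set_option autoImplicit false
set_option maxRecDepth 1000000

namespace Cfsg.Agent.Helper9.TCData.X1690
open Cfsg.Agent.Helper9.TC2

theorem e0_70 : allRange 157168 2163 (fun u => chkE tab 0 u) = true := by decide +kernel

theorem e0_71 : allRange 159331 2646 (fun u => chkE tab 0 u) = true := by decide +kernel

theorem e0_72 : allRange 161977 5653 (fun u => chkE tab 0 u) = true := by decide +kernel

theorem e0_73 : allRange 167630 1631 (fun u => chkE tab 0 u) = true := by decide +kernel

theorem e0_74 : allRange 169261 1640 (fun u => chkE tab 0 u) = true := by decide +kernel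

theorem e0_75 : allRange 170901 1692 (fun u => chkE tab 0 u) = true := by decide +kernel

theorem e0_76 : allRange 172593 1622 (fun u => chkE tab 0 u) = true := by decide +kernel

theorem e0_77 : allRange 174215 1629 (fun u => chkE tab 0 u) = true := by decide +kernel

theorem e0_78 : allRange 175844 1523 (fun u => chkE tab 0 u) = true := by decide +kernel

theorem e0_79 : allRange 177367 4180 (fun u => chkE tab 0 u) = true := by decide +kernel


end Cfsg.Agent.Helper9.TCData.X1690
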