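import Cfsg.Agent.Lib.Helper9.TCData.X1690.Main

set_option autoImplicit false
set_option maxRecDepth 1000000

namespace Cfsg.Agent.Helper9.TCData.X1690
open Cfsg.Agent.Helper9.TC2

theorem e4_27 : allRange 57600 2142 (fun u => chkE tab 4 u) = true := by decide +kernel

theorem e4_28 : allRange 59742 2201 (fun u => chkE tab 4 u) = true := by decide +kernel

theorem e4_29 : allRange 61943 2252 (fun u => chkE tab 4 u) = true := by decide +kernel

theorem e4_30 : allRange 64195 2185 (fun u => chkE tab 4 u) = true := by decide +kernel

theorem e4_31 : allRange 66380 2190 (fun u => chkE tab 4 u) = true := by decide +kernel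

theorem e4_32 : allRange 68570 2152 (fun u => chkE tab 4 u) = true := by decide +kernel

theorem e4_33 : allRange 70722 2082 (fun u => chkE tab 4 u) = true := by decide +kernel

theorem e4_34 : allRange 72804 2041 (fun u => chkE tab 4 u) = true := by decide +kernel

theorem e4_35 : allRange 74845 2067 (fun u => chkE tab 4 u) = true := by decide +kernel

theorem e4_36 : allRange 76912 2158 (fun u => chkE tab 4 u) = true := by decide +kernel


end Cfsg.Agent.Helper9.TCData.X1690
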