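import Cfsg.Agent.Lib.Helper9.TCData.X1690.Main

set_option autoImplicit false
set_option maxRecDepth 1000000

namespace Cfsg.Agent.Helper9.TCData.X1690
open Cfsg.Agent.Helper9.TC2

theorem m2_2317 : allRange 99631 43 (fun u => chkFix tab mwordsA u) = true := by decide +kernel

theorem m2_2318 : allRange 99674 43 (fun u => chkFix tab mwordsA u) = true := by decide +kernel

theorem m2_2319 : allRange 99717 43 (fun u => chkFix tab mwordsA u) = true := by decide +kernel

theorem m2_2320 : allRange 99760 43 (fun u => chkFix tab mwordsA u) = true := by decide +kernel

theorem m2_2321 : allRange 99803 43 (fun u => chkFix tab mwordsA u) = true := by decide +kernel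

theorem m2_2322 : allRange 99846 43 (fun u => chkFix tab mwordsA u) = true := by decide +kernel

theorem m2_2323 : allRange 99889 43 (fun u => chkFix tab mwordsA u) = true := by decide +kernel

theorem m2_2324 : allRange 99932 43 (fun u => chkFix tab mwordsA u) = true := by decide +kernel

theorem m2_2325 : allRange 99975 43 (fun u => chkFix tab mwordsA u) = true := by decide +kernel

theorem m2_2326 : allRange 100018 43 (fun u => chkFix tab mwordsA u) = true := by decide +kernel


end Cfsg.Agent.Helper9.TCData.X1690
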