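import Cfsg.Agent.Lib.Helper9.TCData.X1690.Main

set_option autoImplicit false
set_option maxRecDepth 1000000

namespace Cfsg.Agent.Helper9.TCData.X1690
open Cfsg.Agent.Helper9.TC2

theorem m2_2337 : allRange 100491 43 (fun u => chkFix tab mwordsA u) = true := by decide +kernel

theorem m2_2338 : allRange 100534 43 (fun u => chkFix tab mwordsA u) = true := by decide +kernel

theorem m2_2339 : allRange 100577 43 (fun u => chkFix tab mwordsA u) = true := by decide +kernel

theorem m2_2340 : allRange 100620 43 (fun u => chkFix tab mwordsA u) = true := by decide +kernel

theorem m2_2341 : allRange 100663 43 (fun u => chkFix tab mwordsA u) = true := by decide +kernel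

theorem m2_2342 : allRange 100706 43 (fun u => chkFix tab mwordsA u) = true := by decide +kernel

theorem m2_2343 : allRange 100749 43 (fun u => chkFix tab mwordsA u) = true := by decide +kernel

theorem m2_2344 : allRange 100792 43 (fun u => chkFix tab mwordsA u) = true := by decide +kernel

theorem m2_2345 : allRange 100835 43 (fun u => chkFix tab mwordsA u) = true := by decide +kernel

theorem m2_2346 : allRange 100878 43 (fun u => chkFix tab mwordsA u) = true := by decide +kernel


end Cfsg.Agent.Helper9.TCData.X1690
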