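import Cfsg.Agent.Lib.Helper9.TCData.X1690.Main

set_option autoImplicit false
set_option maxRecDepth 1000000

namespace Cfsg.Agent.Helper9.TCData.X1690
open Cfsg.Agent.Helper9.TC2

theorem m2_2347 : allRange 100921 43 (fun u => chkFix tab mwordsA u) = true := by decide +kernel

theorem m2_2348 : allRange 100964 43 (fun u => chkFix tab mwordsA u) = true := by decide +kernel

theorem m2_2349 : allRange 101007 43 (fun u => chkFix tab mwordsA u) = true := by decide +kernel

theorem m2_2350 : allRange 101050 43 (fun u => chkFix tab mwordsA u) = true := by decide +kernel

theorem m2_2351 : allRange 101093 43 (fun u => chkFix tab mwordsA u) = true := by decide +kernel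

theorem m2_2352 : allRange 101136 43 (fun u => chkFix tab mwordsA u) = true := by decide +kernel

theorem m2_2353 : allRange 101179 43 (fun u => chkFix tab mwordsA u) = true := by decide +kernel

theorem m2_2354 : allRange 101222 43 (fun u => chkFix tab mwordsA u) = true := by decide +kernel

theorem m2_2355 : allRange 101265 43 (fun u => chkFix tab mwordsA u) = true := by decide +kernel

theorem m2_2356 : allRange 101308 43 (fun u => chkFix tab mwordsA u) = true := by decide +kernel


end Cfsg.Agent.Helper9.TCData.X1690
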