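import Cfsg.Agent.Lib.Helper9.TCData.X1690.Main

set_option autoImplicit false
set_option maxRecDepth 1000000

namespace Cfsg.Agent.Helper9.TCData.X1690
open Cfsg.Agent.Helper9.TC2

theorem m2_2357 : allRange 101351 43 (fun u => chkFix tab mwordsA u) = true := by decide +kernel

theorem m2_2358 : allRange 101394 43 (fun u => chkFix tab mwordsA u) = true := by decide +kernel

theorem m2_2359 : allRange 101437 43 (fun u => chkFix tab mwordsA u) = true := by decide +kernel

theorem m2_2360 : allRange 101480 43 (fun u => chkFix tab mwordsA u) = true := by decide +kernel

theorem m2_2361 : allRange 101523 43 (fun u => chkFix tab mwordsA u) = true := by decide +kernel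

theorem m2_2362 : allRange 101566 43 (fun u => chkFix tab mwordsA u) = true := by decide +kernel

theorem m2_2363 : allRange 101609 43 (fun u => chkFix tab mwordsA u) = true := by decide +kernel

theorem m2_2364 : allRange 101652 43 (fun u => chkFix tab mwordsA u) = true := by decide +kernel

theorem m2_2365 : allRange 101695 43 (fun u => chkFix tab mwordsA u) = true := by decide +kernel

theorem m2_2366 : allRange 101738 43 (fun u => chkFix tab mwordsA u) = true := by decide +kernel


end Cfsg.Agent.Helper9.TCData.X1690
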