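import Cfsg.Agent.Lib.Helper9.TCData.X1690.Main

set_option autoImplicit false
set_option maxRecDepth 1000000

namespace Cfsg.Agent.Helper9.TCData.X1690
open Cfsg.Agent.Helper9.TC2

theorem m2_2367 : allRange 101781 43 (fun u => chkFix tab mwordsA u) = true := by decide +kernel

theorem m2_2368 : allRange 101824 43 (fun u => chkFix tab mwordsA u) = true := by decide +kernel

theorem m2_2369 : allRange 101867 43 (fun u => chkFix tab mwordsA u) = true := by decide +kernel

theorem m2_2370 : allRange 101910 43 (fun u => chkFix tab mwordsA u) = true := by decide +kernel

theorem m2_2371 : allRange 101953 43 (fun u => chkFix tab mwordsA u) = true := by decide +kernel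

theorem m2_2372 : allRange 101996 43 (fun u => chkFix tab mwordsA u) = true := by decide +kernel

theorem m2_2373 : allRange 102039 43 (fun u => chkFix tab mwordsA u) = true := by decide +kernel

theorem m2_2374 : allRange 102082 43 (fun u => chkFix tab mwordsA u) = true := by decide +kernel

theorem m2_2375 : allRange 102125 43 (fun u => chkFix tab mwordsA u) = true := by decide +kernel

theorem m2_2376 : allRange 102168 43 (fun u => chkFix tab mwordsA u) = true := by decide +kernel


end Cfsg.Agent.Helper9.TCData.X1690
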