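import Cfsg.Agent.Lib.Helper9.TCData.X1690.Main

set_option autoImplicit false
set_option maxRecDepth 1000000

namespace Cfsg.Agent.Helper9.TCData.X1690
open Cfsg.Agent.Helper9.TC2

theorem m2_2387 : allRange 102641 43 (fun u => chkFix tab mwordsA u) = true := by decide +kernel

theorem m2_2388 : allRange 102684 43 (fun u => chkFix tab mwordsA u) = true := by decide +kernel

theorem m2_2389 : allRange 102727 43 (fun u => chkFix tab mwordsA u) = true := by decide +kernel

theorem m2_2390 : allRange 102770 43 (fun u => chkFix tab mwordsA u) = true := by decide +kernel

theorem m2_2391 : allRange 102813 43 (fun u => chkFix tab mwordsA u) = true := by decide +kernel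

theorem m2_2392 : allRange 102856 43 (fun u => chkFix tab mwordsA u) = true := by decide +kernel

theorem m2_2393 : allRange 102899 43 (fun u => chkFix tab mwordsA u) = true := by decide +kernel

theorem m2_2394 : allRange 102942 43 (fun u => chkFix tab mwordsA u) = true := by decide +kernel

theorem m2_2395 : allRange 102985 43 (fun u => chkFix tab mwordsA u) = true := by decide +kernel

theorem m2_2396 : allRange 103028 43 (fun u => chkFix tab mwordsA u) = true := by decide +kernel


end Cfsg.Agent.Helper9.TCData.X1690
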