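import Cfsg.Agent.Lib.Helper9.TCData.X1690.Main

set_option autoImplicit false
set_option maxRecDepth 1000000

namespace Cfsg.Agent.Helper9.TCData.X1690
open Cfsg.Agent.Helper9.TC2

theorem e4_37 : allRange 79070 2169 (fun u => chkE tab 4 u) = true := by decide +kernel

theorem e4_38 : allRange 81239 2140 (fun u => chkE tab 4 u) = true := by decide +kernel

theorem e4_39 : allRange 83379 2274 (fun u => chkE tab 4 u) = true := by decide +kernel

theorem e4_40 : allRange 85653 2342 (fun u => chkE tab 4 u) = true := by decide +kernel

theorem e4_41 : allRange 87995 2120 (fun u => chkE tab 4 u) = true := by decide +kernel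

theorem e4_42 : allRange 90115 2229 (fun u => chkE tab 4 u) = true := by decide +kernel

theorem e4_43 : allRange 92344 2223 (fun u => chkE tab 4 u) = true := by decide +kernel

theorem e4_44 : allRange 94567 2237 (fun u => chkE tab 4 u) = true := by decide +kernel

theorem e4_45 : allRange 96804 2096 (fun u => chkE tab 4 u) = true := by decide +kernel

theorem e4_46 : allRange 98900 2079 (fun u => chkE tab 4 u) = true := by decide +kernel


end Cfsg.Agent.Helper9.TCData.X1690
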