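import Cfsg.Agent.Lib.Helper9.TCData.X1690.Main

set_option autoImplicit false
set_option maxRecDepth 1000000

namespace Cfsg.Agent.Helper9.TCData.X1690
open Cfsg.Agent.Helper9.TC2

theorem m2_2417 : allRange 103931 43 (fun u => chkFix tab mwordsA u) = true := by decide +kernel

theorem m2_2418 : allRange 103974 43 (fun u => chkFix tab mwordsA u) = true := by decide +kernel

theorem m2_2419 : allRange 104017 43 (fun u => chkFix tab mwordsA u) = true := by decide +kernel

theorem m2_2420 : allRange 104060 43 (fun u => chkFix tab mwordsA u) = true := by decide +kernel

theorem m2_2421 : allRange 104103 43 (fun u => chkFix tab mwordsA u) = true := by decide +kernel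

theorem m2_2422 : allRange 104146 43 (fun u => chkFix tab mwordsA u) = true := by decide +kernel

theorem m2_2423 : allRange 104189 43 (fun u => chkFix tab mwordsA u) = true := by decide +kernel

theorem m2_2424 : allRange 104232 43 (fun u => chkFix tab mwordsA u) = true := by decide +kernel

theorem m2_2425 : allRange 104275 43 (fun u => chkFix tab mwordsA u) = true := by decide +kernel

theorem m2_2426 : allRange 104318 43 (fun u => chkFix tab mwordsA u) = true := by decide +kernel


end Cfsg.Agent.Helper9.TCData.X1690
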