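import Cfsg.Agent.Lib.Helper9.TCData.X1690.Main

set_option autoImplicit false
set_option maxRecDepth 1000000

namespace Cfsg.Agent.Helper9.TCData.X1690
open Cfsg.Agent.Helper9.TC2

theorem m2_2437 : allRange 104791 43 (fun u => chkFix tab mwordsA u) = true := by decide +kernel

theorem m2_2438 : allRange 104834 43 (fun u => chkFix tab mwordsA u) = true := by decide +kernel

theorem m2_2439 : allRange 104877 43 (fun u => chkFix tab mwordsA u) = true := by decide +kernel

theorem m2_2440 : allRange 104920 43 (fun u => chkFix tab mwordsA u) = true := by decide +kernel

theorem m2_2441 : allRange 104963 43 (fun u => chkFix tab mwordsA u) = true := by decide +kernel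

theorem m2_2442 : allRange 105006 43 (fun u => chkFix tab mwordsA u) = true := by decide +kernel

theorem m2_2443 : allRange 105049 43 (fun u => chkFix tab mwordsA u) = true := by decide +kernel

theorem m2_2444 : allRange 105092 43 (fun u => chkFix tab mwordsA u) = true := by decide +kernel

theorem m2_2445 : allRange 105135 43 (fun u => chkFix tab mwordsA u) = true := by decide +kernel

theorem m2_2446 : allRange 105178 43 (fun u => chkFix tab mwordsA u) = true := by decide +kernel


end Cfsg.Agent.Helper9.TCData.X1690
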