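import Cfsg.Agent.Lib.Helper9.TCData.X1690.Main

set_option autoImplicit false
set_option maxRecDepth 1000000

namespace Cfsg.Agent.Helper9.TCData.X1690
open Cfsg.Agent.Helper9.TC2

theorem m2_2447 : allRange 105221 43 (fun u => chkFix tab mwordsA u) = true := by decide +kernel

theorem m2_2448 : allRange 105264 43 (fun u => chkFix tab mwordsA u) = true := by decide +kernel

theorem m2_2449 : allRange 105307 43 (fun u => chkFix tab mwordsA u) = true := by decide +kernel

theorem m2_2450 : allRange 105350 43 (fun u => chkFix tab mwordsA u) = true := by decide +kernel

theorem m2_2451 : allRange 105393 43 (fun u => chkFix tab mwordsA u) = true := by decide +kernel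

theorem m2_2452 : allRange 105436 43 (fun u => chkFix tab mwordsA u) = true := by decide +kernel

theorem m2_2453 : allRange 105479 43 (fun u => chkFix tab mwordsA u) = true := by decide +kernel

theorem m2_2454 : allRange 105522 43 (fun u => chkFix tab mwordsA u) = true := by decide +kernel

theorem m2_2455 : allRange 105565 43 (fun u => chkFix tab mwordsA u) = true := by decide +kernel

theorem m2_2456 : allRange 105608 43 (fun u => chkFix tab mwordsA u) = true := by decide +kernel


end Cfsg.Agent.Helper9.TCData.X1690
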