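import Cfsg.Agent.Lib.Helper9.TCData.X1690.Main

set_option autoImplicit false
set_option maxRecDepth 1000000

namespace Cfsg.Agent.Helper9.TCData.X1690
open Cfsg.Agent.Helper9.TC2

theorem m2_2457 : allRange 105651 43 (fun u => chkFix tab mwordsA u) = true := by decide +kernel

theorem m2_2458 : allRange 105694 43 (fun u => chkFix tab mwordsA u) = true := by decide +kernel

theorem m2_2459 : allRange 105737 43 (fun u => chkFix tab mwordsA u) = true := by decide +kernel

theorem m2_2460 : allRange 105780 43 (fun u => chkFix tab mwordsA u) = true := by decide +kernel

theorem m2_2461 : allRange 105823 43 (fun u => chkFix tab mwordsA u) = true := by decide +kernel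

theorem m2_2462 : allRange 105866 43 (fun u => chkFix tab mwordsA u) = true := by decide +kernel

theorem m2_2463 : allRange 105909 43 (fun u => chkFix tab mwordsA u) = true := by decide +kernel

theorem m2_2464 : allRange 105952 43 (fun u => chkFix tab mwordsA u) = true := by decide +kernel

theorem m2_2465 : allRange 105995 43 (fun u => chkFix tab mwordsA u) = true := by decide +kernel

theorem m2_2466 : allRange 106038 43 (fun u => chkFix tab mwordsA u) = true := by decide +kernel


end Cfsg.Agent.Helper9.TCData.X1690
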