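import Cfsg.Agent.Lib.Helper9.TCData.X1690.Main

set_option autoImplicit false
set_option maxRecDepth 1000000

namespace Cfsg.Agent.Helper9.TCData.X1690
open Cfsg.Agent.Helper9.TC2

theorem m2_2467 : allRange 106081 43 (fun u => chkFix tab mwordsA u) = true := by decide +kernel

theorem m2_2468 : allRange 106124 43 (fun u => chkFix tab mwordsA u) = true := by decide +kernel

theorem m2_2469 : allRange 106167 43 (fun u => chkFix tab mwordsA u) = true := by decide +kernel

theorem m2_2470 : allRange 106210 43 (fun u => chkFix tab mwordsA u) = true := by decide +kernel

theorem m2_2471 : allRange 106253 43 (fun u => chkFix tab mwordsA u) = true := by decide +kernel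

theorem m2_2472 : allRange 106296 43 (fun u => chkFix tab mwordsA u) = true := by decide +kernel

theorem m2_2473 : allRange 106339 43 (fun u => chkFix tab mwordsA u) = true := by decide +kernel

theorem m2_2474 : allRange 106382 43 (fun u => chkFix tab mwordsA u) = true := by decide +kernel

theorem m2_2475 : allRange 106425 43 (fun u => chkFix tab mwordsA u) = true := by decide +kernel

theorem m2_2476 : allRange 106468 43 (fun u => chkFix tab mwordsA u) = true := by decide +kernel


end Cfsg.Agent.Helper9.TCData.X1690
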