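import Cfsg.Agent.Lib.Helper9.TCData.X1690.Main

set_option autoImplicit false
set_option maxRecDepth 1000000

namespace Cfsg.Agent.Helper9.TCData.X1690
open Cfsg.Agent.Helper9.TC2

theorem m2_2477 : allRange 106511 43 (fun u => chkFix tab mwordsA u) = true := by decide +kernel

theorem m2_2478 : allRange 106554 43 (fun u => chkFix tab mwordsA u) = true := by decide +kernel

theorem m2_2479 : allRange 106597 43 (fun u => chkFix tab mwordsA u) = true := by decide +kernel

theorem m2_2480 : allRange 106640 43 (fun u => chkFix tab mwordsA u) = true := by decide +kernel

theorem m2_2481 : allRange 106683 43 (fun u => chkFix tab mwordsA u) = true := by decide +kernel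

theorem m2_2482 : allRange 106726 43 (fun u => chkFix tab mwordsA u) = true := by decide +kernel

theorem m2_2483 : allRange 106769 43 (fun u => chkFix tab mwordsA u) = true := by decide +kernel

theorem m2_2484 : allRange 106812 43 (fun u => chkFix tab mwordsA u) = true := by decide +kernel

theorem m2_2485 : allRange 106855 43 (fun u => chkFix tab mwordsA u) = true := by decide +kernel

theorem m2_2486 : allRange 106898 43 (fun u => chkFix tab mwordsA u) = true := by decide +kernel


end Cfsg.Agent.Helper9.TCData.X1690
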