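import Cfsg.Agent.Lib.Helper9.TCData.X1690.Main

set_option autoImplicit false
set_option maxRecDepth 1000000

namespace Cfsg.Agent.Helper9.TCData.X1690
open Cfsg.Agent.Helper9.TC2

theorem m2_2487 : allRange 106941 43 (fun u => chkFix tab mwordsA u) = true := by decide +kernel

theorem m2_2488 : allRange 106984 43 (fun u => chkFix tab mwordsA u) = true := by decide +kernel

theorem m2_2489 : allRange 107027 43 (fun u => chkFix tab mwordsA u) = true := by decide +kernel

theorem m2_2490 : allRange 107070 43 (fun u => chkFix tab mwordsA u) = true := by decide +kernel

theorem m2_2491 : allRange 107113 43 (fun u => chkFix tab mwordsA u) = true := by decide +kernel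

theorem m2_2492 : allRange 107156 43 (fun u => chkFix tab mwordsA u) = true := by decide +kernel

theorem m2_2493 : allRange 107199 43 (fun u => chkFix tab mwordsA u) = true := by decide +kernel

theorem m2_2494 : allRange 107242 43 (fun u => chkFix tab mwordsA u) = true := by decide +kernel

theorem m2_2495 : allRange 107285 43 (fun u => chkFix tab mwordsA u) = true := by decide +kernel

theorem m2_2496 : allRange 107328 43 (fun u => chkFix tab mwordsA u) = true := by decide +kernel


end Cfsg.Agent.Helper9.TCData.X1690
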