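import Cfsg.Agent.Lib.Helper9.TCData.X1690.Main

set_option autoImplicit false
set_option maxRecDepth 1000000

namespace Cfsg.Agent.Helper9.TCData.X1690
open Cfsg.Agent.Helper9.TC2

theorem m2_2497 : allRange 107371 43 (fun u => chkFix tab mwordsA u) = true := by decide +kernel

theorem m2_2498 : allRange 107414 43 (fun u => chkFix tab mwordsA u) = true := by decide +kernel

theorem m2_2499 : allRange 107457 43 (fun u => chkFix tab mwordsA u) = true := by decide +kernel

theorem m2_2500 : allRange 107500 43 (fun u => chkFix tab mwordsA u) = true := by decide +kernel

theorem m2_2501 : allRange 107543 43 (fun u => chkFix tab mwordsA u) = true := by decide +kernel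

theorem m2_2502 : allRange 107586 43 (fun u => chkFix tab mwordsA u) = true := by decide +kernel

theorem m2_2503 : allRange 107629 43 (fun u => chkFix tab mwordsA u) = true := by decide +kernel

theorem m2_2504 : allRange 107672 43 (fun u => chkFix tab mwordsA u) = true := by decide +kernel

theorem m2_2505 : allRange 107715 43 (fun u => chkFix tab mwordsA u) = true := by decide +kernel

theorem m2_2506 : allRange 107758 43 (fun u => chkFix tab mwordsA u) = true := by decide +kernel


end Cfsg.Agent.Helper9.TCData.X1690
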