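import Cfsg.Agent.Lib.Helper9.TCData.X1690.Main

set_option autoImplicit false
set_option maxRecDepth 1000000

namespace Cfsg.Agent.Helper9.TCData.X1690
open Cfsg.Agent.Helper9.TC2

theorem m2_2507 : allRange 107801 43 (fun u => chkFix tab mwordsA u) = true := by decide +kernel

theorem m2_2508 : allRange 107844 43 (fun u => chkFix tab mwordsA u) = true := by decide +kernel

theorem m2_2509 : allRange 107887 43 (fun u => chkFix tab mwordsA u) = true := by decide +kernel

theorem m2_2510 : allRange 107930 43 (fun u => chkFix tab mwordsA u) = true := by decide +kernel

theorem m2_2511 : allRange 107973 43 (fun u => chkFix tab mwordsA u) = true := by decide +kernel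

theorem m2_2512 : allRange 108016 43 (fun u => chkFix tab mwordsA u) = true := by decide +kernel

theorem m2_2513 : allRange 108059 43 (fun u => chkFix tab mwordsA u) = true := by decide +kernel

theorem m2_2514 : allRange 108102 43 (fun u => chkFix tab mwordsA u) = true := by decide +kernel

theorem m2_2515 : allRange 108145 43 (fun u => chkFix tab mwordsA u) = true := by decide +kernel

theorem m2_2516 : allRange 108188 43 (fun u => chkFix tab mwordsA u) = true := by decide +kernel


end Cfsg.Agent.Helper9.TCData.X1690
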