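import Cfsg.Agent.Lib.Helper9.TCData.X1690.Main

set_option autoImplicit false
set_option maxRecDepth 1000000

namespace Cfsg.Agent.Helper9.TCData.X1690
open Cfsg.Agent.Helper9.TC2

theorem m2_2527 : allRange 108661 43 (fun u => chkFix tab mwordsA u) = true := by decide +kernel

theorem m2_2528 : allRange 108704 43 (fun u => chkFix tab mwordsA u) = true := by decide +kernel

theorem m2_2529 : allRange 108747 43 (fun u => chkFix tab mwordsA u) = true := by decide +kernel

theorem m2_2530 : allRange 108790 43 (fun u => chkFix tab mwordsA u) = true := by decide +kernel

theorem m2_2531 : allRange 108833 43 (fun u => chkFix tab mwordsA u) = true := by decide +kernel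

theorem m2_2532 : allRange 108876 43 (fun u => chkFix tab mwordsA u) = true := by decide +kernel

theorem m2_2533 : allRange 108919 43 (fun u => chkFix tab mwordsA u) = true := by decide +kernel

theorem m2_2534 : allRange 108962 43 (fun u => chkFix tab mwordsA u) = true := by decide +kernel

theorem m2_2535 : allRange 109005 43 (fun u => chkFix tab mwordsA u) = true := by decide +kernel

theorem m2_2536 : allRange 109048 43 (fun u => chkFix tab mwordsA u) = true := by decide +kernel


end Cfsg.Agent.Helper9.TCData.X1690
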