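import Cfsg.Agent.Lib.Helper9.TCData.X1690.Main

set_option autoImplicit false
set_option maxRecDepth 1000000

namespace Cfsg.Agent.Helper9.TCData.X1690
open Cfsg.Agent.Helper9.TC2

theorem m2_2537 : allRange 109091 43 (fun u => chkFix tab mwordsA u) = true := by decide +kernel

theorem m2_2538 : allRange 109134 43 (fun u => chkFix tab mwordsA u) = true := by decide +kernel

theorem m2_2539 : allRange 109177 43 (fun u => chkFix tab mwordsA u) = true := by decide +kernel

theorem m2_2540 : allRange 109220 43 (fun u => chkFix tab mwordsA u) = true := by decide +kernel

theorem m2_2541 : allRange 109263 43 (fun u => chkFix tab mwordsA u) = true := by decide +kernel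

theorem m2_2542 : allRange 109306 43 (fun u => chkFix tab mwordsA u) = true := by decide +kernel

theorem m2_2543 : allRange 109349 43 (fun u => chkFix tab mwordsA u) = true := by decide +kernel

theorem m2_2544 : allRange 109392 43 (fun u => chkFix tab mwordsA u) = true := by decide +kernel

theorem m2_2545 : allRange 109435 43 (fun u => chkFix tab mwordsA u) = true := by decide +kernel

theorem m2_2546 : allRange 109478 43 (fun u => chkFix tab mwordsA u) = true := by decide +kernel


end Cfsg.Agent.Helper9.TCData.X1690
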