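import Cfsg.Agent.Lib.Helper9.TCData.X1690.Main

set_option autoImplicit false
set_option maxRecDepth 1000000

namespace Cfsg.Agent.Helper9.TCData.X1690
open Cfsg.Agent.Helper9.TC2

theorem m2_2547 : allRange 109521 43 (fun u => chkFix tab mwordsA u) = true := by decide +kernel

theorem m2_2548 : allRange 109564 43 (fun u => chkFix tab mwordsA u) = true := by decide +kernel

theorem m2_2549 : allRange 109607 43 (fun u => chkFix tab mwordsA u) = true := by decide +kernel

theorem m2_2550 : allRange 109650 43 (fun u => chkFix tab mwordsA u) = true := by decide +kernel

theorem m2_2551 : allRange 109693 43 (fun u => chkFix tab mwordsA u) = true := by decide +kernel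

theorem m2_2552 : allRange 109736 43 (fun u => chkFix tab mwordsA u) = true := by decide +kernel

theorem m2_2553 : allRange 109779 43 (fun u => chkFix tab mwordsA u) = true := by decide +kernel

theorem m2_2554 : allRange 109822 43 (fun u => chkFix tab mwordsA u) = true := by decide +kernel

theorem m2_2555 : allRange 109865 43 (fun u => chkFix tab mwordsA u) = true := by decide +kernel

theorem m2_2556 : allRange 109908 43 (fun u => chkFix tab mwordsA u) = true := by decide +kernel


end Cfsg.Agent.Helper9.TCData.X1690
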