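import Cfsg.Agent.Lib.Helper9.TCData.X1690.Main

set_option autoImplicit false
set_option maxRecDepth 1000000

namespace Cfsg.Agent.Helper9.TCData.X1690
open Cfsg.Agent.Helper9.TC2

theorem m2_2557 : allRange 109951 43 (fun u => chkFix tab mwordsA u) = true := by decide +kernel

theorem m2_2558 : allRange 109994 43 (fun u => chkFix tab mwordsA u) = true := by decide +kernel

theorem m2_2559 : allRange 110037 43 (fun u => chkFix tab mwordsA u) = true := by decide +kernel

theorem m2_2560 : allRange 110080 43 (fun u => chkFix tab mwordsA u) = true := by decide +kernel

theorem m2_2561 : allRange 110123 43 (fun u => chkFix tab mwordsA u) = true := by decide +kernel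

theorem m2_2562 : allRange 110166 43 (fun u => chkFix tab mwordsA u) = true := by decide +kernel

theorem m2_2563 : allRange 110209 43 (fun u => chkFix tab mwordsA u) = true := by decide +kernel

theorem m2_2564 : allRange 110252 43 (fun u => chkFix tab mwordsA u) = true := by decide +kernel

theorem m2_2565 : allRange 110295 43 (fun u => chkFix tab mwordsA u) = true := by decide +kernel

theorem m2_2566 : allRange 110338 43 (fun u => chkFix tab mwordsA u) = true := by decide +kernel


end Cfsg.Agent.Helper9.TCData.X1690
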