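import Cfsg.Agent.Lib.Helper9.TCData.X1690.Main

set_option autoImplicit false
set_option maxRecDepth 1000000

namespace Cfsg.Agent.Helper9.TCData.X1690
open Cfsg.Agent.Helper9.TC2

theorem m2_2567 : allRange 110381 43 (fun u => chkFix tab mwordsA u) = true := by decide +kernel

theorem m2_2568 : allRange 110424 43 (fun u => chkFix tab mwordsA u) = true := by decide +kernel

theorem m2_2569 : allRange 110467 43 (fun u => chkFix tab mwordsA u) = true := by decide +kernel

theorem m2_2570 : allRange 110510 43 (fun u => chkFix tab mwordsA u) = true := by decide +kernel

theorem m2_2571 : allRange 110553 43 (fun u => chkFix tab mwordsA u) = true := by decide +kernel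

theorem m2_2572 : allRange 110596 43 (fun u => chkFix tab mwordsA u) = true := by decide +kernel

theorem m2_2573 : allRange 110639 43 (fun u => chkFix tab mwordsA u) = true := by decide +kernel

theorem m2_2574 : allRange 110682 43 (fun u => chkFix tab mwordsA u) = true := by decide +kernel

theorem m2_2575 : allRange 110725 43 (fun u => chkFix tab mwordsA u) = true := by decide +kernel

theorem m2_2576 : allRange 110768 43 (fun u => chkFix tab mwordsA u) = true := by decide +kernel


end Cfsg.Agent.Helper9.TCData.X1690
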