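import Cfsg.Agent.Lib.Helper9.TCData.X1690.Main

set_option autoImplicit false
set_option maxRecDepth 1000000

namespace Cfsg.Agent.Helper9.TCData.X1690
open Cfsg.Agent.Helper9.TC2

theorem m2_2577 : allRange 110811 43 (fun u => chkFix tab mwordsA u) = true := by decide +kernel

theorem m2_2578 : allRange 110854 43 (fun u => chkFix tab mwordsA u) = true := by decide +kernel

theorem m2_2579 : allRange 110897 43 (fun u => chkFix tab mwordsA u) = true := by decide +kernel

theorem m2_2580 : allRange 110940 43 (fun u => chkFix tab mwordsA u) = true := by decide +kernel

theorem m2_2581 : allRange 110983 43 (fun u => chkFix tab mwordsA u) = true := by decide +kernel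

theorem m2_2582 : allRange 111026 43 (fun u => chkFix tab mwordsA u) = true := by decide +kernel

theorem m2_2583 : allRange 111069 43 (fun u => chkFix tab mwordsA u) = true := by decide +kernel

theorem m2_2584 : allRange 111112 43 (fun u => chkFix tab mwordsA u) = true := by decide +kernel

theorem m2_2585 : allRange 111155 43 (fun u => chkFix tab mwordsA u) = true := by decide +kernel

theorem m2_2586 : allRange 111198 43 (fun u => chkFix tab mwordsA u) = true := by decide +kernel


end Cfsg.Agent.Helper9.TCData.X1690
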