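import Cfsg.Agent.Lib.Helper9.TCData.X1690.Main

set_option autoImplicit false
set_option maxRecDepth 1000000

namespace Cfsg.Agent.Helper9.TCData.X1690
open Cfsg.Agent.Helper9.TC2

theorem m2_2587 : allRange 111241 43 (fun u => chkFix tab mwordsA u) = true := by decide +kernel

theorem m2_2588 : allRange 111284 43 (fun u => chkFix tab mwordsA u) = true := by decide +kernel

theorem m2_2589 : allRange 111327 43 (fun u => chkFix tab mwordsA u) = true := by decide +kernel

theorem m2_2590 : allRange 111370 43 (fun u => chkFix tab mwordsA u) = true := by decide +kernel

theorem m2_2591 : allRange 111413 43 (fun u => chkFix tab mwordsA u) = true := by decide +kernel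

theorem m2_2592 : allRange 111456 43 (fun u => chkFix tab mwordsA u) = true := by decide +kernel

theorem m2_2593 : allRange 111499 43 (fun u => chkFix tab mwordsA u) = true := by decide +kernel

theorem m2_2594 : allRange 111542 43 (fun u => chkFix tab mwordsA u) = true := by decide +kernel

theorem m2_2595 : allRange 111585 43 (fun u => chkFix tab mwordsA u) = true := by decide +kernel

theorem m2_2596 : allRange 111628 43 (fun u => chkFix tab mwordsA u) = true := by decide +kernel


end Cfsg.Agent.Helper9.TCData.X1690
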