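import Cfsg.Agent.Lib.Helper9.TCData.X1690.Main

set_option autoImplicit false
set_option maxRecDepth 1000000

namespace Cfsg.Agent.Helper9.TCData.X1690
open Cfsg.Agent.Helper9.TC2

theorem m2_2597 : allRange 111671 43 (fun u => chkFix tab mwordsA u) = true := by decide +kernel

theorem m2_2598 : allRange 111714 43 (fun u => chkFix tab mwordsA u) = true := by decide +kernel

theorem m2_2599 : allRange 111757 43 (fun u => chkFix tab mwordsA u) = true := by decide +kernel

theorem m2_2600 : allRange 111800 43 (fun u => chkFix tab mwordsA u) = true := by decide +kernel

theorem m2_2601 : allRange 111843 43 (fun u => chkFix tab mwordsA u) = true := by decide +kernel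

theorem m2_2602 : allRange 111886 43 (fun u => chkFix tab mwordsA u) = true := by decide +kernel

theorem m2_2603 : allRange 111929 43 (fun u => chkFix tab mwordsA u) = true := by decide +kernel

theorem m2_2604 : allRange 111972 43 (fun u => chkFix tab mwordsA u) = true := by decide +kernel

theorem m2_2605 : allRange 112015 43 (fun u => chkFix tab mwordsA u) = true := by decide +kernel

theorem m2_2606 : allRange 112058 43 (fun u => chkFix tab mwordsA u) = true := by decide +kernel


end Cfsg.Agent.Helper9.TCData.X1690
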