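import Cfsg.Agent.Lib.Helper9.TCData.X1690.Main

set_option autoImplicit false
set_option maxRecDepth 1000000

namespace Cfsg.Agent.Helper9.TCData.X1690
open Cfsg.Agent.Helper9.TC2

theorem m2_2607 : allRange 112101 43 (fun u => chkFix tab mwordsA u) = true := by decide +kernel

theorem m2_2608 : allRange 112144 43 (fun u => chkFix tab mwordsA u) = true := by decide +kernel

theorem m2_2609 : allRange 112187 43 (fun u => chkFix tab mwordsA u) = true := by decide +kernel

theorem m2_2610 : allRange 112230 43 (fun u => chkFix tab mwordsA u) = true := by decide +kernel

theorem m2_2611 : allRange 112273 43 (fun u => chkFix tab mwordsA u) = true := by decide +kernel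

theorem m2_2612 : allRange 112316 43 (fun u => chkFix tab mwordsA u) = true := by decide +kernel

theorem m2_2613 : allRange 112359 43 (fun u => chkFix tab mwordsA u) = true := by decide +kernel

theorem m2_2614 : allRange 112402 43 (fun u => chkFix tab mwordsA u) = true := by decide +kernel

theorem m2_2615 : allRange 112445 43 (fun u => chkFix tab mwordsA u) = true := by decide +kernel

theorem m2_2616 : allRange 112488 43 (fun u => chkFix tab mwordsA u) = true := by decide +kernel


end Cfsg.Agent.Helper9.TCData.X1690
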