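import Cfsg.Agent.Lib.Helper9.TCData.X1690.Main

set_option autoImplicit false
set_option maxRecDepth 1000000

namespace Cfsg.Agent.Helper9.TCData.X1690
open Cfsg.Agent.Helper9.TC2

theorem e4_57 : allRange 125489 4048 (fun u => chkE tab 4 u) = true := by decide +kernel

theorem e4_58 : allRange 129537 3217 (fun u => chkE tab 4 u) = true := by decide +kernel

theorem e4_59 : allRange 132754 2798 (fun u => chkE tab 4 u) = true := by decide +kernel

theorem e4_60 : allRange 135552 2502 (fun u => chkE tab 4 u) = true := by decide +kernel

theorem e4_61 : allRange 138054 4020 (fun u => chkE tab 4 u) = true := by decide +kernel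

theorem e4_62 : allRange 142074 3928 (fun u => chkE tab 4 u) = true := by decide +kernel

theorem e4_63 : allRange 146002 4632 (fun u => chkE tab 4 u) = true := by decide +kernel

theorem e4_64 : allRange 150634 3832 (fun u => chkE tab 4 u) = true := by decide +kernel

theorem e4_65 : allRange 154466 4759 (fun u => chkE tab 4 u) = true := by decide +kernel

theorem e4_66 : allRange 159225 3965 (fun u => chkE tab 4 u) = true := by decide +kernel


end Cfsg.Agent.Helper9.TCData.X1690
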