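import Cfsg.Agent.Lib.Helper9.TCData.X1690.Main

set_option autoImplicit false
set_option maxRecDepth 1000000

namespace Cfsg.Agent.Helper9.TCData.X1690
open Cfsg.Agent.Helper9.TC2

theorem m2_2627 : allRange 112961 43 (fun u => chkFix tab mwordsA u) = true := by decide +kernel

theorem m2_2628 : allRange 113004 43 (fun u => chkFix tab mwordsA u) = true := by decide +kernel

theorem m2_2629 : allRange 113047 43 (fun u => chkFix tab mwordsA u) = true := by decide +kernel

theorem m2_2630 : allRange 113090 43 (fun u => chkFix tab mwordsA u) = true := by decide +kernel

theorem m2_2631 : allRange 113133 43 (fun u => chkFix tab mwordsA u) = true := by decide +kernel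

theorem m2_2632 : allRange 113176 43 (fun u => chkFix tab mwordsA u) = true := by decide +kernel

theorem m2_2633 : allRange 113219 43 (fun u => chkFix tab mwordsA u) = true := by decide +kernel

theorem m2_2634 : allRange 113262 43 (fun u => chkFix tab mwordsA u) = true := by decide +kernel

theorem m2_2635 : allRange 113305 43 (fun u => chkFix tab mwordsA u) = true := by decide +kernel

theorem m2_2636 : allRange 113348 43 (fun u => chkFix tab mwordsA u) = true := by decide +kernel


end Cfsg.Agent.Helper9.TCData.X1690
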