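import Cfsg.Agent.Lib.Helper9.TCData.X1690.Main

set_option autoImplicit false
set_option maxRecDepth 1000000

namespace Cfsg.Agent.Helper9.TCData.X1690
open Cfsg.Agent.Helper9.TC2

theorem m2_2647 : allRange 113821 43 (fun u => chkFix tab mwordsA u) = true := by decide +kernel

theorem m2_2648 : allRange 113864 43 (fun u => chkFix tab mwordsA u) = true := by decide +kernel

theorem m2_2649 : allRange 113907 43 (fun u => chkFix tab mwordsA u) = true := by decide +kernel

theorem m2_2650 : allRange 113950 43 (fun u => chkFix tab mwordsA u) = true := by decide +kernel

theorem m2_2651 : allRange 113993 43 (fun u => chkFix tab mwordsA u) = true := by decide +kernel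

theorem m2_2652 : allRange 114036 43 (fun u => chkFix tab mwordsA u) = true := by decide +kernel

theorem m2_2653 : allRange 114079 43 (fun u => chkFix tab mwordsA u) = true := by decide +kernel

theorem m2_2654 : allRange 114122 43 (fun u => chkFix tab mwordsA u) = true := by decide +kernel

theorem m2_2655 : allRange 114165 43 (fun u => chkFix tab mwordsA u) = true := by decide +kernel

theorem m2_2656 : allRange 114208 43 (fun u => chkFix tab mwordsA u) = true := by decide +kernel


end Cfsg.Agent.Helper9.TCData.X1690
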