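import Cfsg.Agent.Lib.Helper9.TCData.X1690.Main

set_option autoImplicit false
set_option maxRecDepth 1000000

namespace Cfsg.Agent.Helper9.TCData.X1690
open Cfsg.Agent.Helper9.TC2

theorem m2_2657 : allRange 114251 43 (fun u => chkFix tab mwordsA u) = true := by decide +kernel

theorem m2_2658 : allRange 114294 43 (fun u => chkFix tab mwordsA u) = true := by decide +kernel

theorem m2_2659 : allRange 114337 43 (fun u => chkFix tab mwordsA u) = true := by decide +kernel

theorem m2_2660 : allRange 114380 43 (fun u => chkFix tab mwordsA u) = true := by decide +kernel

theorem m2_2661 : allRange 114423 43 (fun u => chkFix tab mwordsA u) = true := by decide +kernel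

theorem m2_2662 : allRange 114466 43 (fun u => chkFix tab mwordsA u) = true := by decide +kernel

theorem m2_2663 : allRange 114509 43 (fun u => chkFix tab mwordsA u) = true := by decide +kernel

theorem m2_2664 : allRange 114552 43 (fun u => chkFix tab mwordsA u) = true := by decide +kernel

theorem m2_2665 : allRange 114595 43 (fun u => chkFix tab mwordsA u) = true := by decide +kernel

theorem m2_2666 : allRange 114638 43 (fun u => chkFix tab mwordsA u) = true := by decide +kernel


end Cfsg.Agent.Helper9.TCData.X1690
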