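import Cfsg.Agent.Lib.Helper9.TCData.X1690.Main

set_option autoImplicit false
set_option maxRecDepth 1000000

namespace Cfsg.Agent.Helper9.TCData.X1690
open Cfsg.Agent.Helper9.TC2

theorem m2_2677 : allRange 115111 43 (fun u => chkFix tab mwordsA u) = true := by decide +kernel

theorem m2_2678 : allRange 115154 43 (fun u => chkFix tab mwordsA u) = true := by decide +kernel

theorem m2_2679 : allRange 115197 43 (fun u => chkFix tab mwordsA u) = true := by decide +kernel

theorem m2_2680 : allRange 115240 43 (fun u => chkFix tab mwordsA u) = true := by decide +kernel

theorem m2_2681 : allRange 115283 43 (fun u => chkFix tab mwordsA u) = true := by decide +kernel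

theorem m2_2682 : allRange 115326 43 (fun u => chkFix tab mwordsA u) = true := by decide +kernel

theorem m2_2683 : allRange 115369 43 (fun u => chkFix tab mwordsA u) = true := by decide +kernel

theorem m2_2684 : allRange 115412 43 (fun u => chkFix tab mwordsA u) = true := by decide +kernel

theorem m2_2685 : allRange 115455 43 (fun u => chkFix tab mwordsA u) = true := by decide +kernel

theorem m2_2686 : allRange 115498 43 (fun u => chkFix tab mwordsA u) = true := by decide +kernel


end Cfsg.Agent.Helper9.TCData.X1690
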