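import Cfsg.Agent.Lib.Helper9.TCData.X1690.Main

set_option autoImplicit false
set_option maxRecDepth 1000000

namespace Cfsg.Agent.Helper9.TCData.X1690
open Cfsg.Agent.Helper9.TC2

theorem m2_2687 : allRange 115541 43 (fun u => chkFix tab mwordsA u) = true := by decide +kernel

theorem m2_2688 : allRange 115584 43 (fun u => chkFix tab mwordsA u) = true := by decide +kernel

theorem m2_2689 : allRange 115627 43 (fun u => chkFix tab mwordsA u) = true := by decide +kernel

theorem m2_2690 : allRange 115670 43 (fun u => chkFix tab mwordsA u) = true := by decide +kernel

theorem m2_2691 : allRange 115713 43 (fun u => chkFix tab mwordsA u) = true := by decide +kernel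

theorem m2_2692 : allRange 115756 43 (fun u => chkFix tab mwordsA u) = true := by decide +kernel

theorem m2_2693 : allRange 115799 43 (fun u => chkFix tab mwordsA u) = true := by decide +kernel

theorem m2_2694 : allRange 115842 43 (fun u => chkFix tab mwordsA u) = true := by decide +kernel

theorem m2_2695 : allRange 115885 43 (fun u => chkFix tab mwordsA u) = true := by decide +kernel

theorem m2_2696 : allRange 115928 43 (fun u => chkFix tab mwordsA u) = true := by decide +kernel


end Cfsg.Agent.Helper9.TCData.X1690
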