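import Cfsg.Agent.Lib.Helper9.TCData.X1690.Main

set_option autoImplicit false
set_option maxRecDepth 1000000

namespace Cfsg.Agent.Helper9.TCData.X1690
open Cfsg.Agent.Helper9.TC2

theorem m2_2697 : allRange 115971 43 (fun u => chkFix tab mwordsA u) = true := by decide +kernel

theorem m2_2698 : allRange 116014 43 (fun u => chkFix tab mwordsA u) = true := by decide +kernel

theorem m2_2699 : allRange 116057 43 (fun u => chkFix tab mwordsA u) = true := by decide +kernel

theorem m2_2700 : allRange 116100 43 (fun u => chkFix tab mwordsA u) = true := by decide +kernel

theorem m2_2701 : allRange 116143 43 (fun u => chkFix tab mwordsA u) = true := by decide +kernel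

theorem m2_2702 : allRange 116186 43 (fun u => chkFix tab mwordsA u) = true := by decide +kernel

theorem m2_2703 : allRange 116229 43 (fun u => chkFix tab mwordsA u) = true := by decide +kernel

theorem m2_2704 : allRange 116272 43 (fun u => chkFix tab mwordsA u) = true := by decide +kernel

theorem m2_2705 : allRange 116315 43 (fun u => chkFix tab mwordsA u) = true := by decide +kernel

theorem m2_2706 : allRange 116358 43 (fun u => chkFix tab mwordsA u) = true := by decide +kernel


end Cfsg.Agent.Helper9.TCData.X1690
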