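import Cfsg.Agent.Lib.Helper9.TCData.X1690.Main

set_option autoImplicit false
set_option maxRecDepth 1000000

namespace Cfsg.Agent.Helper9.TCData.X1690
open Cfsg.Agent.Helper9.TC2

theorem e4_67 : allRange 163190 2390 (fun u => chkE tab 4 u) = true := by decide +kernel

theorem e4_68 : allRange 165580 2396 (fun u => chkE tab 4 u) = true := by decide +kernel

theorem e4_69 : allRange 167976 2314 (fun u => chkE tab 4 u) = true := by decide +kernel

theorem e4_70 : allRange 170290 2259 (fun u => chkE tab 4 u) = true := by decide +kernel

theorem e4_71 : allRange 172549 2061 (fun u => chkE tab 4 u) = true := by decide +kernel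

theorem e4_72 : allRange 174610 2317 (fun u => chkE tab 4 u) = true := by decide +kernel

theorem e4_73 : allRange 176927 2595 (fun u => chkE tab 4 u) = true := by decide +kernel

theorem e4_74 : allRange 179522 2542 (fun u => chkE tab 4 u) = true := by decide +kernel

theorem e4_75 : allRange 182064 2438 (fun u => chkE tab 4 u) = true := by decide +kernel

theorem e4_76 : allRange 184502 2344 (fun u => chkE tab 4 u) = true := by decide +kernel


end Cfsg.Agent.Helper9.TCData.X1690
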