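import Cfsg.Agent.Lib.Helper9.TCData.X1690.Main

set_option autoImplicit false
set_option maxRecDepth 1000000

namespace Cfsg.Agent.Helper9.TCData.X1690
open Cfsg.Agent.Helper9.TC2

theorem m2_2717 : allRange 116831 43 (fun u => chkFix tab mwordsA u) = true := by decide +kernel

theorem m2_2718 : allRange 116874 43 (fun u => chkFix tab mwordsA u) = true := by decide +kernel

theorem m2_2719 : allRange 116917 43 (fun u => chkFix tab mwordsA u) = true := by decide +kernel

theorem m2_2720 : allRange 116960 43 (fun u => chkFix tab mwordsA u) = true := by decide +kernel

theorem m2_2721 : allRange 117003 43 (fun u => chkFix tab mwordsA u) = true := by decide +kernel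

theorem m2_2722 : allRange 117046 43 (fun u => chkFix tab mwordsA u) = true := by decide +kernel

theorem m2_2723 : allRange 117089 43 (fun u => chkFix tab mwordsA u) = true := by decide +kernel

theorem m2_2724 : allRange 117132 43 (fun u => chkFix tab mwordsA u) = true := by decide +kernel

theorem m2_2725 : allRange 117175 43 (fun u => chkFix tab mwordsA u) = true := by decide +kernel

theorem m2_2726 : allRange 117218 43 (fun u => chkFix tab mwordsA u) = true := by decide +kernel


end Cfsg.Agent.Helper9.TCData.X1690
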