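import Cfsg.Agent.Lib.Helper9.TCData.X1690.Main

set_option autoImplicit false
set_option maxRecDepth 1000000

namespace Cfsg.Agent.Helper9.TCData.X1690
open Cfsg.Agent.Helper9.TC2

theorem m2_2727 : allRange 117261 43 (fun u => chkFix tab mwordsA u) = true := by decide +kernel

theorem m2_2728 : allRange 117304 43 (fun u => chkFix tab mwordsA u) = true := by decide +kernel

theorem m2_2729 : allRange 117347 43 (fun u => chkFix tab mwordsA u) = true := by decide +kernel

theorem m2_2730 : allRange 117390 43 (fun u => chkFix tab mwordsA u) = true := by decide +kernel

theorem m2_2731 : allRange 117433 43 (fun u => chkFix tab mwordsA u) = true := by decide +kernel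

theorem m2_2732 : allRange 117476 43 (fun u => chkFix tab mwordsA u) = true := by decide +kernel

theorem m2_2733 : allRange 117519 43 (fun u => chkFix tab mwordsA u) = true := by decide +kernel

theorem m2_2734 : allRange 117562 43 (fun u => chkFix tab mwordsA u) = true := by decide +kernel

theorem m2_2735 : allRange 117605 43 (fun u => chkFix tab mwordsA u) = true := by decide +kernel

theorem m2_2736 : allRange 117648 43 (fun u => chkFix tab mwordsA u) = true := by decide +kernel


end Cfsg.Agent.Helper9.TCData.X1690
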