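import Cfsg.Agent.Lib.Helper9.TCData.X1690.Main

set_option autoImplicit false
set_option maxRecDepth 1000000

namespace Cfsg.Agent.Helper9.TCData.X1690
open Cfsg.Agent.Helper9.TC2

theorem m2_2737 : allRange 117691 43 (fun u => chkFix tab mwordsA u) = true := by decide +kernel

theorem m2_2738 : allRange 117734 43 (fun u => chkFix tab mwordsA u) = true := by decide +kernel

theorem m2_2739 : allRange 117777 43 (fun u => chkFix tab mwordsA u) = true := by decide +kernel

theorem m2_2740 : allRange 117820 43 (fun u => chkFix tab mwordsA u) = true := by decide +kernel

theorem m2_2741 : allRange 117863 43 (fun u => chkFix tab mwordsA u) = true := by decide +kernel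

theorem m2_2742 : allRange 117906 43 (fun u => chkFix tab mwordsA u) = true := by decide +kernel

theorem m2_2743 : allRange 117949 43 (fun u => chkFix tab mwordsA u) = true := by decide +kernel

theorem m2_2744 : allRange 117992 43 (fun u => chkFix tab mwordsA u) = true := by decide +kernel

theorem m2_2745 : allRange 118035 43 (fun u => chkFix tab mwordsA u) = true := by decide +kernel

theorem m2_2746 : allRange 118078 43 (fun u => chkFix tab mwordsA u) = true := by decide +kernel


end Cfsg.Agent.Helper9.TCData.X1690
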