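import Cfsg.Agent.Lib.Helper9.TCData.X1690.Main

set_option autoImplicit false
set_option maxRecDepth 1000000

namespace Cfsg.Agent.Helper9.TCData.X1690
open Cfsg.Agent.Helper9.TC2

theorem m2_2767 : allRange 118981 43 (fun u => chkFix tab mwordsA u) = true := by decide +kernel

theorem m2_2768 : allRange 119024 43 (fun u => chkFix tab mwordsA u) = true := by decide +kernel

theorem m2_2769 : allRange 119067 43 (fun u => chkFix tab mwordsA u) = true := by decide +kernel

theorem m2_2770 : allRange 119110 43 (fun u => chkFix tab mwordsA u) = true := by decide +kernel

theorem m2_2771 : allRange 119153 43 (fun u => chkFix tab mwordsA u) = true := by decide +kernel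

theorem m2_2772 : allRange 119196 43 (fun u => chkFix tab mwordsA u) = true := by decide +kernel

theorem m2_2773 : allRange 119239 43 (fun u => chkFix tab mwordsA u) = true := by decide +kernel

theorem m2_2774 : allRange 119282 43 (fun u => chkFix tab mwordsA u) = true := by decide +kernel

theorem m2_2775 : allRange 119325 43 (fun u => chkFix tab mwordsA u) = true := by decide +kernel

theorem m2_2776 : allRange 119368 43 (fun u => chkFix tab mwordsA u) = true := by decide +kernel


end Cfsg.Agent.Helper9.TCData.X1690
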