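import Cfsg.Agent.Lib.Helper9.TCData.X1690.Main

set_option autoImplicit false
set_option maxRecDepth 1000000

namespace Cfsg.Agent.Helper9.TCData.X1690
open Cfsg.Agent.Helper9.TC2

theorem m2_2777 : allRange 119411 43 (fun u => chkFix tab mwordsA u) = true := by decide +kernel

theorem m2_2778 : allRange 119454 43 (fun u => chkFix tab mwordsA u) = true := by decide +kernel

theorem m2_2779 : allRange 119497 43 (fun u => chkFix tab mwordsA u) = true := by decide +kernel

theorem m2_2780 : allRange 119540 43 (fun u => chkFix tab mwordsA u) = true := by decide +kernel

theorem m2_2781 : allRange 119583 43 (fun u => chkFix tab mwordsA u) = true := by decide +kernel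

theorem m2_2782 : allRange 119626 43 (fun u => chkFix tab mwordsA u) = true := by decide +kernel

theorem m2_2783 : allRange 119669 43 (fun u => chkFix tab mwordsA u) = true := by decide +kernel

theorem m2_2784 : allRange 119712 43 (fun u => chkFix tab mwordsA u) = true := by decide +kernel

theorem m2_2785 : allRange 119755 43 (fun u => chkFix tab mwordsA u) = true := by decide +kernel

theorem m2_2786 : allRange 119798 43 (fun u => chkFix tab mwordsA u) = true := by decide +kernel


end Cfsg.Agent.Helper9.TCData.X1690
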