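import Cfsg.Agent.Lib.Helper9.TCData.X1690.Main

set_option autoImplicit false
set_option maxRecDepth 1000000

namespace Cfsg.Agent.Helper9.TCData.X1690
open Cfsg.Agent.Helper9.TC2

theorem m2_2787 : allRange 119841 43 (fun u => chkFix tab mwordsA u) = true := by decide +kernel

theorem m2_2788 : allRange 119884 43 (fun u => chkFix tab mwordsA u) = true := by decide +kernel

theorem m2_2789 : allRange 119927 43 (fun u => chkFix tab mwordsA u) = true := by decide +kernel

theorem m2_2790 : allRange 119970 43 (fun u => chkFix tab mwordsA u) = true := by decide +kernel

theorem m2_2791 : allRange 120013 43 (fun u => chkFix tab mwordsA u) = true := by decide +kernel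

theorem m2_2792 : allRange 120056 43 (fun u => chkFix tab mwordsA u) = true := by decide +kernel

theorem m2_2793 : allRange 120099 43 (fun u => chkFix tab mwordsA u) = true := by decide +kernel

theorem m2_2794 : allRange 120142 43 (fun u => chkFix tab mwordsA u) = true := by decide +kernel

theorem m2_2795 : allRange 120185 43 (fun u => chkFix tab mwordsA u) = true := by decide +kernel

theorem m2_2796 : allRange 120228 43 (fun u => chkFix tab mwordsA u) = true := by decide +kernel


end Cfsg.Agent.Helper9.TCData.X1690
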