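import Cfsg.Agent.Lib.Helper9.TCData.X1690.Main

set_option autoImplicit false
set_option maxRecDepth 1000000

namespace Cfsg.Agent.Helper9.TCData.X1690
open Cfsg.Agent.Helper9.TC2

theorem m2_2797 : allRange 120271 43 (fun u => chkFix tab mwordsA u) = true := by decide +kernel

theorem m2_2798 : allRange 120314 43 (fun u => chkFix tab mwordsA u) = true := by decide +kernel

theorem m2_2799 : allRange 120357 43 (fun u => chkFix tab mwordsA u) = true := by decide +kernel

theorem m2_2800 : allRange 120400 43 (fun u => chkFix tab mwordsA u) = true := by decide +kernel

theorem m2_2801 : allRange 120443 43 (fun u => chkFix tab mwordsA u) = true := by decide +kernel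

theorem m2_2802 : allRange 120486 43 (fun u => chkFix tab mwordsA u) = true := by decide +kernel

theorem m2_2803 : allRange 120529 43 (fun u => chkFix tab mwordsA u) = true := by decide +kernel

theorem m2_2804 : allRange 120572 43 (fun u => chkFix tab mwordsA u) = true := by decide +kernel

theorem m2_2805 : allRange 120615 43 (fun u => chkFix tab mwordsA u) = true := by decide +kernel

theorem m2_2806 : allRange 120658 43 (fun u => chkFix tab mwordsA u) = true := by decide +kernel


end Cfsg.Agent.Helper9.TCData.X1690
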