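import Cfsg.Agent.Lib.Helper9.TCData.X1690.Main

set_option autoImplicit false
set_option maxRecDepth 1000000

namespace Cfsg.Agent.Helper9.TCData.X1690
open Cfsg.Agent.Helper9.TC2

theorem m2_2807 : allRange 120701 43 (fun u => chkFix tab mwordsA u) = true := by decide +kernel

theorem m2_2808 : allRange 120744 43 (fun u => chkFix tab mwordsA u) = true := by decide +kernel

theorem m2_2809 : allRange 120787 43 (fun u => chkFix tab mwordsA u) = true := by decide +kernel

theorem m2_2810 : allRange 120830 43 (fun u => chkFix tab mwordsA u) = true := by decide +kernel

theorem m2_2811 : allRange 120873 43 (fun u => chkFix tab mwordsA u) = true := by decide +kernel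

theorem m2_2812 : allRange 120916 43 (fun u => chkFix tab mwordsA u) = true := by decide +kernel

theorem m2_2813 : allRange 120959 43 (fun u => chkFix tab mwordsA u) = true := by decide +kernel

theorem m2_2814 : allRange 121002 43 (fun u => chkFix tab mwordsA u) = true := by decide +kernel

theorem m2_2815 : allRange 121045 43 (fun u => chkFix tab mwordsA u) = true := by decide +kernel

theorem m2_2816 : allRange 121088 43 (fun u => chkFix tab mwordsA u) = true := by decide +kernel


end Cfsg.Agent.Helper9.TCData.X1690
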