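import Cfsg.Agent.Lib.Helper9.TCData.X1690.Main

set_option autoImplicit false
set_option maxRecDepth 1000000

namespace Cfsg.Agent.Helper9.TCData.X1690
open Cfsg.Agent.Helper9.TC2

theorem e4_77 : allRange 186846 2397 (fun u => chkE tab 4 u) = true := by decide +kernel

theorem e4_78 : allRange 189243 2120 (fun u => chkE tab 4 u) = true := by decide +kernel

theorem e4_79 : allRange 191363 2073 (fun u => chkE tab 4 u) = true := by decide +kernel

theorem e4_80 : allRange 193436 2454 (fun u => chkE tab 4 u) = true := by decide +kernel

theorem e4_81 : allRange 195890 2794 (fun u => chkE tab 4 u) = true := by decide +kernel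

theorem e4_82 : allRange 198684 2470 (fun u => chkE tab 4 u) = true := by decide +kernel

theorem e4_83 : allRange 201154 2506 (fun u => chkE tab 4 u) = true := by decide +kernel

theorem e4_84 : allRange 203660 2370 (fun u => chkE tab 4 u) = true := by decide +kernel

theorem e4_85 : allRange 206030 2427 (fun u => chkE tab 4 u) = true := by decide +kernel

theorem e4_86 : allRange 208457 2220 (fun u => chkE tab 4 u) = true := by decide +kernel


end Cfsg.Agent.Helper9.TCData.X1690
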