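import Cfsg.Agent.Lib.Helper9.TCData.X1690.Main

set_option autoImplicit false
set_option maxRecDepth 1000000

namespace Cfsg.Agent.Helper9.TCData.X1690
open Cfsg.Agent.Helper9.TC2

theorem m2_2827 : allRange 121561 43 (fun u => chkFix tab mwordsA u) = true := by decide +kernel

theorem m2_2828 : allRange 121604 43 (fun u => chkFix tab mwordsA u) = true := by decide +kernel

theorem m2_2829 : allRange 121647 43 (fun u => chkFix tab mwordsA u) = true := by decide +kernel

theorem m2_2830 : allRange 121690 43 (fun u => chkFix tab mwordsA u) = true := by decide +kernel

theorem m2_2831 : allRange 121733 43 (fun u => chkFix tab mwordsA u) = true := by decide +kernel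

theorem m2_2832 : allRange 121776 43 (fun u => chkFix tab mwordsA u) = true := by decide +kernel

theorem m2_2833 : allRange 121819 43 (fun u => chkFix tab mwordsA u) = true := by decide +kernel

theorem m2_2834 : allRange 121862 43 (fun u => chkFix tab mwordsA u) = true := by decide +kernel

theorem m2_2835 : allRange 121905 43 (fun u => chkFix tab mwordsA u) = true := by decide +kernel

theorem m2_2836 : allRange 121948 43 (fun u => chkFix tab mwordsA u) = true := by decide +kernel


end Cfsg.Agent.Helper9.TCData.X1690
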