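import Cfsg.Agent.Lib.Helper9.TCData.X1690.Main

set_option autoImplicit false
set_option maxRecDepth 1000000

namespace Cfsg.Agent.Helper9.TCData.X1690
open Cfsg.Agent.Helper9.TC2

theorem m2_2837 : allRange 121991 43 (fun u => chkFix tab mwordsA u) = true := by decide +kernel

theorem m2_2838 : allRange 122034 43 (fun u => chkFix tab mwordsA u) = true := by decide +kernel

theorem m2_2839 : allRange 122077 43 (fun u => chkFix tab mwordsA u) = true := by decide +kernel

theorem m2_2840 : allRange 122120 43 (fun u => chkFix tab mwordsA u) = true := by decide +kernel

theorem m2_2841 : allRange 122163 43 (fun u => chkFix tab mwordsA u) = true := by decide +kernel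

theorem m2_2842 : allRange 122206 43 (fun u => chkFix tab mwordsA u) = true := by decide +kernel

theorem m2_2843 : allRange 122249 43 (fun u => chkFix tab mwordsA u) = true := by decide +kernel

theorem m2_2844 : allRange 122292 43 (fun u => chkFix tab mwordsA u) = true := by decide +kernel

theorem m2_2845 : allRange 122335 43 (fun u => chkFix tab mwordsA u) = true := by decide +kernel

theorem m2_2846 : allRange 122378 43 (fun u => chkFix tab mwordsA u) = true := by decide +kernel


end Cfsg.Agent.Helper9.TCData.X1690
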