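import Cfsg.Agent.Lib.Helper9.TCData.X1690.Main

set_option autoImplicit false
set_option maxRecDepth 1000000

namespace Cfsg.Agent.Helper9.TCData.X1690
open Cfsg.Agent.Helper9.TC2

theorem m2_2847 : allRange 122421 43 (fun u => chkFix tab mwordsA u) = true := by decide +kernel

theorem m2_2848 : allRange 122464 43 (fun u => chkFix tab mwordsA u) = true := by decide +kernel

theorem m2_2849 : allRange 122507 43 (fun u => chkFix tab mwordsA u) = true := by decide +kernel

theorem m2_2850 : allRange 122550 43 (fun u => chkFix tab mwordsA u) = true := by decide +kernel

theorem m2_2851 : allRange 122593 43 (fun u => chkFix tab mwordsA u) = true := by decide +kernel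

theorem m2_2852 : allRange 122636 43 (fun u => chkFix tab mwordsA u) = true := by decide +kernel

theorem m2_2853 : allRange 122679 43 (fun u => chkFix tab mwordsA u) = true := by decide +kernel

theorem m2_2854 : allRange 122722 43 (fun u => chkFix tab mwordsA u) = true := by decide +kernel

theorem m2_2855 : allRange 122765 43 (fun u => chkFix tab mwordsA u) = true := by decide +kernel

theorem m2_2856 : allRange 122808 43 (fun u => chkFix tab mwordsA u) = true := by decide +kernel


end Cfsg.Agent.Helper9.TCData.X1690
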