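import Cfsg.Agent.Lib.Helper9.TCData.X1690.Main

set_option autoImplicit false
set_option maxRecDepth 1000000

namespace Cfsg.Agent.Helper9.TCData.X1690
open Cfsg.Agent.Helper9.TC2

theorem m2_2857 : allRange 122851 43 (fun u => chkFix tab mwordsA u) = true := by decide +kernel

theorem m2_2858 : allRange 122894 43 (fun u => chkFix tab mwordsA u) = true := by decide +kernel

theorem m2_2859 : allRange 122937 43 (fun u => chkFix tab mwordsA u) = true := by decide +kernel

theorem m2_2860 : allRange 122980 43 (fun u => chkFix tab mwordsA u) = true := by decide +kernel

theorem m2_2861 : allRange 123023 43 (fun u => chkFix tab mwordsA u) = true := by decide +kernel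

theorem m2_2862 : allRange 123066 43 (fun u => chkFix tab mwordsA u) = true := by decide +kernel

theorem m2_2863 : allRange 123109 43 (fun u => chkFix tab mwordsA u) = true := by decide +kernel

theorem m2_2864 : allRange 123152 43 (fun u => chkFix tab mwordsA u) = true := by decide +kernel

theorem m2_2865 : allRange 123195 43 (fun u => chkFix tab mwordsA u) = true := by decide +kernel

theorem m2_2866 : allRange 123238 43 (fun u => chkFix tab mwordsA u) = true := by decide +kernel


end Cfsg.Agent.Helper9.TCData.X1690
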