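import Cfsg.Agent.Lib.Helper9.TCData.X1690.Main

set_option autoImplicit false
set_option maxRecDepth 1000000

namespace Cfsg.Agent.Helper9.TCData.X1690
open Cfsg.Agent.Helper9.TC2

theorem m2_2867 : allRange 123281 43 (fun u => chkFix tab mwordsA u) = true := by decide +kernel

theorem m2_2868 : allRange 123324 43 (fun u => chkFix tab mwordsA u) = true := by decide +kernel

theorem m2_2869 : allRange 123367 43 (fun u => chkFix tab mwordsA u) = true := by decide +kernel

theorem m2_2870 : allRange 123410 43 (fun u => chkFix tab mwordsA u) = true := by decide +kernel

theorem m2_2871 : allRange 123453 43 (fun u => chkFix tab mwordsA u) = true := by decide +kernel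

theorem m2_2872 : allRange 123496 43 (fun u => chkFix tab mwordsA u) = true := by decide +kernel

theorem m2_2873 : allRange 123539 43 (fun u => chkFix tab mwordsA u) = true := by decide +kernel

theorem m2_2874 : allRange 123582 43 (fun u => chkFix tab mwordsA u) = true := by decide +kernel

theorem m2_2875 : allRange 123625 43 (fun u => chkFix tab mwordsA u) = true := by decide +kernel

theorem m2_2876 : allRange 123668 43 (fun u => chkFix tab mwordsA u) = true := by decide +kernel


end Cfsg.Agent.Helper9.TCData.X1690
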