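import Cfsg.Agent.Lib.Helper9.TCData.X1690.Main

set_option autoImplicit false
set_option maxRecDepth 1000000

namespace Cfsg.Agent.Helper9.TCData.X1690
open Cfsg.Agent.Helper9.TC2

theorem m2_2887 : allRange 124141 43 (fun u => chkFix tab mwordsA u) = true := by decide +kernel

theorem m2_2888 : allRange 124184 43 (fun u => chkFix tab mwordsA u) = true := by decide +kernel

theorem m2_2889 : allRange 124227 43 (fun u => chkFix tab mwordsA u) = true := by decide +kernel

theorem m2_2890 : allRange 124270 43 (fun u => chkFix tab mwordsA u) = true := by decide +kernel

theorem m2_2891 : allRange 124313 43 (fun u => chkFix tab mwordsA u) = true := by decide +kernel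

theorem m2_2892 : allRange 124356 43 (fun u => chkFix tab mwordsA u) = true := by decide +kernel

theorem m2_2893 : allRange 124399 43 (fun u => chkFix tab mwordsA u) = true := by decide +kernel

theorem m2_2894 : allRange 124442 43 (fun u => chkFix tab mwordsA u) = true := by decide +kernel

theorem m2_2895 : allRange 124485 43 (fun u => chkFix tab mwordsA u) = true := by decide +kernel

theorem m2_2896 : allRange 124528 43 (fun u => chkFix tab mwordsA u) = true := by decide +kernel


end Cfsg.Agent.Helper9.TCData.X1690
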