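import Cfsg.Agent.Lib.Helper9.TCData.X1690.Main

set_option autoImplicit false
set_option maxRecDepth 1000000

namespace Cfsg.Agent.Helper9.TCData.X1690
open Cfsg.Agent.Helper9.TC2

theorem m2_2897 : allRange 124571 43 (fun u => chkFix tab mwordsA u) = true := by decide +kernel

theorem m2_2898 : allRange 124614 43 (fun u => chkFix tab mwordsA u) = true := by decide +kernel

theorem m2_2899 : allRange 124657 43 (fun u => chkFix tab mwordsA u) = true := by decide +kernel

theorem m2_2900 : allRange 124700 43 (fun u => chkFix tab mwordsA u) = true := by decide +kernel

theorem m2_2901 : allRange 124743 43 (fun u => chkFix tab mwordsA u) = true := by decide +kernel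

theorem m2_2902 : allRange 124786 43 (fun u => chkFix tab mwordsA u) = true := by decide +kernel

theorem m2_2903 : allRange 124829 43 (fun u => chkFix tab mwordsA u) = true := by decide +kernel

theorem m2_2904 : allRange 124872 43 (fun u => chkFix tab mwordsA u) = true := by decide +kernel

theorem m2_2905 : allRange 124915 43 (fun u => chkFix tab mwordsA u) = true := by decide +kernel

theorem m2_2906 : allRange 124958 43 (fun u => chkFix tab mwordsA u) = true := by decide +kernel


end Cfsg.Agent.Helper9.TCData.X1690
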