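import Cfsg.Agent.Lib.Helper9.TCData.X1690.Main

set_option autoImplicit false
set_option maxRecDepth 1000000

namespace Cfsg.Agent.Helper9.TCData.X1690
open Cfsg.Agent.Helper9.TC2

theorem m2_2907 : allRange 125001 43 (fun u => chkFix tab mwordsA u) = true := by decide +kernel

theorem m2_2908 : allRange 125044 43 (fun u => chkFix tab mwordsA u) = true := by decide +kernel

theorem m2_2909 : allRange 125087 43 (fun u => chkFix tab mwordsA u) = true := by decide +kernel

theorem m2_2910 : allRange 125130 43 (fun u => chkFix tab mwordsA u) = true := by decide +kernel

theorem m2_2911 : allRange 125173 43 (fun u => chkFix tab mwordsA u) = true := by decide +kernel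

theorem m2_2912 : allRange 125216 43 (fun u => chkFix tab mwordsA u) = true := by decide +kernel

theorem m2_2913 : allRange 125259 43 (fun u => chkFix tab mwordsA u) = true := by decide +kernel

theorem m2_2914 : allRange 125302 43 (fun u => chkFix tab mwordsA u) = true := by decide +kernel

theorem m2_2915 : allRange 125345 43 (fun u => chkFix tab mwordsA u) = true := by decide +kernel

theorem m2_2916 : allRange 125388 43 (fun u => chkFix tab mwordsA u) = true := by decide +kernel


end Cfsg.Agent.Helper9.TCData.X1690
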