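import Cfsg.Agent.Lib.Helper9.TCData.X1690.Main

set_option autoImplicit false
set_option maxRecDepth 1000000

namespace Cfsg.Agent.Helper9.TCData.X1690
open Cfsg.Agent.Helper9.TC2

theorem e4_87 : allRange 210677 2115 (fun u => chkE tab 4 u) = true := by decide +kernel

theorem e4_88 : allRange 212792 2549 (fun u => chkE tab 4 u) = true := by decide +kernel

theorem e4_89 : allRange 215341 2759 (fun u => chkE tab 4 u) = true := by decide +kernel

theorem e4_90 : allRange 218100 2678 (fun u => chkE tab 4 u) = true := by decide +kernel

theorem e4_91 : allRange 220778 2423 (fun u => chkE tab 4 u) = true := by decide +kernel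

theorem e4_92 : allRange 223201 2426 (fun u => chkE tab 4 u) = true := by decide +kernel

theorem e4_93 : allRange 225627 2536 (fun u => chkE tab 4 u) = true := by decide +kernel

theorem e4_94 : allRange 228163 2463 (fun u => chkE tab 4 u) = true := by decide +kernel

theorem e4_95 : allRange 230626 2190 (fun u => chkE tab 4 u) = true := by decide +kernel

theorem e4_96 : allRange 232816 2229 (fun u => chkE tab 4 u) = true := by decide +kernel


end Cfsg.Agent.Helper9.TCData.X1690
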