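import Cfsg.Agent.Lib.Helper9.TCData.X1690.Main

set_option autoImplicit false
set_option maxRecDepth 1000000

namespace Cfsg.Agent.Helper9.TCData.X1690
open Cfsg.Agent.Helper9.TC2

theorem m2_2917 : allRange 125431 43 (fun u => chkFix tab mwordsA u) = true := by decide +kernel

theorem m2_2918 : allRange 125474 43 (fun u => chkFix tab mwordsA u) = true := by decide +kernel

theorem m2_2919 : allRange 125517 43 (fun u => chkFix tab mwordsA u) = true := by decide +kernel

theorem m2_2920 : allRange 125560 43 (fun u => chkFix tab mwordsA u) = true := by decide +kernel

theorem m2_2921 : allRange 125603 43 (fun u => chkFix tab mwordsA u) = true := by decide +kernel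

theorem m2_2922 : allRange 125646 43 (fun u => chkFix tab mwordsA u) = true := by decide +kernel

theorem m2_2923 : allRange 125689 43 (fun u => chkFix tab mwordsA u) = true := by decide +kernel

theorem m2_2924 : allRange 125732 43 (fun u => chkFix tab mwordsA u) = true := by decide +kernel

theorem m2_2925 : allRange 125775 43 (fun u => chkFix tab mwordsA u) = true := by decide +kernel

theorem m2_2926 : allRange 125818 43 (fun u => chkFix tab mwordsA u) = true := by decide +kernel


end Cfsg.Agent.Helper9.TCData.X1690
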