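import Cfsg.Agent.Lib.Helper9.TCData.X1690.Main

set_option autoImplicit false
set_option maxRecDepth 1000000

namespace Cfsg.Agent.Helper9.TCData.X1690
open Cfsg.Agent.Helper9.TC2

theorem m2_2927 : allRange 125861 43 (fun u => chkFix tab mwordsA u) = true := by decide +kernel

theorem m2_2928 : allRange 125904 43 (fun u => chkFix tab mwordsA u) = true := by decide +kernel

theorem m2_2929 : allRange 125947 43 (fun u => chkFix tab mwordsA u) = true := by decide +kernel

theorem m2_2930 : allRange 125990 43 (fun u => chkFix tab mwordsA u) = true := by decide +kernel

theorem m2_2931 : allRange 126033 43 (fun u => chkFix tab mwordsA u) = true := by decide +kernel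

theorem m2_2932 : allRange 126076 43 (fun u => chkFix tab mwordsA u) = true := by decide +kernel

theorem m2_2933 : allRange 126119 43 (fun u => chkFix tab mwordsA u) = true := by decide +kernel

theorem m2_2934 : allRange 126162 43 (fun u => chkFix tab mwordsA u) = true := by decide +kernel

theorem m2_2935 : allRange 126205 43 (fun u => chkFix tab mwordsA u) = true := by decide +kernel

theorem m2_2936 : allRange 126248 43 (fun u => chkFix tab mwordsA u) = true := by decide +kernel


end Cfsg.Agent.Helper9.TCData.X1690
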