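import Cfsg.Agent.Lib.Helper9.TCData.X1690.Main

set_option autoImplicit false
set_option maxRecDepth 1000000

namespace Cfsg.Agent.Helper9.TCData.X1690
open Cfsg.Agent.Helper9.TC2

theorem m2_2937 : allRange 126291 43 (fun u => chkFix tab mwordsA u) = true := by decide +kernel

theorem m2_2938 : allRange 126334 43 (fun u => chkFix tab mwordsA u) = true := by decide +kernel

theorem m2_2939 : allRange 126377 43 (fun u => chkFix tab mwordsA u) = true := by decide +kernel

theorem m2_2940 : allRange 126420 43 (fun u => chkFix tab mwordsA u) = true := by decide +kernel

theorem m2_2941 : allRange 126463 43 (fun u => chkFix tab mwordsA u) = true := by decide +kernel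

theorem m2_2942 : allRange 126506 43 (fun u => chkFix tab mwordsA u) = true := by decide +kernel

theorem m2_2943 : allRange 126549 43 (fun u => chkFix tab mwordsA u) = true := by decide +kernel

theorem m2_2944 : allRange 126592 43 (fun u => chkFix tab mwordsA u) = true := by decide +kernel

theorem m2_2945 : allRange 126635 43 (fun u => chkFix tab mwordsA u) = true := by decide +kernel

theorem m2_2946 : allRange 126678 43 (fun u => chkFix tab mwordsA u) = true := by decide +kernel


end Cfsg.Agent.Helper9.TCData.X1690
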