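import Cfsg.Agent.Lib.Helper9.TCData.X1690.Main

set_option autoImplicit false
set_option maxRecDepth 1000000

namespace Cfsg.Agent.Helper9.TCData.X1690
open Cfsg.Agent.Helper9.TC2

theorem m2_2947 : allRange 126721 43 (fun u => chkFix tab mwordsA u) = true := by decide +kernel

theorem m2_2948 : allRange 126764 43 (fun u => chkFix tab mwordsA u) = true := by decide +kernel

theorem m2_2949 : allRange 126807 43 (fun u => chkFix tab mwordsA u) = true := by decide +kernel

theorem m2_2950 : allRange 126850 43 (fun u => chkFix tab mwordsA u) = true := by decide +kernel

theorem m2_2951 : allRange 126893 43 (fun u => chkFix tab mwordsA u) = true := by decide +kernel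

theorem m2_2952 : allRange 126936 43 (fun u => chkFix tab mwordsA u) = true := by decide +kernel

theorem m2_2953 : allRange 126979 43 (fun u => chkFix tab mwordsA u) = true := by decide +kernel

theorem m2_2954 : allRange 127022 43 (fun u => chkFix tab mwordsA u) = true := by decide +kernel

theorem m2_2955 : allRange 127065 43 (fun u => chkFix tab mwordsA u) = true := by decide +kernel

theorem m2_2956 : allRange 127108 43 (fun u => chkFix tab mwordsA u) = true := by decide +kernel


end Cfsg.Agent.Helper9.TCData.X1690
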