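import Cfsg.Agent.Lib.Helper9.TCData.X1690.Main

set_option autoImplicit false
set_option maxRecDepth 1000000

namespace Cfsg.Agent.Helper9.TCData.X1690
open Cfsg.Agent.Helper9.TC2

theorem m2_2957 : allRange 127151 43 (fun u => chkFix tab mwordsA u) = true := by decide +kernel

theorem m2_2958 : allRange 127194 43 (fun u => chkFix tab mwordsA u) = true := by decide +kernel

theorem m2_2959 : allRange 127237 43 (fun u => chkFix tab mwordsA u) = true := by decide +kernel

theorem m2_2960 : allRange 127280 43 (fun u => chkFix tab mwordsA u) = true := by decide +kernel

theorem m2_2961 : allRange 127323 43 (fun u => chkFix tab mwordsA u) = true := by decide +kernel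

theorem m2_2962 : allRange 127366 43 (fun u => chkFix tab mwordsA u) = true := by decide +kernel

theorem m2_2963 : allRange 127409 43 (fun u => chkFix tab mwordsA u) = true := by decide +kernel

theorem m2_2964 : allRange 127452 43 (fun u => chkFix tab mwordsA u) = true := by decide +kernel

theorem m2_2965 : allRange 127495 43 (fun u => chkFix tab mwordsA u) = true := by decide +kernel

theorem m2_2966 : allRange 127538 43 (fun u => chkFix tab mwordsA u) = true := by decide +kernel


end Cfsg.Agent.Helper9.TCData.X1690
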