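import Cfsg.Agent.Lib.Helper9.TCData.X1690.Main

set_option autoImplicit false
set_option maxRecDepth 1000000

namespace Cfsg.Agent.Helper9.TCData.X1690
open Cfsg.Agent.Helper9.TC2

theorem m2_2967 : allRange 127581 43 (fun u => chkFix tab mwordsA u) = true := by decide +kernel

theorem m2_2968 : allRange 127624 43 (fun u => chkFix tab mwordsA u) = true := by decide +kernel

theorem m2_2969 : allRange 127667 43 (fun u => chkFix tab mwordsA u) = true := by decide +kernel

theorem m2_2970 : allRange 127710 43 (fun u => chkFix tab mwordsA u) = true := by decide +kernel

theorem m2_2971 : allRange 127753 43 (fun u => chkFix tab mwordsA u) = true := by decide +kernel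

theorem m2_2972 : allRange 127796 43 (fun u => chkFix tab mwordsA u) = true := by decide +kernel

theorem m2_2973 : allRange 127839 43 (fun u => chkFix tab mwordsA u) = true := by decide +kernel

theorem m2_2974 : allRange 127882 43 (fun u => chkFix tab mwordsA u) = true := by decide +kernel

theorem m2_2975 : allRange 127925 43 (fun u => chkFix tab mwordsA u) = true := by decide +kernel

theorem m2_2976 : allRange 127968 43 (fun u => chkFix tab mwordsA u) = true := by decide +kernel


end Cfsg.Agent.Helper9.TCData.X1690
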