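import Cfsg.Agent.Lib.Helper9.TCData.X1690.Main

set_option autoImplicit false
set_option maxRecDepth 1000000

namespace Cfsg.Agent.Helper9.TCData.X1690
open Cfsg.Agent.Helper9.TC2

theorem m2_2977 : allRange 128011 43 (fun u => chkFix tab mwordsA u) = true := by decide +kernel

theorem m2_2978 : allRange 128054 43 (fun u => chkFix tab mwordsA u) = true := by decide +kernel

theorem m2_2979 : allRange 128097 43 (fun u => chkFix tab mwordsA u) = true := by decide +kernel

theorem m2_2980 : allRange 128140 43 (fun u => chkFix tab mwordsA u) = true := by decide +kernel

theorem m2_2981 : allRange 128183 43 (fun u => chkFix tab mwordsA u) = true := by decide +kernel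

theorem m2_2982 : allRange 128226 43 (fun u => chkFix tab mwordsA u) = true := by decide +kernel

theorem m2_2983 : allRange 128269 43 (fun u => chkFix tab mwordsA u) = true := by decide +kernel

theorem m2_2984 : allRange 128312 43 (fun u => chkFix tab mwordsA u) = true := by decide +kernel

theorem m2_2985 : allRange 128355 43 (fun u => chkFix tab mwordsA u) = true := by decide +kernel

theorem m2_2986 : allRange 128398 43 (fun u => chkFix tab mwordsA u) = true := by decide +kernel


end Cfsg.Agent.Helper9.TCData.X1690
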