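import Cfsg.Agent.Lib.Helper9.TCData.X1690.Main

set_option autoImplicit false
set_option maxRecDepth 1000000

namespace Cfsg.Agent.Helper9.TCData.X1690
open Cfsg.Agent.Helper9.TC2

theorem m2_2987 : allRange 128441 43 (fun u => chkFix tab mwordsA u) = true := by decide +kernel

theorem m2_2988 : allRange 128484 43 (fun u => chkFix tab mwordsA u) = true := by decide +kernel

theorem m2_2989 : allRange 128527 43 (fun u => chkFix tab mwordsA u) = true := by decide +kernel

theorem m2_2990 : allRange 128570 43 (fun u => chkFix tab mwordsA u) = true := by decide +kernel

theorem m2_2991 : allRange 128613 43 (fun u => chkFix tab mwordsA u) = true := by decide +kernel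

theorem m2_2992 : allRange 128656 43 (fun u => chkFix tab mwordsA u) = true := by decide +kernel

theorem m2_2993 : allRange 128699 43 (fun u => chkFix tab mwordsA u) = true := by decide +kernel

theorem m2_2994 : allRange 128742 43 (fun u => chkFix tab mwordsA u) = true := by decide +kernel

theorem m2_2995 : allRange 128785 43 (fun u => chkFix tab mwordsA u) = true := by decide +kernel

theorem m2_2996 : allRange 128828 43 (fun u => chkFix tab mwordsA u) = true := by decide +kernel


end Cfsg.Agent.Helper9.TCData.X1690
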