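import Cfsg.Agent.Lib.Helper9.TCData.X1690.Main

set_option autoImplicit false
set_option maxRecDepth 1000000

namespace Cfsg.Agent.Helper9.TCData.X1690
open Cfsg.Agent.Helper9.TC2

theorem m2_3007 : allRange 129301 43 (fun u => chkFix tab mwordsA u) = true := by decide +kernel

theorem m2_3008 : allRange 129344 43 (fun u => chkFix tab mwordsA u) = true := by decide +kernel

theorem m2_3009 : allRange 129387 43 (fun u => chkFix tab mwordsA u) = true := by decide +kernel

theorem m2_3010 : allRange 129430 43 (fun u => chkFix tab mwordsA u) = true := by decide +kernel

theorem m2_3011 : allRange 129473 43 (fun u => chkFix tab mwordsA u) = true := by decide +kernel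

theorem m2_3012 : allRange 129516 43 (fun u => chkFix tab mwordsA u) = true := by decide +kernel

theorem m2_3013 : allRange 129559 43 (fun u => chkFix tab mwordsA u) = true := by decide +kernel

theorem m2_3014 : allRange 129602 43 (fun u => chkFix tab mwordsA u) = true := by decide +kernel

theorem m2_3015 : allRange 129645 43 (fun u => chkFix tab mwordsA u) = true := by decide +kernel

theorem m2_3016 : allRange 129688 43 (fun u => chkFix tab mwordsA u) = true := by decide +kernel


end Cfsg.Agent.Helper9.TCData.X1690
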