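import Cfsg.Agent.Lib.Helper9.TCData.X1690.Main

set_option autoImplicit false
set_option maxRecDepth 1000000

namespace Cfsg.Agent.Helper9.TCData.X1690
open Cfsg.Agent.Helper9.TC2

theorem e4_97 : allRange 235045 2739 (fun u => chkE tab 4 u) = true := by decide +kernel

theorem e4_98 : allRange 237784 2933 (fun u => chkE tab 4 u) = true := by decide +kernel

theorem e4_99 : allRange 240717 2629 (fun u => chkE tab 4 u) = true := by decide +kernel

theorem e4_100 : allRange 243346 2534 (fun u => chkE tab 4 u) = true := by decide +kernel

theorem e4_101 : allRange 245880 2475 (fun u => chkE tab 4 u) = true := by decide +kernel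

theorem e4_102 : allRange 248355 2451 (fun u => chkE tab 4 u) = true := by decide +kernel

theorem e4_103 : allRange 250806 2568 (fun u => chkE tab 4 u) = true := by decide +kernel

theorem e4_104 : allRange 253374 2261 (fun u => chkE tab 4 u) = true := by decide +kernel

theorem e4_105 : allRange 255635 2288 (fun u => chkE tab 4 u) = true := by decide +kernel

theorem e4_106 : allRange 257923 2844 (fun u => chkE tab 4 u) = true := by decide +kernel


end Cfsg.Agent.Helper9.TCData.X1690
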