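import Cfsg.Agent.Lib.Helper9.TCData.X1690.Main

set_option autoImplicit false
set_option maxRecDepth 1000000

namespace Cfsg.Agent.Helper9.TCData.X1690
open Cfsg.Agent.Helper9.TC2

theorem m2_3017 : allRange 129731 43 (fun u => chkFix tab mwordsA u) = true := by decide +kernel

theorem m2_3018 : allRange 129774 43 (fun u => chkFix tab mwordsA u) = true := by decide +kernel

theorem m2_3019 : allRange 129817 43 (fun u => chkFix tab mwordsA u) = true := by decide +kernel

theorem m2_3020 : allRange 129860 43 (fun u => chkFix tab mwordsA u) = true := by decide +kernel

theorem m2_3021 : allRange 129903 43 (fun u => chkFix tab mwordsA u) = true := by decide +kernel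

theorem m2_3022 : allRange 129946 43 (fun u => chkFix tab mwordsA u) = true := by decide +kernel

theorem m2_3023 : allRange 129989 43 (fun u => chkFix tab mwordsA u) = true := by decide +kernel

theorem m2_3024 : allRange 130032 43 (fun u => chkFix tab mwordsA u) = true := by decide +kernel

theorem m2_3025 : allRange 130075 43 (fun u => chkFix tab mwordsA u) = true := by decide +kernel

theorem m2_3026 : allRange 130118 43 (fun u => chkFix tab mwordsA u) = true := by decide +kernel


end Cfsg.Agent.Helper9.TCData.X1690
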