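import Cfsg.Agent.Lib.Helper9.TCData.X1690.Main

set_option autoImplicit false
set_option maxRecDepth 1000000

namespace Cfsg.Agent.Helper9.TCData.X1690
open Cfsg.Agent.Helper9.TC2

theorem m2_3027 : allRange 130161 43 (fun u => chkFix tab mwordsA u) = true := by decide +kernel

theorem m2_3028 : allRange 130204 43 (fun u => chkFix tab mwordsA u) = true := by decide +kernel

theorem m2_3029 : allRange 130247 43 (fun u => chkFix tab mwordsA u) = true := by decide +kernel

theorem m2_3030 : allRange 130290 43 (fun u => chkFix tab mwordsA u) = true := by decide +kernel

theorem m2_3031 : allRange 130333 43 (fun u => chkFix tab mwordsA u) = true := by decide +kernel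

theorem m2_3032 : allRange 130376 43 (fun u => chkFix tab mwordsA u) = true := by decide +kernel

theorem m2_3033 : allRange 130419 43 (fun u => chkFix tab mwordsA u) = true := by decide +kernel

theorem m2_3034 : allRange 130462 43 (fun u => chkFix tab mwordsA u) = true := by decide +kernel

theorem m2_3035 : allRange 130505 43 (fun u => chkFix tab mwordsA u) = true := by decide +kernel

theorem m2_3036 : allRange 130548 43 (fun u => chkFix tab mwordsA u) = true := by decide +kernel


end Cfsg.Agent.Helper9.TCData.X1690
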