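import Cfsg.Agent.Lib.Helper9.TCData.X1690.Main

set_option autoImplicit false
set_option maxRecDepth 1000000

namespace Cfsg.Agent.Helper9.TCData.X1690
open Cfsg.Agent.Helper9.TC2

theorem m2_3037 : allRange 130591 43 (fun u => chkFix tab mwordsA u) = true := by decide +kernel

theorem m2_3038 : allRange 130634 43 (fun u => chkFix tab mwordsA u) = true := by decide +kernel

theorem m2_3039 : allRange 130677 43 (fun u => chkFix tab mwordsA u) = true := by decide +kernel

theorem m2_3040 : allRange 130720 43 (fun u => chkFix tab mwordsA u) = true := by decide +kernel

theorem m2_3041 : allRange 130763 43 (fun u => chkFix tab mwordsA u) = true := by decide +kernel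

theorem m2_3042 : allRange 130806 43 (fun u => chkFix tab mwordsA u) = true := by decide +kernel

theorem m2_3043 : allRange 130849 43 (fun u => chkFix tab mwordsA u) = true := by decide +kernel

theorem m2_3044 : allRange 130892 43 (fun u => chkFix tab mwordsA u) = true := by decide +kernel

theorem m2_3045 : allRange 130935 43 (fun u => chkFix tab mwordsA u) = true := by decide +kernel

theorem m2_3046 : allRange 130978 43 (fun u => chkFix tab mwordsA u) = true := by decide +kernel


end Cfsg.Agent.Helper9.TCData.X1690
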