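import Cfsg.Agent.Lib.Helper9.TCData.X1690.Main

set_option autoImplicit false
set_option maxRecDepth 1000000

namespace Cfsg.Agent.Helper9.TCData.X1690
open Cfsg.Agent.Helper9.TC2

theorem m2_3047 : allRange 131021 43 (fun u => chkFix tab mwordsA u) = true := by decide +kernel

theorem m2_3048 : allRange 131064 43 (fun u => chkFix tab mwordsA u) = true := by decide +kernel

theorem m2_3049 : allRange 131107 43 (fun u => chkFix tab mwordsA u) = true := by decide +kernel

theorem m2_3050 : allRange 131150 43 (fun u => chkFix tab mwordsA u) = true := by decide +kernel

theorem m2_3051 : allRange 131193 43 (fun u => chkFix tab mwordsA u) = true := by decide +kernel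

theorem m2_3052 : allRange 131236 43 (fun u => chkFix tab mwordsA u) = true := by decide +kernel

theorem m2_3053 : allRange 131279 43 (fun u => chkFix tab mwordsA u) = true := by decide +kernel

theorem m2_3054 : allRange 131322 43 (fun u => chkFix tab mwordsA u) = true := by decide +kernel

theorem m2_3055 : allRange 131365 43 (fun u => chkFix tab mwordsA u) = true := by decide +kernel

theorem m2_3056 : allRange 131408 43 (fun u => chkFix tab mwordsA u) = true := by decide +kernel


end Cfsg.Agent.Helper9.TCData.X1690
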