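import Cfsg.Agent.Lib.Helper9.TCData.X1690.Main

set_option autoImplicit false
set_option maxRecDepth 1000000

namespace Cfsg.Agent.Helper9.TCData.X1690
open Cfsg.Agent.Helper9.TC2

theorem m2_3057 : allRange 131451 43 (fun u => chkFix tab mwordsA u) = true := by decide +kernel

theorem m2_3058 : allRange 131494 43 (fun u => chkFix tab mwordsA u) = true := by decide +kernel

theorem m2_3059 : allRange 131537 43 (fun u => chkFix tab mwordsA u) = true := by decide +kernel

theorem m2_3060 : allRange 131580 43 (fun u => chkFix tab mwordsA u) = true := by decide +kernel

theorem m2_3061 : allRange 131623 43 (fun u => chkFix tab mwordsA u) = true := by decide +kernel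

theorem m2_3062 : allRange 131666 43 (fun u => chkFix tab mwordsA u) = true := by decide +kernel

theorem m2_3063 : allRange 131709 43 (fun u => chkFix tab mwordsA u) = true := by decide +kernel

theorem m2_3064 : allRange 131752 43 (fun u => chkFix tab mwordsA u) = true := by decide +kernel

theorem m2_3065 : allRange 131795 43 (fun u => chkFix tab mwordsA u) = true := by decide +kernel

theorem m2_3066 : allRange 131838 43 (fun u => chkFix tab mwordsA u) = true := by decide +kernel


end Cfsg.Agent.Helper9.TCData.X1690
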