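import Cfsg.Agent.Lib.Helper9.TCData.X1690.Main

set_option autoImplicit false
set_option maxRecDepth 1000000

namespace Cfsg.Agent.Helper9.TCData.X1690
open Cfsg.Agent.Helper9.TC2

theorem m2_3067 : allRange 131881 43 (fun u => chkFix tab mwordsA u) = true := by decide +kernel

theorem m2_3068 : allRange 131924 43 (fun u => chkFix tab mwordsA u) = true := by decide +kernel

theorem m2_3069 : allRange 131967 43 (fun u => chkFix tab mwordsA u) = true := by decide +kernel

theorem m2_3070 : allRange 132010 43 (fun u => chkFix tab mwordsA u) = true := by decide +kernel

theorem m2_3071 : allRange 132053 43 (fun u => chkFix tab mwordsA u) = true := by decide +kernel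

theorem m2_3072 : allRange 132096 43 (fun u => chkFix tab mwordsA u) = true := by decide +kernel

theorem m2_3073 : allRange 132139 43 (fun u => chkFix tab mwordsA u) = true := by decide +kernel

theorem m2_3074 : allRange 132182 43 (fun u => chkFix tab mwordsA u) = true := by decide +kernel

theorem m2_3075 : allRange 132225 43 (fun u => chkFix tab mwordsA u) = true := by decide +kernel

theorem m2_3076 : allRange 132268 43 (fun u => chkFix tab mwordsA u) = true := by decide +kernel


end Cfsg.Agent.Helper9.TCData.X1690
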