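import Cfsg.Agent.Lib.Helper9.TCData.X1690.Main

set_option autoImplicit false
set_option maxRecDepth 1000000

namespace Cfsg.Agent.Helper9.TCData.X1690
open Cfsg.Agent.Helper9.TC2

theorem m2_3077 : allRange 132311 43 (fun u => chkFix tab mwordsA u) = true := by decide +kernel

theorem m2_3078 : allRange 132354 43 (fun u => chkFix tab mwordsA u) = true := by decide +kernel

theorem m2_3079 : allRange 132397 43 (fun u => chkFix tab mwordsA u) = true := by decide +kernel

theorem m2_3080 : allRange 132440 43 (fun u => chkFix tab mwordsA u) = true := by decide +kernel

theorem m2_3081 : allRange 132483 43 (fun u => chkFix tab mwordsA u) = true := by decide +kernel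

theorem m2_3082 : allRange 132526 43 (fun u => chkFix tab mwordsA u) = true := by decide +kernel

theorem m2_3083 : allRange 132569 43 (fun u => chkFix tab mwordsA u) = true := by decide +kernel

theorem m2_3084 : allRange 132612 43 (fun u => chkFix tab mwordsA u) = true := by decide +kernel

theorem m2_3085 : allRange 132655 43 (fun u => chkFix tab mwordsA u) = true := by decide +kernel

theorem m2_3086 : allRange 132698 43 (fun u => chkFix tab mwordsA u) = true := by decide +kernel


end Cfsg.Agent.Helper9.TCData.X1690
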