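import Cfsg.Agent.Lib.Helper9.TCData.X1690.Main

set_option autoImplicit false
set_option maxRecDepth 1000000

namespace Cfsg.Agent.Helper9.TCData.X1690
open Cfsg.Agent.Helper9.TC2

theorem m2_3087 : allRange 132741 43 (fun u => chkFix tab mwordsA u) = true := by decide +kernel

theorem m2_3088 : allRange 132784 43 (fun u => chkFix tab mwordsA u) = true := by decide +kernel

theorem m2_3089 : allRange 132827 43 (fun u => chkFix tab mwordsA u) = true := by decide +kernel

theorem m2_3090 : allRange 132870 43 (fun u => chkFix tab mwordsA u) = true := by decide +kernel

theorem m2_3091 : allRange 132913 43 (fun u => chkFix tab mwordsA u) = true := by decide +kernel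

theorem m2_3092 : allRange 132956 43 (fun u => chkFix tab mwordsA u) = true := by decide +kernel

theorem m2_3093 : allRange 132999 43 (fun u => chkFix tab mwordsA u) = true := by decide +kernel

theorem m2_3094 : allRange 133042 43 (fun u => chkFix tab mwordsA u) = true := by decide +kernel

theorem m2_3095 : allRange 133085 43 (fun u => chkFix tab mwordsA u) = true := by decide +kernel

theorem m2_3096 : allRange 133128 43 (fun u => chkFix tab mwordsA u) = true := by decide +kernel


end Cfsg.Agent.Helper9.TCData.X1690
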