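import Cfsg.Agent.Lib.Helper9.TCData.X1690.Main

set_option autoImplicit false
set_option maxRecDepth 1000000

namespace Cfsg.Agent.Helper9.TCData.X1690
open Cfsg.Agent.Helper9.TC2

theorem m2_3097 : allRange 133171 43 (fun u => chkFix tab mwordsA u) = true := by decide +kernel

theorem m2_3098 : allRange 133214 43 (fun u => chkFix tab mwordsA u) = true := by decide +kernel

theorem m2_3099 : allRange 133257 43 (fun u => chkFix tab mwordsA u) = true := by decide +kernel

theorem m2_3100 : allRange 133300 43 (fun u => chkFix tab mwordsA u) = true := by decide +kernel

theorem m2_3101 : allRange 133343 43 (fun u => chkFix tab mwordsA u) = true := by decide +kernel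

theorem m2_3102 : allRange 133386 43 (fun u => chkFix tab mwordsA u) = true := by decide +kernel

theorem m2_3103 : allRange 133429 43 (fun u => chkFix tab mwordsA u) = true := by decide +kernel

theorem m2_3104 : allRange 133472 43 (fun u => chkFix tab mwordsA u) = true := by decide +kernel

theorem m2_3105 : allRange 133515 43 (fun u => chkFix tab mwordsA u) = true := by decide +kernel

theorem m2_3106 : allRange 133558 43 (fun u => chkFix tab mwordsA u) = true := by decide +kernel


end Cfsg.Agent.Helper9.TCData.X1690
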