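import Cfsg.Agent.Lib.Helper9.TCData.X1690.Main

set_option autoImplicit false
set_option maxRecDepth 1000000

namespace Cfsg.Agent.Helper9.TCData.X1690
open Cfsg.Agent.Helper9.TC2

theorem e4_107 : allRange 260767 2962 (fun u => chkE tab 4 u) = true := by decide +kernel

theorem e4_108 : allRange 263729 2698 (fun u => chkE tab 4 u) = true := by decide +kernel

theorem e4_109 : allRange 266427 2499 (fun u => chkE tab 4 u) = true := by decide +kernel

theorem e4_110 : allRange 268926 2509 (fun u => chkE tab 4 u) = true := by decide +kernel

theorem e4_111 : allRange 271435 2634 (fun u => chkE tab 4 u) = true := by decide +kernel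

theorem e4_112 : allRange 274069 2573 (fun u => chkE tab 4 u) = true := by decide +kernel

theorem e4_113 : allRange 276642 2472 (fun u => chkE tab 4 u) = true := by decide +kernel

theorem e4_114 : allRange 279114 2289 (fun u => chkE tab 4 u) = true := by decide +kernel

theorem e4_115 : allRange 281403 2715 (fun u => chkE tab 4 u) = true := by decide +kernel

theorem e4_116 : allRange 284118 2959 (fun u => chkE tab 4 u) = true := by decide +kernel


end Cfsg.Agent.Helper9.TCData.X1690
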