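import Cfsg.Agent.Lib.Helper9.TCData.X1690.Main

set_option autoImplicit false
set_option maxRecDepth 1000000

namespace Cfsg.Agent.Helper9.TCData.X1690
open Cfsg.Agent.Helper9.TC2

theorem m2_3127 : allRange 134461 43 (fun u => chkFix tab mwordsA u) = true := by decide +kernel

theorem m2_3128 : allRange 134504 43 (fun u => chkFix tab mwordsA u) = true := by decide +kernel

theorem m2_3129 : allRange 134547 43 (fun u => chkFix tab mwordsA u) = true := by decide +kernel

theorem m2_3130 : allRange 134590 43 (fun u => chkFix tab mwordsA u) = true := by decide +kernel

theorem m2_3131 : allRange 134633 43 (fun u => chkFix tab mwordsA u) = true := by decide +kernel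

theorem m2_3132 : allRange 134676 43 (fun u => chkFix tab mwordsA u) = true := by decide +kernel

theorem m2_3133 : allRange 134719 43 (fun u => chkFix tab mwordsA u) = true := by decide +kernel

theorem m2_3134 : allRange 134762 43 (fun u => chkFix tab mwordsA u) = true := by decide +kernel

theorem m2_3135 : allRange 134805 43 (fun u => chkFix tab mwordsA u) = true := by decide +kernel

theorem m2_3136 : allRange 134848 43 (fun u => chkFix tab mwordsA u) = true := by decide +kernel


end Cfsg.Agent.Helper9.TCData.X1690
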