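import Cfsg.Agent.Lib.Helper9.TCData.X1690.Main

set_option autoImplicit false
set_option maxRecDepth 1000000

namespace Cfsg.Agent.Helper9.TCData.X1690
open Cfsg.Agent.Helper9.TC2

theorem m2_3137 : allRange 134891 43 (fun u => chkFix tab mwordsA u) = true := by decide +kernel

theorem m2_3138 : allRange 134934 43 (fun u => chkFix tab mwordsA u) = true := by decide +kernel

theorem m2_3139 : allRange 134977 43 (fun u => chkFix tab mwordsA u) = true := by decide +kernel

theorem m2_3140 : allRange 135020 43 (fun u => chkFix tab mwordsA u) = true := by decide +kernel

theorem m2_3141 : allRange 135063 43 (fun u => chkFix tab mwordsA u) = true := by decide +kernel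

theorem m2_3142 : allRange 135106 43 (fun u => chkFix tab mwordsA u) = true := by decide +kernel

theorem m2_3143 : allRange 135149 43 (fun u => chkFix tab mwordsA u) = true := by decide +kernel

theorem m2_3144 : allRange 135192 43 (fun u => chkFix tab mwordsA u) = true := by decide +kernel

theorem m2_3145 : allRange 135235 43 (fun u => chkFix tab mwordsA u) = true := by decide +kernel

theorem m2_3146 : allRange 135278 43 (fun u => chkFix tab mwordsA u) = true := by decide +kernel


end Cfsg.Agent.Helper9.TCData.X1690
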