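import Cfsg.Agent.Lib.Helper9.TCData.X1690.Main

set_option autoImplicit false
set_option maxRecDepth 1000000

namespace Cfsg.Agent.Helper9.TCData.X1690
open Cfsg.Agent.Helper9.TC2

theorem m2_3147 : allRange 135321 43 (fun u => chkFix tab mwordsA u) = true := by decide +kernel

theorem m2_3148 : allRange 135364 43 (fun u => chkFix tab mwordsA u) = true := by decide +kernel

theorem m2_3149 : allRange 135407 43 (fun u => chkFix tab mwordsA u) = true := by decide +kernel

theorem m2_3150 : allRange 135450 43 (fun u => chkFix tab mwordsA u) = true := by decide +kernel

theorem m2_3151 : allRange 135493 43 (fun u => chkFix tab mwordsA u) = true := by decide +kernel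

theorem m2_3152 : allRange 135536 43 (fun u => chkFix tab mwordsA u) = true := by decide +kernel

theorem m2_3153 : allRange 135579 43 (fun u => chkFix tab mwordsA u) = true := by decide +kernel

theorem m2_3154 : allRange 135622 43 (fun u => chkFix tab mwordsA u) = true := by decide +kernel

theorem m2_3155 : allRange 135665 43 (fun u => chkFix tab mwordsA u) = true := by decide +kernel

theorem m2_3156 : allRange 135708 43 (fun u => chkFix tab mwordsA u) = true := by decide +kernel


end Cfsg.Agent.Helper9.TCData.X1690
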