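import Cfsg.Agent.Lib.Helper9.TCData.X1690.Main

set_option autoImplicit false
set_option maxRecDepth 1000000

namespace Cfsg.Agent.Helper9.TCData.X1690
open Cfsg.Agent.Helper9.TC2

theorem m2_3157 : allRange 135751 43 (fun u => chkFix tab mwordsA u) = true := by decide +kernel

theorem m2_3158 : allRange 135794 43 (fun u => chkFix tab mwordsA u) = true := by decide +kernel

theorem m2_3159 : allRange 135837 43 (fun u => chkFix tab mwordsA u) = true := by decide +kernel

theorem m2_3160 : allRange 135880 43 (fun u => chkFix tab mwordsA u) = true := by decide +kernel

theorem m2_3161 : allRange 135923 43 (fun u => chkFix tab mwordsA u) = true := by decide +kernel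

theorem m2_3162 : allRange 135966 43 (fun u => chkFix tab mwordsA u) = true := by decide +kernel

theorem m2_3163 : allRange 136009 43 (fun u => chkFix tab mwordsA u) = true := by decide +kernel

theorem m2_3164 : allRange 136052 43 (fun u => chkFix tab mwordsA u) = true := by decide +kernel

theorem m2_3165 : allRange 136095 43 (fun u => chkFix tab mwordsA u) = true := by decide +kernel

theorem m2_3166 : allRange 136138 43 (fun u => chkFix tab mwordsA u) = true := by decide +kernel


end Cfsg.Agent.Helper9.TCData.X1690
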