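import Cfsg.Agent.Lib.Helper9.TCData.X1690.Main

set_option autoImplicit false
set_option maxRecDepth 1000000

namespace Cfsg.Agent.Helper9.TCData.X1690
open Cfsg.Agent.Helper9.TC2

theorem m2_3167 : allRange 136181 43 (fun u => chkFix tab mwordsA u) = true := by decide +kernel

theorem m2_3168 : allRange 136224 43 (fun u => chkFix tab mwordsA u) = true := by decide +kernel

theorem m2_3169 : allRange 136267 43 (fun u => chkFix tab mwordsA u) = true := by decide +kernel

theorem m2_3170 : allRange 136310 43 (fun u => chkFix tab mwordsA u) = true := by decide +kernel

theorem m2_3171 : allRange 136353 43 (fun u => chkFix tab mwordsA u) = true := by decide +kernel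

theorem m2_3172 : allRange 136396 43 (fun u => chkFix tab mwordsA u) = true := by decide +kernel

theorem m2_3173 : allRange 136439 43 (fun u => chkFix tab mwordsA u) = true := by decide +kernel

theorem m2_3174 : allRange 136482 43 (fun u => chkFix tab mwordsA u) = true := by decide +kernel

theorem m2_3175 : allRange 136525 43 (fun u => chkFix tab mwordsA u) = true := by decide +kernel

theorem m2_3176 : allRange 136568 43 (fun u => chkFix tab mwordsA u) = true := by decide +kernel


end Cfsg.Agent.Helper9.TCData.X1690
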