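import Cfsg.Agent.Lib.Helper9.TCData.X1690.Main

set_option autoImplicit false
set_option maxRecDepth 1000000

namespace Cfsg.Agent.Helper9.TCData.X1690
open Cfsg.Agent.Helper9.TC2

theorem m2_3177 : allRange 136611 43 (fun u => chkFix tab mwordsA u) = true := by decide +kernel

theorem m2_3178 : allRange 136654 43 (fun u => chkFix tab mwordsA u) = true := by decide +kernel

theorem m2_3179 : allRange 136697 43 (fun u => chkFix tab mwordsA u) = true := by decide +kernel

theorem m2_3180 : allRange 136740 43 (fun u => chkFix tab mwordsA u) = true := by decide +kernel

theorem m2_3181 : allRange 136783 43 (fun u => chkFix tab mwordsA u) = true := by decide +kernel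

theorem m2_3182 : allRange 136826 43 (fun u => chkFix tab mwordsA u) = true := by decide +kernel

theorem m2_3183 : allRange 136869 43 (fun u => chkFix tab mwordsA u) = true := by decide +kernel

theorem m2_3184 : allRange 136912 43 (fun u => chkFix tab mwordsA u) = true := by decide +kernel

theorem m2_3185 : allRange 136955 43 (fun u => chkFix tab mwordsA u) = true := by decide +kernel

theorem m2_3186 : allRange 136998 43 (fun u => chkFix tab mwordsA u) = true := by decide +kernel


end Cfsg.Agent.Helper9.TCData.X1690
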