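import Cfsg.Agent.Lib.Helper9.TCData.X1690.Main

set_option autoImplicit false
set_option maxRecDepth 1000000

namespace Cfsg.Agent.Helper9.TCData.X1690
open Cfsg.Agent.Helper9.TC2

theorem m2_3187 : allRange 137041 43 (fun u => chkFix tab mwordsA u) = true := by decide +kernel

theorem m2_3188 : allRange 137084 43 (fun u => chkFix tab mwordsA u) = true := by decide +kernel

theorem m2_3189 : allRange 137127 43 (fun u => chkFix tab mwordsA u) = true := by decide +kernel

theorem m2_3190 : allRange 137170 43 (fun u => chkFix tab mwordsA u) = true := by decide +kernel

theorem m2_3191 : allRange 137213 43 (fun u => chkFix tab mwordsA u) = true := by decide +kernel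

theorem m2_3192 : allRange 137256 43 (fun u => chkFix tab mwordsA u) = true := by decide +kernel

theorem m2_3193 : allRange 137299 43 (fun u => chkFix tab mwordsA u) = true := by decide +kernel

theorem m2_3194 : allRange 137342 43 (fun u => chkFix tab mwordsA u) = true := by decide +kernel

theorem m2_3195 : allRange 137385 43 (fun u => chkFix tab mwordsA u) = true := by decide +kernel

theorem m2_3196 : allRange 137428 43 (fun u => chkFix tab mwordsA u) = true := by decide +kernel


end Cfsg.Agent.Helper9.TCData.X1690
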