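import Cfsg.Agent.Lib.Helper9.TCData.X1690.Main

set_option autoImplicit false
set_option maxRecDepth 1000000

namespace Cfsg.Agent.Helper9.TCData.X1690
open Cfsg.Agent.Helper9.TC2

theorem m2_3197 : allRange 137471 43 (fun u => chkFix tab mwordsA u) = true := by decide +kernel

theorem m2_3198 : allRange 137514 43 (fun u => chkFix tab mwordsA u) = true := by decide +kernel

theorem m2_3199 : allRange 137557 43 (fun u => chkFix tab mwordsA u) = true := by decide +kernel

theorem m2_3200 : allRange 137600 43 (fun u => chkFix tab mwordsA u) = true := by decide +kernel

theorem m2_3201 : allRange 137643 43 (fun u => chkFix tab mwordsA u) = true := by decide +kernel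

theorem m2_3202 : allRange 137686 43 (fun u => chkFix tab mwordsA u) = true := by decide +kernel

theorem m2_3203 : allRange 137729 43 (fun u => chkFix tab mwordsA u) = true := by decide +kernel

theorem m2_3204 : allRange 137772 43 (fun u => chkFix tab mwordsA u) = true := by decide +kernel

theorem m2_3205 : allRange 137815 43 (fun u => chkFix tab mwordsA u) = true := by decide +kernel

theorem m2_3206 : allRange 137858 43 (fun u => chkFix tab mwordsA u) = true := by decide +kernel


end Cfsg.Agent.Helper9.TCData.X1690
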