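import Cfsg.Agent.Lib.Helper9.TCData.X1690.Main

set_option autoImplicit false
set_option maxRecDepth 1000000

namespace Cfsg.Agent.Helper9.TCData.X1690
open Cfsg.Agent.Helper9.TC2

theorem m2_3207 : allRange 137901 43 (fun u => chkFix tab mwordsA u) = true := by decide +kernel

theorem m2_3208 : allRange 137944 43 (fun u => chkFix tab mwordsA u) = true := by decide +kernel

theorem m2_3209 : allRange 137987 43 (fun u => chkFix tab mwordsA u) = true := by decide +kernel

theorem m2_3210 : allRange 138030 43 (fun u => chkFix tab mwordsA u) = true := by decide +kernel

theorem m2_3211 : allRange 138073 43 (fun u => chkFix tab mwordsA u) = true := by decide +kernel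

theorem m2_3212 : allRange 138116 43 (fun u => chkFix tab mwordsA u) = true := by decide +kernel

theorem m2_3213 : allRange 138159 43 (fun u => chkFix tab mwordsA u) = true := by decide +kernel

theorem m2_3214 : allRange 138202 43 (fun u => chkFix tab mwordsA u) = true := by decide +kernel

theorem m2_3215 : allRange 138245 43 (fun u => chkFix tab mwordsA u) = true := by decide +kernel

theorem m2_3216 : allRange 138288 43 (fun u => chkFix tab mwordsA u) = true := by decide +kernel


end Cfsg.Agent.Helper9.TCData.X1690
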