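import Cfsg.Agent.Lib.Helper9.TCData.X1690.Main

set_option autoImplicit false
set_option maxRecDepth 1000000

namespace Cfsg.Agent.Helper9.TCData.X1690
open Cfsg.Agent.Helper9.TC2

theorem e4_117 : allRange 287077 2785 (fun u => chkE tab 4 u) = true := by decide +kernel

theorem e4_118 : allRange 289862 2626 (fun u => chkE tab 4 u) = true := by decide +kernel

theorem e4_119 : allRange 292488 2472 (fun u => chkE tab 4 u) = true := by decide +kernel

theorem e4_120 : allRange 294960 2579 (fun u => chkE tab 4 u) = true := by decide +kernel

theorem e4_121 : allRange 297539 2474 (fun u => chkE tab 4 u) = true := by decide +kernel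

theorem e4_122 : allRange 300013 2562 (fun u => chkE tab 4 u) = true := by decide +kernel

theorem e4_123 : allRange 302575 2424 (fun u => chkE tab 4 u) = true := by decide +kernel

theorem e4_124 : allRange 304999 2333 (fun u => chkE tab 4 u) = true := by decide +kernel

theorem e4_125 : allRange 307332 2755 (fun u => chkE tab 4 u) = true := by decide +kernel

theorem e4_126 : allRange 310087 2940 (fun u => chkE tab 4 u) = true := by decide +kernel


end Cfsg.Agent.Helper9.TCData.X1690
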