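import Cfsg.Agent.Lib.Helper9.TCData.X1690.Main

set_option autoImplicit false
set_option maxRecDepth 1000000

namespace Cfsg.Agent.Helper9.TCData.X1690
open Cfsg.Agent.Helper9.TC2

theorem m2_3217 : allRange 138331 43 (fun u => chkFix tab mwordsA u) = true := by decide +kernel

theorem m2_3218 : allRange 138374 43 (fun u => chkFix tab mwordsA u) = true := by decide +kernel

theorem m2_3219 : allRange 138417 43 (fun u => chkFix tab mwordsA u) = true := by decide +kernel

theorem m2_3220 : allRange 138460 43 (fun u => chkFix tab mwordsA u) = true := by decide +kernel

theorem m2_3221 : allRange 138503 43 (fun u => chkFix tab mwordsA u) = true := by decide +kernel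

theorem m2_3222 : allRange 138546 43 (fun u => chkFix tab mwordsA u) = true := by decide +kernel

theorem m2_3223 : allRange 138589 43 (fun u => chkFix tab mwordsA u) = true := by decide +kernel

theorem m2_3224 : allRange 138632 43 (fun u => chkFix tab mwordsA u) = true := by decide +kernel

theorem m2_3225 : allRange 138675 43 (fun u => chkFix tab mwordsA u) = true := by decide +kernel

theorem m2_3226 : allRange 138718 43 (fun u => chkFix tab mwordsA u) = true := by decide +kernel


end Cfsg.Agent.Helper9.TCData.X1690
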