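import Cfsg.Agent.Lib.Helper9.TCData.X1690.Main

set_option autoImplicit false
set_option maxRecDepth 1000000

namespace Cfsg.Agent.Helper9.TCData.X1690
open Cfsg.Agent.Helper9.TC2

theorem m2_3227 : allRange 138761 43 (fun u => chkFix tab mwordsA u) = true := by decide +kernel

theorem m2_3228 : allRange 138804 43 (fun u => chkFix tab mwordsA u) = true := by decide +kernel

theorem m2_3229 : allRange 138847 43 (fun u => chkFix tab mwordsA u) = true := by decide +kernel

theorem m2_3230 : allRange 138890 43 (fun u => chkFix tab mwordsA u) = true := by decide +kernel

theorem m2_3231 : allRange 138933 43 (fun u => chkFix tab mwordsA u) = true := by decide +kernel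

theorem m2_3232 : allRange 138976 43 (fun u => chkFix tab mwordsA u) = true := by decide +kernel

theorem m2_3233 : allRange 139019 43 (fun u => chkFix tab mwordsA u) = true := by decide +kernel

theorem m2_3234 : allRange 139062 43 (fun u => chkFix tab mwordsA u) = true := by decide +kernel

theorem m2_3235 : allRange 139105 43 (fun u => chkFix tab mwordsA u) = true := by decide +kernel

theorem m2_3236 : allRange 139148 43 (fun u => chkFix tab mwordsA u) = true := by decide +kernel


end Cfsg.Agent.Helper9.TCData.X1690
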