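import Cfsg.Agent.Lib.Helper9.TCData.X1690.Main

set_option autoImplicit false
set_option maxRecDepth 1000000

namespace Cfsg.Agent.Helper9.TCData.X1690
open Cfsg.Agent.Helper9.TC2

theorem m2_3247 : allRange 139621 43 (fun u => chkFix tab mwordsA u) = true := by decide +kernel

theorem m2_3248 : allRange 139664 43 (fun u => chkFix tab mwordsA u) = true := by decide +kernel

theorem m2_3249 : allRange 139707 43 (fun u => chkFix tab mwordsA u) = true := by decide +kernel

theorem m2_3250 : allRange 139750 43 (fun u => chkFix tab mwordsA u) = true := by decide +kernel

theorem m2_3251 : allRange 139793 43 (fun u => chkFix tab mwordsA u) = true := by decide +kernel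

theorem m2_3252 : allRange 139836 43 (fun u => chkFix tab mwordsA u) = true := by decide +kernel

theorem m2_3253 : allRange 139879 43 (fun u => chkFix tab mwordsA u) = true := by decide +kernel

theorem m2_3254 : allRange 139922 43 (fun u => chkFix tab mwordsA u) = true := by decide +kernel

theorem m2_3255 : allRange 139965 43 (fun u => chkFix tab mwordsA u) = true := by decide +kernel

theorem m2_3256 : allRange 140008 43 (fun u => chkFix tab mwordsA u) = true := by decide +kernel


end Cfsg.Agent.Helper9.TCData.X1690
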