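import Cfsg.Agent.Lib.Helper9.TCData.X1690.Main

set_option autoImplicit false
set_option maxRecDepth 1000000

namespace Cfsg.Agent.Helper9.TCData.X1690
open Cfsg.Agent.Helper9.TC2

theorem m2_3257 : allRange 140051 43 (fun u => chkFix tab mwordsA u) = true := by decide +kernel

theorem m2_3258 : allRange 140094 43 (fun u => chkFix tab mwordsA u) = true := by decide +kernel

theorem m2_3259 : allRange 140137 43 (fun u => chkFix tab mwordsA u) = true := by decide +kernel

theorem m2_3260 : allRange 140180 43 (fun u => chkFix tab mwordsA u) = true := by decide +kernel

theorem m2_3261 : allRange 140223 43 (fun u => chkFix tab mwordsA u) = true := by decide +kernel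

theorem m2_3262 : allRange 140266 43 (fun u => chkFix tab mwordsA u) = true := by decide +kernel

theorem m2_3263 : allRange 140309 43 (fun u => chkFix tab mwordsA u) = true := by decide +kernel

theorem m2_3264 : allRange 140352 43 (fun u => chkFix tab mwordsA u) = true := by decide +kernel

theorem m2_3265 : allRange 140395 43 (fun u => chkFix tab mwordsA u) = true := by decide +kernel

theorem m2_3266 : allRange 140438 43 (fun u => chkFix tab mwordsA u) = true := by decide +kernel


end Cfsg.Agent.Helper9.TCData.X1690
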