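import Cfsg.Agent.Lib.Helper9.TCData.X1690.Main

set_option autoImplicit false
set_option maxRecDepth 1000000

namespace Cfsg.Agent.Helper9.TCData.X1690
open Cfsg.Agent.Helper9.TC2

theorem m2_3267 : allRange 140481 43 (fun u => chkFix tab mwordsA u) = true := by decide +kernel

theorem m2_3268 : allRange 140524 43 (fun u => chkFix tab mwordsA u) = true := by decide +kernel

theorem m2_3269 : allRange 140567 43 (fun u => chkFix tab mwordsA u) = true := by decide +kernel

theorem m2_3270 : allRange 140610 43 (fun u => chkFix tab mwordsA u) = true := by decide +kernel

theorem m2_3271 : allRange 140653 43 (fun u => chkFix tab mwordsA u) = true := by decide +kernel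

theorem m2_3272 : allRange 140696 43 (fun u => chkFix tab mwordsA u) = true := by decide +kernel

theorem m2_3273 : allRange 140739 43 (fun u => chkFix tab mwordsA u) = true := by decide +kernel

theorem m2_3274 : allRange 140782 43 (fun u => chkFix tab mwordsA u) = true := by decide +kernel

theorem m2_3275 : allRange 140825 43 (fun u => chkFix tab mwordsA u) = true := by decide +kernel

theorem m2_3276 : allRange 140868 43 (fun u => chkFix tab mwordsA u) = true := by decide +kernel


end Cfsg.Agent.Helper9.TCData.X1690
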