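import Cfsg.Agent.Lib.Helper9.TCData.X1690.Main

set_option autoImplicit false
set_option maxRecDepth 1000000

namespace Cfsg.Agent.Helper9.TCData.X1690
open Cfsg.Agent.Helper9.TC2

theorem m2_3277 : allRange 140911 43 (fun u => chkFix tab mwordsA u) = true := by decide +kernel

theorem m2_3278 : allRange 140954 43 (fun u => chkFix tab mwordsA u) = true := by decide +kernel

theorem m2_3279 : allRange 140997 43 (fun u => chkFix tab mwordsA u) = true := by decide +kernel

theorem m2_3280 : allRange 141040 43 (fun u => chkFix tab mwordsA u) = true := by decide +kernel

theorem m2_3281 : allRange 141083 43 (fun u => chkFix tab mwordsA u) = true := by decide +kernel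

theorem m2_3282 : allRange 141126 43 (fun u => chkFix tab mwordsA u) = true := by decide +kernel

theorem m2_3283 : allRange 141169 43 (fun u => chkFix tab mwordsA u) = true := by decide +kernel

theorem m2_3284 : allRange 141212 43 (fun u => chkFix tab mwordsA u) = true := by decide +kernel

theorem m2_3285 : allRange 141255 43 (fun u => chkFix tab mwordsA u) = true := by decide +kernel

theorem m2_3286 : allRange 141298 43 (fun u => chkFix tab mwordsA u) = true := by decide +kernel


end Cfsg.Agent.Helper9.TCData.X1690
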