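import Cfsg.Agent.Lib.Helper9.TCData.X1690.Main

set_option autoImplicit false
set_option maxRecDepth 1000000

namespace Cfsg.Agent.Helper9.TCData.X1690
open Cfsg.Agent.Helper9.TC2

theorem m2_3287 : allRange 141341 43 (fun u => chkFix tab mwordsA u) = true := by decide +kernel

theorem m2_3288 : allRange 141384 43 (fun u => chkFix tab mwordsA u) = true := by decide +kernel

theorem m2_3289 : allRange 141427 43 (fun u => chkFix tab mwordsA u) = true := by decide +kernel

theorem m2_3290 : allRange 141470 43 (fun u => chkFix tab mwordsA u) = true := by decide +kernel

theorem m2_3291 : allRange 141513 43 (fun u => chkFix tab mwordsA u) = true := by decide +kernel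

theorem m2_3292 : allRange 141556 43 (fun u => chkFix tab mwordsA u) = true := by decide +kernel

theorem m2_3293 : allRange 141599 43 (fun u => chkFix tab mwordsA u) = true := by decide +kernel

theorem m2_3294 : allRange 141642 43 (fun u => chkFix tab mwordsA u) = true := by decide +kernel

theorem m2_3295 : allRange 141685 43 (fun u => chkFix tab mwordsA u) = true := by decide +kernel

theorem m2_3296 : allRange 141728 43 (fun u => chkFix tab mwordsA u) = true := by decide +kernel


end Cfsg.Agent.Helper9.TCData.X1690
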