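import Cfsg.Agent.Lib.Helper9.TCData.X1690.Main

set_option autoImplicit false
set_option maxRecDepth 1000000

namespace Cfsg.Agent.Helper9.TCData.X1690
open Cfsg.Agent.Helper9.TC2

theorem m2_3297 : allRange 141771 43 (fun u => chkFix tab mwordsA u) = true := by decide +kernel

theorem m2_3298 : allRange 141814 43 (fun u => chkFix tab mwordsA u) = true := by decide +kernel

theorem m2_3299 : allRange 141857 43 (fun u => chkFix tab mwordsA u) = true := by decide +kernel

theorem m2_3300 : allRange 141900 43 (fun u => chkFix tab mwordsA u) = true := by decide +kernel

theorem m2_3301 : allRange 141943 43 (fun u => chkFix tab mwordsA u) = true := by decide +kernel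

theorem m2_3302 : allRange 141986 43 (fun u => chkFix tab mwordsA u) = true := by decide +kernel

theorem m2_3303 : allRange 142029 43 (fun u => chkFix tab mwordsA u) = true := by decide +kernel

theorem m2_3304 : allRange 142072 43 (fun u => chkFix tab mwordsA u) = true := by decide +kernel

theorem m2_3305 : allRange 142115 43 (fun u => chkFix tab mwordsA u) = true := by decide +kernel

theorem m2_3306 : allRange 142158 43 (fun u => chkFix tab mwordsA u) = true := by decide +kernel


end Cfsg.Agent.Helper9.TCData.X1690
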