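import Cfsg.Agent.Lib.Helper9.TCData.X1690.Main

set_option autoImplicit false
set_option maxRecDepth 1000000

namespace Cfsg.Agent.Helper9.TCData.X1690
open Cfsg.Agent.Helper9.TC2

theorem e0_80 : allRange 181547 3967 (fun u => chkE tab 0 u) = true := by decide +kernel

theorem e0_81 : allRange 185514 1613 (fun u => chkE tab 0 u) = true := by decide +kernel

theorem e0_82 : allRange 187127 1647 (fun u => chkE tab 0 u) = true := by decide +kernel

theorem e0_83 : allRange 188774 1772 (fun u => chkE tab 0 u) = true := by decide +kernel

theorem e0_84 : allRange 190546 1602 (fun u => chkE tab 0 u) = true := by decide +kernel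

theorem e0_85 : allRange 192148 1567 (fun u => chkE tab 0 u) = true := by decide +kernel

theorem e0_86 : allRange 193715 1569 (fun u => chkE tab 0 u) = true := by decide +kernel

theorem e0_87 : allRange 195284 3431 (fun u => chkE tab 0 u) = true := by decide +kernel

theorem e0_88 : allRange 198715 5249 (fun u => chkE tab 0 u) = true := by decide +kernel

theorem e0_89 : allRange 203964 1628 (fun u => chkE tab 0 u) = true := by decide +kernel


end Cfsg.Agent.Helper9.TCData.X1690
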