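import Cfsg.Agent.Lib.Helper9.TCData.X1690.Main

set_option autoImplicit false
set_option maxRecDepth 1000000

namespace Cfsg.Agent.Helper9.TCData.X1690
open Cfsg.Agent.Helper9.TC2

theorem e4_127 : allRange 313027 2658 (fun u => chkE tab 4 u) = true := by decide +kernel

theorem e4_128 : allRange 315685 2600 (fun u => chkE tab 4 u) = true := by decide +kernel

theorem e4_129 : allRange 318285 2406 (fun u => chkE tab 4 u) = true := by decide +kernel

theorem e4_130 : allRange 320691 2539 (fun u => chkE tab 4 u) = true := by decide +kernel

theorem e4_131 : allRange 323230 2414 (fun u => chkE tab 4 u) = true := by decide +kernel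

theorem e4_132 : allRange 325644 2508 (fun u => chkE tab 4 u) = true := by decide +kernel

theorem e4_133 : allRange 328152 2313 (fun u => chkE tab 4 u) = true := by decide +kernel

theorem e4_134 : allRange 330465 2378 (fun u => chkE tab 4 u) = true := by decide +kernel

theorem e4_135 : allRange 332843 2733 (fun u => chkE tab 4 u) = true := by decide +kernel

theorem e4_136 : allRange 335576 2875 (fun u => chkE tab 4 u) = true := by decide +kernel


end Cfsg.Agent.Helper9.TCData.X1690
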