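import Cfsg.Agent.Lib.Helper9.TCData.X1690.Main

set_option autoImplicit false
set_option maxRecDepth 1000000

namespace Cfsg.Agent.Helper9.TCData.X1690
open Cfsg.Agent.Helper9.TC2

theorem m2_3317 : allRange 142631 43 (fun u => chkFix tab mwordsA u) = true := by decide +kernel

theorem m2_3318 : allRange 142674 43 (fun u => chkFix tab mwordsA u) = true := by decide +kernel

theorem m2_3319 : allRange 142717 43 (fun u => chkFix tab mwordsA u) = true := by decide +kernel

theorem m2_3320 : allRange 142760 43 (fun u => chkFix tab mwordsA u) = true := by decide +kernel

theorem m2_3321 : allRange 142803 43 (fun u => chkFix tab mwordsA u) = true := by decide +kernel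

theorem m2_3322 : allRange 142846 43 (fun u => chkFix tab mwordsA u) = true := by decide +kernel

theorem m2_3323 : allRange 142889 43 (fun u => chkFix tab mwordsA u) = true := by decide +kernel

theorem m2_3324 : allRange 142932 43 (fun u => chkFix tab mwordsA u) = true := by decide +kernel

theorem m2_3325 : allRange 142975 43 (fun u => chkFix tab mwordsA u) = true := by decide +kernel

theorem m2_3326 : allRange 143018 43 (fun u => chkFix tab mwordsA u) = true := by decide +kernel


end Cfsg.Agent.Helper9.TCData.X1690
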