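import Cfsg.Agent.Lib.Helper9.TCData.X1690.Main

set_option autoImplicit false
set_option maxRecDepth 1000000

namespace Cfsg.Agent.Helper9.TCData.X1690
open Cfsg.Agent.Helper9.TC2

theorem m2_3327 : allRange 143061 43 (fun u => chkFix tab mwordsA u) = true := by decide +kernel

theorem m2_3328 : allRange 143104 43 (fun u => chkFix tab mwordsA u) = true := by decide +kernel

theorem m2_3329 : allRange 143147 43 (fun u => chkFix tab mwordsA u) = true := by decide +kernel

theorem m2_3330 : allRange 143190 43 (fun u => chkFix tab mwordsA u) = true := by decide +kernel

theorem m2_3331 : allRange 143233 43 (fun u => chkFix tab mwordsA u) = true := by decide +kernel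

theorem m2_3332 : allRange 143276 43 (fun u => chkFix tab mwordsA u) = true := by decide +kernel

theorem m2_3333 : allRange 143319 43 (fun u => chkFix tab mwordsA u) = true := by decide +kernel

theorem m2_3334 : allRange 143362 43 (fun u => chkFix tab mwordsA u) = true := by decide +kernel

theorem m2_3335 : allRange 143405 43 (fun u => chkFix tab mwordsA u) = true := by decide +kernel

theorem m2_3336 : allRange 143448 43 (fun u => chkFix tab mwordsA u) = true := by decide +kernel


end Cfsg.Agent.Helper9.TCData.X1690
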