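import Cfsg.Agent.Lib.Helper9.TCData.X1690.Main

set_option autoImplicit false
set_option maxRecDepth 1000000

namespace Cfsg.Agent.Helper9.TCData.X1690
open Cfsg.Agent.Helper9.TC2

theorem m2_3337 : allRange 143491 43 (fun u => chkFix tab mwordsA u) = true := by decide +kernel

theorem m2_3338 : allRange 143534 43 (fun u => chkFix tab mwordsA u) = true := by decide +kernel

theorem m2_3339 : allRange 143577 43 (fun u => chkFix tab mwordsA u) = true := by decide +kernel

theorem m2_3340 : allRange 143620 43 (fun u => chkFix tab mwordsA u) = true := by decide +kernel

theorem m2_3341 : allRange 143663 43 (fun u => chkFix tab mwordsA u) = true := by decide +kernel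

theorem m2_3342 : allRange 143706 43 (fun u => chkFix tab mwordsA u) = true := by decide +kernel

theorem m2_3343 : allRange 143749 43 (fun u => chkFix tab mwordsA u) = true := by decide +kernel

theorem m2_3344 : allRange 143792 43 (fun u => chkFix tab mwordsA u) = true := by decide +kernel

theorem m2_3345 : allRange 143835 43 (fun u => chkFix tab mwordsA u) = true := by decide +kernel

theorem m2_3346 : allRange 143878 43 (fun u => chkFix tab mwordsA u) = true := by decide +kernel


end Cfsg.Agent.Helper9.TCData.X1690
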