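import Cfsg.Agent.Lib.Helper9.TCData.X1690.Main

set_option autoImplicit false
set_option maxRecDepth 1000000

namespace Cfsg.Agent.Helper9.TCData.X1690
open Cfsg.Agent.Helper9.TC2

theorem m2_3347 : allRange 143921 43 (fun u => chkFix tab mwordsA u) = true := by decide +kernel

theorem m2_3348 : allRange 143964 43 (fun u => chkFix tab mwordsA u) = true := by decide +kernel

theorem m2_3349 : allRange 144007 43 (fun u => chkFix tab mwordsA u) = true := by decide +kernel

theorem m2_3350 : allRange 144050 43 (fun u => chkFix tab mwordsA u) = true := by decide +kernel

theorem m2_3351 : allRange 144093 43 (fun u => chkFix tab mwordsA u) = true := by decide +kernel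

theorem m2_3352 : allRange 144136 43 (fun u => chkFix tab mwordsA u) = true := by decide +kernel

theorem m2_3353 : allRange 144179 43 (fun u => chkFix tab mwordsA u) = true := by decide +kernel

theorem m2_3354 : allRange 144222 43 (fun u => chkFix tab mwordsA u) = true := by decide +kernel

theorem m2_3355 : allRange 144265 43 (fun u => chkFix tab mwordsA u) = true := by decide +kernel

theorem m2_3356 : allRange 144308 43 (fun u => chkFix tab mwordsA u) = true := by decide +kernel


end Cfsg.Agent.Helper9.TCData.X1690
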