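import Cfsg.Agent.Lib.Helper9.TCData.X1690.Main

set_option autoImplicit false
set_option maxRecDepth 1000000

namespace Cfsg.Agent.Helper9.TCData.X1690
open Cfsg.Agent.Helper9.TC2

theorem m2_3367 : allRange 144781 43 (fun u => chkFix tab mwordsA u) = true := by decide +kernel

theorem m2_3368 : allRange 144824 43 (fun u => chkFix tab mwordsA u) = true := by decide +kernel

theorem m2_3369 : allRange 144867 43 (fun u => chkFix tab mwordsA u) = true := by decide +kernel

theorem m2_3370 : allRange 144910 43 (fun u => chkFix tab mwordsA u) = true := by decide +kernel

theorem m2_3371 : allRange 144953 43 (fun u => chkFix tab mwordsA u) = true := by decide +kernel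

theorem m2_3372 : allRange 144996 43 (fun u => chkFix tab mwordsA u) = true := by decide +kernel

theorem m2_3373 : allRange 145039 43 (fun u => chkFix tab mwordsA u) = true := by decide +kernel

theorem m2_3374 : allRange 145082 43 (fun u => chkFix tab mwordsA u) = true := by decide +kernel

theorem m2_3375 : allRange 145125 43 (fun u => chkFix tab mwordsA u) = true := by decide +kernel

theorem m2_3376 : allRange 145168 43 (fun u => chkFix tab mwordsA u) = true := by decide +kernel


end Cfsg.Agent.Helper9.TCData.X1690
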