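import Cfsg.Agent.Lib.Helper9.TCData.X1690.Main

set_option autoImplicit false
set_option maxRecDepth 1000000

namespace Cfsg.Agent.Helper9.TCData.X1690
open Cfsg.Agent.Helper9.TC2

theorem m2_3377 : allRange 145211 43 (fun u => chkFix tab mwordsA u) = true := by decide +kernel

theorem m2_3378 : allRange 145254 43 (fun u => chkFix tab mwordsA u) = true := by decide +kernel

theorem m2_3379 : allRange 145297 43 (fun u => chkFix tab mwordsA u) = true := by decide +kernel

theorem m2_3380 : allRange 145340 43 (fun u => chkFix tab mwordsA u) = true := by decide +kernel

theorem m2_3381 : allRange 145383 43 (fun u => chkFix tab mwordsA u) = true := by decide +kernel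

theorem m2_3382 : allRange 145426 43 (fun u => chkFix tab mwordsA u) = true := by decide +kernel

theorem m2_3383 : allRange 145469 43 (fun u => chkFix tab mwordsA u) = true := by decide +kernel

theorem m2_3384 : allRange 145512 43 (fun u => chkFix tab mwordsA u) = true := by decide +kernel

theorem m2_3385 : allRange 145555 43 (fun u => chkFix tab mwordsA u) = true := by decide +kernel

theorem m2_3386 : allRange 145598 43 (fun u => chkFix tab mwordsA u) = true := by decide +kernel


end Cfsg.Agent.Helper9.TCData.X1690
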