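import Cfsg.Agent.Lib.Helper9.TCData.X1690.Main

set_option autoImplicit false
set_option maxRecDepth 1000000

namespace Cfsg.Agent.Helper9.TCData.X1690
open Cfsg.Agent.Helper9.TC2

theorem m2_3387 : allRange 145641 43 (fun u => chkFix tab mwordsA u) = true := by decide +kernel

theorem m2_3388 : allRange 145684 43 (fun u => chkFix tab mwordsA u) = true := by decide +kernel

theorem m2_3389 : allRange 145727 43 (fun u => chkFix tab mwordsA u) = true := by decide +kernel

theorem m2_3390 : allRange 145770 43 (fun u => chkFix tab mwordsA u) = true := by decide +kernel

theorem m2_3391 : allRange 145813 43 (fun u => chkFix tab mwordsA u) = true := by decide +kernel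

theorem m2_3392 : allRange 145856 43 (fun u => chkFix tab mwordsA u) = true := by decide +kernel

theorem m2_3393 : allRange 145899 43 (fun u => chkFix tab mwordsA u) = true := by decide +kernel

theorem m2_3394 : allRange 145942 43 (fun u => chkFix tab mwordsA u) = true := by decide +kernel

theorem m2_3395 : allRange 145985 43 (fun u => chkFix tab mwordsA u) = true := by decide +kernel

theorem m2_3396 : allRange 146028 43 (fun u => chkFix tab mwordsA u) = true := by decide +kernel


end Cfsg.Agent.Helper9.TCData.X1690
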