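import Cfsg.Agent.Lib.Helper9.TCData.X1690.Main

set_option autoImplicit false
set_option maxRecDepth 1000000

namespace Cfsg.Agent.Helper9.TCData.X1690
open Cfsg.Agent.Helper9.TC2

theorem m2_3397 : allRange 146071 43 (fun u => chkFix tab mwordsA u) = true := by decide +kernel

theorem m2_3398 : allRange 146114 43 (fun u => chkFix tab mwordsA u) = true := by decide +kernel

theorem m2_3399 : allRange 146157 43 (fun u => chkFix tab mwordsA u) = true := by decide +kernel

theorem m2_3400 : allRange 146200 43 (fun u => chkFix tab mwordsA u) = true := by decide +kernel

theorem m2_3401 : allRange 146243 43 (fun u => chkFix tab mwordsA u) = true := by decide +kernel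

theorem m2_3402 : allRange 146286 43 (fun u => chkFix tab mwordsA u) = true := by decide +kernel

theorem m2_3403 : allRange 146329 43 (fun u => chkFix tab mwordsA u) = true := by decide +kernel

theorem m2_3404 : allRange 146372 43 (fun u => chkFix tab mwordsA u) = true := by decide +kernel

theorem m2_3405 : allRange 146415 43 (fun u => chkFix tab mwordsA u) = true := by decide +kernel

theorem m2_3406 : allRange 146458 43 (fun u => chkFix tab mwordsA u) = true := by decide +kernel


end Cfsg.Agent.Helper9.TCData.X1690
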