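import Cfsg.Agent.Lib.Helper9.TCData.X1690.Main

set_option autoImplicit false
set_option maxRecDepth 1000000

namespace Cfsg.Agent.Helper9.TCData.X1690
open Cfsg.Agent.Helper9.TC2

theorem m2_3407 : allRange 146501 43 (fun u => chkFix tab mwordsA u) = true := by decide +kernel

theorem m2_3408 : allRange 146544 43 (fun u => chkFix tab mwordsA u) = true := by decide +kernel

theorem m2_3409 : allRange 146587 43 (fun u => chkFix tab mwordsA u) = true := by decide +kernel

theorem m2_3410 : allRange 146630 43 (fun u => chkFix tab mwordsA u) = true := by decide +kernel

theorem m2_3411 : allRange 146673 43 (fun u => chkFix tab mwordsA u) = true := by decide +kernel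

theorem m2_3412 : allRange 146716 43 (fun u => chkFix tab mwordsA u) = true := by decide +kernel

theorem m2_3413 : allRange 146759 43 (fun u => chkFix tab mwordsA u) = true := by decide +kernel

theorem m2_3414 : allRange 146802 43 (fun u => chkFix tab mwordsA u) = true := by decide +kernel

theorem m2_3415 : allRange 146845 43 (fun u => chkFix tab mwordsA u) = true := by decide +kernel

theorem m2_3416 : allRange 146888 43 (fun u => chkFix tab mwordsA u) = true := by decide +kernel


end Cfsg.Agent.Helper9.TCData.X1690
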