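import Cfsg.Agent.Lib.Helper9.TCData.X1690.Main

set_option autoImplicit false
set_option maxRecDepth 1000000

namespace Cfsg.Agent.Helper9.TCData.X1690
open Cfsg.Agent.Helper9.TC2

theorem e4_137 : allRange 338451 2565 (fun u => chkE tab 4 u) = true := by decide +kernel

theorem e4_138 : allRange 341016 2526 (fun u => chkE tab 4 u) = true := by decide +kernel

theorem e4_139 : allRange 343542 2459 (fun u => chkE tab 4 u) = true := by decide +kernel

theorem e4_140 : allRange 346001 2373 (fun u => chkE tab 4 u) = true := by decide +kernel

theorem e4_141 : allRange 348374 2536 (fun u => chkE tab 4 u) = true := by decide +kernel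

theorem e4_142 : allRange 350910 2267 (fun u => chkE tab 4 u) = true := by decide +kernel

theorem e4_143 : allRange 353177 2216 (fun u => chkE tab 4 u) = true := by decide +kernel

theorem e4_144 : allRange 355393 2692 (fun u => chkE tab 4 u) = true := by decide +kernel

theorem e4_145 : allRange 358085 2852 (fun u => chkE tab 4 u) = true := by decide +kernel

theorem e4_146 : allRange 360937 2637 (fun u => chkE tab 4 u) = true := by decide +kernel


end Cfsg.Agent.Helper9.TCData.X1690
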