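import Cfsg.Agent.Lib.Helper9.TCData.X1690.Main

set_option autoImplicit false
set_option maxRecDepth 1000000

namespace Cfsg.Agent.Helper9.TCData.X1690
open Cfsg.Agent.Helper9.TC2

theorem m2_3417 : allRange 146931 43 (fun u => chkFix tab mwordsA u) = true := by decide +kernel

theorem m2_3418 : allRange 146974 43 (fun u => chkFix tab mwordsA u) = true := by decide +kernel

theorem m2_3419 : allRange 147017 43 (fun u => chkFix tab mwordsA u) = true := by decide +kernel

theorem m2_3420 : allRange 147060 43 (fun u => chkFix tab mwordsA u) = true := by decide +kernel

theorem m2_3421 : allRange 147103 43 (fun u => chkFix tab mwordsA u) = true := by decide +kernel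

theorem m2_3422 : allRange 147146 43 (fun u => chkFix tab mwordsA u) = true := by decide +kernel

theorem m2_3423 : allRange 147189 43 (fun u => chkFix tab mwordsA u) = true := by decide +kernel

theorem m2_3424 : allRange 147232 43 (fun u => chkFix tab mwordsA u) = true := by decide +kernel

theorem m2_3425 : allRange 147275 43 (fun u => chkFix tab mwordsA u) = true := by decide +kernel

theorem m2_3426 : allRange 147318 43 (fun u => chkFix tab mwordsA u) = true := by decide +kernel


end Cfsg.Agent.Helper9.TCData.X1690
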