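import Cfsg.Agent.Lib.Helper9.TCData.X1690.Main

set_option autoImplicit false
set_option maxRecDepth 1000000

namespace Cfsg.Agent.Helper9.TCData.X1690
open Cfsg.Agent.Helper9.TC2

theorem m2_3427 : allRange 147361 43 (fun u => chkFix tab mwordsA u) = true := by decide +kernel

theorem m2_3428 : allRange 147404 43 (fun u => chkFix tab mwordsA u) = true := by decide +kernel

theorem m2_3429 : allRange 147447 43 (fun u => chkFix tab mwordsA u) = true := by decide +kernel

theorem m2_3430 : allRange 147490 43 (fun u => chkFix tab mwordsA u) = true := by decide +kernel

theorem m2_3431 : allRange 147533 43 (fun u => chkFix tab mwordsA u) = true := by decide +kernel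

theorem m2_3432 : allRange 147576 43 (fun u => chkFix tab mwordsA u) = true := by decide +kernel

theorem m2_3433 : allRange 147619 43 (fun u => chkFix tab mwordsA u) = true := by decide +kernel

theorem m2_3434 : allRange 147662 43 (fun u => chkFix tab mwordsA u) = true := by decide +kernel

theorem m2_3435 : allRange 147705 43 (fun u => chkFix tab mwordsA u) = true := by decide +kernel

theorem m2_3436 : allRange 147748 43 (fun u => chkFix tab mwordsA u) = true := by decide +kernel


end Cfsg.Agent.Helper9.TCData.X1690
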