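import Cfsg.Agent.Lib.Helper9.TCData.X1690.Main

set_option autoImplicit false
set_option maxRecDepth 1000000

namespace Cfsg.Agent.Helper9.TCData.X1690
open Cfsg.Agent.Helper9.TC2

theorem m2_3437 : allRange 147791 43 (fun u => chkFix tab mwordsA u) = true := by decide +kernel

theorem m2_3438 : allRange 147834 43 (fun u => chkFix tab mwordsA u) = true := by decide +kernel

theorem m2_3439 : allRange 147877 43 (fun u => chkFix tab mwordsA u) = true := by decide +kernel

theorem m2_3440 : allRange 147920 43 (fun u => chkFix tab mwordsA u) = true := by decide +kernel

theorem m2_3441 : allRange 147963 43 (fun u => chkFix tab mwordsA u) = true := by decide +kernel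

theorem m2_3442 : allRange 148006 43 (fun u => chkFix tab mwordsA u) = true := by decide +kernel

theorem m2_3443 : allRange 148049 43 (fun u => chkFix tab mwordsA u) = true := by decide +kernel

theorem m2_3444 : allRange 148092 43 (fun u => chkFix tab mwordsA u) = true := by decide +kernel

theorem m2_3445 : allRange 148135 43 (fun u => chkFix tab mwordsA u) = true := by decide +kernel

theorem m2_3446 : allRange 148178 43 (fun u => chkFix tab mwordsA u) = true := by decide +kernel


end Cfsg.Agent.Helper9.TCData.X1690
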