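import Cfsg.Agent.Lib.Helper9.TCData.X1690.Main

set_option autoImplicit false
set_option maxRecDepth 1000000

namespace Cfsg.Agent.Helper9.TCData.X1690
open Cfsg.Agent.Helper9.TC2

theorem m2_3447 : allRange 148221 43 (fun u => chkFix tab mwordsA u) = true := by decide +kernel

theorem m2_3448 : allRange 148264 43 (fun u => chkFix tab mwordsA u) = true := by decide +kernel

theorem m2_3449 : allRange 148307 43 (fun u => chkFix tab mwordsA u) = true := by decide +kernel

theorem m2_3450 : allRange 148350 43 (fun u => chkFix tab mwordsA u) = true := by decide +kernel

theorem m2_3451 : allRange 148393 43 (fun u => chkFix tab mwordsA u) = true := by decide +kernel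

theorem m2_3452 : allRange 148436 43 (fun u => chkFix tab mwordsA u) = true := by decide +kernel

theorem m2_3453 : allRange 148479 43 (fun u => chkFix tab mwordsA u) = true := by decide +kernel

theorem m2_3454 : allRange 148522 43 (fun u => chkFix tab mwordsA u) = true := by decide +kernel

theorem m2_3455 : allRange 148565 43 (fun u => chkFix tab mwordsA u) = true := by decide +kernel

theorem m2_3456 : allRange 148608 43 (fun u => chkFix tab mwordsA u) = true := by decide +kernel


end Cfsg.Agent.Helper9.TCData.X1690
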