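import Cfsg.Agent.Lib.Helper9.TCData.X1690.Main

set_option autoImplicit false
set_option maxRecDepth 1000000

namespace Cfsg.Agent.Helper9.TCData.X1690
open Cfsg.Agent.Helper9.TC2

theorem m2_3457 : allRange 148651 43 (fun u => chkFix tab mwordsA u) = true := by decide +kernel

theorem m2_3458 : allRange 148694 43 (fun u => chkFix tab mwordsA u) = true := by decide +kernel

theorem m2_3459 : allRange 148737 43 (fun u => chkFix tab mwordsA u) = true := by decide +kernel

theorem m2_3460 : allRange 148780 43 (fun u => chkFix tab mwordsA u) = true := by decide +kernel

theorem m2_3461 : allRange 148823 43 (fun u => chkFix tab mwordsA u) = true := by decide +kernel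

theorem m2_3462 : allRange 148866 43 (fun u => chkFix tab mwordsA u) = true := by decide +kernel

theorem m2_3463 : allRange 148909 43 (fun u => chkFix tab mwordsA u) = true := by decide +kernel

theorem m2_3464 : allRange 148952 43 (fun u => chkFix tab mwordsA u) = true := by decide +kernel

theorem m2_3465 : allRange 148995 43 (fun u => chkFix tab mwordsA u) = true := by decide +kernel

theorem m2_3466 : allRange 149038 43 (fun u => chkFix tab mwordsA u) = true := by decide +kernel


end Cfsg.Agent.Helper9.TCData.X1690
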