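import Cfsg.Agent.Lib.Helper9.TCData.X1690.Main

set_option autoImplicit false
set_option maxRecDepth 1000000

namespace Cfsg.Agent.Helper9.TCData.X1690
open Cfsg.Agent.Helper9.TC2

theorem m2_3487 : allRange 149941 43 (fun u => chkFix tab mwordsA u) = true := by decide +kernel

theorem m2_3488 : allRange 149984 43 (fun u => chkFix tab mwordsA u) = true := by decide +kernel

theorem m2_3489 : allRange 150027 43 (fun u => chkFix tab mwordsA u) = true := by decide +kernel

theorem m2_3490 : allRange 150070 43 (fun u => chkFix tab mwordsA u) = true := by decide +kernel

theorem m2_3491 : allRange 150113 43 (fun u => chkFix tab mwordsA u) = true := by decide +kernel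

theorem m2_3492 : allRange 150156 43 (fun u => chkFix tab mwordsA u) = true := by decide +kernel

theorem m2_3493 : allRange 150199 43 (fun u => chkFix tab mwordsA u) = true := by decide +kernel

theorem m2_3494 : allRange 150242 43 (fun u => chkFix tab mwordsA u) = true := by decide +kernel

theorem m2_3495 : allRange 150285 43 (fun u => chkFix tab mwordsA u) = true := by decide +kernel

theorem m2_3496 : allRange 150328 43 (fun u => chkFix tab mwordsA u) = true := by decide +kernel


end Cfsg.Agent.Helper9.TCData.X1690
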