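import Cfsg.Agent.Lib.Helper9.TCData.X1690.Main

set_option autoImplicit false
set_option maxRecDepth 1000000

namespace Cfsg.Agent.Helper9.TCData.X1690
open Cfsg.Agent.Helper9.TC2

theorem m2_3497 : allRange 150371 43 (fun u => chkFix tab mwordsA u) = true := by decide +kernel

theorem m2_3498 : allRange 150414 43 (fun u => chkFix tab mwordsA u) = true := by decide +kernel

theorem m2_3499 : allRange 150457 43 (fun u => chkFix tab mwordsA u) = true := by decide +kernel

theorem m2_3500 : allRange 150500 43 (fun u => chkFix tab mwordsA u) = true := by decide +kernel

theorem m2_3501 : allRange 150543 43 (fun u => chkFix tab mwordsA u) = true := by decide +kernel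

theorem m2_3502 : allRange 150586 43 (fun u => chkFix tab mwordsA u) = true := by decide +kernel

theorem m2_3503 : allRange 150629 43 (fun u => chkFix tab mwordsA u) = true := by decide +kernel

theorem m2_3504 : allRange 150672 43 (fun u => chkFix tab mwordsA u) = true := by decide +kernel

theorem m2_3505 : allRange 150715 43 (fun u => chkFix tab mwordsA u) = true := by decide +kernel

theorem m2_3506 : allRange 150758 43 (fun u => chkFix tab mwordsA u) = true := by decide +kernel


end Cfsg.Agent.Helper9.TCData.X1690
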