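import Cfsg.Agent.Lib.Helper9.TCData.X1690.Main

set_option autoImplicit false
set_option maxRecDepth 1000000

namespace Cfsg.Agent.Helper9.TCData.X1690
open Cfsg.Agent.Helper9.TC2

theorem m2_3507 : allRange 150801 43 (fun u => chkFix tab mwordsA u) = true := by decide +kernel

theorem m2_3508 : allRange 150844 43 (fun u => chkFix tab mwordsA u) = true := by decide +kernel

theorem m2_3509 : allRange 150887 43 (fun u => chkFix tab mwordsA u) = true := by decide +kernel

theorem m2_3510 : allRange 150930 43 (fun u => chkFix tab mwordsA u) = true := by decide +kernel

theorem m2_3511 : allRange 150973 43 (fun u => chkFix tab mwordsA u) = true := by decide +kernel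

theorem m2_3512 : allRange 151016 43 (fun u => chkFix tab mwordsA u) = true := by decide +kernel

theorem m2_3513 : allRange 151059 43 (fun u => chkFix tab mwordsA u) = true := by decide +kernel

theorem m2_3514 : allRange 151102 43 (fun u => chkFix tab mwordsA u) = true := by decide +kernel

theorem m2_3515 : allRange 151145 43 (fun u => chkFix tab mwordsA u) = true := by decide +kernel

theorem m2_3516 : allRange 151188 43 (fun u => chkFix tab mwordsA u) = true := by decide +kernel


end Cfsg.Agent.Helper9.TCData.X1690
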