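import Cfsg.Agent.Lib.Helper9.TCData.X1690.Main

set_option autoImplicit false
set_option maxRecDepth 1000000

namespace Cfsg.Agent.Helper9.TCData.X1690
open Cfsg.Agent.Helper9.TC2

theorem e4_147 : allRange 363574 2425 (fun u => chkE tab 4 u) = true := by decide +kernel

theorem e4_148 : allRange 365999 2417 (fun u => chkE tab 4 u) = true := by decide +kernel

theorem e4_149 : allRange 368416 2303 (fun u => chkE tab 4 u) = true := by decide +kernel

theorem e4_150 : allRange 370719 2269 (fun u => chkE tab 4 u) = true := by decide +kernel

theorem e4_151 : allRange 372988 2852 (fun u => chkE tab 4 u) = true := by decide +kernel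

theorem e4_152 : allRange 375840 2594 (fun u => chkE tab 4 u) = true := by decide +kernel

theorem e4_153 : allRange 378434 2390 (fun u => chkE tab 4 u) = true := by decide +kernel

theorem e4_154 : allRange 380824 2232 (fun u => chkE tab 4 u) = true := by decide +kernel

theorem e4_155 : allRange 383056 2791 (fun u => chkE tab 4 u) = true := by decide +kernel

theorem e4_156 : allRange 385847 2552 (fun u => chkE tab 4 u) = true := by decide +kernel


end Cfsg.Agent.Helper9.TCData.X1690
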