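import Cfsg.Agent.Lib.Helper9.TCData.X1690.Main

set_option autoImplicit false
set_option maxRecDepth 1000000

namespace Cfsg.Agent.Helper9.TCData.X1690
open Cfsg.Agent.Helper9.TC2

theorem m2_3517 : allRange 151231 43 (fun u => chkFix tab mwordsA u) = true := by decide +kernel

theorem m2_3518 : allRange 151274 43 (fun u => chkFix tab mwordsA u) = true := by decide +kernel

theorem m2_3519 : allRange 151317 43 (fun u => chkFix tab mwordsA u) = true := by decide +kernel

theorem m2_3520 : allRange 151360 43 (fun u => chkFix tab mwordsA u) = true := by decide +kernel

theorem m2_3521 : allRange 151403 43 (fun u => chkFix tab mwordsA u) = true := by decide +kernel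

theorem m2_3522 : allRange 151446 43 (fun u => chkFix tab mwordsA u) = true := by decide +kernel

theorem m2_3523 : allRange 151489 43 (fun u => chkFix tab mwordsA u) = true := by decide +kernel

theorem m2_3524 : allRange 151532 43 (fun u => chkFix tab mwordsA u) = true := by decide +kernel

theorem m2_3525 : allRange 151575 43 (fun u => chkFix tab mwordsA u) = true := by decide +kernel

theorem m2_3526 : allRange 151618 43 (fun u => chkFix tab mwordsA u) = true := by decide +kernel


end Cfsg.Agent.Helper9.TCData.X1690
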