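import Cfsg.Agent.Lib.Helper9.TCData.X1690.Main

set_option autoImplicit false
set_option maxRecDepth 1000000

namespace Cfsg.Agent.Helper9.TCData.X1690
open Cfsg.Agent.Helper9.TC2

theorem m2_3527 : allRange 151661 43 (fun u => chkFix tab mwordsA u) = true := by decide +kernel

theorem m2_3528 : allRange 151704 43 (fun u => chkFix tab mwordsA u) = true := by decide +kernel

theorem m2_3529 : allRange 151747 43 (fun u => chkFix tab mwordsA u) = true := by decide +kernel

theorem m2_3530 : allRange 151790 43 (fun u => chkFix tab mwordsA u) = true := by decide +kernel

theorem m2_3531 : allRange 151833 43 (fun u => chkFix tab mwordsA u) = true := by decide +kernel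

theorem m2_3532 : allRange 151876 43 (fun u => chkFix tab mwordsA u) = true := by decide +kernel

theorem m2_3533 : allRange 151919 43 (fun u => chkFix tab mwordsA u) = true := by decide +kernel

theorem m2_3534 : allRange 151962 43 (fun u => chkFix tab mwordsA u) = true := by decide +kernel

theorem m2_3535 : allRange 152005 43 (fun u => chkFix tab mwordsA u) = true := by decide +kernel

theorem m2_3536 : allRange 152048 43 (fun u => chkFix tab mwordsA u) = true := by decide +kernel


end Cfsg.Agent.Helper9.TCData.X1690
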