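import Cfsg.Agent.Lib.Helper9.TCData.X1690.Main

set_option autoImplicit false
set_option maxRecDepth 1000000

namespace Cfsg.Agent.Helper9.TCData.X1690
open Cfsg.Agent.Helper9.TC2

theorem m2_3537 : allRange 152091 43 (fun u => chkFix tab mwordsA u) = true := by decide +kernel

theorem m2_3538 : allRange 152134 43 (fun u => chkFix tab mwordsA u) = true := by decide +kernel

theorem m2_3539 : allRange 152177 43 (fun u => chkFix tab mwordsA u) = true := by decide +kernel

theorem m2_3540 : allRange 152220 43 (fun u => chkFix tab mwordsA u) = true := by decide +kernel

theorem m2_3541 : allRange 152263 43 (fun u => chkFix tab mwordsA u) = true := by decide +kernel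

theorem m2_3542 : allRange 152306 43 (fun u => chkFix tab mwordsA u) = true := by decide +kernel

theorem m2_3543 : allRange 152349 43 (fun u => chkFix tab mwordsA u) = true := by decide +kernel

theorem m2_3544 : allRange 152392 43 (fun u => chkFix tab mwordsA u) = true := by decide +kernel

theorem m2_3545 : allRange 152435 43 (fun u => chkFix tab mwordsA u) = true := by decide +kernel

theorem m2_3546 : allRange 152478 43 (fun u => chkFix tab mwordsA u) = true := by decide +kernel


end Cfsg.Agent.Helper9.TCData.X1690
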