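import Cfsg.Agent.Lib.Helper9.TCData.X1690.Main

set_option autoImplicit false
set_option maxRecDepth 1000000

namespace Cfsg.Agent.Helper9.TCData.X1690
open Cfsg.Agent.Helper9.TC2

theorem m2_3547 : allRange 152521 43 (fun u => chkFix tab mwordsA u) = true := by decide +kernel

theorem m2_3548 : allRange 152564 43 (fun u => chkFix tab mwordsA u) = true := by decide +kernel

theorem m2_3549 : allRange 152607 43 (fun u => chkFix tab mwordsA u) = true := by decide +kernel

theorem m2_3550 : allRange 152650 43 (fun u => chkFix tab mwordsA u) = true := by decide +kernel

theorem m2_3551 : allRange 152693 43 (fun u => chkFix tab mwordsA u) = true := by decide +kernel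

theorem m2_3552 : allRange 152736 43 (fun u => chkFix tab mwordsA u) = true := by decide +kernel

theorem m2_3553 : allRange 152779 43 (fun u => chkFix tab mwordsA u) = true := by decide +kernel

theorem m2_3554 : allRange 152822 43 (fun u => chkFix tab mwordsA u) = true := by decide +kernel

theorem m2_3555 : allRange 152865 43 (fun u => chkFix tab mwordsA u) = true := by decide +kernel

theorem m2_3556 : allRange 152908 43 (fun u => chkFix tab mwordsA u) = true := by decide +kernel


end Cfsg.Agent.Helper9.TCData.X1690
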