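import Cfsg.Agent.Lib.Helper9.TCData.X1690.Main

set_option autoImplicit false
set_option maxRecDepth 1000000

namespace Cfsg.Agent.Helper9.TCData.X1690
open Cfsg.Agent.Helper9.TC2

theorem m2_3557 : allRange 152951 43 (fun u => chkFix tab mwordsA u) = true := by decide +kernel

theorem m2_3558 : allRange 152994 43 (fun u => chkFix tab mwordsA u) = true := by decide +kernel

theorem m2_3559 : allRange 153037 43 (fun u => chkFix tab mwordsA u) = true := by decide +kernel

theorem m2_3560 : allRange 153080 43 (fun u => chkFix tab mwordsA u) = true := by decide +kernel

theorem m2_3561 : allRange 153123 43 (fun u => chkFix tab mwordsA u) = true := by decide +kernel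

theorem m2_3562 : allRange 153166 43 (fun u => chkFix tab mwordsA u) = true := by decide +kernel

theorem m2_3563 : allRange 153209 43 (fun u => chkFix tab mwordsA u) = true := by decide +kernel

theorem m2_3564 : allRange 153252 43 (fun u => chkFix tab mwordsA u) = true := by decide +kernel

theorem m2_3565 : allRange 153295 43 (fun u => chkFix tab mwordsA u) = true := by decide +kernel

theorem m2_3566 : allRange 153338 43 (fun u => chkFix tab mwordsA u) = true := by decide +kernel


end Cfsg.Agent.Helper9.TCData.X1690
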