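import Cfsg.Agent.Lib.Helper9.TCData.X1690.Main

set_option autoImplicit false
set_option maxRecDepth 1000000

namespace Cfsg.Agent.Helper9.TCData.X1690
open Cfsg.Agent.Helper9.TC2

theorem m2_3567 : allRange 153381 43 (fun u => chkFix tab mwordsA u) = true := by decide +kernel

theorem m2_3568 : allRange 153424 43 (fun u => chkFix tab mwordsA u) = true := by decide +kernel

theorem m2_3569 : allRange 153467 43 (fun u => chkFix tab mwordsA u) = true := by decide +kernel

theorem m2_3570 : allRange 153510 43 (fun u => chkFix tab mwordsA u) = true := by decide +kernel

theorem m2_3571 : allRange 153553 43 (fun u => chkFix tab mwordsA u) = true := by decide +kernel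

theorem m2_3572 : allRange 153596 43 (fun u => chkFix tab mwordsA u) = true := by decide +kernel

theorem m2_3573 : allRange 153639 43 (fun u => chkFix tab mwordsA u) = true := by decide +kernel

theorem m2_3574 : allRange 153682 43 (fun u => chkFix tab mwordsA u) = true := by decide +kernel

theorem m2_3575 : allRange 153725 43 (fun u => chkFix tab mwordsA u) = true := by decide +kernel

theorem m2_3576 : allRange 153768 43 (fun u => chkFix tab mwordsA u) = true := by decide +kernel


end Cfsg.Agent.Helper9.TCData.X1690
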