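import Cfsg.Agent.Lib.Helper9.TCData.X1690.Main

set_option autoImplicit false
set_option maxRecDepth 1000000

namespace Cfsg.Agent.Helper9.TCData.X1690
open Cfsg.Agent.Helper9.TC2

theorem m2_3577 : allRange 153811 43 (fun u => chkFix tab mwordsA u) = true := by decide +kernel

theorem m2_3578 : allRange 153854 43 (fun u => chkFix tab mwordsA u) = true := by decide +kernel

theorem m2_3579 : allRange 153897 43 (fun u => chkFix tab mwordsA u) = true := by decide +kernel

theorem m2_3580 : allRange 153940 43 (fun u => chkFix tab mwordsA u) = true := by decide +kernel

theorem m2_3581 : allRange 153983 43 (fun u => chkFix tab mwordsA u) = true := by decide +kernel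

theorem m2_3582 : allRange 154026 43 (fun u => chkFix tab mwordsA u) = true := by decide +kernel

theorem m2_3583 : allRange 154069 43 (fun u => chkFix tab mwordsA u) = true := by decide +kernel

theorem m2_3584 : allRange 154112 43 (fun u => chkFix tab mwordsA u) = true := by decide +kernel

theorem m2_3585 : allRange 154155 43 (fun u => chkFix tab mwordsA u) = true := by decide +kernel

theorem m2_3586 : allRange 154198 43 (fun u => chkFix tab mwordsA u) = true := by decide +kernel


end Cfsg.Agent.Helper9.TCData.X1690
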