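import Cfsg.Agent.Lib.Helper9.TCData.X1690.Main

set_option autoImplicit false
set_option maxRecDepth 1000000

namespace Cfsg.Agent.Helper9.TCData.X1690
open Cfsg.Agent.Helper9.TC2

theorem m2_3587 : allRange 154241 43 (fun u => chkFix tab mwordsA u) = true := by decide +kernel

theorem m2_3588 : allRange 154284 43 (fun u => chkFix tab mwordsA u) = true := by decide +kernel

theorem m2_3589 : allRange 154327 43 (fun u => chkFix tab mwordsA u) = true := by decide +kernel

theorem m2_3590 : allRange 154370 43 (fun u => chkFix tab mwordsA u) = true := by decide +kernel

theorem m2_3591 : allRange 154413 43 (fun u => chkFix tab mwordsA u) = true := by decide +kernel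

theorem m2_3592 : allRange 154456 43 (fun u => chkFix tab mwordsA u) = true := by decide +kernel

theorem m2_3593 : allRange 154499 43 (fun u => chkFix tab mwordsA u) = true := by decide +kernel

theorem m2_3594 : allRange 154542 43 (fun u => chkFix tab mwordsA u) = true := by decide +kernel

theorem m2_3595 : allRange 154585 43 (fun u => chkFix tab mwordsA u) = true := by decide +kernel

theorem m2_3596 : allRange 154628 43 (fun u => chkFix tab mwordsA u) = true := by decide +kernel


end Cfsg.Agent.Helper9.TCData.X1690
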