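import Cfsg.Agent.Lib.Helper9.TCData.X1690.Main

set_option autoImplicit false
set_option maxRecDepth 1000000

namespace Cfsg.Agent.Helper9.TCData.X1690
open Cfsg.Agent.Helper9.TC2

theorem m2_3607 : allRange 155101 43 (fun u => chkFix tab mwordsA u) = true := by decide +kernel

theorem m2_3608 : allRange 155144 43 (fun u => chkFix tab mwordsA u) = true := by decide +kernel

theorem m2_3609 : allRange 155187 43 (fun u => chkFix tab mwordsA u) = true := by decide +kernel

theorem m2_3610 : allRange 155230 43 (fun u => chkFix tab mwordsA u) = true := by decide +kernel

theorem m2_3611 : allRange 155273 43 (fun u => chkFix tab mwordsA u) = true := by decide +kernel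

theorem m2_3612 : allRange 155316 43 (fun u => chkFix tab mwordsA u) = true := by decide +kernel

theorem m2_3613 : allRange 155359 43 (fun u => chkFix tab mwordsA u) = true := by decide +kernel

theorem m2_3614 : allRange 155402 43 (fun u => chkFix tab mwordsA u) = true := by decide +kernel

theorem m2_3615 : allRange 155445 43 (fun u => chkFix tab mwordsA u) = true := by decide +kernel

theorem m2_3616 : allRange 155488 43 (fun u => chkFix tab mwordsA u) = true := by decide +kernel


end Cfsg.Agent.Helper9.TCData.X1690
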