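import Cfsg.Agent.Lib.Helper9.TCData.X1690.Main

set_option autoImplicit false
set_option maxRecDepth 1000000

namespace Cfsg.Agent.Helper9.TCData.X1690
open Cfsg.Agent.Helper9.TC2

theorem e4_157 : allRange 388399 2394 (fun u => chkE tab 4 u) = true := by decide +kernel

theorem e4_158 : allRange 390793 2850 (fun u => chkE tab 4 u) = true := by decide +kernel

theorem e4_159 : allRange 393643 811 (fun u => chkE tab 4 u) = true := by decide +kernel

theorem e5_0 : allRange 0 2149 (fun u => chkE tab 5 u) = true := by decide +kernel

theorem e5_1 : allRange 2149 2121 (fun u => chkE tab 5 u) = true := by decide +kernel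

theorem e5_2 : allRange 4270 2120 (fun u => chkE tab 5 u) = true := by decide +kernel

theorem e5_3 : allRange 6390 2171 (fun u => chkE tab 5 u) = true := by decide +kernel

theorem e5_4 : allRange 8561 2655 (fun u => chkE tab 5 u) = true := by decide +kernel

theorem e5_5 : allRange 11216 2256 (fun u => chkE tab 5 u) = true := by decide +kernel

theorem e5_6 : allRange 13472 2200 (fun u => chkE tab 5 u) = true := by decide +kernel


end Cfsg.Agent.Helper9.TCData.X1690
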