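import Cfsg.Agent.Lib.Helper9.TCData.X1690.Main

set_option autoImplicit false
set_option maxRecDepth 1000000

namespace Cfsg.Agent.Helper9.TCData.X1690
open Cfsg.Agent.Helper9.TC2

theorem m2_3617 : allRange 155531 43 (fun u => chkFix tab mwordsA u) = true := by decide +kernel

theorem m2_3618 : allRange 155574 43 (fun u => chkFix tab mwordsA u) = true := by decide +kernel

theorem m2_3619 : allRange 155617 43 (fun u => chkFix tab mwordsA u) = true := by decide +kernel

theorem m2_3620 : allRange 155660 43 (fun u => chkFix tab mwordsA u) = true := by decide +kernel

theorem m2_3621 : allRange 155703 43 (fun u => chkFix tab mwordsA u) = true := by decide +kernel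

theorem m2_3622 : allRange 155746 43 (fun u => chkFix tab mwordsA u) = true := by decide +kernel

theorem m2_3623 : allRange 155789 43 (fun u => chkFix tab mwordsA u) = true := by decide +kernel

theorem m2_3624 : allRange 155832 43 (fun u => chkFix tab mwordsA u) = true := by decide +kernel

theorem m2_3625 : allRange 155875 43 (fun u => chkFix tab mwordsA u) = true := by decide +kernel

theorem m2_3626 : allRange 155918 43 (fun u => chkFix tab mwordsA u) = true := by decide +kernel


end Cfsg.Agent.Helper9.TCData.X1690
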