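import Cfsg.Agent.Lib.Helper9.TCData.X1690.Main

set_option autoImplicit false
set_option maxRecDepth 1000000

namespace Cfsg.Agent.Helper9.TCData.X1690
open Cfsg.Agent.Helper9.TC2

theorem m2_3627 : allRange 155961 43 (fun u => chkFix tab mwordsA u) = true := by decide +kernel

theorem m2_3628 : allRange 156004 43 (fun u => chkFix tab mwordsA u) = true := by decide +kernel

theorem m2_3629 : allRange 156047 43 (fun u => chkFix tab mwordsA u) = true := by decide +kernel

theorem m2_3630 : allRange 156090 43 (fun u => chkFix tab mwordsA u) = true := by decide +kernel

theorem m2_3631 : allRange 156133 43 (fun u => chkFix tab mwordsA u) = true := by decide +kernel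

theorem m2_3632 : allRange 156176 43 (fun u => chkFix tab mwordsA u) = true := by decide +kernel

theorem m2_3633 : allRange 156219 43 (fun u => chkFix tab mwordsA u) = true := by decide +kernel

theorem m2_3634 : allRange 156262 43 (fun u => chkFix tab mwordsA u) = true := by decide +kernel

theorem m2_3635 : allRange 156305 43 (fun u => chkFix tab mwordsA u) = true := by decide +kernel

theorem m2_3636 : allRange 156348 43 (fun u => chkFix tab mwordsA u) = true := by decide +kernel


end Cfsg.Agent.Helper9.TCData.X1690
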