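import Cfsg.Agent.Lib.Helper9.TCData.X1690.Main

set_option autoImplicit false
set_option maxRecDepth 1000000

namespace Cfsg.Agent.Helper9.TCData.X1690
open Cfsg.Agent.Helper9.TC2

theorem m2_3637 : allRange 156391 43 (fun u => chkFix tab mwordsA u) = true := by decide +kernel

theorem m2_3638 : allRange 156434 43 (fun u => chkFix tab mwordsA u) = true := by decide +kernel

theorem m2_3639 : allRange 156477 43 (fun u => chkFix tab mwordsA u) = true := by decide +kernel

theorem m2_3640 : allRange 156520 43 (fun u => chkFix tab mwordsA u) = true := by decide +kernel

theorem m2_3641 : allRange 156563 43 (fun u => chkFix tab mwordsA u) = true := by decide +kernel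

theorem m2_3642 : allRange 156606 43 (fun u => chkFix tab mwordsA u) = true := by decide +kernel

theorem m2_3643 : allRange 156649 43 (fun u => chkFix tab mwordsA u) = true := by decide +kernel

theorem m2_3644 : allRange 156692 43 (fun u => chkFix tab mwordsA u) = true := by decide +kernel

theorem m2_3645 : allRange 156735 43 (fun u => chkFix tab mwordsA u) = true := by decide +kernel

theorem m2_3646 : allRange 156778 43 (fun u => chkFix tab mwordsA u) = true := by decide +kernel


end Cfsg.Agent.Helper9.TCData.X1690
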