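import Cfsg.Agent.Lib.Helper9.TCData.X1690.Main

set_option autoImplicit false
set_option maxRecDepth 1000000

namespace Cfsg.Agent.Helper9.TCData.X1690
open Cfsg.Agent.Helper9.TC2

theorem m2_3647 : allRange 156821 43 (fun u => chkFix tab mwordsA u) = true := by decide +kernel

theorem m2_3648 : allRange 156864 43 (fun u => chkFix tab mwordsA u) = true := by decide +kernel

theorem m2_3649 : allRange 156907 43 (fun u => chkFix tab mwordsA u) = true := by decide +kernel

theorem m2_3650 : allRange 156950 43 (fun u => chkFix tab mwordsA u) = true := by decide +kernel

theorem m2_3651 : allRange 156993 43 (fun u => chkFix tab mwordsA u) = true := by decide +kernel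

theorem m2_3652 : allRange 157036 43 (fun u => chkFix tab mwordsA u) = true := by decide +kernel

theorem m2_3653 : allRange 157079 43 (fun u => chkFix tab mwordsA u) = true := by decide +kernel

theorem m2_3654 : allRange 157122 43 (fun u => chkFix tab mwordsA u) = true := by decide +kernel

theorem m2_3655 : allRange 157165 43 (fun u => chkFix tab mwordsA u) = true := by decide +kernel

theorem m2_3656 : allRange 157208 43 (fun u => chkFix tab mwordsA u) = true := by decide +kernel


end Cfsg.Agent.Helper9.TCData.X1690
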