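import Cfsg.Agent.Lib.Helper9.TCData.X1690.Main

set_option autoImplicit false
set_option maxRecDepth 1000000

namespace Cfsg.Agent.Helper9.TCData.X1690
open Cfsg.Agent.Helper9.TC2

theorem m2_3657 : allRange 157251 43 (fun u => chkFix tab mwordsA u) = true := by decide +kernel

theorem m2_3658 : allRange 157294 43 (fun u => chkFix tab mwordsA u) = true := by decide +kernel

theorem m2_3659 : allRange 157337 43 (fun u => chkFix tab mwordsA u) = true := by decide +kernel

theorem m2_3660 : allRange 157380 43 (fun u => chkFix tab mwordsA u) = true := by decide +kernel

theorem m2_3661 : allRange 157423 43 (fun u => chkFix tab mwordsA u) = true := by decide +kernel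

theorem m2_3662 : allRange 157466 43 (fun u => chkFix tab mwordsA u) = true := by decide +kernel

theorem m2_3663 : allRange 157509 43 (fun u => chkFix tab mwordsA u) = true := by decide +kernel

theorem m2_3664 : allRange 157552 43 (fun u => chkFix tab mwordsA u) = true := by decide +kernel

theorem m2_3665 : allRange 157595 43 (fun u => chkFix tab mwordsA u) = true := by decide +kernel

theorem m2_3666 : allRange 157638 43 (fun u => chkFix tab mwordsA u) = true := by decide +kernel


end Cfsg.Agent.Helper9.TCData.X1690
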