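import Cfsg.Agent.Lib.Helper9.TCData.X1690.Main

set_option autoImplicit false
set_option maxRecDepth 1000000

namespace Cfsg.Agent.Helper9.TCData.X1690
open Cfsg.Agent.Helper9.TC2

theorem m2_3667 : allRange 157681 43 (fun u => chkFix tab mwordsA u) = true := by decide +kernel

theorem m2_3668 : allRange 157724 43 (fun u => chkFix tab mwordsA u) = true := by decide +kernel

theorem m2_3669 : allRange 157767 43 (fun u => chkFix tab mwordsA u) = true := by decide +kernel

theorem m2_3670 : allRange 157810 43 (fun u => chkFix tab mwordsA u) = true := by decide +kernel

theorem m2_3671 : allRange 157853 43 (fun u => chkFix tab mwordsA u) = true := by decide +kernel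

theorem m2_3672 : allRange 157896 43 (fun u => chkFix tab mwordsA u) = true := by decide +kernel

theorem m2_3673 : allRange 157939 43 (fun u => chkFix tab mwordsA u) = true := by decide +kernel

theorem m2_3674 : allRange 157982 43 (fun u => chkFix tab mwordsA u) = true := by decide +kernel

theorem m2_3675 : allRange 158025 43 (fun u => chkFix tab mwordsA u) = true := by decide +kernel

theorem m2_3676 : allRange 158068 43 (fun u => chkFix tab mwordsA u) = true := by decide +kernel


end Cfsg.Agent.Helper9.TCData.X1690
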