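import Cfsg.Agent.Lib.Helper9.TCData.X1690.Main

set_option autoImplicit false
set_option maxRecDepth 1000000

namespace Cfsg.Agent.Helper9.TCData.X1690
open Cfsg.Agent.Helper9.TC2

theorem m2_3677 : allRange 158111 43 (fun u => chkFix tab mwordsA u) = true := by decide +kernel

theorem m2_3678 : allRange 158154 43 (fun u => chkFix tab mwordsA u) = true := by decide +kernel

theorem m2_3679 : allRange 158197 43 (fun u => chkFix tab mwordsA u) = true := by decide +kernel

theorem m2_3680 : allRange 158240 43 (fun u => chkFix tab mwordsA u) = true := by decide +kernel

theorem m2_3681 : allRange 158283 43 (fun u => chkFix tab mwordsA u) = true := by decide +kernel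

theorem m2_3682 : allRange 158326 43 (fun u => chkFix tab mwordsA u) = true := by decide +kernel

theorem m2_3683 : allRange 158369 43 (fun u => chkFix tab mwordsA u) = true := by decide +kernel

theorem m2_3684 : allRange 158412 43 (fun u => chkFix tab mwordsA u) = true := by decide +kernel

theorem m2_3685 : allRange 158455 43 (fun u => chkFix tab mwordsA u) = true := by decide +kernel

theorem m2_3686 : allRange 158498 43 (fun u => chkFix tab mwordsA u) = true := by decide +kernel


end Cfsg.Agent.Helper9.TCData.X1690
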