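import Cfsg.Agent.Lib.Helper9.TCData.X1690.Main

set_option autoImplicit false
set_option maxRecDepth 1000000

namespace Cfsg.Agent.Helper9.TCData.X1690
open Cfsg.Agent.Helper9.TC2

theorem m2_3687 : allRange 158541 43 (fun u => chkFix tab mwordsA u) = true := by decide +kernel

theorem m2_3688 : allRange 158584 43 (fun u => chkFix tab mwordsA u) = true := by decide +kernel

theorem m2_3689 : allRange 158627 43 (fun u => chkFix tab mwordsA u) = true := by decide +kernel

theorem m2_3690 : allRange 158670 43 (fun u => chkFix tab mwordsA u) = true := by decide +kernel

theorem m2_3691 : allRange 158713 43 (fun u => chkFix tab mwordsA u) = true := by decide +kernel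

theorem m2_3692 : allRange 158756 43 (fun u => chkFix tab mwordsA u) = true := by decide +kernel

theorem m2_3693 : allRange 158799 43 (fun u => chkFix tab mwordsA u) = true := by decide +kernel

theorem m2_3694 : allRange 158842 43 (fun u => chkFix tab mwordsA u) = true := by decide +kernel

theorem m2_3695 : allRange 158885 43 (fun u => chkFix tab mwordsA u) = true := by decide +kernel

theorem m2_3696 : allRange 158928 43 (fun u => chkFix tab mwordsA u) = true := by decide +kernel


end Cfsg.Agent.Helper9.TCData.X1690
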