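import Cfsg.Agent.Lib.Helper9.TCData.X1690.Main

set_option autoImplicit false
set_option maxRecDepth 1000000

namespace Cfsg.Agent.Helper9.TCData.X1690
open Cfsg.Agent.Helper9.TC2

theorem m2_3697 : allRange 158971 43 (fun u => chkFix tab mwordsA u) = true := by decide +kernel

theorem m2_3698 : allRange 159014 43 (fun u => chkFix tab mwordsA u) = true := by decide +kernel

theorem m2_3699 : allRange 159057 43 (fun u => chkFix tab mwordsA u) = true := by decide +kernel

theorem m2_3700 : allRange 159100 43 (fun u => chkFix tab mwordsA u) = true := by decide +kernel

theorem m2_3701 : allRange 159143 43 (fun u => chkFix tab mwordsA u) = true := by decide +kernel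

theorem m2_3702 : allRange 159186 43 (fun u => chkFix tab mwordsA u) = true := by decide +kernel

theorem m2_3703 : allRange 159229 43 (fun u => chkFix tab mwordsA u) = true := by decide +kernel

theorem m2_3704 : allRange 159272 43 (fun u => chkFix tab mwordsA u) = true := by decide +kernel

theorem m2_3705 : allRange 159315 43 (fun u => chkFix tab mwordsA u) = true := by decide +kernel

theorem m2_3706 : allRange 159358 43 (fun u => chkFix tab mwordsA u) = true := by decide +kernel


end Cfsg.Agent.Helper9.TCData.X1690
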