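import Cfsg.Agent.Lib.Helper9.TCData.X1690.Main

set_option autoImplicit false
set_option maxRecDepth 1000000

namespace Cfsg.Agent.Helper9.TCData.X1690
open Cfsg.Agent.Helper9.TC2

theorem m2_3707 : allRange 159401 43 (fun u => chkFix tab mwordsA u) = true := by decide +kernel

theorem m2_3708 : allRange 159444 43 (fun u => chkFix tab mwordsA u) = true := by decide +kernel

theorem m2_3709 : allRange 159487 43 (fun u => chkFix tab mwordsA u) = true := by decide +kernel

theorem m2_3710 : allRange 159530 43 (fun u => chkFix tab mwordsA u) = true := by decide +kernel

theorem m2_3711 : allRange 159573 43 (fun u => chkFix tab mwordsA u) = true := by decide +kernel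

theorem m2_3712 : allRange 159616 43 (fun u => chkFix tab mwordsA u) = true := by decide +kernel

theorem m2_3713 : allRange 159659 43 (fun u => chkFix tab mwordsA u) = true := by decide +kernel

theorem m2_3714 : allRange 159702 43 (fun u => chkFix tab mwordsA u) = true := by decide +kernel

theorem m2_3715 : allRange 159745 43 (fun u => chkFix tab mwordsA u) = true := by decide +kernel

theorem m2_3716 : allRange 159788 43 (fun u => chkFix tab mwordsA u) = true := by decide +kernel


end Cfsg.Agent.Helper9.TCData.X1690
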