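import Cfsg.Agent.Lib.Helper9.TCData.X1690.Main

set_option autoImplicit false
set_option maxRecDepth 1000000

namespace Cfsg.Agent.Helper9.TCData.X1690
open Cfsg.Agent.Helper9.TC2

theorem m2_3727 : allRange 160261 43 (fun u => chkFix tab mwordsA u) = true := by decide +kernel

theorem m2_3728 : allRange 160304 43 (fun u => chkFix tab mwordsA u) = true := by decide +kernel

theorem m2_3729 : allRange 160347 43 (fun u => chkFix tab mwordsA u) = true := by decide +kernel

theorem m2_3730 : allRange 160390 43 (fun u => chkFix tab mwordsA u) = true := by decide +kernel

theorem m2_3731 : allRange 160433 43 (fun u => chkFix tab mwordsA u) = true := by decide +kernel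

theorem m2_3732 : allRange 160476 43 (fun u => chkFix tab mwordsA u) = true := by decide +kernel

theorem m2_3733 : allRange 160519 43 (fun u => chkFix tab mwordsA u) = true := by decide +kernel

theorem m2_3734 : allRange 160562 43 (fun u => chkFix tab mwordsA u) = true := by decide +kernel

theorem m2_3735 : allRange 160605 43 (fun u => chkFix tab mwordsA u) = true := by decide +kernel

theorem m2_3736 : allRange 160648 43 (fun u => chkFix tab mwordsA u) = true := by decide +kernel


end Cfsg.Agent.Helper9.TCData.X1690
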