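import Cfsg.Agent.Lib.Helper9.TCData.X1690.Main

set_option autoImplicit false
set_option maxRecDepth 1000000

namespace Cfsg.Agent.Helper9.TCData.X1690
open Cfsg.Agent.Helper9.TC2

theorem m2_3737 : allRange 160691 43 (fun u => chkFix tab mwordsA u) = true := by decide +kernel

theorem m2_3738 : allRange 160734 43 (fun u => chkFix tab mwordsA u) = true := by decide +kernel

theorem m2_3739 : allRange 160777 43 (fun u => chkFix tab mwordsA u) = true := by decide +kernel

theorem m2_3740 : allRange 160820 43 (fun u => chkFix tab mwordsA u) = true := by decide +kernel

theorem m2_3741 : allRange 160863 43 (fun u => chkFix tab mwordsA u) = true := by decide +kernel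

theorem m2_3742 : allRange 160906 43 (fun u => chkFix tab mwordsA u) = true := by decide +kernel

theorem m2_3743 : allRange 160949 43 (fun u => chkFix tab mwordsA u) = true := by decide +kernel

theorem m2_3744 : allRange 160992 43 (fun u => chkFix tab mwordsA u) = true := by decide +kernel

theorem m2_3745 : allRange 161035 43 (fun u => chkFix tab mwordsA u) = true := by decide +kernel

theorem m2_3746 : allRange 161078 43 (fun u => chkFix tab mwordsA u) = true := by decide +kernel


end Cfsg.Agent.Helper9.TCData.X1690
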