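import Cfsg.Agent.Lib.Helper9.TCData.X1690.Main

set_option autoImplicit false
set_option maxRecDepth 1000000

namespace Cfsg.Agent.Helper9.TCData.X1690
open Cfsg.Agent.Helper9.TC2

theorem m2_3747 : allRange 161121 43 (fun u => chkFix tab mwordsA u) = true := by decide +kernel

theorem m2_3748 : allRange 161164 43 (fun u => chkFix tab mwordsA u) = true := by decide +kernel

theorem m2_3749 : allRange 161207 43 (fun u => chkFix tab mwordsA u) = true := by decide +kernel

theorem m2_3750 : allRange 161250 43 (fun u => chkFix tab mwordsA u) = true := by decide +kernel

theorem m2_3751 : allRange 161293 43 (fun u => chkFix tab mwordsA u) = true := by decide +kernel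

theorem m2_3752 : allRange 161336 43 (fun u => chkFix tab mwordsA u) = true := by decide +kernel

theorem m2_3753 : allRange 161379 43 (fun u => chkFix tab mwordsA u) = true := by decide +kernel

theorem m2_3754 : allRange 161422 43 (fun u => chkFix tab mwordsA u) = true := by decide +kernel

theorem m2_3755 : allRange 161465 43 (fun u => chkFix tab mwordsA u) = true := by decide +kernel

theorem m2_3756 : allRange 161508 43 (fun u => chkFix tab mwordsA u) = true := by decide +kernel


end Cfsg.Agent.Helper9.TCData.X1690
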