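import Cfsg.Agent.Lib.Helper9.TCData.X1690.Main

set_option autoImplicit false
set_option maxRecDepth 1000000

namespace Cfsg.Agent.Helper9.TCData.X1690
open Cfsg.Agent.Helper9.TC2

theorem m2_3757 : allRange 161551 43 (fun u => chkFix tab mwordsA u) = true := by decide +kernel

theorem m2_3758 : allRange 161594 43 (fun u => chkFix tab mwordsA u) = true := by decide +kernel

theorem m2_3759 : allRange 161637 43 (fun u => chkFix tab mwordsA u) = true := by decide +kernel

theorem m2_3760 : allRange 161680 43 (fun u => chkFix tab mwordsA u) = true := by decide +kernel

theorem m2_3761 : allRange 161723 43 (fun u => chkFix tab mwordsA u) = true := by decide +kernel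

theorem m2_3762 : allRange 161766 43 (fun u => chkFix tab mwordsA u) = true := by decide +kernel

theorem m2_3763 : allRange 161809 43 (fun u => chkFix tab mwordsA u) = true := by decide +kernel

theorem m2_3764 : allRange 161852 43 (fun u => chkFix tab mwordsA u) = true := by decide +kernel

theorem m2_3765 : allRange 161895 43 (fun u => chkFix tab mwordsA u) = true := by decide +kernel

theorem m2_3766 : allRange 161938 43 (fun u => chkFix tab mwordsA u) = true := by decide +kernel


end Cfsg.Agent.Helper9.TCData.X1690
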