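import Cfsg.Agent.Lib.Helper9.TCData.X1690.Main

set_option autoImplicit false
set_option maxRecDepth 1000000

namespace Cfsg.Agent.Helper9.TCData.X1690
open Cfsg.Agent.Helper9.TC2

theorem m2_3767 : allRange 161981 43 (fun u => chkFix tab mwordsA u) = true := by decide +kernel

theorem m2_3768 : allRange 162024 43 (fun u => chkFix tab mwordsA u) = true := by decide +kernel

theorem m2_3769 : allRange 162067 43 (fun u => chkFix tab mwordsA u) = true := by decide +kernel

theorem m2_3770 : allRange 162110 43 (fun u => chkFix tab mwordsA u) = true := by decide +kernel

theorem m2_3771 : allRange 162153 43 (fun u => chkFix tab mwordsA u) = true := by decide +kernel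

theorem m2_3772 : allRange 162196 43 (fun u => chkFix tab mwordsA u) = true := by decide +kernel

theorem m2_3773 : allRange 162239 43 (fun u => chkFix tab mwordsA u) = true := by decide +kernel

theorem m2_3774 : allRange 162282 43 (fun u => chkFix tab mwordsA u) = true := by decide +kernel

theorem m2_3775 : allRange 162325 43 (fun u => chkFix tab mwordsA u) = true := by decide +kernel

theorem m2_3776 : allRange 162368 43 (fun u => chkFix tab mwordsA u) = true := by decide +kernel


end Cfsg.Agent.Helper9.TCData.X1690
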