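import Cfsg.Agent.Lib.Helper9.TCData.X1690.Main

set_option autoImplicit false
set_option maxRecDepth 1000000

namespace Cfsg.Agent.Helper9.TCData.X1690
open Cfsg.Agent.Helper9.TC2

theorem m2_3777 : allRange 162411 43 (fun u => chkFix tab mwordsA u) = true := by decide +kernel

theorem m2_3778 : allRange 162454 43 (fun u => chkFix tab mwordsA u) = true := by decide +kernel

theorem m2_3779 : allRange 162497 43 (fun u => chkFix tab mwordsA u) = true := by decide +kernel

theorem m2_3780 : allRange 162540 43 (fun u => chkFix tab mwordsA u) = true := by decide +kernel

theorem m2_3781 : allRange 162583 43 (fun u => chkFix tab mwordsA u) = true := by decide +kernel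

theorem m2_3782 : allRange 162626 43 (fun u => chkFix tab mwordsA u) = true := by decide +kernel

theorem m2_3783 : allRange 162669 43 (fun u => chkFix tab mwordsA u) = true := by decide +kernel

theorem m2_3784 : allRange 162712 43 (fun u => chkFix tab mwordsA u) = true := by decide +kernel

theorem m2_3785 : allRange 162755 43 (fun u => chkFix tab mwordsA u) = true := by decide +kernel

theorem m2_3786 : allRange 162798 43 (fun u => chkFix tab mwordsA u) = true := by decide +kernel


end Cfsg.Agent.Helper9.TCData.X1690
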