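import Cfsg.Agent.Lib.Helper9.TCData.X1690.Main

set_option autoImplicit false
set_option maxRecDepth 1000000

namespace Cfsg.Agent.Helper9.TCData.X1690
open Cfsg.Agent.Helper9.TC2

theorem m2_3787 : allRange 162841 43 (fun u => chkFix tab mwordsA u) = true := by decide +kernel

theorem m2_3788 : allRange 162884 43 (fun u => chkFix tab mwordsA u) = true := by decide +kernel

theorem m2_3789 : allRange 162927 43 (fun u => chkFix tab mwordsA u) = true := by decide +kernel

theorem m2_3790 : allRange 162970 43 (fun u => chkFix tab mwordsA u) = true := by decide +kernel

theorem m2_3791 : allRange 163013 43 (fun u => chkFix tab mwordsA u) = true := by decide +kernel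

theorem m2_3792 : allRange 163056 43 (fun u => chkFix tab mwordsA u) = true := by decide +kernel

theorem m2_3793 : allRange 163099 43 (fun u => chkFix tab mwordsA u) = true := by decide +kernel

theorem m2_3794 : allRange 163142 43 (fun u => chkFix tab mwordsA u) = true := by decide +kernel

theorem m2_3795 : allRange 163185 43 (fun u => chkFix tab mwordsA u) = true := by decide +kernel

theorem m2_3796 : allRange 163228 43 (fun u => chkFix tab mwordsA u) = true := by decide +kernel


end Cfsg.Agent.Helper9.TCData.X1690
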