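import Cfsg.Agent.Lib.Helper9.TCData.X1690.Main

set_option autoImplicit false
set_option maxRecDepth 1000000

namespace Cfsg.Agent.Helper9.TCData.X1690
open Cfsg.Agent.Helper9.TC2

theorem m2_3797 : allRange 163271 43 (fun u => chkFix tab mwordsA u) = true := by decide +kernel

theorem m2_3798 : allRange 163314 43 (fun u => chkFix tab mwordsA u) = true := by decide +kernel

theorem m2_3799 : allRange 163357 43 (fun u => chkFix tab mwordsA u) = true := by decide +kernel

theorem m2_3800 : allRange 163400 43 (fun u => chkFix tab mwordsA u) = true := by decide +kernel

theorem m2_3801 : allRange 163443 43 (fun u => chkFix tab mwordsA u) = true := by decide +kernel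

theorem m2_3802 : allRange 163486 43 (fun u => chkFix tab mwordsA u) = true := by decide +kernel

theorem m2_3803 : allRange 163529 43 (fun u => chkFix tab mwordsA u) = true := by decide +kernel

theorem m2_3804 : allRange 163572 43 (fun u => chkFix tab mwordsA u) = true := by decide +kernel

theorem m2_3805 : allRange 163615 43 (fun u => chkFix tab mwordsA u) = true := by decide +kernel

theorem m2_3806 : allRange 163658 43 (fun u => chkFix tab mwordsA u) = true := by decide +kernel


end Cfsg.Agent.Helper9.TCData.X1690
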