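import Cfsg.Agent.Lib.Helper9.TCData.X1690.Main

set_option autoImplicit false
set_option maxRecDepth 1000000

namespace Cfsg.Agent.Helper9.TCData.X1690
open Cfsg.Agent.Helper9.TC2

theorem m2_3807 : allRange 163701 43 (fun u => chkFix tab mwordsA u) = true := by decide +kernel

theorem m2_3808 : allRange 163744 43 (fun u => chkFix tab mwordsA u) = true := by decide +kernel

theorem m2_3809 : allRange 163787 43 (fun u => chkFix tab mwordsA u) = true := by decide +kernel

theorem m2_3810 : allRange 163830 43 (fun u => chkFix tab mwordsA u) = true := by decide +kernel

theorem m2_3811 : allRange 163873 43 (fun u => chkFix tab mwordsA u) = true := by decide +kernel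

theorem m2_3812 : allRange 163916 43 (fun u => chkFix tab mwordsA u) = true := by decide +kernel

theorem m2_3813 : allRange 163959 43 (fun u => chkFix tab mwordsA u) = true := by decide +kernel

theorem m2_3814 : allRange 164002 43 (fun u => chkFix tab mwordsA u) = true := by decide +kernel

theorem m2_3815 : allRange 164045 43 (fun u => chkFix tab mwordsA u) = true := by decide +kernel

theorem m2_3816 : allRange 164088 43 (fun u => chkFix tab mwordsA u) = true := by decide +kernel


end Cfsg.Agent.Helper9.TCData.X1690
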