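import Cfsg.Agent.Lib.Helper9.TCData.X1690.Main

set_option autoImplicit false
set_option maxRecDepth 1000000

namespace Cfsg.Agent.Helper9.TCData.X1690
open Cfsg.Agent.Helper9.TC2

theorem e5_17 : allRange 38276 2264 (fun u => chkE tab 5 u) = true := by decide +kernel

theorem e5_18 : allRange 40540 2242 (fun u => chkE tab 5 u) = true := by decide +kernel

theorem e5_19 : allRange 42782 2297 (fun u => chkE tab 5 u) = true := by decide +kernel

theorem e5_20 : allRange 45079 2377 (fun u => chkE tab 5 u) = true := by decide +kernel

theorem e5_21 : allRange 47456 2326 (fun u => chkE tab 5 u) = true := by decide +kernel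

theorem e5_22 : allRange 49782 2373 (fun u => chkE tab 5 u) = true := by decide +kernel

theorem e5_23 : allRange 52155 2235 (fun u => chkE tab 5 u) = true := by decide +kernel

theorem e5_24 : allRange 54390 2259 (fun u => chkE tab 5 u) = true := by decide +kernel

theorem e5_25 : allRange 56649 2362 (fun u => chkE tab 5 u) = true := by decide +kernel

theorem e5_26 : allRange 59011 2298 (fun u => chkE tab 5 u) = true := by decide +kernel


end Cfsg.Agent.Helper9.TCData.X1690
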