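import Cfsg.Agent.Lib.Helper9.TCData.X1690.Main

set_option autoImplicit false
set_option maxRecDepth 1000000

namespace Cfsg.Agent.Helper9.TCData.X1690
open Cfsg.Agent.Helper9.TC2

theorem m2_3817 : allRange 164131 43 (fun u => chkFix tab mwordsA u) = true := by decide +kernel

theorem m2_3818 : allRange 164174 43 (fun u => chkFix tab mwordsA u) = true := by decide +kernel

theorem m2_3819 : allRange 164217 43 (fun u => chkFix tab mwordsA u) = true := by decide +kernel

theorem m2_3820 : allRange 164260 43 (fun u => chkFix tab mwordsA u) = true := by decide +kernel

theorem m2_3821 : allRange 164303 43 (fun u => chkFix tab mwordsA u) = true := by decide +kernel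

theorem m2_3822 : allRange 164346 43 (fun u => chkFix tab mwordsA u) = true := by decide +kernel

theorem m2_3823 : allRange 164389 43 (fun u => chkFix tab mwordsA u) = true := by decide +kernel

theorem m2_3824 : allRange 164432 43 (fun u => chkFix tab mwordsA u) = true := by decide +kernel

theorem m2_3825 : allRange 164475 43 (fun u => chkFix tab mwordsA u) = true := by decide +kernel

theorem m2_3826 : allRange 164518 43 (fun u => chkFix tab mwordsA u) = true := by decide +kernel


end Cfsg.Agent.Helper9.TCData.X1690
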