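import Cfsg.Agent.Lib.Helper9.TCData.X1690.Main

set_option autoImplicit false
set_option maxRecDepth 1000000

namespace Cfsg.Agent.Helper9.TCData.X1690
open Cfsg.Agent.Helper9.TC2

theorem m2_3827 : allRange 164561 43 (fun u => chkFix tab mwordsA u) = true := by decide +kernel

theorem m2_3828 : allRange 164604 43 (fun u => chkFix tab mwordsA u) = true := by decide +kernel

theorem m2_3829 : allRange 164647 43 (fun u => chkFix tab mwordsA u) = true := by decide +kernel

theorem m2_3830 : allRange 164690 43 (fun u => chkFix tab mwordsA u) = true := by decide +kernel

theorem m2_3831 : allRange 164733 43 (fun u => chkFix tab mwordsA u) = true := by decide +kernel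

theorem m2_3832 : allRange 164776 43 (fun u => chkFix tab mwordsA u) = true := by decide +kernel

theorem m2_3833 : allRange 164819 43 (fun u => chkFix tab mwordsA u) = true := by decide +kernel

theorem m2_3834 : allRange 164862 43 (fun u => chkFix tab mwordsA u) = true := by decide +kernel

theorem m2_3835 : allRange 164905 43 (fun u => chkFix tab mwordsA u) = true := by decide +kernel

theorem m2_3836 : allRange 164948 43 (fun u => chkFix tab mwordsA u) = true := by decide +kernel


end Cfsg.Agent.Helper9.TCData.X1690
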