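import Cfsg.Agent.Lib.Helper9.TCData.X1690.Main

set_option autoImplicit false
set_option maxRecDepth 1000000

namespace Cfsg.Agent.Helper9.TCData.X1690
open Cfsg.Agent.Helper9.TC2

theorem m2_3847 : allRange 165421 43 (fun u => chkFix tab mwordsA u) = true := by decide +kernel

theorem m2_3848 : allRange 165464 43 (fun u => chkFix tab mwordsA u) = true := by decide +kernel

theorem m2_3849 : allRange 165507 43 (fun u => chkFix tab mwordsA u) = true := by decide +kernel

theorem m2_3850 : allRange 165550 43 (fun u => chkFix tab mwordsA u) = true := by decide +kernel

theorem m2_3851 : allRange 165593 43 (fun u => chkFix tab mwordsA u) = true := by decide +kernel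

theorem m2_3852 : allRange 165636 43 (fun u => chkFix tab mwordsA u) = true := by decide +kernel

theorem m2_3853 : allRange 165679 43 (fun u => chkFix tab mwordsA u) = true := by decide +kernel

theorem m2_3854 : allRange 165722 43 (fun u => chkFix tab mwordsA u) = true := by decide +kernel

theorem m2_3855 : allRange 165765 43 (fun u => chkFix tab mwordsA u) = true := by decide +kernel

theorem m2_3856 : allRange 165808 43 (fun u => chkFix tab mwordsA u) = true := by decide +kernel


end Cfsg.Agent.Helper9.TCData.X1690
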