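import Cfsg.Agent.Lib.Helper9.TCData.X1690.Main

set_option autoImplicit false
set_option maxRecDepth 1000000

namespace Cfsg.Agent.Helper9.TCData.X1690
open Cfsg.Agent.Helper9.TC2

theorem m2_3857 : allRange 165851 43 (fun u => chkFix tab mwordsA u) = true := by decide +kernel

theorem m2_3858 : allRange 165894 43 (fun u => chkFix tab mwordsA u) = true := by decide +kernel

theorem m2_3859 : allRange 165937 43 (fun u => chkFix tab mwordsA u) = true := by decide +kernel

theorem m2_3860 : allRange 165980 43 (fun u => chkFix tab mwordsA u) = true := by decide +kernel

theorem m2_3861 : allRange 166023 43 (fun u => chkFix tab mwordsA u) = true := by decide +kernel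

theorem m2_3862 : allRange 166066 43 (fun u => chkFix tab mwordsA u) = true := by decide +kernel

theorem m2_3863 : allRange 166109 43 (fun u => chkFix tab mwordsA u) = true := by decide +kernel

theorem m2_3864 : allRange 166152 43 (fun u => chkFix tab mwordsA u) = true := by decide +kernel

theorem m2_3865 : allRange 166195 43 (fun u => chkFix tab mwordsA u) = true := by decide +kernel

theorem m2_3866 : allRange 166238 43 (fun u => chkFix tab mwordsA u) = true := by decide +kernel


end Cfsg.Agent.Helper9.TCData.X1690
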