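import Cfsg.Agent.Lib.Helper9.TCData.X1690.Main

set_option autoImplicit false
set_option maxRecDepth 1000000

namespace Cfsg.Agent.Helper9.TCData.X1690
open Cfsg.Agent.Helper9.TC2

theorem m2_3867 : allRange 166281 43 (fun u => chkFix tab mwordsA u) = true := by decide +kernel

theorem m2_3868 : allRange 166324 43 (fun u => chkFix tab mwordsA u) = true := by decide +kernel

theorem m2_3869 : allRange 166367 43 (fun u => chkFix tab mwordsA u) = true := by decide +kernel

theorem m2_3870 : allRange 166410 43 (fun u => chkFix tab mwordsA u) = true := by decide +kernel

theorem m2_3871 : allRange 166453 43 (fun u => chkFix tab mwordsA u) = true := by decide +kernel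

theorem m2_3872 : allRange 166496 43 (fun u => chkFix tab mwordsA u) = true := by decide +kernel

theorem m2_3873 : allRange 166539 43 (fun u => chkFix tab mwordsA u) = true := by decide +kernel

theorem m2_3874 : allRange 166582 43 (fun u => chkFix tab mwordsA u) = true := by decide +kernel

theorem m2_3875 : allRange 166625 43 (fun u => chkFix tab mwordsA u) = true := by decide +kernel

theorem m2_3876 : allRange 166668 43 (fun u => chkFix tab mwordsA u) = true := by decide +kernel


end Cfsg.Agent.Helper9.TCData.X1690
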