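import Cfsg.Agent.Lib.Helper9.TCData.X1690.Main

set_option autoImplicit false
set_option maxRecDepth 1000000

namespace Cfsg.Agent.Helper9.TCData.X1690
open Cfsg.Agent.Helper9.TC2

theorem m2_3877 : allRange 166711 43 (fun u => chkFix tab mwordsA u) = true := by decide +kernel

theorem m2_3878 : allRange 166754 43 (fun u => chkFix tab mwordsA u) = true := by decide +kernel

theorem m2_3879 : allRange 166797 43 (fun u => chkFix tab mwordsA u) = true := by decide +kernel

theorem m2_3880 : allRange 166840 43 (fun u => chkFix tab mwordsA u) = true := by decide +kernel

theorem m2_3881 : allRange 166883 43 (fun u => chkFix tab mwordsA u) = true := by decide +kernel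

theorem m2_3882 : allRange 166926 43 (fun u => chkFix tab mwordsA u) = true := by decide +kernel

theorem m2_3883 : allRange 166969 43 (fun u => chkFix tab mwordsA u) = true := by decide +kernel

theorem m2_3884 : allRange 167012 43 (fun u => chkFix tab mwordsA u) = true := by decide +kernel

theorem m2_3885 : allRange 167055 43 (fun u => chkFix tab mwordsA u) = true := by decide +kernel

theorem m2_3886 : allRange 167098 43 (fun u => chkFix tab mwordsA u) = true := by decide +kernel


end Cfsg.Agent.Helper9.TCData.X1690
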