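import Cfsg.Agent.Lib.Helper9.TCData.X1690.Main

set_option autoImplicit false
set_option maxRecDepth 1000000

namespace Cfsg.Agent.Helper9.TCData.X1690
open Cfsg.Agent.Helper9.TC2

theorem m2_3887 : allRange 167141 43 (fun u => chkFix tab mwordsA u) = true := by decide +kernel

theorem m2_3888 : allRange 167184 43 (fun u => chkFix tab mwordsA u) = true := by decide +kernel

theorem m2_3889 : allRange 167227 43 (fun u => chkFix tab mwordsA u) = true := by decide +kernel

theorem m2_3890 : allRange 167270 43 (fun u => chkFix tab mwordsA u) = true := by decide +kernel

theorem m2_3891 : allRange 167313 43 (fun u => chkFix tab mwordsA u) = true := by decide +kernel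

theorem m2_3892 : allRange 167356 43 (fun u => chkFix tab mwordsA u) = true := by decide +kernel

theorem m2_3893 : allRange 167399 43 (fun u => chkFix tab mwordsA u) = true := by decide +kernel

theorem m2_3894 : allRange 167442 43 (fun u => chkFix tab mwordsA u) = true := by decide +kernel

theorem m2_3895 : allRange 167485 43 (fun u => chkFix tab mwordsA u) = true := by decide +kernel

theorem m2_3896 : allRange 167528 43 (fun u => chkFix tab mwordsA u) = true := by decide +kernel


end Cfsg.Agent.Helper9.TCData.X1690
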