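import Cfsg.Agent.Lib.Helper9.TCData.X1690.Main

set_option autoImplicit false
set_option maxRecDepth 1000000

namespace Cfsg.Agent.Helper9.TCData.X1690
open Cfsg.Agent.Helper9.TC2

theorem m2_3897 : allRange 167571 43 (fun u => chkFix tab mwordsA u) = true := by decide +kernel

theorem m2_3898 : allRange 167614 43 (fun u => chkFix tab mwordsA u) = true := by decide +kernel

theorem m2_3899 : allRange 167657 43 (fun u => chkFix tab mwordsA u) = true := by decide +kernel

theorem m2_3900 : allRange 167700 43 (fun u => chkFix tab mwordsA u) = true := by decide +kernel

theorem m2_3901 : allRange 167743 43 (fun u => chkFix tab mwordsA u) = true := by decide +kernel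

theorem m2_3902 : allRange 167786 43 (fun u => chkFix tab mwordsA u) = true := by decide +kernel

theorem m2_3903 : allRange 167829 43 (fun u => chkFix tab mwordsA u) = true := by decide +kernel

theorem m2_3904 : allRange 167872 43 (fun u => chkFix tab mwordsA u) = true := by decide +kernel

theorem m2_3905 : allRange 167915 43 (fun u => chkFix tab mwordsA u) = true := by decide +kernel

theorem m2_3906 : allRange 167958 43 (fun u => chkFix tab mwordsA u) = true := by decide +kernel


end Cfsg.Agent.Helper9.TCData.X1690
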