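import Cfsg.Agent.Lib.Helper9.TCData.X1690.Main

set_option autoImplicit false
set_option maxRecDepth 1000000

namespace Cfsg.Agent.Helper9.TCData.X1690
open Cfsg.Agent.Helper9.TC2

theorem m2_3907 : allRange 168001 43 (fun u => chkFix tab mwordsA u) = true := by decide +kernel

theorem m2_3908 : allRange 168044 43 (fun u => chkFix tab mwordsA u) = true := by decide +kernel

theorem m2_3909 : allRange 168087 43 (fun u => chkFix tab mwordsA u) = true := by decide +kernel

theorem m2_3910 : allRange 168130 43 (fun u => chkFix tab mwordsA u) = true := by decide +kernel

theorem m2_3911 : allRange 168173 43 (fun u => chkFix tab mwordsA u) = true := by decide +kernel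

theorem m2_3912 : allRange 168216 43 (fun u => chkFix tab mwordsA u) = true := by decide +kernel

theorem m2_3913 : allRange 168259 43 (fun u => chkFix tab mwordsA u) = true := by decide +kernel

theorem m2_3914 : allRange 168302 43 (fun u => chkFix tab mwordsA u) = true := by decide +kernel

theorem m2_3915 : allRange 168345 43 (fun u => chkFix tab mwordsA u) = true := by decide +kernel

theorem m2_3916 : allRange 168388 43 (fun u => chkFix tab mwordsA u) = true := by decide +kernel


end Cfsg.Agent.Helper9.TCData.X1690
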