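import Cfsg.Agent.Lib.Helper9.TCData.X1690.Main

set_option autoImplicit false
set_option maxRecDepth 1000000

namespace Cfsg.Agent.Helper9.TCData.X1690
open Cfsg.Agent.Helper9.TC2

theorem e5_27 : allRange 61309 2486 (fun u => chkE tab 5 u) = true := by decide +kernel

theorem e5_28 : allRange 63795 2367 (fun u => chkE tab 5 u) = true := by decide +kernel

theorem e5_29 : allRange 66162 2314 (fun u => chkE tab 5 u) = true := by decide +kernel

theorem e5_30 : allRange 68476 2466 (fun u => chkE tab 5 u) = true := by decide +kernel

theorem e5_31 : allRange 70942 2265 (fun u => chkE tab 5 u) = true := by decide +kernel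

theorem e5_32 : allRange 73207 2244 (fun u => chkE tab 5 u) = true := by decide +kernel

theorem e5_33 : allRange 75451 2287 (fun u => chkE tab 5 u) = true := by decide +kernel

theorem e5_34 : allRange 77738 2282 (fun u => chkE tab 5 u) = true := by decide +kernel

theorem e5_35 : allRange 80020 2423 (fun u => chkE tab 5 u) = true := by decide +kernel

theorem e5_36 : allRange 82443 2310 (fun u => chkE tab 5 u) = true := by decide +kernel


end Cfsg.Agent.Helper9.TCData.X1690
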