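import Cfsg.Agent.Lib.Helper9.TCData.X1690.Main

set_option autoImplicit false
set_option maxRecDepth 1000000

namespace Cfsg.Agent.Helper9.TCData.X1690
open Cfsg.Agent.Helper9.TC2

theorem m2_3917 : allRange 168431 43 (fun u => chkFix tab mwordsA u) = true := by decide +kernel

theorem m2_3918 : allRange 168474 43 (fun u => chkFix tab mwordsA u) = true := by decide +kernel

theorem m2_3919 : allRange 168517 43 (fun u => chkFix tab mwordsA u) = true := by decide +kernel

theorem m2_3920 : allRange 168560 43 (fun u => chkFix tab mwordsA u) = true := by decide +kernel

theorem m2_3921 : allRange 168603 43 (fun u => chkFix tab mwordsA u) = true := by decide +kernel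

theorem m2_3922 : allRange 168646 43 (fun u => chkFix tab mwordsA u) = true := by decide +kernel

theorem m2_3923 : allRange 168689 43 (fun u => chkFix tab mwordsA u) = true := by decide +kernel

theorem m2_3924 : allRange 168732 43 (fun u => chkFix tab mwordsA u) = true := by decide +kernel

theorem m2_3925 : allRange 168775 43 (fun u => chkFix tab mwordsA u) = true := by decide +kernel

theorem m2_3926 : allRange 168818 43 (fun u => chkFix tab mwordsA u) = true := by decide +kernel


end Cfsg.Agent.Helper9.TCData.X1690
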