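import Cfsg.Agent.Lib.Helper9.TCData.X1690.Main

set_option autoImplicit false
set_option maxRecDepth 1000000

namespace Cfsg.Agent.Helper9.TCData.X1690
open Cfsg.Agent.Helper9.TC2

theorem m2_3927 : allRange 168861 43 (fun u => chkFix tab mwordsA u) = true := by decide +kernel

theorem m2_3928 : allRange 168904 43 (fun u => chkFix tab mwordsA u) = true := by decide +kernel

theorem m2_3929 : allRange 168947 43 (fun u => chkFix tab mwordsA u) = true := by decide +kernel

theorem m2_3930 : allRange 168990 43 (fun u => chkFix tab mwordsA u) = true := by decide +kernel

theorem m2_3931 : allRange 169033 43 (fun u => chkFix tab mwordsA u) = true := by decide +kernel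

theorem m2_3932 : allRange 169076 43 (fun u => chkFix tab mwordsA u) = true := by decide +kernel

theorem m2_3933 : allRange 169119 43 (fun u => chkFix tab mwordsA u) = true := by decide +kernel

theorem m2_3934 : allRange 169162 43 (fun u => chkFix tab mwordsA u) = true := by decide +kernel

theorem m2_3935 : allRange 169205 43 (fun u => chkFix tab mwordsA u) = true := by decide +kernel

theorem m2_3936 : allRange 169248 43 (fun u => chkFix tab mwordsA u) = true := by decide +kernel


end Cfsg.Agent.Helper9.TCData.X1690
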