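import Cfsg.Agent.Lib.Helper9.TCData.X1690.Main

set_option autoImplicit false
set_option maxRecDepth 1000000

namespace Cfsg.Agent.Helper9.TCData.X1690
open Cfsg.Agent.Helper9.TC2

theorem m2_3937 : allRange 169291 43 (fun u => chkFix tab mwordsA u) = true := by decide +kernel

theorem m2_3938 : allRange 169334 43 (fun u => chkFix tab mwordsA u) = true := by decide +kernel

theorem m2_3939 : allRange 169377 43 (fun u => chkFix tab mwordsA u) = true := by decide +kernel

theorem m2_3940 : allRange 169420 43 (fun u => chkFix tab mwordsA u) = true := by decide +kernel

theorem m2_3941 : allRange 169463 43 (fun u => chkFix tab mwordsA u) = true := by decide +kernel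

theorem m2_3942 : allRange 169506 43 (fun u => chkFix tab mwordsA u) = true := by decide +kernel

theorem m2_3943 : allRange 169549 43 (fun u => chkFix tab mwordsA u) = true := by decide +kernel

theorem m2_3944 : allRange 169592 43 (fun u => chkFix tab mwordsA u) = true := by decide +kernel

theorem m2_3945 : allRange 169635 43 (fun u => chkFix tab mwordsA u) = true := by decide +kernel

theorem m2_3946 : allRange 169678 43 (fun u => chkFix tab mwordsA u) = true := by decide +kernel


end Cfsg.Agent.Helper9.TCData.X1690
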