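import Cfsg.Agent.Lib.Helper9.TCData.X1690.Main

set_option autoImplicit false
set_option maxRecDepth 1000000

namespace Cfsg.Agent.Helper9.TCData.X1690
open Cfsg.Agent.Helper9.TC2

theorem m2_3947 : allRange 169721 43 (fun u => chkFix tab mwordsA u) = true := by decide +kernel

theorem m2_3948 : allRange 169764 43 (fun u => chkFix tab mwordsA u) = true := by decide +kernel

theorem m2_3949 : allRange 169807 43 (fun u => chkFix tab mwordsA u) = true := by decide +kernel

theorem m2_3950 : allRange 169850 43 (fun u => chkFix tab mwordsA u) = true := by decide +kernel

theorem m2_3951 : allRange 169893 43 (fun u => chkFix tab mwordsA u) = true := by decide +kernel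

theorem m2_3952 : allRange 169936 43 (fun u => chkFix tab mwordsA u) = true := by decide +kernel

theorem m2_3953 : allRange 169979 43 (fun u => chkFix tab mwordsA u) = true := by decide +kernel

theorem m2_3954 : allRange 170022 43 (fun u => chkFix tab mwordsA u) = true := by decide +kernel

theorem m2_3955 : allRange 170065 43 (fun u => chkFix tab mwordsA u) = true := by decide +kernel

theorem m2_3956 : allRange 170108 43 (fun u => chkFix tab mwordsA u) = true := by decide +kernel


end Cfsg.Agent.Helper9.TCData.X1690
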