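import Cfsg.Agent.Lib.Helper9.TCData.X1690.Main

set_option autoImplicit false
set_option maxRecDepth 1000000

namespace Cfsg.Agent.Helper9.TCData.X1690
open Cfsg.Agent.Helper9.TC2

theorem m2_3967 : allRange 170581 43 (fun u => chkFix tab mwordsA u) = true := by decide +kernel

theorem m2_3968 : allRange 170624 43 (fun u => chkFix tab mwordsA u) = true := by decide +kernel

theorem m2_3969 : allRange 170667 43 (fun u => chkFix tab mwordsA u) = true := by decide +kernel

theorem m2_3970 : allRange 170710 43 (fun u => chkFix tab mwordsA u) = true := by decide +kernel

theorem m2_3971 : allRange 170753 43 (fun u => chkFix tab mwordsA u) = true := by decide +kernel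

theorem m2_3972 : allRange 170796 43 (fun u => chkFix tab mwordsA u) = true := by decide +kernel

theorem m2_3973 : allRange 170839 43 (fun u => chkFix tab mwordsA u) = true := by decide +kernel

theorem m2_3974 : allRange 170882 43 (fun u => chkFix tab mwordsA u) = true := by decide +kernel

theorem m2_3975 : allRange 170925 43 (fun u => chkFix tab mwordsA u) = true := by decide +kernel

theorem m2_3976 : allRange 170968 43 (fun u => chkFix tab mwordsA u) = true := by decide +kernel


end Cfsg.Agent.Helper9.TCData.X1690
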