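import Cfsg.Agent.Lib.Helper9.TCData.X1690.Main

set_option autoImplicit false
set_option maxRecDepth 1000000

namespace Cfsg.Agent.Helper9.TCData.X1690
open Cfsg.Agent.Helper9.TC2

theorem m2_3977 : allRange 171011 43 (fun u => chkFix tab mwordsA u) = true := by decide +kernel

theorem m2_3978 : allRange 171054 43 (fun u => chkFix tab mwordsA u) = true := by decide +kernel

theorem m2_3979 : allRange 171097 43 (fun u => chkFix tab mwordsA u) = true := by decide +kernel

theorem m2_3980 : allRange 171140 43 (fun u => chkFix tab mwordsA u) = true := by decide +kernel

theorem m2_3981 : allRange 171183 43 (fun u => chkFix tab mwordsA u) = true := by decide +kernel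

theorem m2_3982 : allRange 171226 43 (fun u => chkFix tab mwordsA u) = true := by decide +kernel

theorem m2_3983 : allRange 171269 43 (fun u => chkFix tab mwordsA u) = true := by decide +kernel

theorem m2_3984 : allRange 171312 43 (fun u => chkFix tab mwordsA u) = true := by decide +kernel

theorem m2_3985 : allRange 171355 43 (fun u => chkFix tab mwordsA u) = true := by decide +kernel

theorem m2_3986 : allRange 171398 43 (fun u => chkFix tab mwordsA u) = true := by decide +kernel


end Cfsg.Agent.Helper9.TCData.X1690
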