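import Cfsg.Agent.Lib.Helper9.TCData.X1690.Main

set_option autoImplicit false
set_option maxRecDepth 1000000

namespace Cfsg.Agent.Helper9.TCData.X1690
open Cfsg.Agent.Helper9.TC2

theorem m2_3987 : allRange 171441 43 (fun u => chkFix tab mwordsA u) = true := by decide +kernel

theorem m2_3988 : allRange 171484 43 (fun u => chkFix tab mwordsA u) = true := by decide +kernel

theorem m2_3989 : allRange 171527 43 (fun u => chkFix tab mwordsA u) = true := by decide +kernel

theorem m2_3990 : allRange 171570 43 (fun u => chkFix tab mwordsA u) = true := by decide +kernel

theorem m2_3991 : allRange 171613 43 (fun u => chkFix tab mwordsA u) = true := by decide +kernel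

theorem m2_3992 : allRange 171656 43 (fun u => chkFix tab mwordsA u) = true := by decide +kernel

theorem m2_3993 : allRange 171699 43 (fun u => chkFix tab mwordsA u) = true := by decide +kernel

theorem m2_3994 : allRange 171742 43 (fun u => chkFix tab mwordsA u) = true := by decide +kernel

theorem m2_3995 : allRange 171785 43 (fun u => chkFix tab mwordsA u) = true := by decide +kernel

theorem m2_3996 : allRange 171828 43 (fun u => chkFix tab mwordsA u) = true := by decide +kernel


end Cfsg.Agent.Helper9.TCData.X1690
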