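import Cfsg.Agent.Lib.Helper9.TCData.X1690.Main

set_option autoImplicit false
set_option maxRecDepth 1000000

namespace Cfsg.Agent.Helper9.TCData.X1690
open Cfsg.Agent.Helper9.TC2

theorem m2_3997 : allRange 171871 43 (fun u => chkFix tab mwordsA u) = true := by decide +kernel

theorem m2_3998 : allRange 171914 43 (fun u => chkFix tab mwordsA u) = true := by decide +kernel

theorem m2_3999 : allRange 171957 43 (fun u => chkFix tab mwordsA u) = true := by decide +kernel

theorem m2_4000 : allRange 172000 43 (fun u => chkFix tab mwordsA u) = true := by decide +kernel

theorem m2_4001 : allRange 172043 43 (fun u => chkFix tab mwordsA u) = true := by decide +kernel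

theorem m2_4002 : allRange 172086 43 (fun u => chkFix tab mwordsA u) = true := by decide +kernel

theorem m2_4003 : allRange 172129 43 (fun u => chkFix tab mwordsA u) = true := by decide +kernel

theorem m2_4004 : allRange 172172 43 (fun u => chkFix tab mwordsA u) = true := by decide +kernel

theorem m2_4005 : allRange 172215 43 (fun u => chkFix tab mwordsA u) = true := by decide +kernel

theorem m2_4006 : allRange 172258 43 (fun u => chkFix tab mwordsA u) = true := by decide +kernel


end Cfsg.Agent.Helper9.TCData.X1690
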