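import Cfsg.Agent.Lib.Helper9.TCData.X1690.Main

set_option autoImplicit false
set_option maxRecDepth 1000000

namespace Cfsg.Agent.Helper9.TCData.X1690
open Cfsg.Agent.Helper9.TC2

theorem m2_4007 : allRange 172301 43 (fun u => chkFix tab mwordsA u) = true := by decide +kernel

theorem m2_4008 : allRange 172344 43 (fun u => chkFix tab mwordsA u) = true := by decide +kernel

theorem m2_4009 : allRange 172387 43 (fun u => chkFix tab mwordsA u) = true := by decide +kernel

theorem m2_4010 : allRange 172430 43 (fun u => chkFix tab mwordsA u) = true := by decide +kernel

theorem m2_4011 : allRange 172473 43 (fun u => chkFix tab mwordsA u) = true := by decide +kernel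

theorem m2_4012 : allRange 172516 43 (fun u => chkFix tab mwordsA u) = true := by decide +kernel

theorem m2_4013 : allRange 172559 43 (fun u => chkFix tab mwordsA u) = true := by decide +kernel

theorem m2_4014 : allRange 172602 43 (fun u => chkFix tab mwordsA u) = true := by decide +kernel

theorem m2_4015 : allRange 172645 43 (fun u => chkFix tab mwordsA u) = true := by decide +kernel

theorem m2_4016 : allRange 172688 43 (fun u => chkFix tab mwordsA u) = true := by decide +kernel


end Cfsg.Agent.Helper9.TCData.X1690
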