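import Cfsg.Agent.Lib.Helper9.TCData.X1690.Main

set_option autoImplicit false
set_option maxRecDepth 1000000

namespace Cfsg.Agent.Helper9.TCData.X1690
open Cfsg.Agent.Helper9.TC2

theorem e5_37 : allRange 84753 2666 (fun u => chkE tab 5 u) = true := by decide +kernel

theorem e5_38 : allRange 87419 2314 (fun u => chkE tab 5 u) = true := by decide +kernel

theorem e5_39 : allRange 89733 2433 (fun u => chkE tab 5 u) = true := by decide +kernel

theorem e5_40 : allRange 92166 2372 (fun u => chkE tab 5 u) = true := by decide +kernel

theorem e5_41 : allRange 94538 2418 (fun u => chkE tab 5 u) = true := by decide +kernel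

theorem e5_42 : allRange 96956 2413 (fun u => chkE tab 5 u) = true := by decide +kernel

theorem e5_43 : allRange 99369 2280 (fun u => chkE tab 5 u) = true := by decide +kernel

theorem e5_44 : allRange 101649 2299 (fun u => chkE tab 5 u) = true := by decide +kernel

theorem e5_45 : allRange 103948 2322 (fun u => chkE tab 5 u) = true := by decide +kernel

theorem e5_46 : allRange 106270 2186 (fun u => chkE tab 5 u) = true := by decide +kernel


end Cfsg.Agent.Helper9.TCData.X1690
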