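import Cfsg.Agent.Lib.Helper9.TCData.X1690.Main

set_option autoImplicit false
set_option maxRecDepth 1000000

namespace Cfsg.Agent.Helper9.TCData.X1690
open Cfsg.Agent.Helper9.TC2

theorem m2_4017 : allRange 172731 43 (fun u => chkFix tab mwordsA u) = true := by decide +kernel

theorem m2_4018 : allRange 172774 43 (fun u => chkFix tab mwordsA u) = true := by decide +kernel

theorem m2_4019 : allRange 172817 43 (fun u => chkFix tab mwordsA u) = true := by decide +kernel

theorem m2_4020 : allRange 172860 43 (fun u => chkFix tab mwordsA u) = true := by decide +kernel

theorem m2_4021 : allRange 172903 43 (fun u => chkFix tab mwordsA u) = true := by decide +kernel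

theorem m2_4022 : allRange 172946 43 (fun u => chkFix tab mwordsA u) = true := by decide +kernel

theorem m2_4023 : allRange 172989 43 (fun u => chkFix tab mwordsA u) = true := by decide +kernel

theorem m2_4024 : allRange 173032 43 (fun u => chkFix tab mwordsA u) = true := by decide +kernel

theorem m2_4025 : allRange 173075 43 (fun u => chkFix tab mwordsA u) = true := by decide +kernel

theorem m2_4026 : allRange 173118 43 (fun u => chkFix tab mwordsA u) = true := by decide +kernel


end Cfsg.Agent.Helper9.TCData.X1690
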