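import Cfsg.Agent.Lib.Helper9.TCData.X1690.Main

set_option autoImplicit false
set_option maxRecDepth 1000000

namespace Cfsg.Agent.Helper9.TCData.X1690
open Cfsg.Agent.Helper9.TC2

theorem m2_4027 : allRange 173161 43 (fun u => chkFix tab mwordsA u) = true := by decide +kernel

theorem m2_4028 : allRange 173204 43 (fun u => chkFix tab mwordsA u) = true := by decide +kernel

theorem m2_4029 : allRange 173247 43 (fun u => chkFix tab mwordsA u) = true := by decide +kernel

theorem m2_4030 : allRange 173290 43 (fun u => chkFix tab mwordsA u) = true := by decide +kernel

theorem m2_4031 : allRange 173333 43 (fun u => chkFix tab mwordsA u) = true := by decide +kernel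

theorem m2_4032 : allRange 173376 43 (fun u => chkFix tab mwordsA u) = true := by decide +kernel

theorem m2_4033 : allRange 173419 43 (fun u => chkFix tab mwordsA u) = true := by decide +kernel

theorem m2_4034 : allRange 173462 43 (fun u => chkFix tab mwordsA u) = true := by decide +kernel

theorem m2_4035 : allRange 173505 43 (fun u => chkFix tab mwordsA u) = true := by decide +kernel

theorem m2_4036 : allRange 173548 43 (fun u => chkFix tab mwordsA u) = true := by decide +kernel


end Cfsg.Agent.Helper9.TCData.X1690
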