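import Cfsg.Agent.Lib.Helper9.TCData.X1690.Main

set_option autoImplicit false
set_option maxRecDepth 1000000

namespace Cfsg.Agent.Helper9.TCData.X1690
open Cfsg.Agent.Helper9.TC2

theorem m2_4037 : allRange 173591 43 (fun u => chkFix tab mwordsA u) = true := by decide +kernel

theorem m2_4038 : allRange 173634 43 (fun u => chkFix tab mwordsA u) = true := by decide +kernel

theorem m2_4039 : allRange 173677 43 (fun u => chkFix tab mwordsA u) = true := by decide +kernel

theorem m2_4040 : allRange 173720 43 (fun u => chkFix tab mwordsA u) = true := by decide +kernel

theorem m2_4041 : allRange 173763 43 (fun u => chkFix tab mwordsA u) = true := by decide +kernel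

theorem m2_4042 : allRange 173806 43 (fun u => chkFix tab mwordsA u) = true := by decide +kernel

theorem m2_4043 : allRange 173849 43 (fun u => chkFix tab mwordsA u) = true := by decide +kernel

theorem m2_4044 : allRange 173892 43 (fun u => chkFix tab mwordsA u) = true := by decide +kernel

theorem m2_4045 : allRange 173935 43 (fun u => chkFix tab mwordsA u) = true := by decide +kernel

theorem m2_4046 : allRange 173978 43 (fun u => chkFix tab mwordsA u) = true := by decide +kernel


end Cfsg.Agent.Helper9.TCData.X1690
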