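import Cfsg.Agent.Lib.Helper9.TCData.X1690.Main

set_option autoImplicit false
set_option maxRecDepth 1000000

namespace Cfsg.Agent.Helper9.TCData.X1690
open Cfsg.Agent.Helper9.TC2

theorem m2_4047 : allRange 174021 43 (fun u => chkFix tab mwordsA u) = true := by decide +kernel

theorem m2_4048 : allRange 174064 43 (fun u => chkFix tab mwordsA u) = true := by decide +kernel

theorem m2_4049 : allRange 174107 43 (fun u => chkFix tab mwordsA u) = true := by decide +kernel

theorem m2_4050 : allRange 174150 43 (fun u => chkFix tab mwordsA u) = true := by decide +kernel

theorem m2_4051 : allRange 174193 43 (fun u => chkFix tab mwordsA u) = true := by decide +kernel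

theorem m2_4052 : allRange 174236 43 (fun u => chkFix tab mwordsA u) = true := by decide +kernel

theorem m2_4053 : allRange 174279 43 (fun u => chkFix tab mwordsA u) = true := by decide +kernel

theorem m2_4054 : allRange 174322 43 (fun u => chkFix tab mwordsA u) = true := by decide +kernel

theorem m2_4055 : allRange 174365 43 (fun u => chkFix tab mwordsA u) = true := by decide +kernel

theorem m2_4056 : allRange 174408 43 (fun u => chkFix tab mwordsA u) = true := by decide +kernel


end Cfsg.Agent.Helper9.TCData.X1690
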