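import Cfsg.Agent.Lib.Helper9.TCData.X1690.Main

set_option autoImplicit false
set_option maxRecDepth 1000000

namespace Cfsg.Agent.Helper9.TCData.X1690
open Cfsg.Agent.Helper9.TC2

theorem m2_4057 : allRange 174451 43 (fun u => chkFix tab mwordsA u) = true := by decide +kernel

theorem m2_4058 : allRange 174494 43 (fun u => chkFix tab mwordsA u) = true := by decide +kernel

theorem m2_4059 : allRange 174537 43 (fun u => chkFix tab mwordsA u) = true := by decide +kernel

theorem m2_4060 : allRange 174580 43 (fun u => chkFix tab mwordsA u) = true := by decide +kernel

theorem m2_4061 : allRange 174623 43 (fun u => chkFix tab mwordsA u) = true := by decide +kernel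

theorem m2_4062 : allRange 174666 43 (fun u => chkFix tab mwordsA u) = true := by decide +kernel

theorem m2_4063 : allRange 174709 43 (fun u => chkFix tab mwordsA u) = true := by decide +kernel

theorem m2_4064 : allRange 174752 43 (fun u => chkFix tab mwordsA u) = true := by decide +kernel

theorem m2_4065 : allRange 174795 43 (fun u => chkFix tab mwordsA u) = true := by decide +kernel

theorem m2_4066 : allRange 174838 43 (fun u => chkFix tab mwordsA u) = true := by decide +kernel


end Cfsg.Agent.Helper9.TCData.X1690
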