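import Cfsg.Agent.Lib.Helper9.TCData.X1690.Main

set_option autoImplicit false
set_option maxRecDepth 1000000

namespace Cfsg.Agent.Helper9.TCData.X1690
open Cfsg.Agent.Helper9.TC2

theorem m2_4067 : allRange 174881 43 (fun u => chkFix tab mwordsA u) = true := by decide +kernel

theorem m2_4068 : allRange 174924 43 (fun u => chkFix tab mwordsA u) = true := by decide +kernel

theorem m2_4069 : allRange 174967 43 (fun u => chkFix tab mwordsA u) = true := by decide +kernel

theorem m2_4070 : allRange 175010 43 (fun u => chkFix tab mwordsA u) = true := by decide +kernel

theorem m2_4071 : allRange 175053 43 (fun u => chkFix tab mwordsA u) = true := by decide +kernel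

theorem m2_4072 : allRange 175096 43 (fun u => chkFix tab mwordsA u) = true := by decide +kernel

theorem m2_4073 : allRange 175139 43 (fun u => chkFix tab mwordsA u) = true := by decide +kernel

theorem m2_4074 : allRange 175182 43 (fun u => chkFix tab mwordsA u) = true := by decide +kernel

theorem m2_4075 : allRange 175225 43 (fun u => chkFix tab mwordsA u) = true := by decide +kernel

theorem m2_4076 : allRange 175268 43 (fun u => chkFix tab mwordsA u) = true := by decide +kernel


end Cfsg.Agent.Helper9.TCData.X1690
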