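import Cfsg.Agent.Lib.Helper9.TCData.X1690.Main

set_option autoImplicit false
set_option maxRecDepth 1000000

namespace Cfsg.Agent.Helper9.TCData.X1690
open Cfsg.Agent.Helper9.TC2

theorem m2_4087 : allRange 175741 43 (fun u => chkFix tab mwordsA u) = true := by decide +kernel

theorem m2_4088 : allRange 175784 43 (fun u => chkFix tab mwordsA u) = true := by decide +kernel

theorem m2_4089 : allRange 175827 43 (fun u => chkFix tab mwordsA u) = true := by decide +kernel

theorem m2_4090 : allRange 175870 43 (fun u => chkFix tab mwordsA u) = true := by decide +kernel

theorem m2_4091 : allRange 175913 43 (fun u => chkFix tab mwordsA u) = true := by decide +kernel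

theorem m2_4092 : allRange 175956 43 (fun u => chkFix tab mwordsA u) = true := by decide +kernel

theorem m2_4093 : allRange 175999 43 (fun u => chkFix tab mwordsA u) = true := by decide +kernel

theorem m2_4094 : allRange 176042 43 (fun u => chkFix tab mwordsA u) = true := by decide +kernel

theorem m2_4095 : allRange 176085 43 (fun u => chkFix tab mwordsA u) = true := by decide +kernel

theorem m2_4096 : allRange 176128 43 (fun u => chkFix tab mwordsA u) = true := by decide +kernel


end Cfsg.Agent.Helper9.TCData.X1690
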