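import Cfsg.Agent.Lib.Helper9.TCData.X1690.Main

set_option autoImplicit false
set_option maxRecDepth 1000000

namespace Cfsg.Agent.Helper9.TCData.X1690
open Cfsg.Agent.Helper9.TC2

theorem m2_4097 : allRange 176171 43 (fun u => chkFix tab mwordsA u) = true := by decide +kernel

theorem m2_4098 : allRange 176214 43 (fun u => chkFix tab mwordsA u) = true := by decide +kernel

theorem m2_4099 : allRange 176257 43 (fun u => chkFix tab mwordsA u) = true := by decide +kernel

theorem m2_4100 : allRange 176300 43 (fun u => chkFix tab mwordsA u) = true := by decide +kernel

theorem m2_4101 : allRange 176343 43 (fun u => chkFix tab mwordsA u) = true := by decide +kernel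

theorem m2_4102 : allRange 176386 43 (fun u => chkFix tab mwordsA u) = true := by decide +kernel

theorem m2_4103 : allRange 176429 43 (fun u => chkFix tab mwordsA u) = true := by decide +kernel

theorem m2_4104 : allRange 176472 43 (fun u => chkFix tab mwordsA u) = true := by decide +kernel

theorem m2_4105 : allRange 176515 43 (fun u => chkFix tab mwordsA u) = true := by decide +kernel

theorem m2_4106 : allRange 176558 43 (fun u => chkFix tab mwordsA u) = true := by decide +kernel


end Cfsg.Agent.Helper9.TCData.X1690
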