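import Cfsg.Agent.Lib.Helper9.TCData.X1690.Main

set_option autoImplicit false
set_option maxRecDepth 1000000

namespace Cfsg.Agent.Helper9.TCData.X1690
open Cfsg.Agent.Helper9.TC2

theorem m2_4107 : allRange 176601 43 (fun u => chkFix tab mwordsA u) = true := by decide +kernel

theorem m2_4108 : allRange 176644 43 (fun u => chkFix tab mwordsA u) = true := by decide +kernel

theorem m2_4109 : allRange 176687 43 (fun u => chkFix tab mwordsA u) = true := by decide +kernel

theorem m2_4110 : allRange 176730 43 (fun u => chkFix tab mwordsA u) = true := by decide +kernel

theorem m2_4111 : allRange 176773 43 (fun u => chkFix tab mwordsA u) = true := by decide +kernel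

theorem m2_4112 : allRange 176816 43 (fun u => chkFix tab mwordsA u) = true := by decide +kernel

theorem m2_4113 : allRange 176859 43 (fun u => chkFix tab mwordsA u) = true := by decide +kernel

theorem m2_4114 : allRange 176902 43 (fun u => chkFix tab mwordsA u) = true := by decide +kernel

theorem m2_4115 : allRange 176945 43 (fun u => chkFix tab mwordsA u) = true := by decide +kernel

theorem m2_4116 : allRange 176988 43 (fun u => chkFix tab mwordsA u) = true := by decide +kernel


end Cfsg.Agent.Helper9.TCData.X1690
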