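import Cfsg.Agent.Lib.Helper9.TCData.X1690.Main

set_option autoImplicit false
set_option maxRecDepth 1000000

namespace Cfsg.Agent.Helper9.TCData.X1690
open Cfsg.Agent.Helper9.TC2

theorem e5_47 : allRange 108456 2392 (fun u => chkE tab 5 u) = true := by decide +kernel

theorem e5_48 : allRange 110848 2443 (fun u => chkE tab 5 u) = true := by decide +kernel

theorem e5_49 : allRange 113291 2302 (fun u => chkE tab 5 u) = true := by decide +kernel

theorem e5_50 : allRange 115593 2661 (fun u => chkE tab 5 u) = true := by decide +kernel

theorem e5_51 : allRange 118254 3331 (fun u => chkE tab 5 u) = true := by decide +kernel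

theorem e5_52 : allRange 121585 4199 (fun u => chkE tab 5 u) = true := by decide +kernel

theorem e5_53 : allRange 125784 4230 (fun u => chkE tab 5 u) = true := by decide +kernel

theorem e5_54 : allRange 130014 3026 (fun u => chkE tab 5 u) = true := by decide +kernel

theorem e5_55 : allRange 133040 2981 (fun u => chkE tab 5 u) = true := by decide +kernel

theorem e5_56 : allRange 136021 3400 (fun u => chkE tab 5 u) = true := by decide +kernel


end Cfsg.Agent.Helper9.TCData.X1690
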