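import Cfsg.Agent.Lib.Helper9.TCData.X1690.Main

set_option autoImplicit false
set_option maxRecDepth 1000000

namespace Cfsg.Agent.Helper9.TCData.X1690
open Cfsg.Agent.Helper9.TC2

theorem m2_4117 : allRange 177031 43 (fun u => chkFix tab mwordsA u) = true := by decide +kernel

theorem m2_4118 : allRange 177074 43 (fun u => chkFix tab mwordsA u) = true := by decide +kernel

theorem m2_4119 : allRange 177117 43 (fun u => chkFix tab mwordsA u) = true := by decide +kernel

theorem m2_4120 : allRange 177160 43 (fun u => chkFix tab mwordsA u) = true := by decide +kernel

theorem m2_4121 : allRange 177203 43 (fun u => chkFix tab mwordsA u) = true := by decide +kernel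

theorem m2_4122 : allRange 177246 43 (fun u => chkFix tab mwordsA u) = true := by decide +kernel

theorem m2_4123 : allRange 177289 43 (fun u => chkFix tab mwordsA u) = true := by decide +kernel

theorem m2_4124 : allRange 177332 43 (fun u => chkFix tab mwordsA u) = true := by decide +kernel

theorem m2_4125 : allRange 177375 43 (fun u => chkFix tab mwordsA u) = true := by decide +kernel

theorem m2_4126 : allRange 177418 43 (fun u => chkFix tab mwordsA u) = true := by decide +kernel


end Cfsg.Agent.Helper9.TCData.X1690
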