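import Cfsg.Agent.Lib.Helper9.TCData.X1690.Main

set_option autoImplicit false
set_option maxRecDepth 1000000

namespace Cfsg.Agent.Helper9.TCData.X1690
open Cfsg.Agent.Helper9.TC2

theorem m2_4127 : allRange 177461 43 (fun u => chkFix tab mwordsA u) = true := by decide +kernel

theorem m2_4128 : allRange 177504 43 (fun u => chkFix tab mwordsA u) = true := by decide +kernel

theorem m2_4129 : allRange 177547 43 (fun u => chkFix tab mwordsA u) = true := by decide +kernel

theorem m2_4130 : allRange 177590 43 (fun u => chkFix tab mwordsA u) = true := by decide +kernel

theorem m2_4131 : allRange 177633 43 (fun u => chkFix tab mwordsA u) = true := by decide +kernel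

theorem m2_4132 : allRange 177676 43 (fun u => chkFix tab mwordsA u) = true := by decide +kernel

theorem m2_4133 : allRange 177719 43 (fun u => chkFix tab mwordsA u) = true := by decide +kernel

theorem m2_4134 : allRange 177762 43 (fun u => chkFix tab mwordsA u) = true := by decide +kernel

theorem m2_4135 : allRange 177805 43 (fun u => chkFix tab mwordsA u) = true := by decide +kernel

theorem m2_4136 : allRange 177848 43 (fun u => chkFix tab mwordsA u) = true := by decide +kernel


end Cfsg.Agent.Helper9.TCData.X1690
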