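import Cfsg.Agent.Lib.Helper9.TCData.X1690.Main

set_option autoImplicit false
set_option maxRecDepth 1000000

namespace Cfsg.Agent.Helper9.TCData.X1690
open Cfsg.Agent.Helper9.TC2

theorem m2_4137 : allRange 177891 43 (fun u => chkFix tab mwordsA u) = true := by decide +kernel

theorem m2_4138 : allRange 177934 43 (fun u => chkFix tab mwordsA u) = true := by decide +kernel

theorem m2_4139 : allRange 177977 43 (fun u => chkFix tab mwordsA u) = true := by decide +kernel

theorem m2_4140 : allRange 178020 43 (fun u => chkFix tab mwordsA u) = true := by decide +kernel

theorem m2_4141 : allRange 178063 43 (fun u => chkFix tab mwordsA u) = true := by decide +kernel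

theorem m2_4142 : allRange 178106 43 (fun u => chkFix tab mwordsA u) = true := by decide +kernel

theorem m2_4143 : allRange 178149 43 (fun u => chkFix tab mwordsA u) = true := by decide +kernel

theorem m2_4144 : allRange 178192 43 (fun u => chkFix tab mwordsA u) = true := by decide +kernel

theorem m2_4145 : allRange 178235 43 (fun u => chkFix tab mwordsA u) = true := by decide +kernel

theorem m2_4146 : allRange 178278 43 (fun u => chkFix tab mwordsA u) = true := by decide +kernel


end Cfsg.Agent.Helper9.TCData.X1690
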