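import Cfsg.Agent.Lib.Helper9.TCData.X1690.Main

set_option autoImplicit false
set_option maxRecDepth 1000000

namespace Cfsg.Agent.Helper9.TCData.X1690
open Cfsg.Agent.Helper9.TC2

theorem m2_4147 : allRange 178321 43 (fun u => chkFix tab mwordsA u) = true := by decide +kernel

theorem m2_4148 : allRange 178364 43 (fun u => chkFix tab mwordsA u) = true := by decide +kernel

theorem m2_4149 : allRange 178407 43 (fun u => chkFix tab mwordsA u) = true := by decide +kernel

theorem m2_4150 : allRange 178450 43 (fun u => chkFix tab mwordsA u) = true := by decide +kernel

theorem m2_4151 : allRange 178493 43 (fun u => chkFix tab mwordsA u) = true := by decide +kernel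

theorem m2_4152 : allRange 178536 43 (fun u => chkFix tab mwordsA u) = true := by decide +kernel

theorem m2_4153 : allRange 178579 43 (fun u => chkFix tab mwordsA u) = true := by decide +kernel

theorem m2_4154 : allRange 178622 43 (fun u => chkFix tab mwordsA u) = true := by decide +kernel

theorem m2_4155 : allRange 178665 43 (fun u => chkFix tab mwordsA u) = true := by decide +kernel

theorem m2_4156 : allRange 178708 43 (fun u => chkFix tab mwordsA u) = true := by decide +kernel


end Cfsg.Agent.Helper9.TCData.X1690
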