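import Cfsg.Agent.Lib.Helper9.TCData.X1690.Main

set_option autoImplicit false
set_option maxRecDepth 1000000

namespace Cfsg.Agent.Helper9.TCData.X1690
open Cfsg.Agent.Helper9.TC2

theorem m2_4157 : allRange 178751 43 (fun u => chkFix tab mwordsA u) = true := by decide +kernel

theorem m2_4158 : allRange 178794 43 (fun u => chkFix tab mwordsA u) = true := by decide +kernel

theorem m2_4159 : allRange 178837 43 (fun u => chkFix tab mwordsA u) = true := by decide +kernel

theorem m2_4160 : allRange 178880 43 (fun u => chkFix tab mwordsA u) = true := by decide +kernel

theorem m2_4161 : allRange 178923 43 (fun u => chkFix tab mwordsA u) = true := by decide +kernel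

theorem m2_4162 : allRange 178966 43 (fun u => chkFix tab mwordsA u) = true := by decide +kernel

theorem m2_4163 : allRange 179009 43 (fun u => chkFix tab mwordsA u) = true := by decide +kernel

theorem m2_4164 : allRange 179052 43 (fun u => chkFix tab mwordsA u) = true := by decide +kernel

theorem m2_4165 : allRange 179095 43 (fun u => chkFix tab mwordsA u) = true := by decide +kernel

theorem m2_4166 : allRange 179138 43 (fun u => chkFix tab mwordsA u) = true := by decide +kernel


end Cfsg.Agent.Helper9.TCData.X1690
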