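import Cfsg.Agent.Lib.Helper9.TCData.X1690.Main

set_option autoImplicit false
set_option maxRecDepth 1000000

namespace Cfsg.Agent.Helper9.TCData.X1690
open Cfsg.Agent.Helper9.TC2

theorem m2_4167 : allRange 179181 43 (fun u => chkFix tab mwordsA u) = true := by decide +kernel

theorem m2_4168 : allRange 179224 43 (fun u => chkFix tab mwordsA u) = true := by decide +kernel

theorem m2_4169 : allRange 179267 43 (fun u => chkFix tab mwordsA u) = true := by decide +kernel

theorem m2_4170 : allRange 179310 43 (fun u => chkFix tab mwordsA u) = true := by decide +kernel

theorem m2_4171 : allRange 179353 43 (fun u => chkFix tab mwordsA u) = true := by decide +kernel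

theorem m2_4172 : allRange 179396 43 (fun u => chkFix tab mwordsA u) = true := by decide +kernel

theorem m2_4173 : allRange 179439 43 (fun u => chkFix tab mwordsA u) = true := by decide +kernel

theorem m2_4174 : allRange 179482 43 (fun u => chkFix tab mwordsA u) = true := by decide +kernel

theorem m2_4175 : allRange 179525 43 (fun u => chkFix tab mwordsA u) = true := by decide +kernel

theorem m2_4176 : allRange 179568 43 (fun u => chkFix tab mwordsA u) = true := by decide +kernel


end Cfsg.Agent.Helper9.TCData.X1690
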