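import Cfsg.Agent.Lib.Helper9.TCData.X1690.Main

set_option autoImplicit false
set_option maxRecDepth 1000000

namespace Cfsg.Agent.Helper9.TCData.X1690
open Cfsg.Agent.Helper9.TC2

theorem m2_4177 : allRange 179611 43 (fun u => chkFix tab mwordsA u) = true := by decide +kernel

theorem m2_4178 : allRange 179654 43 (fun u => chkFix tab mwordsA u) = true := by decide +kernel

theorem m2_4179 : allRange 179697 43 (fun u => chkFix tab mwordsA u) = true := by decide +kernel

theorem m2_4180 : allRange 179740 43 (fun u => chkFix tab mwordsA u) = true := by decide +kernel

theorem m2_4181 : allRange 179783 43 (fun u => chkFix tab mwordsA u) = true := by decide +kernel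

theorem m2_4182 : allRange 179826 43 (fun u => chkFix tab mwordsA u) = true := by decide +kernel

theorem m2_4183 : allRange 179869 43 (fun u => chkFix tab mwordsA u) = true := by decide +kernel

theorem m2_4184 : allRange 179912 43 (fun u => chkFix tab mwordsA u) = true := by decide +kernel

theorem m2_4185 : allRange 179955 43 (fun u => chkFix tab mwordsA u) = true := by decide +kernel

theorem m2_4186 : allRange 179998 43 (fun u => chkFix tab mwordsA u) = true := by decide +kernel


end Cfsg.Agent.Helper9.TCData.X1690
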