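import Cfsg.Agent.Lib.Helper9.TCData.X1690.Main

set_option autoImplicit false
set_option maxRecDepth 1000000

namespace Cfsg.Agent.Helper9.TCData.X1690
open Cfsg.Agent.Helper9.TC2

theorem m2_4187 : allRange 180041 43 (fun u => chkFix tab mwordsA u) = true := by decide +kernel

theorem m2_4188 : allRange 180084 43 (fun u => chkFix tab mwordsA u) = true := by decide +kernel

theorem m2_4189 : allRange 180127 43 (fun u => chkFix tab mwordsA u) = true := by decide +kernel

theorem m2_4190 : allRange 180170 43 (fun u => chkFix tab mwordsA u) = true := by decide +kernel

theorem m2_4191 : allRange 180213 43 (fun u => chkFix tab mwordsA u) = true := by decide +kernel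

theorem m2_4192 : allRange 180256 43 (fun u => chkFix tab mwordsA u) = true := by decide +kernel

theorem m2_4193 : allRange 180299 43 (fun u => chkFix tab mwordsA u) = true := by decide +kernel

theorem m2_4194 : allRange 180342 43 (fun u => chkFix tab mwordsA u) = true := by decide +kernel

theorem m2_4195 : allRange 180385 43 (fun u => chkFix tab mwordsA u) = true := by decide +kernel

theorem m2_4196 : allRange 180428 43 (fun u => chkFix tab mwordsA u) = true := by decide +kernel


end Cfsg.Agent.Helper9.TCData.X1690
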