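import Cfsg.Agent.Lib.Helper9.TCData.X1690.Main

set_option autoImplicit false
set_option maxRecDepth 1000000

namespace Cfsg.Agent.Helper9.TCData.X1690
open Cfsg.Agent.Helper9.TC2

theorem m2_4207 : allRange 180901 43 (fun u => chkFix tab mwordsA u) = true := by decide +kernel

theorem m2_4208 : allRange 180944 43 (fun u => chkFix tab mwordsA u) = true := by decide +kernel

theorem m2_4209 : allRange 180987 43 (fun u => chkFix tab mwordsA u) = true := by decide +kernel

theorem m2_4210 : allRange 181030 43 (fun u => chkFix tab mwordsA u) = true := by decide +kernel

theorem m2_4211 : allRange 181073 43 (fun u => chkFix tab mwordsA u) = true := by decide +kernel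

theorem m2_4212 : allRange 181116 43 (fun u => chkFix tab mwordsA u) = true := by decide +kernel

theorem m2_4213 : allRange 181159 43 (fun u => chkFix tab mwordsA u) = true := by decide +kernel

theorem m2_4214 : allRange 181202 43 (fun u => chkFix tab mwordsA u) = true := by decide +kernel

theorem m2_4215 : allRange 181245 43 (fun u => chkFix tab mwordsA u) = true := by decide +kernel

theorem m2_4216 : allRange 181288 43 (fun u => chkFix tab mwordsA u) = true := by decide +kernel


end Cfsg.Agent.Helper9.TCData.X1690
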