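import Cfsg.Agent.Lib.Helper9.TCData.X1690.Main

set_option autoImplicit false
set_option maxRecDepth 1000000

namespace Cfsg.Agent.Helper9.TCData.X1690
open Cfsg.Agent.Helper9.TC2

theorem e5_57 : allRange 139421 4693 (fun u => chkE tab 5 u) = true := by decide +kernel

theorem e5_58 : allRange 144114 3791 (fun u => chkE tab 5 u) = true := by decide +kernel

theorem e5_59 : allRange 147905 4525 (fun u => chkE tab 5 u) = true := by decide +kernel

theorem e5_60 : allRange 152430 3732 (fun u => chkE tab 5 u) = true := by decide +kernel

theorem e5_61 : allRange 156162 5578 (fun u => chkE tab 5 u) = true := by decide +kernel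

theorem e5_62 : allRange 161740 2723 (fun u => chkE tab 5 u) = true := by decide +kernel

theorem e5_63 : allRange 164463 2463 (fun u => chkE tab 5 u) = true := by decide +kernel

theorem e5_64 : allRange 166926 2325 (fun u => chkE tab 5 u) = true := by decide +kernel

theorem e5_65 : allRange 169251 2518 (fun u => chkE tab 5 u) = true := by decide +kernel

theorem e5_66 : allRange 171769 2359 (fun u => chkE tab 5 u) = true := by decide +kernel


end Cfsg.Agent.Helper9.TCData.X1690
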