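import Cfsg.Agent.Lib.Helper9.TCData.X1690.Main

set_option autoImplicit false
set_option maxRecDepth 1000000

namespace Cfsg.Agent.Helper9.TCData.X1690
open Cfsg.Agent.Helper9.TC2

theorem m2_4217 : allRange 181331 43 (fun u => chkFix tab mwordsA u) = true := by decide +kernel

theorem m2_4218 : allRange 181374 43 (fun u => chkFix tab mwordsA u) = true := by decide +kernel

theorem m2_4219 : allRange 181417 43 (fun u => chkFix tab mwordsA u) = true := by decide +kernel

theorem m2_4220 : allRange 181460 43 (fun u => chkFix tab mwordsA u) = true := by decide +kernel

theorem m2_4221 : allRange 181503 43 (fun u => chkFix tab mwordsA u) = true := by decide +kernel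

theorem m2_4222 : allRange 181546 43 (fun u => chkFix tab mwordsA u) = true := by decide +kernel

theorem m2_4223 : allRange 181589 43 (fun u => chkFix tab mwordsA u) = true := by decide +kernel

theorem m2_4224 : allRange 181632 43 (fun u => chkFix tab mwordsA u) = true := by decide +kernel

theorem m2_4225 : allRange 181675 43 (fun u => chkFix tab mwordsA u) = true := by decide +kernel

theorem m2_4226 : allRange 181718 43 (fun u => chkFix tab mwordsA u) = true := by decide +kernel


end Cfsg.Agent.Helper9.TCData.X1690
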