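import Cfsg.Agent.Lib.Helper9.TCData.X1690.Main

set_option autoImplicit false
set_option maxRecDepth 1000000

namespace Cfsg.Agent.Helper9.TCData.X1690
open Cfsg.Agent.Helper9.TC2

theorem m2_4227 : allRange 181761 43 (fun u => chkFix tab mwordsA u) = true := by decide +kernel

theorem m2_4228 : allRange 181804 43 (fun u => chkFix tab mwordsA u) = true := by decide +kernel

theorem m2_4229 : allRange 181847 43 (fun u => chkFix tab mwordsA u) = true := by decide +kernel

theorem m2_4230 : allRange 181890 43 (fun u => chkFix tab mwordsA u) = true := by decide +kernel

theorem m2_4231 : allRange 181933 43 (fun u => chkFix tab mwordsA u) = true := by decide +kernel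

theorem m2_4232 : allRange 181976 43 (fun u => chkFix tab mwordsA u) = true := by decide +kernel

theorem m2_4233 : allRange 182019 43 (fun u => chkFix tab mwordsA u) = true := by decide +kernel

theorem m2_4234 : allRange 182062 43 (fun u => chkFix tab mwordsA u) = true := by decide +kernel

theorem m2_4235 : allRange 182105 43 (fun u => chkFix tab mwordsA u) = true := by decide +kernel

theorem m2_4236 : allRange 182148 43 (fun u => chkFix tab mwordsA u) = true := by decide +kernel


end Cfsg.Agent.Helper9.TCData.X1690
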