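import Cfsg.Agent.Lib.Helper9.TCData.X1690.Main

set_option autoImplicit false
set_option maxRecDepth 1000000

namespace Cfsg.Agent.Helper9.TCData.X1690
open Cfsg.Agent.Helper9.TC2

theorem m2_4237 : allRange 182191 43 (fun u => chkFix tab mwordsA u) = true := by decide +kernel

theorem m2_4238 : allRange 182234 43 (fun u => chkFix tab mwordsA u) = true := by decide +kernel

theorem m2_4239 : allRange 182277 43 (fun u => chkFix tab mwordsA u) = true := by decide +kernel

theorem m2_4240 : allRange 182320 43 (fun u => chkFix tab mwordsA u) = true := by decide +kernel

theorem m2_4241 : allRange 182363 43 (fun u => chkFix tab mwordsA u) = true := by decide +kernel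

theorem m2_4242 : allRange 182406 43 (fun u => chkFix tab mwordsA u) = true := by decide +kernel

theorem m2_4243 : allRange 182449 43 (fun u => chkFix tab mwordsA u) = true := by decide +kernel

theorem m2_4244 : allRange 182492 43 (fun u => chkFix tab mwordsA u) = true := by decide +kernel

theorem m2_4245 : allRange 182535 43 (fun u => chkFix tab mwordsA u) = true := by decide +kernel

theorem m2_4246 : allRange 182578 43 (fun u => chkFix tab mwordsA u) = true := by decide +kernel


end Cfsg.Agent.Helper9.TCData.X1690
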