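import Cfsg.Agent.Lib.Helper9.TCData.X1690.Main

set_option autoImplicit false
set_option maxRecDepth 1000000

namespace Cfsg.Agent.Helper9.TCData.X1690
open Cfsg.Agent.Helper9.TC2

theorem m2_4247 : allRange 182621 43 (fun u => chkFix tab mwordsA u) = true := by decide +kernel

theorem m2_4248 : allRange 182664 43 (fun u => chkFix tab mwordsA u) = true := by decide +kernel

theorem m2_4249 : allRange 182707 43 (fun u => chkFix tab mwordsA u) = true := by decide +kernel

theorem m2_4250 : allRange 182750 43 (fun u => chkFix tab mwordsA u) = true := by decide +kernel

theorem m2_4251 : allRange 182793 43 (fun u => chkFix tab mwordsA u) = true := by decide +kernel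

theorem m2_4252 : allRange 182836 43 (fun u => chkFix tab mwordsA u) = true := by decide +kernel

theorem m2_4253 : allRange 182879 43 (fun u => chkFix tab mwordsA u) = true := by decide +kernel

theorem m2_4254 : allRange 182922 43 (fun u => chkFix tab mwordsA u) = true := by decide +kernel

theorem m2_4255 : allRange 182965 43 (fun u => chkFix tab mwordsA u) = true := by decide +kernel

theorem m2_4256 : allRange 183008 43 (fun u => chkFix tab mwordsA u) = true := by decide +kernel


end Cfsg.Agent.Helper9.TCData.X1690
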