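import Cfsg.Agent.Lib.Helper9.TCData.X1690.Main

set_option autoImplicit false
set_option maxRecDepth 1000000

namespace Cfsg.Agent.Helper9.TCData.X1690
open Cfsg.Agent.Helper9.TC2

theorem m2_4257 : allRange 183051 43 (fun u => chkFix tab mwordsA u) = true := by decide +kernel

theorem m2_4258 : allRange 183094 43 (fun u => chkFix tab mwordsA u) = true := by decide +kernel

theorem m2_4259 : allRange 183137 43 (fun u => chkFix tab mwordsA u) = true := by decide +kernel

theorem m2_4260 : allRange 183180 43 (fun u => chkFix tab mwordsA u) = true := by decide +kernel

theorem m2_4261 : allRange 183223 43 (fun u => chkFix tab mwordsA u) = true := by decide +kernel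

theorem m2_4262 : allRange 183266 43 (fun u => chkFix tab mwordsA u) = true := by decide +kernel

theorem m2_4263 : allRange 183309 43 (fun u => chkFix tab mwordsA u) = true := by decide +kernel

theorem m2_4264 : allRange 183352 43 (fun u => chkFix tab mwordsA u) = true := by decide +kernel

theorem m2_4265 : allRange 183395 43 (fun u => chkFix tab mwordsA u) = true := by decide +kernel

theorem m2_4266 : allRange 183438 43 (fun u => chkFix tab mwordsA u) = true := by decide +kernel


end Cfsg.Agent.Helper9.TCData.X1690
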