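import Cfsg.Agent.Lib.Helper9.TCData.X1690.Main

set_option autoImplicit false
set_option maxRecDepth 1000000

namespace Cfsg.Agent.Helper9.TCData.X1690
open Cfsg.Agent.Helper9.TC2

theorem m2_4267 : allRange 183481 43 (fun u => chkFix tab mwordsA u) = true := by decide +kernel

theorem m2_4268 : allRange 183524 43 (fun u => chkFix tab mwordsA u) = true := by decide +kernel

theorem m2_4269 : allRange 183567 43 (fun u => chkFix tab mwordsA u) = true := by decide +kernel

theorem m2_4270 : allRange 183610 43 (fun u => chkFix tab mwordsA u) = true := by decide +kernel

theorem m2_4271 : allRange 183653 43 (fun u => chkFix tab mwordsA u) = true := by decide +kernel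

theorem m2_4272 : allRange 183696 43 (fun u => chkFix tab mwordsA u) = true := by decide +kernel

theorem m2_4273 : allRange 183739 43 (fun u => chkFix tab mwordsA u) = true := by decide +kernel

theorem m2_4274 : allRange 183782 43 (fun u => chkFix tab mwordsA u) = true := by decide +kernel

theorem m2_4275 : allRange 183825 43 (fun u => chkFix tab mwordsA u) = true := by decide +kernel

theorem m2_4276 : allRange 183868 43 (fun u => chkFix tab mwordsA u) = true := by decide +kernel


end Cfsg.Agent.Helper9.TCData.X1690
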