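import Cfsg.Agent.Lib.Helper9.TCData.X1690.Main

set_option autoImplicit false
set_option maxRecDepth 1000000

namespace Cfsg.Agent.Helper9.TCData.X1690
open Cfsg.Agent.Helper9.TC2

theorem m2_4277 : allRange 183911 43 (fun u => chkFix tab mwordsA u) = true := by decide +kernel

theorem m2_4278 : allRange 183954 43 (fun u => chkFix tab mwordsA u) = true := by decide +kernel

theorem m2_4279 : allRange 183997 43 (fun u => chkFix tab mwordsA u) = true := by decide +kernel

theorem m2_4280 : allRange 184040 43 (fun u => chkFix tab mwordsA u) = true := by decide +kernel

theorem m2_4281 : allRange 184083 43 (fun u => chkFix tab mwordsA u) = true := by decide +kernel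

theorem m2_4282 : allRange 184126 43 (fun u => chkFix tab mwordsA u) = true := by decide +kernel

theorem m2_4283 : allRange 184169 43 (fun u => chkFix tab mwordsA u) = true := by decide +kernel

theorem m2_4284 : allRange 184212 43 (fun u => chkFix tab mwordsA u) = true := by decide +kernel

theorem m2_4285 : allRange 184255 43 (fun u => chkFix tab mwordsA u) = true := by decide +kernel

theorem m2_4286 : allRange 184298 43 (fun u => chkFix tab mwordsA u) = true := by decide +kernel


end Cfsg.Agent.Helper9.TCData.X1690
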