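import Cfsg.Agent.Lib.Helper9.TCData.X1690.Main

set_option autoImplicit false
set_option maxRecDepth 1000000

namespace Cfsg.Agent.Helper9.TCData.X1690
open Cfsg.Agent.Helper9.TC2

theorem m2_4287 : allRange 184341 43 (fun u => chkFix tab mwordsA u) = true := by decide +kernel

theorem m2_4288 : allRange 184384 43 (fun u => chkFix tab mwordsA u) = true := by decide +kernel

theorem m2_4289 : allRange 184427 43 (fun u => chkFix tab mwordsA u) = true := by decide +kernel

theorem m2_4290 : allRange 184470 43 (fun u => chkFix tab mwordsA u) = true := by decide +kernel

theorem m2_4291 : allRange 184513 43 (fun u => chkFix tab mwordsA u) = true := by decide +kernel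

theorem m2_4292 : allRange 184556 43 (fun u => chkFix tab mwordsA u) = true := by decide +kernel

theorem m2_4293 : allRange 184599 43 (fun u => chkFix tab mwordsA u) = true := by decide +kernel

theorem m2_4294 : allRange 184642 43 (fun u => chkFix tab mwordsA u) = true := by decide +kernel

theorem m2_4295 : allRange 184685 43 (fun u => chkFix tab mwordsA u) = true := by decide +kernel

theorem m2_4296 : allRange 184728 43 (fun u => chkFix tab mwordsA u) = true := by decide +kernel


end Cfsg.Agent.Helper9.TCData.X1690
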