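import Cfsg.Agent.Lib.Helper9.TCData.X1690.Main

set_option autoImplicit false
set_option maxRecDepth 1000000

namespace Cfsg.Agent.Helper9.TCData.X1690
open Cfsg.Agent.Helper9.TC2

theorem m2_4297 : allRange 184771 43 (fun u => chkFix tab mwordsA u) = true := by decide +kernel

theorem m2_4298 : allRange 184814 43 (fun u => chkFix tab mwordsA u) = true := by decide +kernel

theorem m2_4299 : allRange 184857 43 (fun u => chkFix tab mwordsA u) = true := by decide +kernel

theorem m2_4300 : allRange 184900 43 (fun u => chkFix tab mwordsA u) = true := by decide +kernel

theorem m2_4301 : allRange 184943 43 (fun u => chkFix tab mwordsA u) = true := by decide +kernel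

theorem m2_4302 : allRange 184986 43 (fun u => chkFix tab mwordsA u) = true := by decide +kernel

theorem m2_4303 : allRange 185029 43 (fun u => chkFix tab mwordsA u) = true := by decide +kernel

theorem m2_4304 : allRange 185072 43 (fun u => chkFix tab mwordsA u) = true := by decide +kernel

theorem m2_4305 : allRange 185115 43 (fun u => chkFix tab mwordsA u) = true := by decide +kernel

theorem m2_4306 : allRange 185158 43 (fun u => chkFix tab mwordsA u) = true := by decide +kernel


end Cfsg.Agent.Helper9.TCData.X1690
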