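import Cfsg.Agent.Lib.Helper9.TCData.X1690.Main

set_option autoImplicit false
set_option maxRecDepth 1000000

namespace Cfsg.Agent.Helper9.TCData.X1690
open Cfsg.Agent.Helper9.TC2

theorem m2_4307 : allRange 185201 43 (fun u => chkFix tab mwordsA u) = true := by decide +kernel

theorem m2_4308 : allRange 185244 43 (fun u => chkFix tab mwordsA u) = true := by decide +kernel

theorem m2_4309 : allRange 185287 43 (fun u => chkFix tab mwordsA u) = true := by decide +kernel

theorem m2_4310 : allRange 185330 43 (fun u => chkFix tab mwordsA u) = true := by decide +kernel

theorem m2_4311 : allRange 185373 43 (fun u => chkFix tab mwordsA u) = true := by decide +kernel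

theorem m2_4312 : allRange 185416 43 (fun u => chkFix tab mwordsA u) = true := by decide +kernel

theorem m2_4313 : allRange 185459 43 (fun u => chkFix tab mwordsA u) = true := by decide +kernel

theorem m2_4314 : allRange 185502 43 (fun u => chkFix tab mwordsA u) = true := by decide +kernel

theorem m2_4315 : allRange 185545 43 (fun u => chkFix tab mwordsA u) = true := by decide +kernel

theorem m2_4316 : allRange 185588 43 (fun u => chkFix tab mwordsA u) = true := by decide +kernel


end Cfsg.Agent.Helper9.TCData.X1690
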