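import Cfsg.Agent.Lib.Helper9.TCData.X1690.Main

set_option autoImplicit false
set_option maxRecDepth 1000000

namespace Cfsg.Agent.Helper9.TCData.X1690
open Cfsg.Agent.Helper9.TC2

theorem e0_90 : allRange 205592 1612 (fun u => chkE tab 0 u) = true := by decide +kernel

theorem e0_91 : allRange 207204 1821 (fun u => chkE tab 0 u) = true := by decide +kernel

theorem e0_92 : allRange 209025 1667 (fun u => chkE tab 0 u) = true := by decide +kernel

theorem e0_93 : allRange 210692 1598 (fun u => chkE tab 0 u) = true := by decide +kernel

theorem e0_94 : allRange 212290 1609 (fun u => chkE tab 0 u) = true := by decide +kernel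

theorem e0_95 : allRange 213899 1542 (fun u => chkE tab 0 u) = true := by decide +kernel

theorem e0_96 : allRange 215441 5026 (fun u => chkE tab 0 u) = true := by decide +kernel

theorem e0_97 : allRange 220467 4158 (fun u => chkE tab 0 u) = true := by decide +kernel

theorem e0_98 : allRange 224625 1641 (fun u => chkE tab 0 u) = true := by decide +kernel

theorem e0_99 : allRange 226266 1657 (fun u => chkE tab 0 u) = true := by decide +kernel


end Cfsg.Agent.Helper9.TCData.X1690
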