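import Cfsg.Agent.Lib.Helper9.TCData.X1690.Main

set_option autoImplicit false
set_option maxRecDepth 1000000

namespace Cfsg.Agent.Helper9.TCData.X1690
open Cfsg.Agent.Helper9.TC2

theorem e5_67 : allRange 174128 2210 (fun u => chkE tab 5 u) = true := by decide +kernel

theorem e5_68 : allRange 176338 2641 (fun u => chkE tab 5 u) = true := by decide +kernel

theorem e5_69 : allRange 178979 2701 (fun u => chkE tab 5 u) = true := by decide +kernel

theorem e5_70 : allRange 181680 2453 (fun u => chkE tab 5 u) = true := by decide +kernel

theorem e5_71 : allRange 184133 2454 (fun u => chkE tab 5 u) = true := by decide +kernel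

theorem e5_72 : allRange 186587 2518 (fun u => chkE tab 5 u) = true := by decide +kernel

theorem e5_73 : allRange 189105 2395 (fun u => chkE tab 5 u) = true := by decide +kernel

theorem e5_74 : allRange 191500 2239 (fun u => chkE tab 5 u) = true := by decide +kernel

theorem e5_75 : allRange 193739 2579 (fun u => chkE tab 5 u) = true := by decide +kernel

theorem e5_76 : allRange 196318 2910 (fun u => chkE tab 5 u) = true := by decide +kernel


end Cfsg.Agent.Helper9.TCData.X1690
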