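import Cfsg.Agent.Lib.Helper9.TCData.X1690.Main

set_option autoImplicit false
set_option maxRecDepth 1000000

namespace Cfsg.Agent.Helper9.TCData.X1690
open Cfsg.Agent.Helper9.TC2

theorem m2_4327 : allRange 186061 43 (fun u => chkFix tab mwordsA u) = true := by decide +kernel

theorem m2_4328 : allRange 186104 43 (fun u => chkFix tab mwordsA u) = true := by decide +kernel

theorem m2_4329 : allRange 186147 43 (fun u => chkFix tab mwordsA u) = true := by decide +kernel

theorem m2_4330 : allRange 186190 43 (fun u => chkFix tab mwordsA u) = true := by decide +kernel

theorem m2_4331 : allRange 186233 43 (fun u => chkFix tab mwordsA u) = true := by decide +kernel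

theorem m2_4332 : allRange 186276 43 (fun u => chkFix tab mwordsA u) = true := by decide +kernel

theorem m2_4333 : allRange 186319 43 (fun u => chkFix tab mwordsA u) = true := by decide +kernel

theorem m2_4334 : allRange 186362 43 (fun u => chkFix tab mwordsA u) = true := by decide +kernel

theorem m2_4335 : allRange 186405 43 (fun u => chkFix tab mwordsA u) = true := by decide +kernel

theorem m2_4336 : allRange 186448 43 (fun u => chkFix tab mwordsA u) = true := by decide +kernel


end Cfsg.Agent.Helper9.TCData.X1690
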