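import Cfsg.Agent.Lib.Helper9.TCData.X1690.Main

set_option autoImplicit false
set_option maxRecDepth 1000000

namespace Cfsg.Agent.Helper9.TCData.X1690
open Cfsg.Agent.Helper9.TC2

theorem m2_4347 : allRange 186921 43 (fun u => chkFix tab mwordsA u) = true := by decide +kernel

theorem m2_4348 : allRange 186964 43 (fun u => chkFix tab mwordsA u) = true := by decide +kernel

theorem m2_4349 : allRange 187007 43 (fun u => chkFix tab mwordsA u) = true := by decide +kernel

theorem m2_4350 : allRange 187050 43 (fun u => chkFix tab mwordsA u) = true := by decide +kernel

theorem m2_4351 : allRange 187093 43 (fun u => chkFix tab mwordsA u) = true := by decide +kernel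

theorem m2_4352 : allRange 187136 43 (fun u => chkFix tab mwordsA u) = true := by decide +kernel

theorem m2_4353 : allRange 187179 43 (fun u => chkFix tab mwordsA u) = true := by decide +kernel

theorem m2_4354 : allRange 187222 43 (fun u => chkFix tab mwordsA u) = true := by decide +kernel

theorem m2_4355 : allRange 187265 43 (fun u => chkFix tab mwordsA u) = true := by decide +kernel

theorem m2_4356 : allRange 187308 43 (fun u => chkFix tab mwordsA u) = true := by decide +kernel


end Cfsg.Agent.Helper9.TCData.X1690
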