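import Cfsg.Agent.Lib.Helper9.TCData.X1690.Main

set_option autoImplicit false
set_option maxRecDepth 1000000

namespace Cfsg.Agent.Helper9.TCData.X1690
open Cfsg.Agent.Helper9.TC2

theorem m2_4357 : allRange 187351 43 (fun u => chkFix tab mwordsA u) = true := by decide +kernel

theorem m2_4358 : allRange 187394 43 (fun u => chkFix tab mwordsA u) = true := by decide +kernel

theorem m2_4359 : allRange 187437 43 (fun u => chkFix tab mwordsA u) = true := by decide +kernel

theorem m2_4360 : allRange 187480 43 (fun u => chkFix tab mwordsA u) = true := by decide +kernel

theorem m2_4361 : allRange 187523 43 (fun u => chkFix tab mwordsA u) = true := by decide +kernel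

theorem m2_4362 : allRange 187566 43 (fun u => chkFix tab mwordsA u) = true := by decide +kernel

theorem m2_4363 : allRange 187609 43 (fun u => chkFix tab mwordsA u) = true := by decide +kernel

theorem m2_4364 : allRange 187652 43 (fun u => chkFix tab mwordsA u) = true := by decide +kernel

theorem m2_4365 : allRange 187695 43 (fun u => chkFix tab mwordsA u) = true := by decide +kernel

theorem m2_4366 : allRange 187738 43 (fun u => chkFix tab mwordsA u) = true := by decide +kernel


end Cfsg.Agent.Helper9.TCData.X1690
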