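import Cfsg.Agent.Lib.Helper9.TCData.X1690.Main

set_option autoImplicit false
set_option maxRecDepth 1000000

namespace Cfsg.Agent.Helper9.TCData.X1690
open Cfsg.Agent.Helper9.TC2

theorem m2_4367 : allRange 187781 43 (fun u => chkFix tab mwordsA u) = true := by decide +kernel

theorem m2_4368 : allRange 187824 43 (fun u => chkFix tab mwordsA u) = true := by decide +kernel

theorem m2_4369 : allRange 187867 43 (fun u => chkFix tab mwordsA u) = true := by decide +kernel

theorem m2_4370 : allRange 187910 43 (fun u => chkFix tab mwordsA u) = true := by decide +kernel

theorem m2_4371 : allRange 187953 43 (fun u => chkFix tab mwordsA u) = true := by decide +kernel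

theorem m2_4372 : allRange 187996 43 (fun u => chkFix tab mwordsA u) = true := by decide +kernel

theorem m2_4373 : allRange 188039 43 (fun u => chkFix tab mwordsA u) = true := by decide +kernel

theorem m2_4374 : allRange 188082 43 (fun u => chkFix tab mwordsA u) = true := by decide +kernel

theorem m2_4375 : allRange 188125 43 (fun u => chkFix tab mwordsA u) = true := by decide +kernel

theorem m2_4376 : allRange 188168 43 (fun u => chkFix tab mwordsA u) = true := by decide +kernel


end Cfsg.Agent.Helper9.TCData.X1690
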