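import Cfsg.Agent.Lib.Helper9.TCData.X1690.Main

set_option autoImplicit false
set_option maxRecDepth 1000000

namespace Cfsg.Agent.Helper9.TCData.X1690
open Cfsg.Agent.Helper9.TC2

theorem m2_4377 : allRange 188211 43 (fun u => chkFix tab mwordsA u) = true := by decide +kernel

theorem m2_4378 : allRange 188254 43 (fun u => chkFix tab mwordsA u) = true := by decide +kernel

theorem m2_4379 : allRange 188297 43 (fun u => chkFix tab mwordsA u) = true := by decide +kernel

theorem m2_4380 : allRange 188340 43 (fun u => chkFix tab mwordsA u) = true := by decide +kernel

theorem m2_4381 : allRange 188383 43 (fun u => chkFix tab mwordsA u) = true := by decide +kernel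

theorem m2_4382 : allRange 188426 43 (fun u => chkFix tab mwordsA u) = true := by decide +kernel

theorem m2_4383 : allRange 188469 43 (fun u => chkFix tab mwordsA u) = true := by decide +kernel

theorem m2_4384 : allRange 188512 43 (fun u => chkFix tab mwordsA u) = true := by decide +kernel

theorem m2_4385 : allRange 188555 43 (fun u => chkFix tab mwordsA u) = true := by decide +kernel

theorem m2_4386 : allRange 188598 43 (fun u => chkFix tab mwordsA u) = true := by decide +kernel


end Cfsg.Agent.Helper9.TCData.X1690
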