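import Cfsg.Agent.Lib.Helper9.TCData.X1690.Main

set_option autoImplicit false
set_option maxRecDepth 1000000

namespace Cfsg.Agent.Helper9.TCData.X1690
open Cfsg.Agent.Helper9.TC2

theorem m2_4387 : allRange 188641 43 (fun u => chkFix tab mwordsA u) = true := by decide +kernel

theorem m2_4388 : allRange 188684 43 (fun u => chkFix tab mwordsA u) = true := by decide +kernel

theorem m2_4389 : allRange 188727 43 (fun u => chkFix tab mwordsA u) = true := by decide +kernel

theorem m2_4390 : allRange 188770 43 (fun u => chkFix tab mwordsA u) = true := by decide +kernel

theorem m2_4391 : allRange 188813 43 (fun u => chkFix tab mwordsA u) = true := by decide +kernel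

theorem m2_4392 : allRange 188856 43 (fun u => chkFix tab mwordsA u) = true := by decide +kernel

theorem m2_4393 : allRange 188899 43 (fun u => chkFix tab mwordsA u) = true := by decide +kernel

theorem m2_4394 : allRange 188942 43 (fun u => chkFix tab mwordsA u) = true := by decide +kernel

theorem m2_4395 : allRange 188985 43 (fun u => chkFix tab mwordsA u) = true := by decide +kernel

theorem m2_4396 : allRange 189028 43 (fun u => chkFix tab mwordsA u) = true := by decide +kernel


end Cfsg.Agent.Helper9.TCData.X1690
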