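import Cfsg.Agent.Lib.Helper9.TCData.X1690.Main

set_option autoImplicit false
set_option maxRecDepth 1000000

namespace Cfsg.Agent.Helper9.TCData.X1690
open Cfsg.Agent.Helper9.TC2

theorem m2_4397 : allRange 189071 43 (fun u => chkFix tab mwordsA u) = true := by decide +kernel

theorem m2_4398 : allRange 189114 43 (fun u => chkFix tab mwordsA u) = true := by decide +kernel

theorem m2_4399 : allRange 189157 43 (fun u => chkFix tab mwordsA u) = true := by decide +kernel

theorem m2_4400 : allRange 189200 43 (fun u => chkFix tab mwordsA u) = true := by decide +kernel

theorem m2_4401 : allRange 189243 43 (fun u => chkFix tab mwordsA u) = true := by decide +kernel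

theorem m2_4402 : allRange 189286 43 (fun u => chkFix tab mwordsA u) = true := by decide +kernel

theorem m2_4403 : allRange 189329 43 (fun u => chkFix tab mwordsA u) = true := by decide +kernel

theorem m2_4404 : allRange 189372 43 (fun u => chkFix tab mwordsA u) = true := by decide +kernel

theorem m2_4405 : allRange 189415 43 (fun u => chkFix tab mwordsA u) = true := by decide +kernel

theorem m2_4406 : allRange 189458 43 (fun u => chkFix tab mwordsA u) = true := by decide +kernel


end Cfsg.Agent.Helper9.TCData.X1690
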