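import Cfsg.Agent.Lib.Helper9.TCData.X1690.Main

set_option autoImplicit false
set_option maxRecDepth 1000000

namespace Cfsg.Agent.Helper9.TCData.X1690
open Cfsg.Agent.Helper9.TC2

theorem m2_4407 : allRange 189501 43 (fun u => chkFix tab mwordsA u) = true := by decide +kernel

theorem m2_4408 : allRange 189544 43 (fun u => chkFix tab mwordsA u) = true := by decide +kernel

theorem m2_4409 : allRange 189587 43 (fun u => chkFix tab mwordsA u) = true := by decide +kernel

theorem m2_4410 : allRange 189630 43 (fun u => chkFix tab mwordsA u) = true := by decide +kernel

theorem m2_4411 : allRange 189673 43 (fun u => chkFix tab mwordsA u) = true := by decide +kernel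

theorem m2_4412 : allRange 189716 43 (fun u => chkFix tab mwordsA u) = true := by decide +kernel

theorem m2_4413 : allRange 189759 43 (fun u => chkFix tab mwordsA u) = true := by decide +kernel

theorem m2_4414 : allRange 189802 43 (fun u => chkFix tab mwordsA u) = true := by decide +kernel

theorem m2_4415 : allRange 189845 43 (fun u => chkFix tab mwordsA u) = true := by decide +kernel

theorem m2_4416 : allRange 189888 43 (fun u => chkFix tab mwordsA u) = true := by decide +kernel


end Cfsg.Agent.Helper9.TCData.X1690
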