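import Cfsg.Agent.Lib.Helper9.TCData.X1690.Main

set_option autoImplicit false
set_option maxRecDepth 1000000

namespace Cfsg.Agent.Helper9.TCData.X1690
open Cfsg.Agent.Helper9.TC2

theorem e5_77 : allRange 199228 2684 (fun u => chkE tab 5 u) = true := by decide +kernel

theorem e5_78 : allRange 201912 2610 (fun u => chkE tab 5 u) = true := by decide +kernel

theorem e5_79 : allRange 204522 2501 (fun u => chkE tab 5 u) = true := by decide +kernel

theorem e5_80 : allRange 207023 2562 (fun u => chkE tab 5 u) = true := by decide +kernel

theorem e5_81 : allRange 209585 2369 (fun u => chkE tab 5 u) = true := by decide +kernel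

theorem e5_82 : allRange 211954 2438 (fun u => chkE tab 5 u) = true := by decide +kernel

theorem e5_83 : allRange 214392 2987 (fun u => chkE tab 5 u) = true := by decide +kernel

theorem e5_84 : allRange 217379 2922 (fun u => chkE tab 5 u) = true := by decide +kernel

theorem e5_85 : allRange 220301 2794 (fun u => chkE tab 5 u) = true := by decide +kernel

theorem e5_86 : allRange 223095 2685 (fun u => chkE tab 5 u) = true := by decide +kernel


end Cfsg.Agent.Helper9.TCData.X1690
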