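import Cfsg.Agent.Lib.Helper9.TCData.X1690.Main

set_option autoImplicit false
set_option maxRecDepth 1000000

namespace Cfsg.Agent.Helper9.TCData.X1690
open Cfsg.Agent.Helper9.TC2

theorem m2_4417 : allRange 189931 43 (fun u => chkFix tab mwordsA u) = true := by decide +kernel

theorem m2_4418 : allRange 189974 43 (fun u => chkFix tab mwordsA u) = true := by decide +kernel

theorem m2_4419 : allRange 190017 43 (fun u => chkFix tab mwordsA u) = true := by decide +kernel

theorem m2_4420 : allRange 190060 43 (fun u => chkFix tab mwordsA u) = true := by decide +kernel

theorem m2_4421 : allRange 190103 43 (fun u => chkFix tab mwordsA u) = true := by decide +kernel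

theorem m2_4422 : allRange 190146 43 (fun u => chkFix tab mwordsA u) = true := by decide +kernel

theorem m2_4423 : allRange 190189 43 (fun u => chkFix tab mwordsA u) = true := by decide +kernel

theorem m2_4424 : allRange 190232 43 (fun u => chkFix tab mwordsA u) = true := by decide +kernel

theorem m2_4425 : allRange 190275 43 (fun u => chkFix tab mwordsA u) = true := by decide +kernel

theorem m2_4426 : allRange 190318 43 (fun u => chkFix tab mwordsA u) = true := by decide +kernel


end Cfsg.Agent.Helper9.TCData.X1690
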