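import Cfsg.Agent.Lib.Helper9.TCData.X1690.Main

set_option autoImplicit false
set_option maxRecDepth 1000000

namespace Cfsg.Agent.Helper9.TCData.X1690
open Cfsg.Agent.Helper9.TC2

theorem m2_4427 : allRange 190361 43 (fun u => chkFix tab mwordsA u) = true := by decide +kernel

theorem m2_4428 : allRange 190404 43 (fun u => chkFix tab mwordsA u) = true := by decide +kernel

theorem m2_4429 : allRange 190447 43 (fun u => chkFix tab mwordsA u) = true := by decide +kernel

theorem m2_4430 : allRange 190490 43 (fun u => chkFix tab mwordsA u) = true := by decide +kernel

theorem m2_4431 : allRange 190533 43 (fun u => chkFix tab mwordsA u) = true := by decide +kernel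

theorem m2_4432 : allRange 190576 43 (fun u => chkFix tab mwordsA u) = true := by decide +kernel

theorem m2_4433 : allRange 190619 43 (fun u => chkFix tab mwordsA u) = true := by decide +kernel

theorem m2_4434 : allRange 190662 43 (fun u => chkFix tab mwordsA u) = true := by decide +kernel

theorem m2_4435 : allRange 190705 43 (fun u => chkFix tab mwordsA u) = true := by decide +kernel

theorem m2_4436 : allRange 190748 43 (fun u => chkFix tab mwordsA u) = true := by decide +kernel


end Cfsg.Agent.Helper9.TCData.X1690
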