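import Cfsg.Agent.Lib.Helper9.TCData.X1690.Main

set_option autoImplicit false
set_option maxRecDepth 1000000

namespace Cfsg.Agent.Helper9.TCData.X1690
open Cfsg.Agent.Helper9.TC2

theorem m2_4447 : allRange 191221 43 (fun u => chkFix tab mwordsA u) = true := by decide +kernel

theorem m2_4448 : allRange 191264 43 (fun u => chkFix tab mwordsA u) = true := by decide +kernel

theorem m2_4449 : allRange 191307 43 (fun u => chkFix tab mwordsA u) = true := by decide +kernel

theorem m2_4450 : allRange 191350 43 (fun u => chkFix tab mwordsA u) = true := by decide +kernel

theorem m2_4451 : allRange 191393 43 (fun u => chkFix tab mwordsA u) = true := by decide +kernel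

theorem m2_4452 : allRange 191436 43 (fun u => chkFix tab mwordsA u) = true := by decide +kernel

theorem m2_4453 : allRange 191479 43 (fun u => chkFix tab mwordsA u) = true := by decide +kernel

theorem m2_4454 : allRange 191522 43 (fun u => chkFix tab mwordsA u) = true := by decide +kernel

theorem m2_4455 : allRange 191565 43 (fun u => chkFix tab mwordsA u) = true := by decide +kernel

theorem m2_4456 : allRange 191608 43 (fun u => chkFix tab mwordsA u) = true := by decide +kernel


end Cfsg.Agent.Helper9.TCData.X1690
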