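import Cfsg.Agent.Lib.Helper9.TCData.X1690.Main

set_option autoImplicit false
set_option maxRecDepth 1000000

namespace Cfsg.Agent.Helper9.TCData.X1690
open Cfsg.Agent.Helper9.TC2

theorem m2_4457 : allRange 191651 43 (fun u => chkFix tab mwordsA u) = true := by decide +kernel

theorem m2_4458 : allRange 191694 43 (fun u => chkFix tab mwordsA u) = true := by decide +kernel

theorem m2_4459 : allRange 191737 43 (fun u => chkFix tab mwordsA u) = true := by decide +kernel

theorem m2_4460 : allRange 191780 43 (fun u => chkFix tab mwordsA u) = true := by decide +kernel

theorem m2_4461 : allRange 191823 43 (fun u => chkFix tab mwordsA u) = true := by decide +kernel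

theorem m2_4462 : allRange 191866 43 (fun u => chkFix tab mwordsA u) = true := by decide +kernel

theorem m2_4463 : allRange 191909 43 (fun u => chkFix tab mwordsA u) = true := by decide +kernel

theorem m2_4464 : allRange 191952 43 (fun u => chkFix tab mwordsA u) = true := by decide +kernel

theorem m2_4465 : allRange 191995 43 (fun u => chkFix tab mwordsA u) = true := by decide +kernel

theorem m2_4466 : allRange 192038 43 (fun u => chkFix tab mwordsA u) = true := by decide +kernel


end Cfsg.Agent.Helper9.TCData.X1690
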