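import Cfsg.Agent.Lib.Helper9.TCData.X1690.Main

set_option autoImplicit false
set_option maxRecDepth 1000000

namespace Cfsg.Agent.Helper9.TCData.X1690
open Cfsg.Agent.Helper9.TC2

theorem m2_4467 : allRange 192081 43 (fun u => chkFix tab mwordsA u) = true := by decide +kernel

theorem m2_4468 : allRange 192124 43 (fun u => chkFix tab mwordsA u) = true := by decide +kernel

theorem m2_4469 : allRange 192167 43 (fun u => chkFix tab mwordsA u) = true := by decide +kernel

theorem m2_4470 : allRange 192210 43 (fun u => chkFix tab mwordsA u) = true := by decide +kernel

theorem m2_4471 : allRange 192253 43 (fun u => chkFix tab mwordsA u) = true := by decide +kernel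

theorem m2_4472 : allRange 192296 43 (fun u => chkFix tab mwordsA u) = true := by decide +kernel

theorem m2_4473 : allRange 192339 43 (fun u => chkFix tab mwordsA u) = true := by decide +kernel

theorem m2_4474 : allRange 192382 43 (fun u => chkFix tab mwordsA u) = true := by decide +kernel

theorem m2_4475 : allRange 192425 43 (fun u => chkFix tab mwordsA u) = true := by decide +kernel

theorem m2_4476 : allRange 192468 43 (fun u => chkFix tab mwordsA u) = true := by decide +kernel


end Cfsg.Agent.Helper9.TCData.X1690
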