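import Cfsg.Agent.Lib.Helper9.TCData.X1690.Main

set_option autoImplicit false
set_option maxRecDepth 1000000

namespace Cfsg.Agent.Helper9.TCData.X1690
open Cfsg.Agent.Helper9.TC2

theorem m2_4477 : allRange 192511 43 (fun u => chkFix tab mwordsA u) = true := by decide +kernel

theorem m2_4478 : allRange 192554 43 (fun u => chkFix tab mwordsA u) = true := by decide +kernel

theorem m2_4479 : allRange 192597 43 (fun u => chkFix tab mwordsA u) = true := by decide +kernel

theorem m2_4480 : allRange 192640 43 (fun u => chkFix tab mwordsA u) = true := by decide +kernel

theorem m2_4481 : allRange 192683 43 (fun u => chkFix tab mwordsA u) = true := by decide +kernel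

theorem m2_4482 : allRange 192726 43 (fun u => chkFix tab mwordsA u) = true := by decide +kernel

theorem m2_4483 : allRange 192769 43 (fun u => chkFix tab mwordsA u) = true := by decide +kernel

theorem m2_4484 : allRange 192812 43 (fun u => chkFix tab mwordsA u) = true := by decide +kernel

theorem m2_4485 : allRange 192855 43 (fun u => chkFix tab mwordsA u) = true := by decide +kernel

theorem m2_4486 : allRange 192898 43 (fun u => chkFix tab mwordsA u) = true := by decide +kernel


end Cfsg.Agent.Helper9.TCData.X1690
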