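import Cfsg.Agent.Lib.Helper9.TCData.X1690.Main

set_option autoImplicit false
set_option maxRecDepth 1000000

namespace Cfsg.Agent.Helper9.TCData.X1690
open Cfsg.Agent.Helper9.TC2

theorem m2_4487 : allRange 192941 43 (fun u => chkFix tab mwordsA u) = true := by decide +kernel

theorem m2_4488 : allRange 192984 43 (fun u => chkFix tab mwordsA u) = true := by decide +kernel

theorem m2_4489 : allRange 193027 43 (fun u => chkFix tab mwordsA u) = true := by decide +kernel

theorem m2_4490 : allRange 193070 43 (fun u => chkFix tab mwordsA u) = true := by decide +kernel

theorem m2_4491 : allRange 193113 43 (fun u => chkFix tab mwordsA u) = true := by decide +kernel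

theorem m2_4492 : allRange 193156 43 (fun u => chkFix tab mwordsA u) = true := by decide +kernel

theorem m2_4493 : allRange 193199 43 (fun u => chkFix tab mwordsA u) = true := by decide +kernel

theorem m2_4494 : allRange 193242 43 (fun u => chkFix tab mwordsA u) = true := by decide +kernel

theorem m2_4495 : allRange 193285 43 (fun u => chkFix tab mwordsA u) = true := by decide +kernel

theorem m2_4496 : allRange 193328 43 (fun u => chkFix tab mwordsA u) = true := by decide +kernel


end Cfsg.Agent.Helper9.TCData.X1690
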