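import Cfsg.Agent.Lib.Helper9.TCData.X1690.Main

set_option autoImplicit false
set_option maxRecDepth 1000000

namespace Cfsg.Agent.Helper9.TCData.X1690
open Cfsg.Agent.Helper9.TC2

theorem m2_4497 : allRange 193371 43 (fun u => chkFix tab mwordsA u) = true := by decide +kernel

theorem m2_4498 : allRange 193414 43 (fun u => chkFix tab mwordsA u) = true := by decide +kernel

theorem m2_4499 : allRange 193457 43 (fun u => chkFix tab mwordsA u) = true := by decide +kernel

theorem m2_4500 : allRange 193500 43 (fun u => chkFix tab mwordsA u) = true := by decide +kernel

theorem m2_4501 : allRange 193543 43 (fun u => chkFix tab mwordsA u) = true := by decide +kernel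

theorem m2_4502 : allRange 193586 43 (fun u => chkFix tab mwordsA u) = true := by decide +kernel

theorem m2_4503 : allRange 193629 43 (fun u => chkFix tab mwordsA u) = true := by decide +kernel

theorem m2_4504 : allRange 193672 43 (fun u => chkFix tab mwordsA u) = true := by decide +kernel

theorem m2_4505 : allRange 193715 43 (fun u => chkFix tab mwordsA u) = true := by decide +kernel

theorem m2_4506 : allRange 193758 43 (fun u => chkFix tab mwordsA u) = true := by decide +kernel


end Cfsg.Agent.Helper9.TCData.X1690
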