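import Cfsg.Agent.Lib.Helper9.TCData.X1690.Main

set_option autoImplicit false
set_option maxRecDepth 1000000

namespace Cfsg.Agent.Helper9.TCData.X1690
open Cfsg.Agent.Helper9.TC2

theorem m2_4507 : allRange 193801 43 (fun u => chkFix tab mwordsA u) = true := by decide +kernel

theorem m2_4508 : allRange 193844 43 (fun u => chkFix tab mwordsA u) = true := by decide +kernel

theorem m2_4509 : allRange 193887 43 (fun u => chkFix tab mwordsA u) = true := by decide +kernel

theorem m2_4510 : allRange 193930 43 (fun u => chkFix tab mwordsA u) = true := by decide +kernel

theorem m2_4511 : allRange 193973 43 (fun u => chkFix tab mwordsA u) = true := by decide +kernel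

theorem m2_4512 : allRange 194016 43 (fun u => chkFix tab mwordsA u) = true := by decide +kernel

theorem m2_4513 : allRange 194059 43 (fun u => chkFix tab mwordsA u) = true := by decide +kernel

theorem m2_4514 : allRange 194102 43 (fun u => chkFix tab mwordsA u) = true := by decide +kernel

theorem m2_4515 : allRange 194145 43 (fun u => chkFix tab mwordsA u) = true := by decide +kernel

theorem m2_4516 : allRange 194188 43 (fun u => chkFix tab mwordsA u) = true := by decide +kernel


end Cfsg.Agent.Helper9.TCData.X1690
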