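import Cfsg.Agent.Lib.Helper9.TCData.X1690.Main

set_option autoImplicit false
set_option maxRecDepth 1000000

namespace Cfsg.Agent.Helper9.TCData.X1690
open Cfsg.Agent.Helper9.TC2

theorem e5_87 : allRange 225780 2561 (fun u => chkE tab 5 u) = true := by decide +kernel

theorem e5_88 : allRange 228341 2650 (fun u => chkE tab 5 u) = true := by decide +kernel

theorem e5_89 : allRange 230991 2454 (fun u => chkE tab 5 u) = true := by decide +kernel

theorem e5_90 : allRange 233445 2479 (fun u => chkE tab 5 u) = true := by decide +kernel

theorem e5_91 : allRange 235924 3169 (fun u => chkE tab 5 u) = true := by decide +kernel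

theorem e5_92 : allRange 239093 3134 (fun u => chkE tab 5 u) = true := by decide +kernel

theorem e5_93 : allRange 242227 2833 (fun u => chkE tab 5 u) = true := by decide +kernel

theorem e5_94 : allRange 245060 2634 (fun u => chkE tab 5 u) = true := by decide +kernel

theorem e5_95 : allRange 247694 2710 (fun u => chkE tab 5 u) = true := by decide +kernel

theorem e5_96 : allRange 250404 2766 (fun u => chkE tab 5 u) = true := by decide +kernel


end Cfsg.Agent.Helper9.TCData.X1690
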