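import Cfsg.Agent.Lib.Helper9.TCData.X1690.Main

set_option autoImplicit false
set_option maxRecDepth 1000000

namespace Cfsg.Agent.Helper9.TCData.X1690
open Cfsg.Agent.Helper9.TC2

theorem m2_4517 : allRange 194231 43 (fun u => chkFix tab mwordsA u) = true := by decide +kernel

theorem m2_4518 : allRange 194274 43 (fun u => chkFix tab mwordsA u) = true := by decide +kernel

theorem m2_4519 : allRange 194317 43 (fun u => chkFix tab mwordsA u) = true := by decide +kernel

theorem m2_4520 : allRange 194360 43 (fun u => chkFix tab mwordsA u) = true := by decide +kernel

theorem m2_4521 : allRange 194403 43 (fun u => chkFix tab mwordsA u) = true := by decide +kernel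

theorem m2_4522 : allRange 194446 43 (fun u => chkFix tab mwordsA u) = true := by decide +kernel

theorem m2_4523 : allRange 194489 43 (fun u => chkFix tab mwordsA u) = true := by decide +kernel

theorem m2_4524 : allRange 194532 43 (fun u => chkFix tab mwordsA u) = true := by decide +kernel

theorem m2_4525 : allRange 194575 43 (fun u => chkFix tab mwordsA u) = true := by decide +kernel

theorem m2_4526 : allRange 194618 43 (fun u => chkFix tab mwordsA u) = true := by decide +kernel


end Cfsg.Agent.Helper9.TCData.X1690
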