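import Cfsg.Agent.Lib.Helper9.TCData.X1690.Main

set_option autoImplicit false
set_option maxRecDepth 1000000

namespace Cfsg.Agent.Helper9.TCData.X1690
open Cfsg.Agent.Helper9.TC2

theorem m2_4527 : allRange 194661 43 (fun u => chkFix tab mwordsA u) = true := by decide +kernel

theorem m2_4528 : allRange 194704 43 (fun u => chkFix tab mwordsA u) = true := by decide +kernel

theorem m2_4529 : allRange 194747 43 (fun u => chkFix tab mwordsA u) = true := by decide +kernel

theorem m2_4530 : allRange 194790 43 (fun u => chkFix tab mwordsA u) = true := by decide +kernel

theorem m2_4531 : allRange 194833 43 (fun u => chkFix tab mwordsA u) = true := by decide +kernel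

theorem m2_4532 : allRange 194876 43 (fun u => chkFix tab mwordsA u) = true := by decide +kernel

theorem m2_4533 : allRange 194919 43 (fun u => chkFix tab mwordsA u) = true := by decide +kernel

theorem m2_4534 : allRange 194962 43 (fun u => chkFix tab mwordsA u) = true := by decide +kernel

theorem m2_4535 : allRange 195005 43 (fun u => chkFix tab mwordsA u) = true := by decide +kernel

theorem m2_4536 : allRange 195048 43 (fun u => chkFix tab mwordsA u) = true := by decide +kernel


end Cfsg.Agent.Helper9.TCData.X1690
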