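import Cfsg.Agent.Lib.Helper9.TCData.X1690.Main

set_option autoImplicit false
set_option maxRecDepth 1000000

namespace Cfsg.Agent.Helper9.TCData.X1690
open Cfsg.Agent.Helper9.TC2

theorem m2_4537 : allRange 195091 43 (fun u => chkFix tab mwordsA u) = true := by decide +kernel

theorem m2_4538 : allRange 195134 43 (fun u => chkFix tab mwordsA u) = true := by decide +kernel

theorem m2_4539 : allRange 195177 43 (fun u => chkFix tab mwordsA u) = true := by decide +kernel

theorem m2_4540 : allRange 195220 43 (fun u => chkFix tab mwordsA u) = true := by decide +kernel

theorem m2_4541 : allRange 195263 43 (fun u => chkFix tab mwordsA u) = true := by decide +kernel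

theorem m2_4542 : allRange 195306 43 (fun u => chkFix tab mwordsA u) = true := by decide +kernel

theorem m2_4543 : allRange 195349 43 (fun u => chkFix tab mwordsA u) = true := by decide +kernel

theorem m2_4544 : allRange 195392 43 (fun u => chkFix tab mwordsA u) = true := by decide +kernel

theorem m2_4545 : allRange 195435 43 (fun u => chkFix tab mwordsA u) = true := by decide +kernel

theorem m2_4546 : allRange 195478 43 (fun u => chkFix tab mwordsA u) = true := by decide +kernel


end Cfsg.Agent.Helper9.TCData.X1690
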