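import Cfsg.Agent.Lib.Helper9.TCData.X1690.Main

set_option autoImplicit false
set_option maxRecDepth 1000000

namespace Cfsg.Agent.Helper9.TCData.X1690
open Cfsg.Agent.Helper9.TC2

theorem m2_4547 : allRange 195521 43 (fun u => chkFix tab mwordsA u) = true := by decide +kernel

theorem m2_4548 : allRange 195564 43 (fun u => chkFix tab mwordsA u) = true := by decide +kernel

theorem m2_4549 : allRange 195607 43 (fun u => chkFix tab mwordsA u) = true := by decide +kernel

theorem m2_4550 : allRange 195650 43 (fun u => chkFix tab mwordsA u) = true := by decide +kernel

theorem m2_4551 : allRange 195693 43 (fun u => chkFix tab mwordsA u) = true := by decide +kernel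

theorem m2_4552 : allRange 195736 43 (fun u => chkFix tab mwordsA u) = true := by decide +kernel

theorem m2_4553 : allRange 195779 43 (fun u => chkFix tab mwordsA u) = true := by decide +kernel

theorem m2_4554 : allRange 195822 43 (fun u => chkFix tab mwordsA u) = true := by decide +kernel

theorem m2_4555 : allRange 195865 43 (fun u => chkFix tab mwordsA u) = true := by decide +kernel

theorem m2_4556 : allRange 195908 43 (fun u => chkFix tab mwordsA u) = true := by decide +kernel


end Cfsg.Agent.Helper9.TCData.X1690
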