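import Cfsg.Agent.Lib.Helper9.TCData.X1690.Main

set_option autoImplicit false
set_option maxRecDepth 1000000

namespace Cfsg.Agent.Helper9.TCData.X1690
open Cfsg.Agent.Helper9.TC2

theorem m2_4567 : allRange 196381 43 (fun u => chkFix tab mwordsA u) = true := by decide +kernel

theorem m2_4568 : allRange 196424 43 (fun u => chkFix tab mwordsA u) = true := by decide +kernel

theorem m2_4569 : allRange 196467 43 (fun u => chkFix tab mwordsA u) = true := by decide +kernel

theorem m2_4570 : allRange 196510 43 (fun u => chkFix tab mwordsA u) = true := by decide +kernel

theorem m2_4571 : allRange 196553 43 (fun u => chkFix tab mwordsA u) = true := by decide +kernel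

theorem m2_4572 : allRange 196596 43 (fun u => chkFix tab mwordsA u) = true := by decide +kernel

theorem m2_4573 : allRange 196639 43 (fun u => chkFix tab mwordsA u) = true := by decide +kernel

theorem m2_4574 : allRange 196682 43 (fun u => chkFix tab mwordsA u) = true := by decide +kernel

theorem m2_4575 : allRange 196725 43 (fun u => chkFix tab mwordsA u) = true := by decide +kernel

theorem m2_4576 : allRange 196768 43 (fun u => chkFix tab mwordsA u) = true := by decide +kernel


end Cfsg.Agent.Helper9.TCData.X1690
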