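import Cfsg.Agent.Lib.Helper9.TCData.X1690.Main

set_option autoImplicit false
set_option maxRecDepth 1000000

namespace Cfsg.Agent.Helper9.TCData.X1690
open Cfsg.Agent.Helper9.TC2

theorem m2_4577 : allRange 196811 43 (fun u => chkFix tab mwordsA u) = true := by decide +kernel

theorem m2_4578 : allRange 196854 43 (fun u => chkFix tab mwordsA u) = true := by decide +kernel

theorem m2_4579 : allRange 196897 43 (fun u => chkFix tab mwordsA u) = true := by decide +kernel

theorem m2_4580 : allRange 196940 43 (fun u => chkFix tab mwordsA u) = true := by decide +kernel

theorem m2_4581 : allRange 196983 43 (fun u => chkFix tab mwordsA u) = true := by decide +kernel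

theorem m2_4582 : allRange 197026 43 (fun u => chkFix tab mwordsA u) = true := by decide +kernel

theorem m2_4583 : allRange 197069 43 (fun u => chkFix tab mwordsA u) = true := by decide +kernel

theorem m2_4584 : allRange 197112 43 (fun u => chkFix tab mwordsA u) = true := by decide +kernel

theorem m2_4585 : allRange 197155 43 (fun u => chkFix tab mwordsA u) = true := by decide +kernel

theorem m2_4586 : allRange 197198 43 (fun u => chkFix tab mwordsA u) = true := by decide +kernel


end Cfsg.Agent.Helper9.TCData.X1690
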