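import Cfsg.Agent.Lib.Helper9.TCData.X1690.Main

set_option autoImplicit false
set_option maxRecDepth 1000000

namespace Cfsg.Agent.Helper9.TCData.X1690
open Cfsg.Agent.Helper9.TC2

theorem m2_4587 : allRange 197241 43 (fun u => chkFix tab mwordsA u) = true := by decide +kernel

theorem m2_4588 : allRange 197284 43 (fun u => chkFix tab mwordsA u) = true := by decide +kernel

theorem m2_4589 : allRange 197327 43 (fun u => chkFix tab mwordsA u) = true := by decide +kernel

theorem m2_4590 : allRange 197370 43 (fun u => chkFix tab mwordsA u) = true := by decide +kernel

theorem m2_4591 : allRange 197413 43 (fun u => chkFix tab mwordsA u) = true := by decide +kernel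

theorem m2_4592 : allRange 197456 43 (fun u => chkFix tab mwordsA u) = true := by decide +kernel

theorem m2_4593 : allRange 197499 43 (fun u => chkFix tab mwordsA u) = true := by decide +kernel

theorem m2_4594 : allRange 197542 43 (fun u => chkFix tab mwordsA u) = true := by decide +kernel

theorem m2_4595 : allRange 197585 43 (fun u => chkFix tab mwordsA u) = true := by decide +kernel

theorem m2_4596 : allRange 197628 43 (fun u => chkFix tab mwordsA u) = true := by decide +kernel


end Cfsg.Agent.Helper9.TCData.X1690
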