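import Cfsg.Agent.Lib.Helper9.TCData.X1690.Main

set_option autoImplicit false
set_option maxRecDepth 1000000

namespace Cfsg.Agent.Helper9.TCData.X1690
open Cfsg.Agent.Helper9.TC2

theorem m2_4597 : allRange 197671 43 (fun u => chkFix tab mwordsA u) = true := by decide +kernel

theorem m2_4598 : allRange 197714 43 (fun u => chkFix tab mwordsA u) = true := by decide +kernel

theorem m2_4599 : allRange 197757 43 (fun u => chkFix tab mwordsA u) = true := by decide +kernel

theorem m2_4600 : allRange 197800 43 (fun u => chkFix tab mwordsA u) = true := by decide +kernel

theorem m2_4601 : allRange 197843 43 (fun u => chkFix tab mwordsA u) = true := by decide +kernel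

theorem m2_4602 : allRange 197886 43 (fun u => chkFix tab mwordsA u) = true := by decide +kernel

theorem m2_4603 : allRange 197929 43 (fun u => chkFix tab mwordsA u) = true := by decide +kernel

theorem m2_4604 : allRange 197972 43 (fun u => chkFix tab mwordsA u) = true := by decide +kernel

theorem m2_4605 : allRange 198015 43 (fun u => chkFix tab mwordsA u) = true := by decide +kernel

theorem m2_4606 : allRange 198058 43 (fun u => chkFix tab mwordsA u) = true := by decide +kernel


end Cfsg.Agent.Helper9.TCData.X1690
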