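import Cfsg.Agent.Lib.Helper9.TCData.X1690.Main

set_option autoImplicit false
set_option maxRecDepth 1000000

namespace Cfsg.Agent.Helper9.TCData.X1690
open Cfsg.Agent.Helper9.TC2

theorem m2_4607 : allRange 198101 43 (fun u => chkFix tab mwordsA u) = true := by decide +kernel

theorem m2_4608 : allRange 198144 43 (fun u => chkFix tab mwordsA u) = true := by decide +kernel

theorem m2_4609 : allRange 198187 43 (fun u => chkFix tab mwordsA u) = true := by decide +kernel

theorem m2_4610 : allRange 198230 43 (fun u => chkFix tab mwordsA u) = true := by decide +kernel

theorem m2_4611 : allRange 198273 43 (fun u => chkFix tab mwordsA u) = true := by decide +kernel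

theorem m2_4612 : allRange 198316 43 (fun u => chkFix tab mwordsA u) = true := by decide +kernel

theorem m2_4613 : allRange 198359 43 (fun u => chkFix tab mwordsA u) = true := by decide +kernel

theorem m2_4614 : allRange 198402 43 (fun u => chkFix tab mwordsA u) = true := by decide +kernel

theorem m2_4615 : allRange 198445 43 (fun u => chkFix tab mwordsA u) = true := by decide +kernel

theorem m2_4616 : allRange 198488 43 (fun u => chkFix tab mwordsA u) = true := by decide +kernel


end Cfsg.Agent.Helper9.TCData.X1690
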