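import Cfsg.Agent.Lib.Helper9.TCData.X1690.Main

set_option autoImplicit false
set_option maxRecDepth 1000000

namespace Cfsg.Agent.Helper9.TCData.X1690
open Cfsg.Agent.Helper9.TC2

theorem e5_97 : allRange 253170 2450 (fun u => chkE tab 5 u) = true := by decide +kernel

theorem e5_98 : allRange 255620 2326 (fun u => chkE tab 5 u) = true := by decide +kernel

theorem e5_99 : allRange 257946 3088 (fun u => chkE tab 5 u) = true := by decide +kernel

theorem e5_100 : allRange 261034 3290 (fun u => chkE tab 5 u) = true := by decide +kernel

theorem e5_101 : allRange 264324 3107 (fun u => chkE tab 5 u) = true := by decide +kernel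

theorem e5_102 : allRange 267431 2627 (fun u => chkE tab 5 u) = true := by decide +kernel

theorem e5_103 : allRange 270058 2735 (fun u => chkE tab 5 u) = true := by decide +kernel

theorem e5_104 : allRange 272793 2844 (fun u => chkE tab 5 u) = true := by decide +kernel

theorem e5_105 : allRange 275637 2607 (fun u => chkE tab 5 u) = true := by decide +kernel

theorem e5_106 : allRange 278244 2472 (fun u => chkE tab 5 u) = true := by decide +kernel


end Cfsg.Agent.Helper9.TCData.X1690
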