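import Cfsg.Agent.Lib.Helper9.TCData.X1690.Main

set_option autoImplicit false
set_option maxRecDepth 1000000

namespace Cfsg.Agent.Helper9.TCData.X1690
open Cfsg.Agent.Helper9.TC2

theorem m2_4617 : allRange 198531 43 (fun u => chkFix tab mwordsA u) = true := by decide +kernel

theorem m2_4618 : allRange 198574 43 (fun u => chkFix tab mwordsA u) = true := by decide +kernel

theorem m2_4619 : allRange 198617 43 (fun u => chkFix tab mwordsA u) = true := by decide +kernel

theorem m2_4620 : allRange 198660 43 (fun u => chkFix tab mwordsA u) = true := by decide +kernel

theorem m2_4621 : allRange 198703 43 (fun u => chkFix tab mwordsA u) = true := by decide +kernel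

theorem m2_4622 : allRange 198746 43 (fun u => chkFix tab mwordsA u) = true := by decide +kernel

theorem m2_4623 : allRange 198789 43 (fun u => chkFix tab mwordsA u) = true := by decide +kernel

theorem m2_4624 : allRange 198832 43 (fun u => chkFix tab mwordsA u) = true := by decide +kernel

theorem m2_4625 : allRange 198875 43 (fun u => chkFix tab mwordsA u) = true := by decide +kernel

theorem m2_4626 : allRange 198918 43 (fun u => chkFix tab mwordsA u) = true := by decide +kernel


end Cfsg.Agent.Helper9.TCData.X1690
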