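import Cfsg.Agent.Lib.Helper9.TCData.X1690.Main

set_option autoImplicit false
set_option maxRecDepth 1000000

namespace Cfsg.Agent.Helper9.TCData.X1690
open Cfsg.Agent.Helper9.TC2

theorem m2_4627 : allRange 198961 43 (fun u => chkFix tab mwordsA u) = true := by decide +kernel

theorem m2_4628 : allRange 199004 43 (fun u => chkFix tab mwordsA u) = true := by decide +kernel

theorem m2_4629 : allRange 199047 43 (fun u => chkFix tab mwordsA u) = true := by decide +kernel

theorem m2_4630 : allRange 199090 43 (fun u => chkFix tab mwordsA u) = true := by decide +kernel

theorem m2_4631 : allRange 199133 43 (fun u => chkFix tab mwordsA u) = true := by decide +kernel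

theorem m2_4632 : allRange 199176 43 (fun u => chkFix tab mwordsA u) = true := by decide +kernel

theorem m2_4633 : allRange 199219 43 (fun u => chkFix tab mwordsA u) = true := by decide +kernel

theorem m2_4634 : allRange 199262 43 (fun u => chkFix tab mwordsA u) = true := by decide +kernel

theorem m2_4635 : allRange 199305 43 (fun u => chkFix tab mwordsA u) = true := by decide +kernel

theorem m2_4636 : allRange 199348 43 (fun u => chkFix tab mwordsA u) = true := by decide +kernel


end Cfsg.Agent.Helper9.TCData.X1690
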