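import Cfsg.Agent.Lib.Helper9.TCData.X1690.Main

set_option autoImplicit false
set_option maxRecDepth 1000000

namespace Cfsg.Agent.Helper9.TCData.X1690
open Cfsg.Agent.Helper9.TC2

theorem m2_4637 : allRange 199391 43 (fun u => chkFix tab mwordsA u) = true := by decide +kernel

theorem m2_4638 : allRange 199434 43 (fun u => chkFix tab mwordsA u) = true := by decide +kernel

theorem m2_4639 : allRange 199477 43 (fun u => chkFix tab mwordsA u) = true := by decide +kernel

theorem m2_4640 : allRange 199520 43 (fun u => chkFix tab mwordsA u) = true := by decide +kernel

theorem m2_4641 : allRange 199563 43 (fun u => chkFix tab mwordsA u) = true := by decide +kernel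

theorem m2_4642 : allRange 199606 43 (fun u => chkFix tab mwordsA u) = true := by decide +kernel

theorem m2_4643 : allRange 199649 43 (fun u => chkFix tab mwordsA u) = true := by decide +kernel

theorem m2_4644 : allRange 199692 43 (fun u => chkFix tab mwordsA u) = true := by decide +kernel

theorem m2_4645 : allRange 199735 43 (fun u => chkFix tab mwordsA u) = true := by decide +kernel

theorem m2_4646 : allRange 199778 43 (fun u => chkFix tab mwordsA u) = true := by decide +kernel


end Cfsg.Agent.Helper9.TCData.X1690
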