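import Cfsg.Agent.Lib.Helper9.TCData.X1690.Main

set_option autoImplicit false
set_option maxRecDepth 1000000

namespace Cfsg.Agent.Helper9.TCData.X1690
open Cfsg.Agent.Helper9.TC2

theorem m2_4647 : allRange 199821 43 (fun u => chkFix tab mwordsA u) = true := by decide +kernel

theorem m2_4648 : allRange 199864 43 (fun u => chkFix tab mwordsA u) = true := by decide +kernel

theorem m2_4649 : allRange 199907 43 (fun u => chkFix tab mwordsA u) = true := by decide +kernel

theorem m2_4650 : allRange 199950 43 (fun u => chkFix tab mwordsA u) = true := by decide +kernel

theorem m2_4651 : allRange 199993 43 (fun u => chkFix tab mwordsA u) = true := by decide +kernel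

theorem m2_4652 : allRange 200036 43 (fun u => chkFix tab mwordsA u) = true := by decide +kernel

theorem m2_4653 : allRange 200079 43 (fun u => chkFix tab mwordsA u) = true := by decide +kernel

theorem m2_4654 : allRange 200122 43 (fun u => chkFix tab mwordsA u) = true := by decide +kernel

theorem m2_4655 : allRange 200165 43 (fun u => chkFix tab mwordsA u) = true := by decide +kernel

theorem m2_4656 : allRange 200208 43 (fun u => chkFix tab mwordsA u) = true := by decide +kernel


end Cfsg.Agent.Helper9.TCData.X1690
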