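import Cfsg.Agent.Lib.Helper9.TCData.X1690.Main

set_option autoImplicit false
set_option maxRecDepth 1000000

namespace Cfsg.Agent.Helper9.TCData.X1690
open Cfsg.Agent.Helper9.TC2

theorem m2_4657 : allRange 200251 43 (fun u => chkFix tab mwordsA u) = true := by decide +kernel

theorem m2_4658 : allRange 200294 43 (fun u => chkFix tab mwordsA u) = true := by decide +kernel

theorem m2_4659 : allRange 200337 43 (fun u => chkFix tab mwordsA u) = true := by decide +kernel

theorem m2_4660 : allRange 200380 43 (fun u => chkFix tab mwordsA u) = true := by decide +kernel

theorem m2_4661 : allRange 200423 43 (fun u => chkFix tab mwordsA u) = true := by decide +kernel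

theorem m2_4662 : allRange 200466 43 (fun u => chkFix tab mwordsA u) = true := by decide +kernel

theorem m2_4663 : allRange 200509 43 (fun u => chkFix tab mwordsA u) = true := by decide +kernel

theorem m2_4664 : allRange 200552 43 (fun u => chkFix tab mwordsA u) = true := by decide +kernel

theorem m2_4665 : allRange 200595 43 (fun u => chkFix tab mwordsA u) = true := by decide +kernel

theorem m2_4666 : allRange 200638 43 (fun u => chkFix tab mwordsA u) = true := by decide +kernel


end Cfsg.Agent.Helper9.TCData.X1690
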