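import Cfsg.Agent.Lib.Helper9.TCData.X1690.Main

set_option autoImplicit false
set_option maxRecDepth 1000000

namespace Cfsg.Agent.Helper9.TCData.X1690
open Cfsg.Agent.Helper9.TC2

theorem m2_4667 : allRange 200681 43 (fun u => chkFix tab mwordsA u) = true := by decide +kernel

theorem m2_4668 : allRange 200724 43 (fun u => chkFix tab mwordsA u) = true := by decide +kernel

theorem m2_4669 : allRange 200767 43 (fun u => chkFix tab mwordsA u) = true := by decide +kernel

theorem m2_4670 : allRange 200810 43 (fun u => chkFix tab mwordsA u) = true := by decide +kernel

theorem m2_4671 : allRange 200853 43 (fun u => chkFix tab mwordsA u) = true := by decide +kernel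

theorem m2_4672 : allRange 200896 43 (fun u => chkFix tab mwordsA u) = true := by decide +kernel

theorem m2_4673 : allRange 200939 43 (fun u => chkFix tab mwordsA u) = true := by decide +kernel

theorem m2_4674 : allRange 200982 43 (fun u => chkFix tab mwordsA u) = true := by decide +kernel

theorem m2_4675 : allRange 201025 43 (fun u => chkFix tab mwordsA u) = true := by decide +kernel

theorem m2_4676 : allRange 201068 43 (fun u => chkFix tab mwordsA u) = true := by decide +kernel


end Cfsg.Agent.Helper9.TCData.X1690
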