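import Cfsg.Agent.Lib.Helper9.TCData.X1690.Main

set_option autoImplicit false
set_option maxRecDepth 1000000

namespace Cfsg.Agent.Helper9.TCData.X1690
open Cfsg.Agent.Helper9.TC2

theorem m2_4687 : allRange 201541 43 (fun u => chkFix tab mwordsA u) = true := by decide +kernel

theorem m2_4688 : allRange 201584 43 (fun u => chkFix tab mwordsA u) = true := by decide +kernel

theorem m2_4689 : allRange 201627 43 (fun u => chkFix tab mwordsA u) = true := by decide +kernel

theorem m2_4690 : allRange 201670 43 (fun u => chkFix tab mwordsA u) = true := by decide +kernel

theorem m2_4691 : allRange 201713 43 (fun u => chkFix tab mwordsA u) = true := by decide +kernel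

theorem m2_4692 : allRange 201756 43 (fun u => chkFix tab mwordsA u) = true := by decide +kernel

theorem m2_4693 : allRange 201799 43 (fun u => chkFix tab mwordsA u) = true := by decide +kernel

theorem m2_4694 : allRange 201842 43 (fun u => chkFix tab mwordsA u) = true := by decide +kernel

theorem m2_4695 : allRange 201885 43 (fun u => chkFix tab mwordsA u) = true := by decide +kernel

theorem m2_4696 : allRange 201928 43 (fun u => chkFix tab mwordsA u) = true := by decide +kernel


end Cfsg.Agent.Helper9.TCData.X1690
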