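import Cfsg.Agent.Lib.Helper9.TCData.X1690.Main

set_option autoImplicit false
set_option maxRecDepth 1000000

namespace Cfsg.Agent.Helper9.TCData.X1690
open Cfsg.Agent.Helper9.TC2

theorem m2_4697 : allRange 201971 43 (fun u => chkFix tab mwordsA u) = true := by decide +kernel

theorem m2_4698 : allRange 202014 43 (fun u => chkFix tab mwordsA u) = true := by decide +kernel

theorem m2_4699 : allRange 202057 43 (fun u => chkFix tab mwordsA u) = true := by decide +kernel

theorem m2_4700 : allRange 202100 43 (fun u => chkFix tab mwordsA u) = true := by decide +kernel

theorem m2_4701 : allRange 202143 43 (fun u => chkFix tab mwordsA u) = true := by decide +kernel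

theorem m2_4702 : allRange 202186 43 (fun u => chkFix tab mwordsA u) = true := by decide +kernel

theorem m2_4703 : allRange 202229 43 (fun u => chkFix tab mwordsA u) = true := by decide +kernel

theorem m2_4704 : allRange 202272 43 (fun u => chkFix tab mwordsA u) = true := by decide +kernel

theorem m2_4705 : allRange 202315 43 (fun u => chkFix tab mwordsA u) = true := by decide +kernel

theorem m2_4706 : allRange 202358 43 (fun u => chkFix tab mwordsA u) = true := by decide +kernel


end Cfsg.Agent.Helper9.TCData.X1690
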