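import Cfsg.Agent.Lib.Helper9.TCData.X1690.Main

set_option autoImplicit false
set_option maxRecDepth 1000000

namespace Cfsg.Agent.Helper9.TCData.X1690
open Cfsg.Agent.Helper9.TC2

theorem m2_4707 : allRange 202401 43 (fun u => chkFix tab mwordsA u) = true := by decide +kernel

theorem m2_4708 : allRange 202444 43 (fun u => chkFix tab mwordsA u) = true := by decide +kernel

theorem m2_4709 : allRange 202487 43 (fun u => chkFix tab mwordsA u) = true := by decide +kernel

theorem m2_4710 : allRange 202530 43 (fun u => chkFix tab mwordsA u) = true := by decide +kernel

theorem m2_4711 : allRange 202573 43 (fun u => chkFix tab mwordsA u) = true := by decide +kernel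

theorem m2_4712 : allRange 202616 43 (fun u => chkFix tab mwordsA u) = true := by decide +kernel

theorem m2_4713 : allRange 202659 43 (fun u => chkFix tab mwordsA u) = true := by decide +kernel

theorem m2_4714 : allRange 202702 43 (fun u => chkFix tab mwordsA u) = true := by decide +kernel

theorem m2_4715 : allRange 202745 43 (fun u => chkFix tab mwordsA u) = true := by decide +kernel

theorem m2_4716 : allRange 202788 43 (fun u => chkFix tab mwordsA u) = true := by decide +kernel


end Cfsg.Agent.Helper9.TCData.X1690
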