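import Cfsg.Agent.Lib.Helper9.TCData.X1690.Main

set_option autoImplicit false
set_option maxRecDepth 1000000

namespace Cfsg.Agent.Helper9.TCData.X1690
open Cfsg.Agent.Helper9.TC2

theorem e5_107 : allRange 280716 2232 (fun u => chkE tab 5 u) = true := by decide +kernel

theorem e5_108 : allRange 282948 3335 (fun u => chkE tab 5 u) = true := by decide +kernel

theorem e5_109 : allRange 286283 3274 (fun u => chkE tab 5 u) = true := by decide +kernel

theorem e5_110 : allRange 289557 2874 (fun u => chkE tab 5 u) = true := by decide +kernel

theorem e5_111 : allRange 292431 2771 (fun u => chkE tab 5 u) = true := by decide +kernel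

theorem e5_112 : allRange 295202 2706 (fun u => chkE tab 5 u) = true := by decide +kernel

theorem e5_113 : allRange 297908 2792 (fun u => chkE tab 5 u) = true := by decide +kernel

theorem e5_114 : allRange 300700 2522 (fun u => chkE tab 5 u) = true := by decide +kernel

theorem e5_115 : allRange 303222 2433 (fun u => chkE tab 5 u) = true := by decide +kernel

theorem e5_116 : allRange 305655 2291 (fun u => chkE tab 5 u) = true := by decide +kernel


end Cfsg.Agent.Helper9.TCData.X1690
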