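import Cfsg.Agent.Lib.Helper9.TCData.X1690.Main

set_option autoImplicit false
set_option maxRecDepth 1000000

namespace Cfsg.Agent.Helper9.TCData.X1690
open Cfsg.Agent.Helper9.TC2

theorem m2_4717 : allRange 202831 43 (fun u => chkFix tab mwordsA u) = true := by decide +kernel

theorem m2_4718 : allRange 202874 43 (fun u => chkFix tab mwordsA u) = true := by decide +kernel

theorem m2_4719 : allRange 202917 43 (fun u => chkFix tab mwordsA u) = true := by decide +kernel

theorem m2_4720 : allRange 202960 43 (fun u => chkFix tab mwordsA u) = true := by decide +kernel

theorem m2_4721 : allRange 203003 43 (fun u => chkFix tab mwordsA u) = true := by decide +kernel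

theorem m2_4722 : allRange 203046 43 (fun u => chkFix tab mwordsA u) = true := by decide +kernel

theorem m2_4723 : allRange 203089 43 (fun u => chkFix tab mwordsA u) = true := by decide +kernel

theorem m2_4724 : allRange 203132 43 (fun u => chkFix tab mwordsA u) = true := by decide +kernel

theorem m2_4725 : allRange 203175 43 (fun u => chkFix tab mwordsA u) = true := by decide +kernel

theorem m2_4726 : allRange 203218 43 (fun u => chkFix tab mwordsA u) = true := by decide +kernel


end Cfsg.Agent.Helper9.TCData.X1690
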