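import Cfsg.Agent.Lib.Helper9.TCData.X1690.Main

set_option autoImplicit false
set_option maxRecDepth 1000000

namespace Cfsg.Agent.Helper9.TCData.X1690
open Cfsg.Agent.Helper9.TC2

theorem m2_4727 : allRange 203261 43 (fun u => chkFix tab mwordsA u) = true := by decide +kernel

theorem m2_4728 : allRange 203304 43 (fun u => chkFix tab mwordsA u) = true := by decide +kernel

theorem m2_4729 : allRange 203347 43 (fun u => chkFix tab mwordsA u) = true := by decide +kernel

theorem m2_4730 : allRange 203390 43 (fun u => chkFix tab mwordsA u) = true := by decide +kernel

theorem m2_4731 : allRange 203433 43 (fun u => chkFix tab mwordsA u) = true := by decide +kernel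

theorem m2_4732 : allRange 203476 43 (fun u => chkFix tab mwordsA u) = true := by decide +kernel

theorem m2_4733 : allRange 203519 43 (fun u => chkFix tab mwordsA u) = true := by decide +kernel

theorem m2_4734 : allRange 203562 43 (fun u => chkFix tab mwordsA u) = true := by decide +kernel

theorem m2_4735 : allRange 203605 43 (fun u => chkFix tab mwordsA u) = true := by decide +kernel

theorem m2_4736 : allRange 203648 43 (fun u => chkFix tab mwordsA u) = true := by decide +kernel


end Cfsg.Agent.Helper9.TCData.X1690
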