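import Cfsg.Agent.Lib.Helper9.TCData.X1690.Main

set_option autoImplicit false
set_option maxRecDepth 1000000

namespace Cfsg.Agent.Helper9.TCData.X1690
open Cfsg.Agent.Helper9.TC2

theorem m2_4737 : allRange 203691 43 (fun u => chkFix tab mwordsA u) = true := by decide +kernel

theorem m2_4738 : allRange 203734 43 (fun u => chkFix tab mwordsA u) = true := by decide +kernel

theorem m2_4739 : allRange 203777 43 (fun u => chkFix tab mwordsA u) = true := by decide +kernel

theorem m2_4740 : allRange 203820 43 (fun u => chkFix tab mwordsA u) = true := by decide +kernel

theorem m2_4741 : allRange 203863 43 (fun u => chkFix tab mwordsA u) = true := by decide +kernel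

theorem m2_4742 : allRange 203906 43 (fun u => chkFix tab mwordsA u) = true := by decide +kernel

theorem m2_4743 : allRange 203949 43 (fun u => chkFix tab mwordsA u) = true := by decide +kernel

theorem m2_4744 : allRange 203992 43 (fun u => chkFix tab mwordsA u) = true := by decide +kernel

theorem m2_4745 : allRange 204035 43 (fun u => chkFix tab mwordsA u) = true := by decide +kernel

theorem m2_4746 : allRange 204078 43 (fun u => chkFix tab mwordsA u) = true := by decide +kernel


end Cfsg.Agent.Helper9.TCData.X1690
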