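import Cfsg.Agent.Lib.Helper9.TCData.X1690.Main

set_option autoImplicit false
set_option maxRecDepth 1000000

namespace Cfsg.Agent.Helper9.TCData.X1690
open Cfsg.Agent.Helper9.TC2

theorem m2_4747 : allRange 204121 43 (fun u => chkFix tab mwordsA u) = true := by decide +kernel

theorem m2_4748 : allRange 204164 43 (fun u => chkFix tab mwordsA u) = true := by decide +kernel

theorem m2_4749 : allRange 204207 43 (fun u => chkFix tab mwordsA u) = true := by decide +kernel

theorem m2_4750 : allRange 204250 43 (fun u => chkFix tab mwordsA u) = true := by decide +kernel

theorem m2_4751 : allRange 204293 43 (fun u => chkFix tab mwordsA u) = true := by decide +kernel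

theorem m2_4752 : allRange 204336 43 (fun u => chkFix tab mwordsA u) = true := by decide +kernel

theorem m2_4753 : allRange 204379 43 (fun u => chkFix tab mwordsA u) = true := by decide +kernel

theorem m2_4754 : allRange 204422 43 (fun u => chkFix tab mwordsA u) = true := by decide +kernel

theorem m2_4755 : allRange 204465 43 (fun u => chkFix tab mwordsA u) = true := by decide +kernel

theorem m2_4756 : allRange 204508 43 (fun u => chkFix tab mwordsA u) = true := by decide +kernel


end Cfsg.Agent.Helper9.TCData.X1690
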