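import Cfsg.Agent.Lib.Helper9.TCData.X1690.Main

set_option autoImplicit false
set_option maxRecDepth 1000000

namespace Cfsg.Agent.Helper9.TCData.X1690
open Cfsg.Agent.Helper9.TC2

theorem m2_4757 : allRange 204551 43 (fun u => chkFix tab mwordsA u) = true := by decide +kernel

theorem m2_4758 : allRange 204594 43 (fun u => chkFix tab mwordsA u) = true := by decide +kernel

theorem m2_4759 : allRange 204637 43 (fun u => chkFix tab mwordsA u) = true := by decide +kernel

theorem m2_4760 : allRange 204680 43 (fun u => chkFix tab mwordsA u) = true := by decide +kernel

theorem m2_4761 : allRange 204723 43 (fun u => chkFix tab mwordsA u) = true := by decide +kernel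

theorem m2_4762 : allRange 204766 43 (fun u => chkFix tab mwordsA u) = true := by decide +kernel

theorem m2_4763 : allRange 204809 43 (fun u => chkFix tab mwordsA u) = true := by decide +kernel

theorem m2_4764 : allRange 204852 43 (fun u => chkFix tab mwordsA u) = true := by decide +kernel

theorem m2_4765 : allRange 204895 43 (fun u => chkFix tab mwordsA u) = true := by decide +kernel

theorem m2_4766 : allRange 204938 43 (fun u => chkFix tab mwordsA u) = true := by decide +kernel


end Cfsg.Agent.Helper9.TCData.X1690
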