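import Cfsg.Agent.Lib.Helper9.TCData.X1690.Main

set_option autoImplicit false
set_option maxRecDepth 1000000

namespace Cfsg.Agent.Helper9.TCData.X1690
open Cfsg.Agent.Helper9.TC2

theorem m2_4767 : allRange 204981 43 (fun u => chkFix tab mwordsA u) = true := by decide +kernel

theorem m2_4768 : allRange 205024 43 (fun u => chkFix tab mwordsA u) = true := by decide +kernel

theorem m2_4769 : allRange 205067 43 (fun u => chkFix tab mwordsA u) = true := by decide +kernel

theorem m2_4770 : allRange 205110 43 (fun u => chkFix tab mwordsA u) = true := by decide +kernel

theorem m2_4771 : allRange 205153 43 (fun u => chkFix tab mwordsA u) = true := by decide +kernel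

theorem m2_4772 : allRange 205196 43 (fun u => chkFix tab mwordsA u) = true := by decide +kernel

theorem m2_4773 : allRange 205239 43 (fun u => chkFix tab mwordsA u) = true := by decide +kernel

theorem m2_4774 : allRange 205282 43 (fun u => chkFix tab mwordsA u) = true := by decide +kernel

theorem m2_4775 : allRange 205325 43 (fun u => chkFix tab mwordsA u) = true := by decide +kernel

theorem m2_4776 : allRange 205368 43 (fun u => chkFix tab mwordsA u) = true := by decide +kernel


end Cfsg.Agent.Helper9.TCData.X1690
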