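import Cfsg.Agent.Lib.Helper9.TCData.X1690.Main

set_option autoImplicit false
set_option maxRecDepth 1000000

namespace Cfsg.Agent.Helper9.TCData.X1690
open Cfsg.Agent.Helper9.TC2

theorem m2_4777 : allRange 205411 43 (fun u => chkFix tab mwordsA u) = true := by decide +kernel

theorem m2_4778 : allRange 205454 43 (fun u => chkFix tab mwordsA u) = true := by decide +kernel

theorem m2_4779 : allRange 205497 43 (fun u => chkFix tab mwordsA u) = true := by decide +kernel

theorem m2_4780 : allRange 205540 43 (fun u => chkFix tab mwordsA u) = true := by decide +kernel

theorem m2_4781 : allRange 205583 43 (fun u => chkFix tab mwordsA u) = true := by decide +kernel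

theorem m2_4782 : allRange 205626 43 (fun u => chkFix tab mwordsA u) = true := by decide +kernel

theorem m2_4783 : allRange 205669 43 (fun u => chkFix tab mwordsA u) = true := by decide +kernel

theorem m2_4784 : allRange 205712 43 (fun u => chkFix tab mwordsA u) = true := by decide +kernel

theorem m2_4785 : allRange 205755 43 (fun u => chkFix tab mwordsA u) = true := by decide +kernel

theorem m2_4786 : allRange 205798 43 (fun u => chkFix tab mwordsA u) = true := by decide +kernel


end Cfsg.Agent.Helper9.TCData.X1690
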