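import Cfsg.Agent.Lib.Helper9.TCData.X1690.Main

set_option autoImplicit false
set_option maxRecDepth 1000000

namespace Cfsg.Agent.Helper9.TCData.X1690
open Cfsg.Agent.Helper9.TC2

theorem m2_4787 : allRange 205841 43 (fun u => chkFix tab mwordsA u) = true := by decide +kernel

theorem m2_4788 : allRange 205884 43 (fun u => chkFix tab mwordsA u) = true := by decide +kernel

theorem m2_4789 : allRange 205927 43 (fun u => chkFix tab mwordsA u) = true := by decide +kernel

theorem m2_4790 : allRange 205970 43 (fun u => chkFix tab mwordsA u) = true := by decide +kernel

theorem m2_4791 : allRange 206013 43 (fun u => chkFix tab mwordsA u) = true := by decide +kernel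

theorem m2_4792 : allRange 206056 43 (fun u => chkFix tab mwordsA u) = true := by decide +kernel

theorem m2_4793 : allRange 206099 43 (fun u => chkFix tab mwordsA u) = true := by decide +kernel

theorem m2_4794 : allRange 206142 43 (fun u => chkFix tab mwordsA u) = true := by decide +kernel

theorem m2_4795 : allRange 206185 43 (fun u => chkFix tab mwordsA u) = true := by decide +kernel

theorem m2_4796 : allRange 206228 43 (fun u => chkFix tab mwordsA u) = true := by decide +kernel


end Cfsg.Agent.Helper9.TCData.X1690
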