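import Cfsg.Agent.Lib.Helper9.TCData.X1690.Main

set_option autoImplicit false
set_option maxRecDepth 1000000

namespace Cfsg.Agent.Helper9.TCData.X1690
open Cfsg.Agent.Helper9.TC2

theorem m2_4807 : allRange 206701 43 (fun u => chkFix tab mwordsA u) = true := by decide +kernel

theorem m2_4808 : allRange 206744 43 (fun u => chkFix tab mwordsA u) = true := by decide +kernel

theorem m2_4809 : allRange 206787 43 (fun u => chkFix tab mwordsA u) = true := by decide +kernel

theorem m2_4810 : allRange 206830 43 (fun u => chkFix tab mwordsA u) = true := by decide +kernel

theorem m2_4811 : allRange 206873 43 (fun u => chkFix tab mwordsA u) = true := by decide +kernel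

theorem m2_4812 : allRange 206916 43 (fun u => chkFix tab mwordsA u) = true := by decide +kernel

theorem m2_4813 : allRange 206959 43 (fun u => chkFix tab mwordsA u) = true := by decide +kernel

theorem m2_4814 : allRange 207002 43 (fun u => chkFix tab mwordsA u) = true := by decide +kernel

theorem m2_4815 : allRange 207045 43 (fun u => chkFix tab mwordsA u) = true := by decide +kernel

theorem m2_4816 : allRange 207088 43 (fun u => chkFix tab mwordsA u) = true := by decide +kernel


end Cfsg.Agent.Helper9.TCData.X1690
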