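import Cfsg.Agent.Lib.Helper9.TCData.X1690.Main

set_option autoImplicit false
set_option maxRecDepth 1000000

namespace Cfsg.Agent.Helper9.TCData.X1690
open Cfsg.Agent.Helper9.TC2

theorem e5_117 : allRange 307946 3065 (fun u => chkE tab 5 u) = true := by decide +kernel

theorem e5_118 : allRange 311011 3203 (fun u => chkE tab 5 u) = true := by decide +kernel

theorem e5_119 : allRange 314214 2800 (fun u => chkE tab 5 u) = true := by decide +kernel

theorem e5_120 : allRange 317014 2773 (fun u => chkE tab 5 u) = true := by decide +kernel

theorem e5_121 : allRange 319787 2559 (fun u => chkE tab 5 u) = true := by decide +kernel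

theorem e5_122 : allRange 322346 2636 (fun u => chkE tab 5 u) = true := by decide +kernel

theorem e5_123 : allRange 324982 2581 (fun u => chkE tab 5 u) = true := by decide +kernel

theorem e5_124 : allRange 327563 2424 (fun u => chkE tab 5 u) = true := by decide +kernel

theorem e5_125 : allRange 329987 2312 (fun u => chkE tab 5 u) = true := by decide +kernel

theorem e5_126 : allRange 332299 2654 (fun u => chkE tab 5 u) = true := by decide +kernel


end Cfsg.Agent.Helper9.TCData.X1690
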