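import Cfsg.Agent.Lib.Helper9.TCData.X1690.Main

set_option autoImplicit false
set_option maxRecDepth 1000000

namespace Cfsg.Agent.Helper9.TCData.X1690
open Cfsg.Agent.Helper9.TC2

theorem m2_4827 : allRange 207561 43 (fun u => chkFix tab mwordsA u) = true := by decide +kernel

theorem m2_4828 : allRange 207604 43 (fun u => chkFix tab mwordsA u) = true := by decide +kernel

theorem m2_4829 : allRange 207647 43 (fun u => chkFix tab mwordsA u) = true := by decide +kernel

theorem m2_4830 : allRange 207690 43 (fun u => chkFix tab mwordsA u) = true := by decide +kernel

theorem m2_4831 : allRange 207733 43 (fun u => chkFix tab mwordsA u) = true := by decide +kernel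

theorem m2_4832 : allRange 207776 43 (fun u => chkFix tab mwordsA u) = true := by decide +kernel

theorem m2_4833 : allRange 207819 43 (fun u => chkFix tab mwordsA u) = true := by decide +kernel

theorem m2_4834 : allRange 207862 43 (fun u => chkFix tab mwordsA u) = true := by decide +kernel

theorem m2_4835 : allRange 207905 43 (fun u => chkFix tab mwordsA u) = true := by decide +kernel

theorem m2_4836 : allRange 207948 43 (fun u => chkFix tab mwordsA u) = true := by decide +kernel


end Cfsg.Agent.Helper9.TCData.X1690
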