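import Cfsg.Agent.Lib.Helper9.TCData.X1690.Main

set_option autoImplicit false
set_option maxRecDepth 1000000

namespace Cfsg.Agent.Helper9.TCData.X1690
open Cfsg.Agent.Helper9.TC2

theorem m2_4837 : allRange 207991 43 (fun u => chkFix tab mwordsA u) = true := by decide +kernel

theorem m2_4838 : allRange 208034 43 (fun u => chkFix tab mwordsA u) = true := by decide +kernel

theorem m2_4839 : allRange 208077 43 (fun u => chkFix tab mwordsA u) = true := by decide +kernel

theorem m2_4840 : allRange 208120 43 (fun u => chkFix tab mwordsA u) = true := by decide +kernel

theorem m2_4841 : allRange 208163 43 (fun u => chkFix tab mwordsA u) = true := by decide +kernel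

theorem m2_4842 : allRange 208206 43 (fun u => chkFix tab mwordsA u) = true := by decide +kernel

theorem m2_4843 : allRange 208249 43 (fun u => chkFix tab mwordsA u) = true := by decide +kernel

theorem m2_4844 : allRange 208292 43 (fun u => chkFix tab mwordsA u) = true := by decide +kernel

theorem m2_4845 : allRange 208335 43 (fun u => chkFix tab mwordsA u) = true := by decide +kernel

theorem m2_4846 : allRange 208378 43 (fun u => chkFix tab mwordsA u) = true := by decide +kernel


end Cfsg.Agent.Helper9.TCData.X1690
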