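import Cfsg.Agent.Lib.Helper9.TCData.X1690.Main

set_option autoImplicit false
set_option maxRecDepth 1000000

namespace Cfsg.Agent.Helper9.TCData.X1690
open Cfsg.Agent.Helper9.TC2

theorem m2_4847 : allRange 208421 43 (fun u => chkFix tab mwordsA u) = true := by decide +kernel

theorem m2_4848 : allRange 208464 43 (fun u => chkFix tab mwordsA u) = true := by decide +kernel

theorem m2_4849 : allRange 208507 43 (fun u => chkFix tab mwordsA u) = true := by decide +kernel

theorem m2_4850 : allRange 208550 43 (fun u => chkFix tab mwordsA u) = true := by decide +kernel

theorem m2_4851 : allRange 208593 43 (fun u => chkFix tab mwordsA u) = true := by decide +kernel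

theorem m2_4852 : allRange 208636 43 (fun u => chkFix tab mwordsA u) = true := by decide +kernel

theorem m2_4853 : allRange 208679 43 (fun u => chkFix tab mwordsA u) = true := by decide +kernel

theorem m2_4854 : allRange 208722 43 (fun u => chkFix tab mwordsA u) = true := by decide +kernel

theorem m2_4855 : allRange 208765 43 (fun u => chkFix tab mwordsA u) = true := by decide +kernel

theorem m2_4856 : allRange 208808 43 (fun u => chkFix tab mwordsA u) = true := by decide +kernel


end Cfsg.Agent.Helper9.TCData.X1690
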