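import Cfsg.Agent.Lib.Helper9.TCData.X1690.Main

set_option autoImplicit false
set_option maxRecDepth 1000000

namespace Cfsg.Agent.Helper9.TCData.X1690
open Cfsg.Agent.Helper9.TC2

theorem m2_4857 : allRange 208851 43 (fun u => chkFix tab mwordsA u) = true := by decide +kernel

theorem m2_4858 : allRange 208894 43 (fun u => chkFix tab mwordsA u) = true := by decide +kernel

theorem m2_4859 : allRange 208937 43 (fun u => chkFix tab mwordsA u) = true := by decide +kernel

theorem m2_4860 : allRange 208980 43 (fun u => chkFix tab mwordsA u) = true := by decide +kernel

theorem m2_4861 : allRange 209023 43 (fun u => chkFix tab mwordsA u) = true := by decide +kernel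

theorem m2_4862 : allRange 209066 43 (fun u => chkFix tab mwordsA u) = true := by decide +kernel

theorem m2_4863 : allRange 209109 43 (fun u => chkFix tab mwordsA u) = true := by decide +kernel

theorem m2_4864 : allRange 209152 43 (fun u => chkFix tab mwordsA u) = true := by decide +kernel

theorem m2_4865 : allRange 209195 43 (fun u => chkFix tab mwordsA u) = true := by decide +kernel

theorem m2_4866 : allRange 209238 43 (fun u => chkFix tab mwordsA u) = true := by decide +kernel


end Cfsg.Agent.Helper9.TCData.X1690
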