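import Cfsg.Agent.Lib.Helper9.TCData.X1690.Main

set_option autoImplicit false
set_option maxRecDepth 1000000

namespace Cfsg.Agent.Helper9.TCData.X1690
open Cfsg.Agent.Helper9.TC2

theorem m2_4867 : allRange 209281 43 (fun u => chkFix tab mwordsA u) = true := by decide +kernel

theorem m2_4868 : allRange 209324 43 (fun u => chkFix tab mwordsA u) = true := by decide +kernel

theorem m2_4869 : allRange 209367 43 (fun u => chkFix tab mwordsA u) = true := by decide +kernel

theorem m2_4870 : allRange 209410 43 (fun u => chkFix tab mwordsA u) = true := by decide +kernel

theorem m2_4871 : allRange 209453 43 (fun u => chkFix tab mwordsA u) = true := by decide +kernel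

theorem m2_4872 : allRange 209496 43 (fun u => chkFix tab mwordsA u) = true := by decide +kernel

theorem m2_4873 : allRange 209539 43 (fun u => chkFix tab mwordsA u) = true := by decide +kernel

theorem m2_4874 : allRange 209582 43 (fun u => chkFix tab mwordsA u) = true := by decide +kernel

theorem m2_4875 : allRange 209625 43 (fun u => chkFix tab mwordsA u) = true := by decide +kernel

theorem m2_4876 : allRange 209668 43 (fun u => chkFix tab mwordsA u) = true := by decide +kernel


end Cfsg.Agent.Helper9.TCData.X1690
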