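import Cfsg.Agent.Lib.Helper9.TCData.X1690.Main

set_option autoImplicit false
set_option maxRecDepth 1000000

namespace Cfsg.Agent.Helper9.TCData.X1690
open Cfsg.Agent.Helper9.TC2

theorem m2_4877 : allRange 209711 43 (fun u => chkFix tab mwordsA u) = true := by decide +kernel

theorem m2_4878 : allRange 209754 43 (fun u => chkFix tab mwordsA u) = true := by decide +kernel

theorem m2_4879 : allRange 209797 43 (fun u => chkFix tab mwordsA u) = true := by decide +kernel

theorem m2_4880 : allRange 209840 43 (fun u => chkFix tab mwordsA u) = true := by decide +kernel

theorem m2_4881 : allRange 209883 43 (fun u => chkFix tab mwordsA u) = true := by decide +kernel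

theorem m2_4882 : allRange 209926 43 (fun u => chkFix tab mwordsA u) = true := by decide +kernel

theorem m2_4883 : allRange 209969 43 (fun u => chkFix tab mwordsA u) = true := by decide +kernel

theorem m2_4884 : allRange 210012 43 (fun u => chkFix tab mwordsA u) = true := by decide +kernel

theorem m2_4885 : allRange 210055 43 (fun u => chkFix tab mwordsA u) = true := by decide +kernel

theorem m2_4886 : allRange 210098 43 (fun u => chkFix tab mwordsA u) = true := by decide +kernel


end Cfsg.Agent.Helper9.TCData.X1690
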