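import Cfsg.Agent.Lib.Helper9.TCData.X1690.Main

set_option autoImplicit false
set_option maxRecDepth 1000000

namespace Cfsg.Agent.Helper9.TCData.X1690
open Cfsg.Agent.Helper9.TC2

theorem m2_4887 : allRange 210141 43 (fun u => chkFix tab mwordsA u) = true := by decide +kernel

theorem m2_4888 : allRange 210184 43 (fun u => chkFix tab mwordsA u) = true := by decide +kernel

theorem m2_4889 : allRange 210227 43 (fun u => chkFix tab mwordsA u) = true := by decide +kernel

theorem m2_4890 : allRange 210270 43 (fun u => chkFix tab mwordsA u) = true := by decide +kernel

theorem m2_4891 : allRange 210313 43 (fun u => chkFix tab mwordsA u) = true := by decide +kernel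

theorem m2_4892 : allRange 210356 43 (fun u => chkFix tab mwordsA u) = true := by decide +kernel

theorem m2_4893 : allRange 210399 43 (fun u => chkFix tab mwordsA u) = true := by decide +kernel

theorem m2_4894 : allRange 210442 43 (fun u => chkFix tab mwordsA u) = true := by decide +kernel

theorem m2_4895 : allRange 210485 43 (fun u => chkFix tab mwordsA u) = true := by decide +kernel

theorem m2_4896 : allRange 210528 43 (fun u => chkFix tab mwordsA u) = true := by decide +kernel


end Cfsg.Agent.Helper9.TCData.X1690
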