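import Cfsg.Agent.Lib.Helper9.TCData.X1690.Main

set_option autoImplicit false
set_option maxRecDepth 1000000

namespace Cfsg.Agent.Helper9.TCData.X1690
open Cfsg.Agent.Helper9.TC2

theorem m2_4897 : allRange 210571 43 (fun u => chkFix tab mwordsA u) = true := by decide +kernel

theorem m2_4898 : allRange 210614 43 (fun u => chkFix tab mwordsA u) = true := by decide +kernel

theorem m2_4899 : allRange 210657 43 (fun u => chkFix tab mwordsA u) = true := by decide +kernel

theorem m2_4900 : allRange 210700 43 (fun u => chkFix tab mwordsA u) = true := by decide +kernel

theorem m2_4901 : allRange 210743 43 (fun u => chkFix tab mwordsA u) = true := by decide +kernel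

theorem m2_4902 : allRange 210786 43 (fun u => chkFix tab mwordsA u) = true := by decide +kernel

theorem m2_4903 : allRange 210829 43 (fun u => chkFix tab mwordsA u) = true := by decide +kernel

theorem m2_4904 : allRange 210872 43 (fun u => chkFix tab mwordsA u) = true := by decide +kernel

theorem m2_4905 : allRange 210915 43 (fun u => chkFix tab mwordsA u) = true := by decide +kernel

theorem m2_4906 : allRange 210958 43 (fun u => chkFix tab mwordsA u) = true := by decide +kernel


end Cfsg.Agent.Helper9.TCData.X1690
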