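import Cfsg.Agent.Lib.Helper9.TCData.X1690.Main

set_option autoImplicit false
set_option maxRecDepth 1000000

namespace Cfsg.Agent.Helper9.TCData.X1690
open Cfsg.Agent.Helper9.TC2

theorem m2_4907 : allRange 211001 43 (fun u => chkFix tab mwordsA u) = true := by decide +kernel

theorem m2_4908 : allRange 211044 43 (fun u => chkFix tab mwordsA u) = true := by decide +kernel

theorem m2_4909 : allRange 211087 43 (fun u => chkFix tab mwordsA u) = true := by decide +kernel

theorem m2_4910 : allRange 211130 43 (fun u => chkFix tab mwordsA u) = true := by decide +kernel

theorem m2_4911 : allRange 211173 43 (fun u => chkFix tab mwordsA u) = true := by decide +kernel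

theorem m2_4912 : allRange 211216 43 (fun u => chkFix tab mwordsA u) = true := by decide +kernel

theorem m2_4913 : allRange 211259 43 (fun u => chkFix tab mwordsA u) = true := by decide +kernel

theorem m2_4914 : allRange 211302 43 (fun u => chkFix tab mwordsA u) = true := by decide +kernel

theorem m2_4915 : allRange 211345 43 (fun u => chkFix tab mwordsA u) = true := by decide +kernel

theorem m2_4916 : allRange 211388 43 (fun u => chkFix tab mwordsA u) = true := by decide +kernel


end Cfsg.Agent.Helper9.TCData.X1690
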