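import Cfsg.Agent.Lib.Helper9.TCData.X1690.Main

set_option autoImplicit false
set_option maxRecDepth 1000000

namespace Cfsg.Agent.Helper9.TCData.X1690
open Cfsg.Agent.Helper9.TC2

theorem m2_4927 : allRange 211861 43 (fun u => chkFix tab mwordsA u) = true := by decide +kernel

theorem m2_4928 : allRange 211904 43 (fun u => chkFix tab mwordsA u) = true := by decide +kernel

theorem m2_4929 : allRange 211947 43 (fun u => chkFix tab mwordsA u) = true := by decide +kernel

theorem m2_4930 : allRange 211990 43 (fun u => chkFix tab mwordsA u) = true := by decide +kernel

theorem m2_4931 : allRange 212033 43 (fun u => chkFix tab mwordsA u) = true := by decide +kernel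

theorem m2_4932 : allRange 212076 43 (fun u => chkFix tab mwordsA u) = true := by decide +kernel

theorem m2_4933 : allRange 212119 43 (fun u => chkFix tab mwordsA u) = true := by decide +kernel

theorem m2_4934 : allRange 212162 43 (fun u => chkFix tab mwordsA u) = true := by decide +kernel

theorem m2_4935 : allRange 212205 43 (fun u => chkFix tab mwordsA u) = true := by decide +kernel

theorem m2_4936 : allRange 212248 43 (fun u => chkFix tab mwordsA u) = true := by decide +kernel


end Cfsg.Agent.Helper9.TCData.X1690
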