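import Cfsg.Agent.Lib.Helper9.TCData.X1690.Main

set_option autoImplicit false
set_option maxRecDepth 1000000

namespace Cfsg.Agent.Helper9.TCData.X1690
open Cfsg.Agent.Helper9.TC2

theorem m2_4937 : allRange 212291 43 (fun u => chkFix tab mwordsA u) = true := by decide +kernel

theorem m2_4938 : allRange 212334 43 (fun u => chkFix tab mwordsA u) = true := by decide +kernel

theorem m2_4939 : allRange 212377 43 (fun u => chkFix tab mwordsA u) = true := by decide +kernel

theorem m2_4940 : allRange 212420 43 (fun u => chkFix tab mwordsA u) = true := by decide +kernel

theorem m2_4941 : allRange 212463 43 (fun u => chkFix tab mwordsA u) = true := by decide +kernel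

theorem m2_4942 : allRange 212506 43 (fun u => chkFix tab mwordsA u) = true := by decide +kernel

theorem m2_4943 : allRange 212549 43 (fun u => chkFix tab mwordsA u) = true := by decide +kernel

theorem m2_4944 : allRange 212592 43 (fun u => chkFix tab mwordsA u) = true := by decide +kernel

theorem m2_4945 : allRange 212635 43 (fun u => chkFix tab mwordsA u) = true := by decide +kernel

theorem m2_4946 : allRange 212678 43 (fun u => chkFix tab mwordsA u) = true := by decide +kernel


end Cfsg.Agent.Helper9.TCData.X1690
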