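import Cfsg.Agent.Lib.Helper9.TCData.X1690.Main

set_option autoImplicit false
set_option maxRecDepth 1000000

namespace Cfsg.Agent.Helper9.TCData.X1690
open Cfsg.Agent.Helper9.TC2

theorem m2_4947 : allRange 212721 43 (fun u => chkFix tab mwordsA u) = true := by decide +kernel

theorem m2_4948 : allRange 212764 43 (fun u => chkFix tab mwordsA u) = true := by decide +kernel

theorem m2_4949 : allRange 212807 43 (fun u => chkFix tab mwordsA u) = true := by decide +kernel

theorem m2_4950 : allRange 212850 43 (fun u => chkFix tab mwordsA u) = true := by decide +kernel

theorem m2_4951 : allRange 212893 43 (fun u => chkFix tab mwordsA u) = true := by decide +kernel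

theorem m2_4952 : allRange 212936 43 (fun u => chkFix tab mwordsA u) = true := by decide +kernel

theorem m2_4953 : allRange 212979 43 (fun u => chkFix tab mwordsA u) = true := by decide +kernel

theorem m2_4954 : allRange 213022 43 (fun u => chkFix tab mwordsA u) = true := by decide +kernel

theorem m2_4955 : allRange 213065 43 (fun u => chkFix tab mwordsA u) = true := by decide +kernel

theorem m2_4956 : allRange 213108 43 (fun u => chkFix tab mwordsA u) = true := by decide +kernel


end Cfsg.Agent.Helper9.TCData.X1690
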