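import Cfsg.Agent.Lib.Helper9.TCData.X1690.Main

set_option autoImplicit false
set_option maxRecDepth 1000000

namespace Cfsg.Agent.Helper9.TCData.X1690
open Cfsg.Agent.Helper9.TC2

theorem m2_4957 : allRange 213151 43 (fun u => chkFix tab mwordsA u) = true := by decide +kernel

theorem m2_4958 : allRange 213194 43 (fun u => chkFix tab mwordsA u) = true := by decide +kernel

theorem m2_4959 : allRange 213237 43 (fun u => chkFix tab mwordsA u) = true := by decide +kernel

theorem m2_4960 : allRange 213280 43 (fun u => chkFix tab mwordsA u) = true := by decide +kernel

theorem m2_4961 : allRange 213323 43 (fun u => chkFix tab mwordsA u) = true := by decide +kernel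

theorem m2_4962 : allRange 213366 43 (fun u => chkFix tab mwordsA u) = true := by decide +kernel

theorem m2_4963 : allRange 213409 43 (fun u => chkFix tab mwordsA u) = true := by decide +kernel

theorem m2_4964 : allRange 213452 43 (fun u => chkFix tab mwordsA u) = true := by decide +kernel

theorem m2_4965 : allRange 213495 43 (fun u => chkFix tab mwordsA u) = true := by decide +kernel

theorem m2_4966 : allRange 213538 43 (fun u => chkFix tab mwordsA u) = true := by decide +kernel


end Cfsg.Agent.Helper9.TCData.X1690
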