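import Cfsg.Agent.Lib.Helper9.TCData.X1690.Main

set_option autoImplicit false
set_option maxRecDepth 1000000

namespace Cfsg.Agent.Helper9.TCData.X1690
open Cfsg.Agent.Helper9.TC2

theorem m2_4967 : allRange 213581 43 (fun u => chkFix tab mwordsA u) = true := by decide +kernel

theorem m2_4968 : allRange 213624 43 (fun u => chkFix tab mwordsA u) = true := by decide +kernel

theorem m2_4969 : allRange 213667 43 (fun u => chkFix tab mwordsA u) = true := by decide +kernel

theorem m2_4970 : allRange 213710 43 (fun u => chkFix tab mwordsA u) = true := by decide +kernel

theorem m2_4971 : allRange 213753 43 (fun u => chkFix tab mwordsA u) = true := by decide +kernel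

theorem m2_4972 : allRange 213796 43 (fun u => chkFix tab mwordsA u) = true := by decide +kernel

theorem m2_4973 : allRange 213839 43 (fun u => chkFix tab mwordsA u) = true := by decide +kernel

theorem m2_4974 : allRange 213882 43 (fun u => chkFix tab mwordsA u) = true := by decide +kernel

theorem m2_4975 : allRange 213925 43 (fun u => chkFix tab mwordsA u) = true := by decide +kernel

theorem m2_4976 : allRange 213968 43 (fun u => chkFix tab mwordsA u) = true := by decide +kernel


end Cfsg.Agent.Helper9.TCData.X1690
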