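import Cfsg.Agent.Lib.Helper9.TCData.X1690.Main

set_option autoImplicit false
set_option maxRecDepth 1000000

namespace Cfsg.Agent.Helper9.TCData.X1690
open Cfsg.Agent.Helper9.TC2

theorem m2_4977 : allRange 214011 43 (fun u => chkFix tab mwordsA u) = true := by decide +kernel

theorem m2_4978 : allRange 214054 43 (fun u => chkFix tab mwordsA u) = true := by decide +kernel

theorem m2_4979 : allRange 214097 43 (fun u => chkFix tab mwordsA u) = true := by decide +kernel

theorem m2_4980 : allRange 214140 43 (fun u => chkFix tab mwordsA u) = true := by decide +kernel

theorem m2_4981 : allRange 214183 43 (fun u => chkFix tab mwordsA u) = true := by decide +kernel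

theorem m2_4982 : allRange 214226 43 (fun u => chkFix tab mwordsA u) = true := by decide +kernel

theorem m2_4983 : allRange 214269 43 (fun u => chkFix tab mwordsA u) = true := by decide +kernel

theorem m2_4984 : allRange 214312 43 (fun u => chkFix tab mwordsA u) = true := by decide +kernel

theorem m2_4985 : allRange 214355 43 (fun u => chkFix tab mwordsA u) = true := by decide +kernel

theorem m2_4986 : allRange 214398 43 (fun u => chkFix tab mwordsA u) = true := by decide +kernel


end Cfsg.Agent.Helper9.TCData.X1690
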