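import Cfsg.Agent.Lib.Helper9.TCData.X1690.Main

set_option autoImplicit false
set_option maxRecDepth 1000000

namespace Cfsg.Agent.Helper9.TCData.X1690
open Cfsg.Agent.Helper9.TC2

theorem m2_4987 : allRange 214441 43 (fun u => chkFix tab mwordsA u) = true := by decide +kernel

theorem m2_4988 : allRange 214484 43 (fun u => chkFix tab mwordsA u) = true := by decide +kernel

theorem m2_4989 : allRange 214527 43 (fun u => chkFix tab mwordsA u) = true := by decide +kernel

theorem m2_4990 : allRange 214570 43 (fun u => chkFix tab mwordsA u) = true := by decide +kernel

theorem m2_4991 : allRange 214613 43 (fun u => chkFix tab mwordsA u) = true := by decide +kernel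

theorem m2_4992 : allRange 214656 43 (fun u => chkFix tab mwordsA u) = true := by decide +kernel

theorem m2_4993 : allRange 214699 43 (fun u => chkFix tab mwordsA u) = true := by decide +kernel

theorem m2_4994 : allRange 214742 43 (fun u => chkFix tab mwordsA u) = true := by decide +kernel

theorem m2_4995 : allRange 214785 43 (fun u => chkFix tab mwordsA u) = true := by decide +kernel

theorem m2_4996 : allRange 214828 43 (fun u => chkFix tab mwordsA u) = true := by decide +kernel


end Cfsg.Agent.Helper9.TCData.X1690
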