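import Cfsg.Agent.Lib.Helper9.TCData.X1690.Main

set_option autoImplicit false
set_option maxRecDepth 1000000

namespace Cfsg.Agent.Helper9.TCData.X1690
open Cfsg.Agent.Helper9.TC2

theorem m2_4997 : allRange 214871 43 (fun u => chkFix tab mwordsA u) = true := by decide +kernel

theorem m2_4998 : allRange 214914 43 (fun u => chkFix tab mwordsA u) = true := by decide +kernel

theorem m2_4999 : allRange 214957 43 (fun u => chkFix tab mwordsA u) = true := by decide +kernel

theorem m2_5000 : allRange 215000 43 (fun u => chkFix tab mwordsA u) = true := by decide +kernel

theorem m2_5001 : allRange 215043 43 (fun u => chkFix tab mwordsA u) = true := by decide +kernel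

theorem m2_5002 : allRange 215086 43 (fun u => chkFix tab mwordsA u) = true := by decide +kernel

theorem m2_5003 : allRange 215129 43 (fun u => chkFix tab mwordsA u) = true := by decide +kernel

theorem m2_5004 : allRange 215172 43 (fun u => chkFix tab mwordsA u) = true := by decide +kernel

theorem m2_5005 : allRange 215215 43 (fun u => chkFix tab mwordsA u) = true := by decide +kernel

theorem m2_5006 : allRange 215258 43 (fun u => chkFix tab mwordsA u) = true := by decide +kernel


end Cfsg.Agent.Helper9.TCData.X1690
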