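import Cfsg.Agent.Lib.Helper9.TCData.X1690.Main

set_option autoImplicit false
set_option maxRecDepth 1000000

namespace Cfsg.Agent.Helper9.TCData.X1690
open Cfsg.Agent.Helper9.TC2

theorem m2_5007 : allRange 215301 43 (fun u => chkFix tab mwordsA u) = true := by decide +kernel

theorem m2_5008 : allRange 215344 43 (fun u => chkFix tab mwordsA u) = true := by decide +kernel

theorem m2_5009 : allRange 215387 43 (fun u => chkFix tab mwordsA u) = true := by decide +kernel

theorem m2_5010 : allRange 215430 43 (fun u => chkFix tab mwordsA u) = true := by decide +kernel

theorem m2_5011 : allRange 215473 43 (fun u => chkFix tab mwordsA u) = true := by decide +kernel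

theorem m2_5012 : allRange 215516 43 (fun u => chkFix tab mwordsA u) = true := by decide +kernel

theorem m2_5013 : allRange 215559 43 (fun u => chkFix tab mwordsA u) = true := by decide +kernel

theorem m2_5014 : allRange 215602 43 (fun u => chkFix tab mwordsA u) = true := by decide +kernel

theorem m2_5015 : allRange 215645 43 (fun u => chkFix tab mwordsA u) = true := by decide +kernel

theorem m2_5016 : allRange 215688 43 (fun u => chkFix tab mwordsA u) = true := by decide +kernel


end Cfsg.Agent.Helper9.TCData.X1690
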