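import Cfsg.Agent.Lib.Helper9.TCData.X1690.Main

set_option autoImplicit false
set_option maxRecDepth 1000000

namespace Cfsg.Agent.Helper9.TCData.X1690
open Cfsg.Agent.Helper9.TC2

theorem e5_137 : allRange 361015 2602 (fun u => chkE tab 5 u) = true := by decide +kernel

theorem e5_138 : allRange 363617 2470 (fun u => chkE tab 5 u) = true := by decide +kernel

theorem e5_139 : allRange 366087 2344 (fun u => chkE tab 5 u) = true := by decide +kernel

theorem e5_140 : allRange 368431 2317 (fun u => chkE tab 5 u) = true := by decide +kernel

theorem e5_141 : allRange 370748 2451 (fun u => chkE tab 5 u) = true := by decide +kernel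

theorem e5_142 : allRange 373199 2625 (fun u => chkE tab 5 u) = true := by decide +kernel

theorem e5_143 : allRange 375824 2460 (fun u => chkE tab 5 u) = true := by decide +kernel

theorem e5_144 : allRange 378284 2363 (fun u => chkE tab 5 u) = true := by decide +kernel

theorem e5_145 : allRange 380647 2117 (fun u => chkE tab 5 u) = true := by decide +kernel

theorem e5_146 : allRange 382764 2610 (fun u => chkE tab 5 u) = true := by decide +kernel


end Cfsg.Agent.Helper9.TCData.X1690
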