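import Cfsg.Agent.Lib.Helper9.TCData.X1690.Main

set_option autoImplicit false
set_option maxRecDepth 1000000

namespace Cfsg.Agent.Helper9.TCData.X1690
open Cfsg.Agent.Helper9.TC2

theorem m2_5017 : allRange 215731 43 (fun u => chkFix tab mwordsA u) = true := by decide +kernel

theorem m2_5018 : allRange 215774 43 (fun u => chkFix tab mwordsA u) = true := by decide +kernel

theorem m2_5019 : allRange 215817 43 (fun u => chkFix tab mwordsA u) = true := by decide +kernel

theorem m2_5020 : allRange 215860 43 (fun u => chkFix tab mwordsA u) = true := by decide +kernel

theorem m2_5021 : allRange 215903 43 (fun u => chkFix tab mwordsA u) = true := by decide +kernel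

theorem m2_5022 : allRange 215946 43 (fun u => chkFix tab mwordsA u) = true := by decide +kernel

theorem m2_5023 : allRange 215989 43 (fun u => chkFix tab mwordsA u) = true := by decide +kernel

theorem m2_5024 : allRange 216032 43 (fun u => chkFix tab mwordsA u) = true := by decide +kernel

theorem m2_5025 : allRange 216075 43 (fun u => chkFix tab mwordsA u) = true := by decide +kernel

theorem m2_5026 : allRange 216118 43 (fun u => chkFix tab mwordsA u) = true := by decide +kernel


end Cfsg.Agent.Helper9.TCData.X1690
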