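import Cfsg.Agent.Lib.Helper9.TCData.X1690.Main

set_option autoImplicit false
set_option maxRecDepth 1000000

namespace Cfsg.Agent.Helper9.TCData.X1690
open Cfsg.Agent.Helper9.TC2

theorem m2_5027 : allRange 216161 43 (fun u => chkFix tab mwordsA u) = true := by decide +kernel

theorem m2_5028 : allRange 216204 43 (fun u => chkFix tab mwordsA u) = true := by decide +kernel

theorem m2_5029 : allRange 216247 43 (fun u => chkFix tab mwordsA u) = true := by decide +kernel

theorem m2_5030 : allRange 216290 43 (fun u => chkFix tab mwordsA u) = true := by decide +kernel

theorem m2_5031 : allRange 216333 43 (fun u => chkFix tab mwordsA u) = true := by decide +kernel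

theorem m2_5032 : allRange 216376 43 (fun u => chkFix tab mwordsA u) = true := by decide +kernel

theorem m2_5033 : allRange 216419 43 (fun u => chkFix tab mwordsA u) = true := by decide +kernel

theorem m2_5034 : allRange 216462 43 (fun u => chkFix tab mwordsA u) = true := by decide +kernel

theorem m2_5035 : allRange 216505 43 (fun u => chkFix tab mwordsA u) = true := by decide +kernel

theorem m2_5036 : allRange 216548 43 (fun u => chkFix tab mwordsA u) = true := by decide +kernel


end Cfsg.Agent.Helper9.TCData.X1690
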