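import Cfsg.Agent.Lib.Helper9.TCData.X1690.Main

set_option autoImplicit false
set_option maxRecDepth 1000000

namespace Cfsg.Agent.Helper9.TCData.X1690
open Cfsg.Agent.Helper9.TC2

theorem m2_5047 : allRange 217021 43 (fun u => chkFix tab mwordsA u) = true := by decide +kernel

theorem m2_5048 : allRange 217064 43 (fun u => chkFix tab mwordsA u) = true := by decide +kernel

theorem m2_5049 : allRange 217107 43 (fun u => chkFix tab mwordsA u) = true := by decide +kernel

theorem m2_5050 : allRange 217150 43 (fun u => chkFix tab mwordsA u) = true := by decide +kernel

theorem m2_5051 : allRange 217193 43 (fun u => chkFix tab mwordsA u) = true := by decide +kernel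

theorem m2_5052 : allRange 217236 43 (fun u => chkFix tab mwordsA u) = true := by decide +kernel

theorem m2_5053 : allRange 217279 43 (fun u => chkFix tab mwordsA u) = true := by decide +kernel

theorem m2_5054 : allRange 217322 43 (fun u => chkFix tab mwordsA u) = true := by decide +kernel

theorem m2_5055 : allRange 217365 43 (fun u => chkFix tab mwordsA u) = true := by decide +kernel

theorem m2_5056 : allRange 217408 43 (fun u => chkFix tab mwordsA u) = true := by decide +kernel


end Cfsg.Agent.Helper9.TCData.X1690
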