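import Cfsg.Agent.Lib.Helper9.TCData.X1690.Main

set_option autoImplicit false
set_option maxRecDepth 1000000

namespace Cfsg.Agent.Helper9.TCData.X1690
open Cfsg.Agent.Helper9.TC2

theorem m2_5057 : allRange 217451 43 (fun u => chkFix tab mwordsA u) = true := by decide +kernel

theorem m2_5058 : allRange 217494 43 (fun u => chkFix tab mwordsA u) = true := by decide +kernel

theorem m2_5059 : allRange 217537 43 (fun u => chkFix tab mwordsA u) = true := by decide +kernel

theorem m2_5060 : allRange 217580 43 (fun u => chkFix tab mwordsA u) = true := by decide +kernel

theorem m2_5061 : allRange 217623 43 (fun u => chkFix tab mwordsA u) = true := by decide +kernel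

theorem m2_5062 : allRange 217666 43 (fun u => chkFix tab mwordsA u) = true := by decide +kernel

theorem m2_5063 : allRange 217709 43 (fun u => chkFix tab mwordsA u) = true := by decide +kernel

theorem m2_5064 : allRange 217752 43 (fun u => chkFix tab mwordsA u) = true := by decide +kernel

theorem m2_5065 : allRange 217795 43 (fun u => chkFix tab mwordsA u) = true := by decide +kernel

theorem m2_5066 : allRange 217838 43 (fun u => chkFix tab mwordsA u) = true := by decide +kernel


end Cfsg.Agent.Helper9.TCData.X1690
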