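import Cfsg.Agent.Lib.Helper9.TCData.X1690.Main

set_option autoImplicit false
set_option maxRecDepth 1000000

namespace Cfsg.Agent.Helper9.TCData.X1690
open Cfsg.Agent.Helper9.TC2

theorem m2_5067 : allRange 217881 43 (fun u => chkFix tab mwordsA u) = true := by decide +kernel

theorem m2_5068 : allRange 217924 43 (fun u => chkFix tab mwordsA u) = true := by decide +kernel

theorem m2_5069 : allRange 217967 43 (fun u => chkFix tab mwordsA u) = true := by decide +kernel

theorem m2_5070 : allRange 218010 43 (fun u => chkFix tab mwordsA u) = true := by decide +kernel

theorem m2_5071 : allRange 218053 43 (fun u => chkFix tab mwordsA u) = true := by decide +kernel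

theorem m2_5072 : allRange 218096 43 (fun u => chkFix tab mwordsA u) = true := by decide +kernel

theorem m2_5073 : allRange 218139 43 (fun u => chkFix tab mwordsA u) = true := by decide +kernel

theorem m2_5074 : allRange 218182 43 (fun u => chkFix tab mwordsA u) = true := by decide +kernel

theorem m2_5075 : allRange 218225 43 (fun u => chkFix tab mwordsA u) = true := by decide +kernel

theorem m2_5076 : allRange 218268 43 (fun u => chkFix tab mwordsA u) = true := by decide +kernel


end Cfsg.Agent.Helper9.TCData.X1690
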