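import Cfsg.Agent.Lib.Helper9.TCData.X1690.Main

set_option autoImplicit false
set_option maxRecDepth 1000000

namespace Cfsg.Agent.Helper9.TCData.X1690
open Cfsg.Agent.Helper9.TC2

theorem m2_5077 : allRange 218311 43 (fun u => chkFix tab mwordsA u) = true := by decide +kernel

theorem m2_5078 : allRange 218354 43 (fun u => chkFix tab mwordsA u) = true := by decide +kernel

theorem m2_5079 : allRange 218397 43 (fun u => chkFix tab mwordsA u) = true := by decide +kernel

theorem m2_5080 : allRange 218440 43 (fun u => chkFix tab mwordsA u) = true := by decide +kernel

theorem m2_5081 : allRange 218483 43 (fun u => chkFix tab mwordsA u) = true := by decide +kernel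

theorem m2_5082 : allRange 218526 43 (fun u => chkFix tab mwordsA u) = true := by decide +kernel

theorem m2_5083 : allRange 218569 43 (fun u => chkFix tab mwordsA u) = true := by decide +kernel

theorem m2_5084 : allRange 218612 43 (fun u => chkFix tab mwordsA u) = true := by decide +kernel

theorem m2_5085 : allRange 218655 43 (fun u => chkFix tab mwordsA u) = true := by decide +kernel

theorem m2_5086 : allRange 218698 43 (fun u => chkFix tab mwordsA u) = true := by decide +kernel


end Cfsg.Agent.Helper9.TCData.X1690
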