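import Cfsg.Agent.Lib.Helper9.TCData.X1690.Main

set_option autoImplicit false
set_option maxRecDepth 1000000

namespace Cfsg.Agent.Helper9.TCData.X1690
open Cfsg.Agent.Helper9.TC2

theorem m2_5087 : allRange 218741 43 (fun u => chkFix tab mwordsA u) = true := by decide +kernel

theorem m2_5088 : allRange 218784 43 (fun u => chkFix tab mwordsA u) = true := by decide +kernel

theorem m2_5089 : allRange 218827 43 (fun u => chkFix tab mwordsA u) = true := by decide +kernel

theorem m2_5090 : allRange 218870 43 (fun u => chkFix tab mwordsA u) = true := by decide +kernel

theorem m2_5091 : allRange 218913 43 (fun u => chkFix tab mwordsA u) = true := by decide +kernel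

theorem m2_5092 : allRange 218956 43 (fun u => chkFix tab mwordsA u) = true := by decide +kernel

theorem m2_5093 : allRange 218999 43 (fun u => chkFix tab mwordsA u) = true := by decide +kernel

theorem m2_5094 : allRange 219042 43 (fun u => chkFix tab mwordsA u) = true := by decide +kernel

theorem m2_5095 : allRange 219085 43 (fun u => chkFix tab mwordsA u) = true := by decide +kernel

theorem m2_5096 : allRange 219128 43 (fun u => chkFix tab mwordsA u) = true := by decide +kernel


end Cfsg.Agent.Helper9.TCData.X1690
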