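import Cfsg.Agent.Lib.Helper9.TCData.X1690.Main

set_option autoImplicit false
set_option maxRecDepth 1000000

namespace Cfsg.Agent.Helper9.TCData.X1690
open Cfsg.Agent.Helper9.TC2

theorem m2_5097 : allRange 219171 43 (fun u => chkFix tab mwordsA u) = true := by decide +kernel

theorem m2_5098 : allRange 219214 43 (fun u => chkFix tab mwordsA u) = true := by decide +kernel

theorem m2_5099 : allRange 219257 43 (fun u => chkFix tab mwordsA u) = true := by decide +kernel

theorem m2_5100 : allRange 219300 43 (fun u => chkFix tab mwordsA u) = true := by decide +kernel

theorem m2_5101 : allRange 219343 43 (fun u => chkFix tab mwordsA u) = true := by decide +kernel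

theorem m2_5102 : allRange 219386 43 (fun u => chkFix tab mwordsA u) = true := by decide +kernel

theorem m2_5103 : allRange 219429 43 (fun u => chkFix tab mwordsA u) = true := by decide +kernel

theorem m2_5104 : allRange 219472 43 (fun u => chkFix tab mwordsA u) = true := by decide +kernel

theorem m2_5105 : allRange 219515 43 (fun u => chkFix tab mwordsA u) = true := by decide +kernel

theorem m2_5106 : allRange 219558 43 (fun u => chkFix tab mwordsA u) = true := by decide +kernel


end Cfsg.Agent.Helper9.TCData.X1690
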