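import Cfsg.Agent.Lib.Helper9.TCData.X1690.Main

set_option autoImplicit false
set_option maxRecDepth 1000000

namespace Cfsg.Agent.Helper9.TCData.X1690
open Cfsg.Agent.Helper9.TC2

theorem m2_5107 : allRange 219601 43 (fun u => chkFix tab mwordsA u) = true := by decide +kernel

theorem m2_5108 : allRange 219644 43 (fun u => chkFix tab mwordsA u) = true := by decide +kernel

theorem m2_5109 : allRange 219687 43 (fun u => chkFix tab mwordsA u) = true := by decide +kernel

theorem m2_5110 : allRange 219730 43 (fun u => chkFix tab mwordsA u) = true := by decide +kernel

theorem m2_5111 : allRange 219773 43 (fun u => chkFix tab mwordsA u) = true := by decide +kernel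

theorem m2_5112 : allRange 219816 43 (fun u => chkFix tab mwordsA u) = true := by decide +kernel

theorem m2_5113 : allRange 219859 43 (fun u => chkFix tab mwordsA u) = true := by decide +kernel

theorem m2_5114 : allRange 219902 43 (fun u => chkFix tab mwordsA u) = true := by decide +kernel

theorem m2_5115 : allRange 219945 43 (fun u => chkFix tab mwordsA u) = true := by decide +kernel

theorem m2_5116 : allRange 219988 43 (fun u => chkFix tab mwordsA u) = true := by decide +kernel


end Cfsg.Agent.Helper9.TCData.X1690
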