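import Cfsg.Agent.Lib.Helper9.TCData.X1690.Main

set_option autoImplicit false
set_option maxRecDepth 1000000

namespace Cfsg.Agent.Helper9.TCData.X1690
open Cfsg.Agent.Helper9.TC2

theorem e5_147 : allRange 385374 2391 (fun u => chkE tab 5 u) = true := by decide +kernel

theorem e5_148 : allRange 387765 2135 (fun u => chkE tab 5 u) = true := by decide +kernel

theorem e5_149 : allRange 389900 2491 (fun u => chkE tab 5 u) = true := by decide +kernel

theorem e5_150 : allRange 392391 2063 (fun u => chkE tab 5 u) = true := by decide +kernel

theorem e6_0 : allRange 0 2365 (fun u => chkE tab 6 u) = true := by decide +kernel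

theorem e6_1 : allRange 2365 2352 (fun u => chkE tab 6 u) = true := by decide +kernel

theorem e6_2 : allRange 4717 2251 (fun u => chkE tab 6 u) = true := by decide +kernel

theorem e6_3 : allRange 6968 2401 (fun u => chkE tab 6 u) = true := by decide +kernel

theorem e6_4 : allRange 9369 2708 (fun u => chkE tab 6 u) = true := by decide +kernel

theorem e6_5 : allRange 12077 2173 (fun u => chkE tab 6 u) = true := by decide +kernel


end Cfsg.Agent.Helper9.TCData.X1690
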