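import Cfsg.Agent.Lib.Helper9.TCData.X1690.Main

set_option autoImplicit false
set_option maxRecDepth 1000000

namespace Cfsg.Agent.Helper9.TCData.X1690
open Cfsg.Agent.Helper9.TC2

theorem m2_5117 : allRange 220031 43 (fun u => chkFix tab mwordsA u) = true := by decide +kernel

theorem m2_5118 : allRange 220074 43 (fun u => chkFix tab mwordsA u) = true := by decide +kernel

theorem m2_5119 : allRange 220117 43 (fun u => chkFix tab mwordsA u) = true := by decide +kernel

theorem m2_5120 : allRange 220160 43 (fun u => chkFix tab mwordsA u) = true := by decide +kernel

theorem m2_5121 : allRange 220203 43 (fun u => chkFix tab mwordsA u) = true := by decide +kernel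

theorem m2_5122 : allRange 220246 43 (fun u => chkFix tab mwordsA u) = true := by decide +kernel

theorem m2_5123 : allRange 220289 43 (fun u => chkFix tab mwordsA u) = true := by decide +kernel

theorem m2_5124 : allRange 220332 43 (fun u => chkFix tab mwordsA u) = true := by decide +kernel

theorem m2_5125 : allRange 220375 43 (fun u => chkFix tab mwordsA u) = true := by decide +kernel

theorem m2_5126 : allRange 220418 43 (fun u => chkFix tab mwordsA u) = true := by decide +kernel


end Cfsg.Agent.Helper9.TCData.X1690
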