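import Cfsg.Agent.Lib.Helper9.TCData.X1690.Main

set_option autoImplicit false
set_option maxRecDepth 1000000

namespace Cfsg.Agent.Helper9.TCData.X1690
open Cfsg.Agent.Helper9.TC2

theorem m2_5127 : allRange 220461 43 (fun u => chkFix tab mwordsA u) = true := by decide +kernel

theorem m2_5128 : allRange 220504 43 (fun u => chkFix tab mwordsA u) = true := by decide +kernel

theorem m2_5129 : allRange 220547 43 (fun u => chkFix tab mwordsA u) = true := by decide +kernel

theorem m2_5130 : allRange 220590 43 (fun u => chkFix tab mwordsA u) = true := by decide +kernel

theorem m2_5131 : allRange 220633 43 (fun u => chkFix tab mwordsA u) = true := by decide +kernel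

theorem m2_5132 : allRange 220676 43 (fun u => chkFix tab mwordsA u) = true := by decide +kernel

theorem m2_5133 : allRange 220719 43 (fun u => chkFix tab mwordsA u) = true := by decide +kernel

theorem m2_5134 : allRange 220762 43 (fun u => chkFix tab mwordsA u) = true := by decide +kernel

theorem m2_5135 : allRange 220805 43 (fun u => chkFix tab mwordsA u) = true := by decide +kernel

theorem m2_5136 : allRange 220848 43 (fun u => chkFix tab mwordsA u) = true := by decide +kernel


end Cfsg.Agent.Helper9.TCData.X1690
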