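import Cfsg.Agent.Lib.Helper9.TCData.X1690.Main

set_option autoImplicit false
set_option maxRecDepth 1000000

namespace Cfsg.Agent.Helper9.TCData.X1690
open Cfsg.Agent.Helper9.TC2

theorem m2_5137 : allRange 220891 43 (fun u => chkFix tab mwordsA u) = true := by decide +kernel

theorem m2_5138 : allRange 220934 43 (fun u => chkFix tab mwordsA u) = true := by decide +kernel

theorem m2_5139 : allRange 220977 43 (fun u => chkFix tab mwordsA u) = true := by decide +kernel

theorem m2_5140 : allRange 221020 43 (fun u => chkFix tab mwordsA u) = true := by decide +kernel

theorem m2_5141 : allRange 221063 43 (fun u => chkFix tab mwordsA u) = true := by decide +kernel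

theorem m2_5142 : allRange 221106 43 (fun u => chkFix tab mwordsA u) = true := by decide +kernel

theorem m2_5143 : allRange 221149 43 (fun u => chkFix tab mwordsA u) = true := by decide +kernel

theorem m2_5144 : allRange 221192 43 (fun u => chkFix tab mwordsA u) = true := by decide +kernel

theorem m2_5145 : allRange 221235 43 (fun u => chkFix tab mwordsA u) = true := by decide +kernel

theorem m2_5146 : allRange 221278 43 (fun u => chkFix tab mwordsA u) = true := by decide +kernel


end Cfsg.Agent.Helper9.TCData.X1690
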