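import Cfsg.Agent.Lib.Helper9.TCData.X1690.Main

set_option autoImplicit false
set_option maxRecDepth 1000000

namespace Cfsg.Agent.Helper9.TCData.X1690
open Cfsg.Agent.Helper9.TC2

theorem m2_5147 : allRange 221321 43 (fun u => chkFix tab mwordsA u) = true := by decide +kernel

theorem m2_5148 : allRange 221364 43 (fun u => chkFix tab mwordsA u) = true := by decide +kernel

theorem m2_5149 : allRange 221407 43 (fun u => chkFix tab mwordsA u) = true := by decide +kernel

theorem m2_5150 : allRange 221450 43 (fun u => chkFix tab mwordsA u) = true := by decide +kernel

theorem m2_5151 : allRange 221493 43 (fun u => chkFix tab mwordsA u) = true := by decide +kernel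

theorem m2_5152 : allRange 221536 43 (fun u => chkFix tab mwordsA u) = true := by decide +kernel

theorem m2_5153 : allRange 221579 43 (fun u => chkFix tab mwordsA u) = true := by decide +kernel

theorem m2_5154 : allRange 221622 43 (fun u => chkFix tab mwordsA u) = true := by decide +kernel

theorem m2_5155 : allRange 221665 43 (fun u => chkFix tab mwordsA u) = true := by decide +kernel

theorem m2_5156 : allRange 221708 43 (fun u => chkFix tab mwordsA u) = true := by decide +kernel


end Cfsg.Agent.Helper9.TCData.X1690
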