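import Cfsg.Agent.Lib.Helper9.TCData.X1690.Main

set_option autoImplicit false
set_option maxRecDepth 1000000

namespace Cfsg.Agent.Helper9.TCData.X1690
open Cfsg.Agent.Helper9.TC2

theorem m2_5167 : allRange 222181 43 (fun u => chkFix tab mwordsA u) = true := by decide +kernel

theorem m2_5168 : allRange 222224 43 (fun u => chkFix tab mwordsA u) = true := by decide +kernel

theorem m2_5169 : allRange 222267 43 (fun u => chkFix tab mwordsA u) = true := by decide +kernel

theorem m2_5170 : allRange 222310 43 (fun u => chkFix tab mwordsA u) = true := by decide +kernel

theorem m2_5171 : allRange 222353 43 (fun u => chkFix tab mwordsA u) = true := by decide +kernel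

theorem m2_5172 : allRange 222396 43 (fun u => chkFix tab mwordsA u) = true := by decide +kernel

theorem m2_5173 : allRange 222439 43 (fun u => chkFix tab mwordsA u) = true := by decide +kernel

theorem m2_5174 : allRange 222482 43 (fun u => chkFix tab mwordsA u) = true := by decide +kernel

theorem m2_5175 : allRange 222525 43 (fun u => chkFix tab mwordsA u) = true := by decide +kernel

theorem m2_5176 : allRange 222568 43 (fun u => chkFix tab mwordsA u) = true := by decide +kernel


end Cfsg.Agent.Helper9.TCData.X1690
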