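import Cfsg.Agent.Lib.Helper9.TCData.X1690.Main

set_option autoImplicit false
set_option maxRecDepth 1000000

namespace Cfsg.Agent.Helper9.TCData.X1690
open Cfsg.Agent.Helper9.TC2

theorem m2_5177 : allRange 222611 43 (fun u => chkFix tab mwordsA u) = true := by decide +kernel

theorem m2_5178 : allRange 222654 43 (fun u => chkFix tab mwordsA u) = true := by decide +kernel

theorem m2_5179 : allRange 222697 43 (fun u => chkFix tab mwordsA u) = true := by decide +kernel

theorem m2_5180 : allRange 222740 43 (fun u => chkFix tab mwordsA u) = true := by decide +kernel

theorem m2_5181 : allRange 222783 43 (fun u => chkFix tab mwordsA u) = true := by decide +kernel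

theorem m2_5182 : allRange 222826 43 (fun u => chkFix tab mwordsA u) = true := by decide +kernel

theorem m2_5183 : allRange 222869 43 (fun u => chkFix tab mwordsA u) = true := by decide +kernel

theorem m2_5184 : allRange 222912 43 (fun u => chkFix tab mwordsA u) = true := by decide +kernel

theorem m2_5185 : allRange 222955 43 (fun u => chkFix tab mwordsA u) = true := by decide +kernel

theorem m2_5186 : allRange 222998 43 (fun u => chkFix tab mwordsA u) = true := by decide +kernel


end Cfsg.Agent.Helper9.TCData.X1690
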