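import Cfsg.Agent.Lib.Helper9.TCData.X1690.Main

set_option autoImplicit false
set_option maxRecDepth 1000000

namespace Cfsg.Agent.Helper9.TCData.X1690
open Cfsg.Agent.Helper9.TC2

theorem m2_5187 : allRange 223041 43 (fun u => chkFix tab mwordsA u) = true := by decide +kernel

theorem m2_5188 : allRange 223084 43 (fun u => chkFix tab mwordsA u) = true := by decide +kernel

theorem m2_5189 : allRange 223127 43 (fun u => chkFix tab mwordsA u) = true := by decide +kernel

theorem m2_5190 : allRange 223170 43 (fun u => chkFix tab mwordsA u) = true := by decide +kernel

theorem m2_5191 : allRange 223213 43 (fun u => chkFix tab mwordsA u) = true := by decide +kernel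

theorem m2_5192 : allRange 223256 43 (fun u => chkFix tab mwordsA u) = true := by decide +kernel

theorem m2_5193 : allRange 223299 43 (fun u => chkFix tab mwordsA u) = true := by decide +kernel

theorem m2_5194 : allRange 223342 43 (fun u => chkFix tab mwordsA u) = true := by decide +kernel

theorem m2_5195 : allRange 223385 43 (fun u => chkFix tab mwordsA u) = true := by decide +kernel

theorem m2_5196 : allRange 223428 43 (fun u => chkFix tab mwordsA u) = true := by decide +kernel


end Cfsg.Agent.Helper9.TCData.X1690
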