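import Cfsg.Agent.Lib.Helper9.TCData.X1690.Main

set_option autoImplicit false
set_option maxRecDepth 1000000

namespace Cfsg.Agent.Helper9.TCData.X1690
open Cfsg.Agent.Helper9.TC2

theorem m2_5197 : allRange 223471 43 (fun u => chkFix tab mwordsA u) = true := by decide +kernel

theorem m2_5198 : allRange 223514 43 (fun u => chkFix tab mwordsA u) = true := by decide +kernel

theorem m2_5199 : allRange 223557 43 (fun u => chkFix tab mwordsA u) = true := by decide +kernel

theorem m2_5200 : allRange 223600 43 (fun u => chkFix tab mwordsA u) = true := by decide +kernel

theorem m2_5201 : allRange 223643 43 (fun u => chkFix tab mwordsA u) = true := by decide +kernel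

theorem m2_5202 : allRange 223686 43 (fun u => chkFix tab mwordsA u) = true := by decide +kernel

theorem m2_5203 : allRange 223729 43 (fun u => chkFix tab mwordsA u) = true := by decide +kernel

theorem m2_5204 : allRange 223772 43 (fun u => chkFix tab mwordsA u) = true := by decide +kernel

theorem m2_5205 : allRange 223815 43 (fun u => chkFix tab mwordsA u) = true := by decide +kernel

theorem m2_5206 : allRange 223858 43 (fun u => chkFix tab mwordsA u) = true := by decide +kernel


end Cfsg.Agent.Helper9.TCData.X1690
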