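import Cfsg.Agent.Lib.Helper9.TCData.X1690.Main

set_option autoImplicit false
set_option maxRecDepth 1000000

namespace Cfsg.Agent.Helper9.TCData.X1690
open Cfsg.Agent.Helper9.TC2

theorem m2_5207 : allRange 223901 43 (fun u => chkFix tab mwordsA u) = true := by decide +kernel

theorem m2_5208 : allRange 223944 43 (fun u => chkFix tab mwordsA u) = true := by decide +kernel

theorem m2_5209 : allRange 223987 43 (fun u => chkFix tab mwordsA u) = true := by decide +kernel

theorem m2_5210 : allRange 224030 43 (fun u => chkFix tab mwordsA u) = true := by decide +kernel

theorem m2_5211 : allRange 224073 43 (fun u => chkFix tab mwordsA u) = true := by decide +kernel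

theorem m2_5212 : allRange 224116 43 (fun u => chkFix tab mwordsA u) = true := by decide +kernel

theorem m2_5213 : allRange 224159 43 (fun u => chkFix tab mwordsA u) = true := by decide +kernel

theorem m2_5214 : allRange 224202 43 (fun u => chkFix tab mwordsA u) = true := by decide +kernel

theorem m2_5215 : allRange 224245 43 (fun u => chkFix tab mwordsA u) = true := by decide +kernel

theorem m2_5216 : allRange 224288 43 (fun u => chkFix tab mwordsA u) = true := by decide +kernel


end Cfsg.Agent.Helper9.TCData.X1690
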