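import Cfsg.Agent.Lib.Helper9.TCData.X1690.Main

set_option autoImplicit false
set_option maxRecDepth 1000000

namespace Cfsg.Agent.Helper9.TCData.X1690
open Cfsg.Agent.Helper9.TC2

theorem e6_6 : allRange 14250 2258 (fun u => chkE tab 6 u) = true := by decide +kernel

theorem e6_7 : allRange 16508 2119 (fun u => chkE tab 6 u) = true := by decide +kernel

theorem e6_8 : allRange 18627 2248 (fun u => chkE tab 6 u) = true := by decide +kernel

theorem e6_9 : allRange 20875 2140 (fun u => chkE tab 6 u) = true := by decide +kernel

theorem e6_10 : allRange 23015 2214 (fun u => chkE tab 6 u) = true := by decide +kernel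

theorem e6_11 : allRange 25229 2208 (fun u => chkE tab 6 u) = true := by decide +kernel

theorem e6_12 : allRange 27437 2170 (fun u => chkE tab 6 u) = true := by decide +kernel

theorem e6_13 : allRange 29607 2187 (fun u => chkE tab 6 u) = true := by decide +kernel

theorem e6_14 : allRange 31794 2296 (fun u => chkE tab 6 u) = true := by decide +kernel

theorem e6_15 : allRange 34090 2245 (fun u => chkE tab 6 u) = true := by decide +kernel


end Cfsg.Agent.Helper9.TCData.X1690
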