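import Cfsg.Agent.Lib.Helper9.TCData.X1690.Main

set_option autoImplicit false
set_option maxRecDepth 1000000

namespace Cfsg.Agent.Helper9.TCData.X1690
open Cfsg.Agent.Helper9.TC2

theorem m2_5217 : allRange 224331 43 (fun u => chkFix tab mwordsA u) = true := by decide +kernel

theorem m2_5218 : allRange 224374 43 (fun u => chkFix tab mwordsA u) = true := by decide +kernel

theorem m2_5219 : allRange 224417 43 (fun u => chkFix tab mwordsA u) = true := by decide +kernel

theorem m2_5220 : allRange 224460 43 (fun u => chkFix tab mwordsA u) = true := by decide +kernel

theorem m2_5221 : allRange 224503 43 (fun u => chkFix tab mwordsA u) = true := by decide +kernel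

theorem m2_5222 : allRange 224546 43 (fun u => chkFix tab mwordsA u) = true := by decide +kernel

theorem m2_5223 : allRange 224589 43 (fun u => chkFix tab mwordsA u) = true := by decide +kernel

theorem m2_5224 : allRange 224632 43 (fun u => chkFix tab mwordsA u) = true := by decide +kernel

theorem m2_5225 : allRange 224675 43 (fun u => chkFix tab mwordsA u) = true := by decide +kernel

theorem m2_5226 : allRange 224718 43 (fun u => chkFix tab mwordsA u) = true := by decide +kernel


end Cfsg.Agent.Helper9.TCData.X1690
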