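import Cfsg.Agent.Lib.Helper9.TCData.X1690.Main

set_option autoImplicit false
set_option maxRecDepth 1000000

namespace Cfsg.Agent.Helper9.TCData.X1690
open Cfsg.Agent.Helper9.TC2

theorem m2_5227 : allRange 224761 43 (fun u => chkFix tab mwordsA u) = true := by decide +kernel

theorem m2_5228 : allRange 224804 43 (fun u => chkFix tab mwordsA u) = true := by decide +kernel

theorem m2_5229 : allRange 224847 43 (fun u => chkFix tab mwordsA u) = true := by decide +kernel

theorem m2_5230 : allRange 224890 43 (fun u => chkFix tab mwordsA u) = true := by decide +kernel

theorem m2_5231 : allRange 224933 43 (fun u => chkFix tab mwordsA u) = true := by decide +kernel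

theorem m2_5232 : allRange 224976 43 (fun u => chkFix tab mwordsA u) = true := by decide +kernel

theorem m2_5233 : allRange 225019 43 (fun u => chkFix tab mwordsA u) = true := by decide +kernel

theorem m2_5234 : allRange 225062 43 (fun u => chkFix tab mwordsA u) = true := by decide +kernel

theorem m2_5235 : allRange 225105 43 (fun u => chkFix tab mwordsA u) = true := by decide +kernel

theorem m2_5236 : allRange 225148 43 (fun u => chkFix tab mwordsA u) = true := by decide +kernel


end Cfsg.Agent.Helper9.TCData.X1690
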