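import Cfsg.Agent.Lib.Helper9.TCData.X1690.Main

set_option autoImplicit false
set_option maxRecDepth 1000000

namespace Cfsg.Agent.Helper9.TCData.X1690
open Cfsg.Agent.Helper9.TC2

theorem m2_5237 : allRange 225191 43 (fun u => chkFix tab mwordsA u) = true := by decide +kernel

theorem m2_5238 : allRange 225234 43 (fun u => chkFix tab mwordsA u) = true := by decide +kernel

theorem m2_5239 : allRange 225277 43 (fun u => chkFix tab mwordsA u) = true := by decide +kernel

theorem m2_5240 : allRange 225320 43 (fun u => chkFix tab mwordsA u) = true := by decide +kernel

theorem m2_5241 : allRange 225363 43 (fun u => chkFix tab mwordsA u) = true := by decide +kernel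

theorem m2_5242 : allRange 225406 43 (fun u => chkFix tab mwordsA u) = true := by decide +kernel

theorem m2_5243 : allRange 225449 43 (fun u => chkFix tab mwordsA u) = true := by decide +kernel

theorem m2_5244 : allRange 225492 43 (fun u => chkFix tab mwordsA u) = true := by decide +kernel

theorem m2_5245 : allRange 225535 43 (fun u => chkFix tab mwordsA u) = true := by decide +kernel

theorem m2_5246 : allRange 225578 43 (fun u => chkFix tab mwordsA u) = true := by decide +kernel


end Cfsg.Agent.Helper9.TCData.X1690
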