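import Cfsg.Agent.Lib.Helper9.TCData.X1690.Main

set_option autoImplicit false
set_option maxRecDepth 1000000

namespace Cfsg.Agent.Helper9.TCData.X1690
open Cfsg.Agent.Helper9.TC2

theorem m2_5247 : allRange 225621 43 (fun u => chkFix tab mwordsA u) = true := by decide +kernel

theorem m2_5248 : allRange 225664 43 (fun u => chkFix tab mwordsA u) = true := by decide +kernel

theorem m2_5249 : allRange 225707 43 (fun u => chkFix tab mwordsA u) = true := by decide +kernel

theorem m2_5250 : allRange 225750 43 (fun u => chkFix tab mwordsA u) = true := by decide +kernel

theorem m2_5251 : allRange 225793 43 (fun u => chkFix tab mwordsA u) = true := by decide +kernel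

theorem m2_5252 : allRange 225836 43 (fun u => chkFix tab mwordsA u) = true := by decide +kernel

theorem m2_5253 : allRange 225879 43 (fun u => chkFix tab mwordsA u) = true := by decide +kernel

theorem m2_5254 : allRange 225922 43 (fun u => chkFix tab mwordsA u) = true := by decide +kernel

theorem m2_5255 : allRange 225965 43 (fun u => chkFix tab mwordsA u) = true := by decide +kernel

theorem m2_5256 : allRange 226008 43 (fun u => chkFix tab mwordsA u) = true := by decide +kernel


end Cfsg.Agent.Helper9.TCData.X1690
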