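import Cfsg.Agent.Lib.Helper9.TCData.X1690.Main

set_option autoImplicit false
set_option maxRecDepth 1000000

namespace Cfsg.Agent.Helper9.TCData.X1690
open Cfsg.Agent.Helper9.TC2

theorem m2_5257 : allRange 226051 43 (fun u => chkFix tab mwordsA u) = true := by decide +kernel

theorem m2_5258 : allRange 226094 43 (fun u => chkFix tab mwordsA u) = true := by decide +kernel

theorem m2_5259 : allRange 226137 43 (fun u => chkFix tab mwordsA u) = true := by decide +kernel

theorem m2_5260 : allRange 226180 43 (fun u => chkFix tab mwordsA u) = true := by decide +kernel

theorem m2_5261 : allRange 226223 43 (fun u => chkFix tab mwordsA u) = true := by decide +kernel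

theorem m2_5262 : allRange 226266 43 (fun u => chkFix tab mwordsA u) = true := by decide +kernel

theorem m2_5263 : allRange 226309 43 (fun u => chkFix tab mwordsA u) = true := by decide +kernel

theorem m2_5264 : allRange 226352 43 (fun u => chkFix tab mwordsA u) = true := by decide +kernel

theorem m2_5265 : allRange 226395 43 (fun u => chkFix tab mwordsA u) = true := by decide +kernel

theorem m2_5266 : allRange 226438 43 (fun u => chkFix tab mwordsA u) = true := by decide +kernel


end Cfsg.Agent.Helper9.TCData.X1690
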