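import Cfsg.Agent.Lib.Helper9.TCData.X1690.Main

set_option autoImplicit false
set_option maxRecDepth 1000000

namespace Cfsg.Agent.Helper9.TCData.X1690
open Cfsg.Agent.Helper9.TC2

theorem m2_5267 : allRange 226481 43 (fun u => chkFix tab mwordsA u) = true := by decide +kernel

theorem m2_5268 : allRange 226524 43 (fun u => chkFix tab mwordsA u) = true := by decide +kernel

theorem m2_5269 : allRange 226567 43 (fun u => chkFix tab mwordsA u) = true := by decide +kernel

theorem m2_5270 : allRange 226610 43 (fun u => chkFix tab mwordsA u) = true := by decide +kernel

theorem m2_5271 : allRange 226653 43 (fun u => chkFix tab mwordsA u) = true := by decide +kernel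

theorem m2_5272 : allRange 226696 43 (fun u => chkFix tab mwordsA u) = true := by decide +kernel

theorem m2_5273 : allRange 226739 43 (fun u => chkFix tab mwordsA u) = true := by decide +kernel

theorem m2_5274 : allRange 226782 43 (fun u => chkFix tab mwordsA u) = true := by decide +kernel

theorem m2_5275 : allRange 226825 43 (fun u => chkFix tab mwordsA u) = true := by decide +kernel

theorem m2_5276 : allRange 226868 43 (fun u => chkFix tab mwordsA u) = true := by decide +kernel


end Cfsg.Agent.Helper9.TCData.X1690
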