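import Cfsg.Agent.Lib.Helper9.TCData.X1690.Main

set_option autoImplicit false
set_option maxRecDepth 1000000

namespace Cfsg.Agent.Helper9.TCData.X1690
open Cfsg.Agent.Helper9.TC2

theorem m2_5297 : allRange 227771 43 (fun u => chkFix tab mwordsA u) = true := by decide +kernel

theorem m2_5298 : allRange 227814 43 (fun u => chkFix tab mwordsA u) = true := by decide +kernel

theorem m2_5299 : allRange 227857 43 (fun u => chkFix tab mwordsA u) = true := by decide +kernel

theorem m2_5300 : allRange 227900 43 (fun u => chkFix tab mwordsA u) = true := by decide +kernel

theorem m2_5301 : allRange 227943 43 (fun u => chkFix tab mwordsA u) = true := by decide +kernel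

theorem m2_5302 : allRange 227986 43 (fun u => chkFix tab mwordsA u) = true := by decide +kernel

theorem m2_5303 : allRange 228029 43 (fun u => chkFix tab mwordsA u) = true := by decide +kernel

theorem m2_5304 : allRange 228072 43 (fun u => chkFix tab mwordsA u) = true := by decide +kernel

theorem m2_5305 : allRange 228115 43 (fun u => chkFix tab mwordsA u) = true := by decide +kernel

theorem m2_5306 : allRange 228158 43 (fun u => chkFix tab mwordsA u) = true := by decide +kernel


end Cfsg.Agent.Helper9.TCData.X1690
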