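import Cfsg.Agent.Lib.Helper9.TCData.X1690.Main

set_option autoImplicit false
set_option maxRecDepth 1000000

namespace Cfsg.Agent.Helper9.TCData.X1690
open Cfsg.Agent.Helper9.TC2

theorem m2_5307 : allRange 228201 43 (fun u => chkFix tab mwordsA u) = true := by decide +kernel

theorem m2_5308 : allRange 228244 43 (fun u => chkFix tab mwordsA u) = true := by decide +kernel

theorem m2_5309 : allRange 228287 43 (fun u => chkFix tab mwordsA u) = true := by decide +kernel

theorem m2_5310 : allRange 228330 43 (fun u => chkFix tab mwordsA u) = true := by decide +kernel

theorem m2_5311 : allRange 228373 43 (fun u => chkFix tab mwordsA u) = true := by decide +kernel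

theorem m2_5312 : allRange 228416 43 (fun u => chkFix tab mwordsA u) = true := by decide +kernel

theorem m2_5313 : allRange 228459 43 (fun u => chkFix tab mwordsA u) = true := by decide +kernel

theorem m2_5314 : allRange 228502 43 (fun u => chkFix tab mwordsA u) = true := by decide +kernel

theorem m2_5315 : allRange 228545 43 (fun u => chkFix tab mwordsA u) = true := by decide +kernel

theorem m2_5316 : allRange 228588 43 (fun u => chkFix tab mwordsA u) = true := by decide +kernel


end Cfsg.Agent.Helper9.TCData.X1690
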