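import Cfsg.Agent.Lib.Helper9.TCData.X1690.S0
import Cfsg.Agent.Lib.Helper9.TCData.X1690.S1
import Cfsg.Agent.Lib.Helper9.TCData.X1690.S2
import Cfsg.Agent.Lib.Helper9.TCData.X1690.S3
import Cfsg.Agent.Lib.Helper9.TCData.X1690.S4
import Cfsg.Agent.Lib.Helper9.TCData.X1690.S5
import Cfsg.Agent.Lib.Helper9.TCData.X1690.S6
import Cfsg.Agent.Lib.Helper9.TCData.X1690.S7
import Cfsg.Agent.Lib.Helper9.TCData.X1690.S8
import Cfsg.Agent.Lib.Helper9.TCData.X1690.S9
import Cfsg.Agent.Lib.Helper9.TCData.X1690.S10
import Cfsg.Agent.Lib.Helper9.TCData.X1690.S11
import Cfsg.Agent.Lib.Helper9.TCData.X1690.S12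
import Cfsg.Agent.Lib.Helper9.TCData.X1690.S13
import Cfsg.Agent.Lib.Helper9.TCData.X1690.S14
import Cfsg.Agent.Lib.Helper9.TCData.X1690.S15
import Cfsg.Agent.Lib.Helper9.TCData.X1690.S16
import Cfsg.Agent.Lib.Helper9.TCData.X1690.S17
import Cfsg.Agent.Lib.Helper9.TCData.X1690.S18
import Cfsg.Agent.Lib.Helper9.TCData.X1690.S19
import Cfsg.Agent.Lib.Helper9.TCData.X1690.S20
import Cfsg.Agent.Lib.Helper9.TCData.X1690.S21
import Cfsg.Agent.Lib.Helper9.TCData.X1690.S22
import Cfsg.Agent.Lib.Helper9.TCData.X1690.S23
import Cfsg.Agent.Lib.Helper9.TCData.X1690.S24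
import Cfsg.Agent.Lib.Helper9.TCData.X1690.S25
import Cfsg.Agent.Lib.Helper9.TCData.X1690.S26
import Cfsg.Agent.Lib.Helper9.TCData.X1690.S27
import Cfsg.Agent.Lib.Helper9.TCData.X1690.S28
import Cfsg.Agent.Lib.Helper9.TCData.X1690.S29
import Cfsg.Agent.Lib.Helper9.TCData.X1690.S30
import Cfsg.Agent.Lib.Helper9.TCData.X1690.S31
import Cfsg.Agent.Lib.Helper9.TCData.X1690.S32
import Cfsg.Agent.Lib.Helper9.TCData.X1690.S33
import Cfsg.Agent.Lib.Helper9.TCData.X1690.S34
import Cfsg.Agent.Lib.Helper9.TCData.X1690.S35
import Cfsg.Agent.Lib.Helper9.TCData.X1690.S36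
import Cfsg.Agent.Lib.Helper9.TCData.X1690.S37
import Cfsg.Agent.Lib.Helper9.TCData.X1690.S38
import Cfsg.Agent.Lib.Helper9.TCData.X1690.S39
import Cfsg.Agent.Lib.Helper9.TCData.X1690.S40
import Cfsg.Agent.Lib.Helper9.TCData.X1690.S41
import Cfsg.Agent.Lib.Helper9.TCData.X1690.S42
import Cfsg.Agent.Lib.Helper9.TCData.X1690.S43
import Cfsg.Agent.Lib.Helper9.TCData.X1690.S44
import Cfsg.Agent.Lib.Helper9.TCData.X1690.S45
import Cfsg.Agent.Lib.Helper9.TCData.X1690.S46
import Cfsg.Agent.Lib.Helper9.TCData.X1690.S47
import Cfsg.Agent.Lib.Helper9.TCData.X1690.S48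
import Cfsg.Agent.Lib.Helper9.TCData.X1690.S49
import Cfsg.Agent.Lib.Helper9.TCData.X1690.S50
import Cfsg.Agent.Lib.Helper9.TCData.X1690.S51
import Cfsg.Agent.Lib.Helper9.TCData.X1690.S52
import Cfsg.Agent.Lib.Helper9.TCData.X1690.S53
import Cfsg.Agent.Lib.Helper9.TCData.X1690.S54
import Cfsg.Agent.Lib.Helper9.TCData.X1690.S55
import Cfsg.Agent.Lib.Helper9.TCData.X1690.S56
import Cfsg.Agent.Lib.Helper9.TCData.X1690.S57
import Cfsg.Agent.Lib.Helper9.TCData.X1690.S58
import Cfsg.Agent.Lib.Helper9.TCData.X1690.S59
import Cfsg.Agent.Lib.Helper9.TCData.X1690.S60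
import Cfsg.Agent.Lib.Helper9.TCData.X1690.S61
import Cfsg.Agent.Lib.Helper9.TCData.X1690.S62
import Cfsg.Agent.Lib.Helper9.TCData.X1690.S63
import Cfsg.Agent.Lib.Helper9.TCData.X1690.S64
import Cfsg.Agent.Lib.Helper9.TCData.X1690.S65
import Cfsg.Agent.Lib.Helper9.TCData.X1690.S66
import Cfsg.Agent.Lib.Helper9.TCData.X1690.S67
import Cfsg.Agent.Lib.Helper9.TCData.X1690.S68
import Cfsg.Agent.Lib.Helper9.TCData.X1690.S69
import Cfsg.Agent.Lib.Helper9.TCData.X1690.S70
import Cfsg.Agent.Lib.Helper9.TCData.X1690.S71
import Cfsg.Agent.Lib.Helper9.TCData.X1690.S72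
import Cfsg.Agent.Lib.Helper9.TCData.X1690.S73
import Cfsg.Agent.Lib.Helper9.TCData.X1690.S74
import Cfsg.Agent.Lib.Helper9.TCData.X1690.S75
import Cfsg.Agent.Lib.Helper9.TCData.X1690.S76
import Cfsg.Agent.Lib.Helper9.TCData.X1690.S77
import Cfsg.Agent.Lib.Helper9.TCData.X1690.S78
import Cfsg.Agent.Lib.Helper9.TCData.X1690.S79
import Cfsg.Agent.Lib.Helper9.TCData.X1690.S80
import Cfsg.Agent.Lib.Helper9.TCData.X1690.S81
import Cfsg.Agent.Lib.Helper9.TCData.X1690.S82
import Cfsg.Agent.Lib.Helper9.TCData.X1690.S83
import Cfsg.Agent.Lib.Helper9.TCData.X1690.S84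
import Cfsg.Agent.Lib.Helper9.TCData.X1690.S85
import Cfsg.Agent.Lib.Helper9.TCData.X1690.S86
import Cfsg.Agent.Lib.Helper9.TCData.X1690.S87
import Cfsg.Agent.Lib.Helper9.TCData.X1690.S88
import Cfsg.Agent.Lib.Helper9.TCData.X1690.S89
import Cfsg.Agent.Lib.Helper9.TCData.X1690.S90
import Cfsg.Agent.Lib.Helper9.TCData.X1690.S91
import Cfsg.Agent.Lib.Helper9.TCData.X1690.S92
import Cfsg.Agent.Lib.Helper9.TCData.X1690.S93
import Cfsg.Agent.Lib.Helper9.TCData.X1690.S94
import Cfsg.Agent.Lib.Helper9.TCData.X1690.S95
import Cfsg.Agent.Lib.Helper9.TCData.X1690.S96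
import Cfsg.Agent.Lib.Helper9.TCData.X1690.S97
import Cfsg.Agent.Lib.Helper9.TCData.X1690.S98
import Cfsg.Agent.Lib.Helper9.TCData.X1690.S99
import Cfsg.Agent.Lib.Helper9.TCData.X1690.S100
import Cfsg.Agent.Lib.Helper9.TCData.X1690.S101
import Cfsg.Agent.Lib.Helper9.TCData.X1690.S102
import Cfsg.Agent.Lib.Helper9.TCData.X1690.S103
import Cfsg.Agent.Lib.Helper9.TCData.X1690.S104
import Cfsg.Agent.Lib.Helper9.TCData.X1690.S105
import Cfsg.Agent.Lib.Helper9.TCData.X1690.S106
import Cfsg.Agent.Lib.Helper9.TCData.X1690.S107
import Cfsg.Agent.Lib.Helper9.TCData.X1690.S108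
import Cfsg.Agent.Lib.Helper9.TCData.X1690.S109
import Cfsg.Agent.Lib.Helper9.TCData.X1690.S110
import Cfsg.Agent.Lib.Helper9.TCData.X1690.S111
import Cfsg.Agent.Lib.Helper9.TCData.X1690.S112
import Cfsg.Agent.Lib.Helper9.TCData.X1690.S113
import Cfsg.Agent.Lib.Helper9.TCData.X1690.S114
import Cfsg.Agent.Lib.Helper9.TCData.X1690.S115
import Cfsg.Agent.Lib.Helper9.TCData.X1690.S116
import Cfsg.Agent.Lib.Helper9.TCData.X1690.S117
import Cfsg.Agent.Lib.Helper9.TCData.X1690.S118
import Cfsg.Agent.Lib.Helper9.TCData.X1690.S119
import Cfsg.Agent.Lib.Helper9.TCData.X1690.S120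
import Cfsg.Agent.Lib.Helper9.TCData.X1690.S121
import Cfsg.Agent.Lib.Helper9.TCData.X1690.S122
import Cfsg.Agent.Lib.Helper9.TCData.X1690.S123
import Cfsg.Agent.Lib.Helper9.TCData.X1690.S124
import Cfsg.Agent.Lib.Helper9.TCData.X1690.S125
import Cfsg.Agent.Lib.Helper9.TCData.X1690.S126
import Cfsg.Agent.Lib.Helper9.TCData.X1690.S127
import Cfsg.Agent.Lib.Helper9.TCData.X1690.S128
import Cfsg.Agent.Lib.Helper9.TCData.X1690.S129
import Cfsg.Agent.Lib.Helper9.TCData.X1690.S130
import Cfsg.Agent.Lib.Helper9.TCData.X1690.S131
import Cfsg.Agent.Lib.Helper9.TCData.X1690.S132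
import Cfsg.Agent.Lib.Helper9.TCData.X1690.S133
import Cfsg.Agent.Lib.Helper9.TCData.X1690.S134
import Cfsg.Agent.Lib.Helper9.TCData.X1690.S135
import Cfsg.Agent.Lib.Helper9.TCData.X1690.S136
import Cfsg.Agent.Lib.Helper9.TCData.X1690.S137
import Cfsg.Agent.Lib.Helper9.TCData.X1690.S138
import Cfsg.Agent.Lib.Helper9.TCData.X1690.S139
import Cfsg.Agent.Lib.Helper9.TCData.X1690.S140
import Cfsg.Agent.Lib.Helper9.TCData.X1690.S141
import Cfsg.Agent.Lib.Helper9.TCData.X1690.S142
import Cfsg.Agent.Lib.Helper9.TCData.X1690.S143
import Cfsg.Agent.Lib.Helper9.TCData.X1690.S144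
import Cfsg.Agent.Lib.Helper9.TCData.X1690.S145
import Cfsg.Agent.Lib.Helper9.TCData.X1690.S146
import Cfsg.Agent.Lib.Helper9.TCData.X1690.S147
import Cfsg.Agent.Lib.Helper9.TCData.X1690.S148
import Cfsg.Agent.Lib.Helper9.TCData.X1690.S149
import Cfsg.Agent.Lib.Helper9.TCData.X1690.S150
import Cfsg.Agent.Lib.Helper9.TCData.X1690.S151
import Cfsg.Agent.Lib.Helper9.TCData.X1690.S152
import Cfsg.Agent.Lib.Helper9.TCData.X1690.S153
import Cfsg.Agent.Lib.Helper9.TCData.X1690.S154
import Cfsg.Agent.Lib.Helper9.TCData.X1690.S155
import Cfsg.Agent.Lib.Helper9.TCData.X1690.S156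
import Cfsg.Agent.Lib.Helper9.TCData.X1690.S157
import Cfsg.Agent.Lib.Helper9.TCData.X1690.S158
import Cfsg.Agent.Lib.Helper9.TCData.X1690.S159
import Cfsg.Agent.Lib.Helper9.TCData.X1690.S160
import Cfsg.Agent.Lib.Helper9.TCData.X1690.S161
import Cfsg.Agent.Lib.Helper9.TCData.X1690.S162
import Cfsg.Agent.Lib.Helper9.TCData.X1690.S163
import Cfsg.Agent.Lib.Helper9.TCData.X1690.S164
import Cfsg.Agent.Lib.Helper9.TCData.X1690.S165
import Cfsg.Agent.Lib.Helper9.TCData.X1690.S166
import Cfsg.Agent.Lib.Helper9.TCData.X1690.S167
import Cfsg.Agent.Lib.Helper9.TCData.X1690.S168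
import Cfsg.Agent.Lib.Helper9.TCData.X1690.S169
import Cfsg.Agent.Lib.Helper9.TCData.X1690.S170
import Cfsg.Agent.Lib.Helper9.TCData.X1690.S171
import Cfsg.Agent.Lib.Helper9.TCData.X1690.S172
import Cfsg.Agent.Lib.Helper9.TCData.X1690.S173
import Cfsg.Agent.Lib.Helper9.TCData.X1690.S174
import Cfsg.Agent.Lib.Helper9.TCData.X1690.S175
import Cfsg.Agent.Lib.Helper9.TCData.X1690.S176
import Cfsg.Agent.Lib.Helper9.TCData.X1690.S177
import Cfsg.Agent.Lib.Helper9.TCData.X1690.S178
import Cfsg.Agent.Lib.Helper9.TCData.X1690.S179
import Cfsg.Agent.Lib.Helper9.TCData.X1690.S180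
import Cfsg.Agent.Lib.Helper9.TCData.X1690.S181
import Cfsg.Agent.Lib.Helper9.TCData.X1690.S182
import Cfsg.Agent.Lib.Helper9.TCData.X1690.S183
import Cfsg.Agent.Lib.Helper9.TCData.X1690.S184
import Cfsg.Agent.Lib.Helper9.TCData.X1690.S185
import Cfsg.Agent.Lib.Helper9.TCData.X1690.S186
import Cfsg.Agent.Lib.Helper9.TCData.X1690.S187
import Cfsg.Agent.Lib.Helper9.TCData.X1690.S188
import Cfsg.Agent.Lib.Helper9.TCData.X1690.S189
import Cfsg.Agent.Lib.Helper9.TCData.X1690.S190
import Cfsg.Agent.Lib.Helper9.TCData.X1690.S191
import Cfsg.Agent.Lib.Helper9.TCData.X1690.S192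
import Cfsg.Agent.Lib.Helper9.TCData.X1690.S193
import Cfsg.Agent.Lib.Helper9.TCData.X1690.S194
import Cfsg.Agent.Lib.Helper9.TCData.X1690.S195
import Cfsg.Agent.Lib.Helper9.TCData.X1690.S196
import Cfsg.Agent.Lib.Helper9.TCData.X1690.S197
import Cfsg.Agent.Lib.Helper9.TCData.X1690.S198
import Cfsg.Agent.Lib.Helper9.TCData.X1690.S199
import Cfsg.Agent.Lib.Helper9.TCData.X1690.S200
import Cfsg.Agent.Lib.Helper9.TCData.X1690.S201
import Cfsg.Agent.Lib.Helper9.TCData.X1690.S202
import Cfsg.Agent.Lib.Helper9.TCData.X1690.S203
import Cfsg.Agent.Lib.Helper9.TCData.X1690.S204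
import Cfsg.Agent.Lib.Helper9.TCData.X1690.S205
import Cfsg.Agent.Lib.Helper9.TCData.X1690.S206
import Cfsg.Agent.Lib.Helper9.TCData.X1690.S207
import Cfsg.Agent.Lib.Helper9.TCData.X1690.S208
import Cfsg.Agent.Lib.Helper9.TCData.X1690.S209
import Cfsg.Agent.Lib.Helper9.TCData.X1690.S210
import Cfsg.Agent.Lib.Helper9.TCData.X1690.S211
import Cfsg.Agent.Lib.Helper9.TCData.X1690.S212
import Cfsg.Agent.Lib.Helper9.TCData.X1690.S213
import Cfsg.Agent.Lib.Helper9.TCData.X1690.S214
import Cfsg.Agent.Lib.Helper9.TCData.X1690.S215
import Cfsg.Agent.Lib.Helper9.TCData.X1690.S216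
import Cfsg.Agent.Lib.Helper9.TCData.X1690.S217
import Cfsg.Agent.Lib.Helper9.TCData.X1690.S218
import Cfsg.Agent.Lib.Helper9.TCData.X1690.S219
import Cfsg.Agent.Lib.Helper9.TCData.X1690.S220
import Cfsg.Agent.Lib.Helper9.TCData.X1690.S221
import Cfsg.Agent.Lib.Helper9.TCData.X1690.S222
import Cfsg.Agent.Lib.Helper9.TCData.X1690.S223
import Cfsg.Agent.Lib.Helper9.TCData.X1690.S224
import Cfsg.Agent.Lib.Helper9.TCData.X1690.S225
import Cfsg.Agent.Lib.Helper9.TCData.X1690.S226
import Cfsg.Agent.Lib.Helper9.TCData.X1690.S227
import Cfsg.Agent.Lib.Helper9.TCData.X1690.S228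
import Cfsg.Agent.Lib.Helper9.TCData.X1690.S229
import Cfsg.Agent.Lib.Helper9.TCData.X1690.S230
import Cfsg.Agent.Lib.Helper9.TCData.X1690.S231
import Cfsg.Agent.Lib.Helper9.TCData.X1690.S232
import Cfsg.Agent.Lib.Helper9.TCData.X1690.S233
import Cfsg.Agent.Lib.Helper9.TCData.X1690.S234
import Cfsg.Agent.Lib.Helper9.TCData.X1690.S235
import Cfsg.Agent.Lib.Helper9.TCData.X1690.S236
import Cfsg.Agent.Lib.Helper9.TCData.X1690.S237
import Cfsg.Agent.Lib.Helper9.TCData.X1690.S238
import Cfsg.Agent.Lib.Helper9.TCData.X1690.S239
import Cfsg.Agent.Lib.Helper9.TCData.X1690.S240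
import Cfsg.Agent.Lib.Helper9.TCData.X1690.S241
import Cfsg.Agent.Lib.Helper9.TCData.X1690.S242
import Cfsg.Agent.Lib.Helper9.TCData.X1690.S243
import Cfsg.Agent.Lib.Helper9.TCData.X1690.S244
import Cfsg.Agent.Lib.Helper9.TCData.X1690.S245
import Cfsg.Agent.Lib.Helper9.TCData.X1690.S246
import Cfsg.Agent.Lib.Helper9.TCData.X1690.S247
import Cfsg.Agent.Lib.Helper9.TCData.X1690.S248
import Cfsg.Agent.Lib.Helper9.TCData.X1690.S249
import Cfsg.Agent.Lib.Helper9.TCData.X1690.S250
import Cfsg.Agent.Lib.Helper9.TCData.X1690.S251
import Cfsg.Agent.Lib.Helper9.TCData.X1690.S252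
import Cfsg.Agent.Lib.Helper9.TCData.X1690.S253
import Cfsg.Agent.Lib.Helper9.TCData.X1690.S254
import Cfsg.Agent.Lib.Helper9.TCData.X1690.S255
import Cfsg.Agent.Lib.Helper9.TCData.X1690.S256
import Cfsg.Agent.Lib.Helper9.TCData.X1690.S257
import Cfsg.Agent.Lib.Helper9.TCData.X1690.S258
import Cfsg.Agent.Lib.Helper9.TCData.X1690.S259
import Cfsg.Agent.Lib.Helper9.TCData.X1690.S260
import Cfsg.Agent.Lib.Helper9.TCData.X1690.S261
import Cfsg.Agent.Lib.Helper9.TCData.X1690.S262
import Cfsg.Agent.Lib.Helper9.TCData.X1690.S263
import Cfsg.Agent.Lib.Helper9.TCData.X1690.S264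
import Cfsg.Agent.Lib.Helper9.TCData.X1690.S265
import Cfsg.Agent.Lib.Helper9.TCData.X1690.S266
import Cfsg.Agent.Lib.Helper9.TCData.X1690.S267
import Cfsg.Agent.Lib.Helper9.TCData.X1690.S268
import Cfsg.Agent.Lib.Helper9.TCData.X1690.S269
import Cfsg.Agent.Lib.Helper9.TCData.X1690.S270
import Cfsg.Agent.Lib.Helper9.TCData.X1690.S271
import Cfsg.Agent.Lib.Helper9.TCData.X1690.S272
import Cfsg.Agent.Lib.Helper9.TCData.X1690.S273
import Cfsg.Agent.Lib.Helper9.TCData.X1690.S274
import Cfsg.Agent.Lib.Helper9.TCData.X1690.S275
import Cfsg.Agent.Lib.Helper9.TCData.X1690.S276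
import Cfsg.Agent.Lib.Helper9.TCData.X1690.S277
import Cfsg.Agent.Lib.Helper9.TCData.X1690.S278
import Cfsg.Agent.Lib.Helper9.TCData.X1690.S279
import Cfsg.Agent.Lib.Helper9.TCData.X1690.S280
import Cfsg.Agent.Lib.Helper9.TCData.X1690.S281
import Cfsg.Agent.Lib.Helper9.TCData.X1690.S282
import Cfsg.Agent.Lib.Helper9.TCData.X1690.S283
import Cfsg.Agent.Lib.Helper9.TCData.X1690.S284
import Cfsg.Agent.Lib.Helper9.TCData.X1690.S285
import Cfsg.Agent.Lib.Helper9.TCData.X1690.S286
import Cfsg.Agent.Lib.Helper9.TCData.X1690.S287
import Cfsg.Agent.Lib.Helper9.TCData.X1690.S288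
import Cfsg.Agent.Lib.Helper9.TCData.X1690.S289
import Cfsg.Agent.Lib.Helper9.TCData.X1690.S290
import Cfsg.Agent.Lib.Helper9.TCData.X1690.S291
import Cfsg.Agent.Lib.Helper9.TCData.X1690.S292
import Cfsg.Agent.Lib.Helper9.TCData.X1690.S293
import Cfsg.Agent.Lib.Helper9.TCData.X1690.S294
import Cfsg.Agent.Lib.Helper9.TCData.X1690.S295
import Cfsg.Agent.Lib.Helper9.TCData.X1690.S296
import Cfsg.Agent.Lib.Helper9.TCData.X1690.S297
import Cfsg.Agent.Lib.Helper9.TCData.X1690.S298
import Cfsg.Agent.Lib.Helper9.TCData.X1690.S299
import Cfsg.Agent.Lib.Helper9.TCData.X1690.S300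
import Cfsg.Agent.Lib.Helper9.TCData.X1690.S301
import Cfsg.Agent.Lib.Helper9.TCData.X1690.S302
import Cfsg.Agent.Lib.Helper9.TCData.X1690.S303
import Cfsg.Agent.Lib.Helper9.TCData.X1690.S304
import Cfsg.Agent.Lib.Helper9.TCData.X1690.S305
import Cfsg.Agent.Lib.Helper9.TCData.X1690.S306
import Cfsg.Agent.Lib.Helper9.TCData.X1690.S307
import Cfsg.Agent.Lib.Helper9.TCData.X1690.S308
import Cfsg.Agent.Lib.Helper9.TCData.X1690.S309
import Cfsg.Agent.Lib.Helper9.TCData.X1690.S310
import Cfsg.Agent.Lib.Helper9.TCData.X1690.S311
import Cfsg.Agent.Lib.Helper9.TCData.X1690.S312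
import Cfsg.Agent.Lib.Helper9.TCData.X1690.S313
import Cfsg.Agent.Lib.Helper9.TCData.X1690.S314
import Cfsg.Agent.Lib.Helper9.TCData.X1690.S315
import Cfsg.Agent.Lib.Helper9.TCData.X1690.S316
import Cfsg.Agent.Lib.Helper9.TCData.X1690.S317
import Cfsg.Agent.Lib.Helper9.TCData.X1690.S318
import Cfsg.Agent.Lib.Helper9.TCData.X1690.S319
import Cfsg.Agent.Lib.Helper9.TCData.X1690.S320
import Cfsg.Agent.Lib.Helper9.TCData.X1690.S321
import Cfsg.Agent.Lib.Helper9.TCData.X1690.S322
import Cfsg.Agent.Lib.Helper9.TCData.X1690.S323
import Cfsg.Agent.Lib.Helper9.TCData.X1690.S324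
import Cfsg.Agent.Lib.Helper9.TCData.X1690.S325
import Cfsg.Agent.Lib.Helper9.TCData.X1690.S326
import Cfsg.Agent.Lib.Helper9.TCData.X1690.S327
import Cfsg.Agent.Lib.Helper9.TCData.X1690.S328
import Cfsg.Agent.Lib.Helper9.TCData.X1690.S329
import Cfsg.Agent.Lib.Helper9.TCData.X1690.S330
import Cfsg.Agent.Lib.Helper9.TCData.X1690.S331
import Cfsg.Agent.Lib.Helper9.TCData.X1690.S332
import Cfsg.Agent.Lib.Helper9.TCData.X1690.S333
import Cfsg.Agent.Lib.Helper9.TCData.X1690.S334
import Cfsg.Agent.Lib.Helper9.TCData.X1690.S335
import Cfsg.Agent.Lib.Helper9.TCData.X1690.S336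
import Cfsg.Agent.Lib.Helper9.TCData.X1690.S337
import Cfsg.Agent.Lib.Helper9.TCData.X1690.S338
import Cfsg.Agent.Lib.Helper9.TCData.X1690.S339
import Cfsg.Agent.Lib.Helper9.TCData.X1690.S340
import Cfsg.Agent.Lib.Helper9.TCData.X1690.S341
import Cfsg.Agent.Lib.Helper9.TCData.X1690.S342
import Cfsg.Agent.Lib.Helper9.TCData.X1690.S343
import Cfsg.Agent.Lib.Helper9.TCData.X1690.S344
import Cfsg.Agent.Lib.Helper9.TCData.X1690.S345
import Cfsg.Agent.Lib.Helper9.TCData.X1690.S346
import Cfsg.Agent.Lib.Helper9.TCData.X1690.S347
import Cfsg.Agent.Lib.Helper9.TCData.X1690.S348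
import Cfsg.Agent.Lib.Helper9.TCData.X1690.S349
import Cfsg.Agent.Lib.Helper9.TCData.X1690.S350
import Cfsg.Agent.Lib.Helper9.TCData.X1690.S351
import Cfsg.Agent.Lib.Helper9.TCData.X1690.S352
import Cfsg.Agent.Lib.Helper9.TCData.X1690.S353
import Cfsg.Agent.Lib.Helper9.TCData.X1690.S354
import Cfsg.Agent.Lib.Helper9.TCData.X1690.S355
import Cfsg.Agent.Lib.Helper9.TCData.X1690.S356
import Cfsg.Agent.Lib.Helper9.TCData.X1690.S357
import Cfsg.Agent.Lib.Helper9.TCData.X1690.S358
import Cfsg.Agent.Lib.Helper9.TCData.X1690.S359
import Cfsg.Agent.Lib.Helper9.TCData.X1690.S360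
import Cfsg.Agent.Lib.Helper9.TCData.X1690.S361
import Cfsg.Agent.Lib.Helper9.TCData.X1690.S362
import Cfsg.Agent.Lib.Helper9.TCData.X1690.S363
import Cfsg.Agent.Lib.Helper9.TCData.X1690.S364
import Cfsg.Agent.Lib.Helper9.TCData.X1690.S365
import Cfsg.Agent.Lib.Helper9.TCData.X1690.S366
import Cfsg.Agent.Lib.Helper9.TCData.X1690.S367
import Cfsg.Agent.Lib.Helper9.TCData.X1690.S368
import Cfsg.Agent.Lib.Helper9.TCData.X1690.S369
import Cfsg.Agent.Lib.Helper9.TCData.X1690.S370
import Cfsg.Agent.Lib.Helper9.TCData.X1690.S371
import Cfsg.Agent.Lib.Helper9.TCData.X1690.S372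
import Cfsg.Agent.Lib.Helper9.TCData.X1690.S373
import Cfsg.Agent.Lib.Helper9.TCData.X1690.S374
import Cfsg.Agent.Lib.Helper9.TCData.X1690.S375
import Cfsg.Agent.Lib.Helper9.TCData.X1690.S376
import Cfsg.Agent.Lib.Helper9.TCData.X1690.S377
import Cfsg.Agent.Lib.Helper9.TCData.X1690.S378
import Cfsg.Agent.Lib.Helper9.TCData.X1690.S379
import Cfsg.Agent.Lib.Helper9.TCData.X1690.S380
import Cfsg.Agent.Lib.Helper9.TCData.X1690.S381
import Cfsg.Agent.Lib.Helper9.TCData.X1690.S382
import Cfsg.Agent.Lib.Helper9.TCData.X1690.S383
import Cfsg.Agent.Lib.Helper9.TCData.X1690.S384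
import Cfsg.Agent.Lib.Helper9.TCData.X1690.S385
import Cfsg.Agent.Lib.Helper9.TCData.X1690.S386
import Cfsg.Agent.Lib.Helper9.TCData.X1690.S387
import Cfsg.Agent.Lib.Helper9.TCData.X1690.S388
import Cfsg.Agent.Lib.Helper9.TCData.X1690.S389
import Cfsg.Agent.Lib.Helper9.TCData.X1690.S390
import Cfsg.Agent.Lib.Helper9.TCData.X1690.S391
import Cfsg.Agent.Lib.Helper9.TCData.X1690.S392
import Cfsg.Agent.Lib.Helper9.TCData.X1690.S393
import Cfsg.Agent.Lib.Helper9.TCData.X1690.S394
import Cfsg.Agent.Lib.Helper9.TCData.X1690.S395
import Cfsg.Agent.Lib.Helper9.TCData.X1690.S396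
import Cfsg.Agent.Lib.Helper9.TCData.X1690.S397
import Cfsg.Agent.Lib.Helper9.TCData.X1690.S398
import Cfsg.Agent.Lib.Helper9.TCData.X1690.S399
import Cfsg.Agent.Lib.Helper9.TCData.X1690.S400
import Cfsg.Agent.Lib.Helper9.TCData.X1690.S401
import Cfsg.Agent.Lib.Helper9.TCData.X1690.S402
import Cfsg.Agent.Lib.Helper9.TCData.X1690.S403
import Cfsg.Agent.Lib.Helper9.TCData.X1690.S404
import Cfsg.Agent.Lib.Helper9.TCData.X1690.S405
import Cfsg.Agent.Lib.Helper9.TCData.X1690.S406
import Cfsg.Agent.Lib.Helper9.TCData.X1690.S407
import Cfsg.Agent.Lib.Helper9.TCData.X1690.S408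
import Cfsg.Agent.Lib.Helper9.TCData.X1690.S409
import Cfsg.Agent.Lib.Helper9.TCData.X1690.S410
import Cfsg.Agent.Lib.Helper9.TCData.X1690.S411
import Cfsg.Agent.Lib.Helper9.TCData.X1690.S412
import Cfsg.Agent.Lib.Helper9.TCData.X1690.S413
import Cfsg.Agent.Lib.Helper9.TCData.X1690.S414
import Cfsg.Agent.Lib.Helper9.TCData.X1690.S415
import Cfsg.Agent.Lib.Helper9.TCData.X1690.S416
import Cfsg.Agent.Lib.Helper9.TCData.X1690.S417
import Cfsg.Agent.Lib.Helper9.TCData.X1690.S418
import Cfsg.Agent.Lib.Helper9.TCData.X1690.S419
import Cfsg.Agent.Lib.Helper9.TCData.X1690.S420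
import Cfsg.Agent.Lib.Helper9.TCData.X1690.S421
import Cfsg.Agent.Lib.Helper9.TCData.X1690.S422
import Cfsg.Agent.Lib.Helper9.TCData.X1690.S423
import Cfsg.Agent.Lib.Helper9.TCData.X1690.S424
import Cfsg.Agent.Lib.Helper9.TCData.X1690.S425
import Cfsg.Agent.Lib.Helper9.TCData.X1690.S426
import Cfsg.Agent.Lib.Helper9.TCData.X1690.S427
import Cfsg.Agent.Lib.Helper9.TCData.X1690.S428
import Cfsg.Agent.Lib.Helper9.TCData.X1690.S429
import Cfsg.Agent.Lib.Helper9.TCData.X1690.S430
import Cfsg.Agent.Lib.Helper9.TCData.X1690.S431
import Cfsg.Agent.Lib.Helper9.TCData.X1690.S432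
import Cfsg.Agent.Lib.Helper9.TCData.X1690.S433
import Cfsg.Agent.Lib.Helper9.TCData.X1690.S434
import Cfsg.Agent.Lib.Helper9.TCData.X1690.S435
import Cfsg.Agent.Lib.Helper9.TCData.X1690.S436
import Cfsg.Agent.Lib.Helper9.TCData.X1690.S437
import Cfsg.Agent.Lib.Helper9.TCData.X1690.S438
import Cfsg.Agent.Lib.Helper9.TCData.X1690.S439
import Cfsg.Agent.Lib.Helper9.TCData.X1690.S440
import Cfsg.Agent.Lib.Helper9.TCData.X1690.S441
import Cfsg.Agent.Lib.Helper9.TCData.X1690.S442
import Cfsg.Agent.Lib.Helper9.TCData.X1690.S443
import Cfsg.Agent.Lib.Helper9.TCData.X1690.S444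
import Cfsg.Agent.Lib.Helper9.TCData.X1690.S445
import Cfsg.Agent.Lib.Helper9.TCData.X1690.S446
import Cfsg.Agent.Lib.Helper9.TCData.X1690.S447
import Cfsg.Agent.Lib.Helper9.TCData.X1690.S448
import Cfsg.Agent.Lib.Helper9.TCData.X1690.S449
import Cfsg.Agent.Lib.Helper9.TCData.X1690.S450
import Cfsg.Agent.Lib.Helper9.TCData.X1690.S451
import Cfsg.Agent.Lib.Helper9.TCData.X1690.S452
import Cfsg.Agent.Lib.Helper9.TCData.X1690.S453
import Cfsg.Agent.Lib.Helper9.TCData.X1690.S454
import Cfsg.Agent.Lib.Helper9.TCData.X1690.S455
import Cfsg.Agent.Lib.Helper9.TCData.X1690.S456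
import Cfsg.Agent.Lib.Helper9.TCData.X1690.S457
import Cfsg.Agent.Lib.Helper9.TCData.X1690.S458
import Cfsg.Agent.Lib.Helper9.TCData.X1690.S459
import Cfsg.Agent.Lib.Helper9.TCData.X1690.S460
import Cfsg.Agent.Lib.Helper9.TCData.X1690.S461
import Cfsg.Agent.Lib.Helper9.TCData.X1690.S462
import Cfsg.Agent.Lib.Helper9.TCData.X1690.S463
import Cfsg.Agent.Lib.Helper9.TCData.X1690.S464
import Cfsg.Agent.Lib.Helper9.TCData.X1690.S465
import Cfsg.Agent.Lib.Helper9.TCData.X1690.S466
import Cfsg.Agent.Lib.Helper9.TCData.X1690.S467
import Cfsg.Agent.Lib.Helper9.TCData.X1690.S468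
import Cfsg.Agent.Lib.Helper9.TCData.X1690.S469
import Cfsg.Agent.Lib.Helper9.TCData.X1690.S470
import Cfsg.Agent.Lib.Helper9.TCData.X1690.S471
import Cfsg.Agent.Lib.Helper9.TCData.X1690.S472
import Cfsg.Agent.Lib.Helper9.TCData.X1690.S473
import Cfsg.Agent.Lib.Helper9.TCData.X1690.S474
import Cfsg.Agent.Lib.Helper9.TCData.X1690.S475
import Cfsg.Agent.Lib.Helper9.TCData.X1690.S476
import Cfsg.Agent.Lib.Helper9.TCData.X1690.S477
import Cfsg.Agent.Lib.Helper9.TCData.X1690.S478
import Cfsg.Agent.Lib.Helper9.TCData.X1690.S479
import Cfsg.Agent.Lib.Helper9.TCData.X1690.S480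
import Cfsg.Agent.Lib.Helper9.TCData.X1690.S481
import Cfsg.Agent.Lib.Helper9.TCData.X1690.S482
import Cfsg.Agent.Lib.Helper9.TCData.X1690.S483
import Cfsg.Agent.Lib.Helper9.TCData.X1690.S484
import Cfsg.Agent.Lib.Helper9.TCData.X1690.S485
import Cfsg.Agent.Lib.Helper9.TCData.X1690.S486
import Cfsg.Agent.Lib.Helper9.TCData.X1690.S487
import Cfsg.Agent.Lib.Helper9.TCData.X1690.S488
import Cfsg.Agent.Lib.Helper9.TCData.X1690.S489
import Cfsg.Agent.Lib.Helper9.TCData.X1690.S490
import Cfsg.Agent.Lib.Helper9.TCData.X1690.S491
import Cfsg.Agent.Lib.Helper9.TCData.X1690.S492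
import Cfsg.Agent.Lib.Helper9.TCData.X1690.S493
import Cfsg.Agent.Lib.Helper9.TCData.X1690.S494
import Cfsg.Agent.Lib.Helper9.TCData.X1690.S495
import Cfsg.Agent.Lib.Helper9.TCData.X1690.S496
import Cfsg.Agent.Lib.Helper9.TCData.X1690.S497
import Cfsg.Agent.Lib.Helper9.TCData.X1690.S498
import Cfsg.Agent.Lib.Helper9.TCData.X1690.S499
import Cfsg.Agent.Lib.Helper9.TCData.X1690.S500
import Cfsg.Agent.Lib.Helper9.TCData.X1690.S501
import Cfsg.Agent.Lib.Helper9.TCData.X1690.S502
import Cfsg.Agent.Lib.Helper9.TCData.X1690.S503
import Cfsg.Agent.Lib.Helper9.TCData.X1690.S504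
import Cfsg.Agent.Lib.Helper9.TCData.X1690.S505
import Cfsg.Agent.Lib.Helper9.TCData.X1690.S506
import Cfsg.Agent.Lib.Helper9.TCData.X1690.S507
import Cfsg.Agent.Lib.Helper9.TCData.X1690.S508
import Cfsg.Agent.Lib.Helper9.TCData.X1690.S509
import Cfsg.Agent.Lib.Helper9.TCData.X1690.S510
import Cfsg.Agent.Lib.Helper9.TCData.X1690.S511
import Cfsg.Agent.Lib.Helper9.TCData.X1690.S512
import Cfsg.Agent.Lib.Helper9.TCData.X1690.S513
import Cfsg.Agent.Lib.Helper9.TCData.X1690.S514
import Cfsg.Agent.Lib.Helper9.TCData.X1690.S515
import Cfsg.Agent.Lib.Helper9.TCData.X1690.S516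
import Cfsg.Agent.Lib.Helper9.TCData.X1690.S517
import Cfsg.Agent.Lib.Helper9.TCData.X1690.S518
import Cfsg.Agent.Lib.Helper9.TCData.X1690.S519
import Cfsg.Agent.Lib.Helper9.TCData.X1690.S520
import Cfsg.Agent.Lib.Helper9.TCData.X1690.S521
import Cfsg.Agent.Lib.Helper9.TCData.X1690.S522
import Cfsg.Agent.Lib.Helper9.TCData.X1690.S523
import Cfsg.Agent.Lib.Helper9.TCData.X1690.S524
import Cfsg.Agent.Lib.Helper9.TCData.X1690.S525
import Cfsg.Agent.Lib.Helper9.TCData.X1690.S526
import Cfsg.Agent.Lib.Helper9.TCData.X1690.S527
import Cfsg.Agent.Lib.Helper9.TCData.X1690.S528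
import Cfsg.Agent.Lib.Helper9.TCData.X1690.S529
import Cfsg.Agent.Lib.Helper9.TCData.X1690.S530
import Cfsg.Agent.Lib.Helper9.TCData.X1690.S531
import Cfsg.Agent.Lib.Helper9.TCData.X1690.S532
import Cfsg.Agent.Lib.Helper9.TCData.X1690.S533
import Cfsg.Agent.Lib.Helper9.TCData.X1690.S534
import Cfsg.Agent.Lib.Helper9.TCData.X1690.S535
import Cfsg.Agent.Lib.Helper9.TCData.X1690.S536
import Cfsg.Agent.Lib.Helper9.TCData.X1690.S537
import Cfsg.Agent.Lib.Helper9.TCData.X1690.S538
import Cfsg.Agent.Lib.Helper9.TCData.X1690.S539
import Cfsg.Agent.Lib.Helper9.TCData.X1690.S540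
import Cfsg.Agent.Lib.Helper9.TCData.X1690.S541
import Cfsg.Agent.Lib.Helper9.TCData.X1690.S542
import Cfsg.Agent.Lib.Helper9.TCData.X1690.S543
import Cfsg.Agent.Lib.Helper9.TCData.X1690.S544
import Cfsg.Agent.Lib.Helper9.TCData.X1690.S545
import Cfsg.Agent.Lib.Helper9.TCData.X1690.S546
import Cfsg.Agent.Lib.Helper9.TCData.X1690.S547
import Cfsg.Agent.Lib.Helper9.TCData.X1690.S548
import Cfsg.Agent.Lib.Helper9.TCData.X1690.S549
import Cfsg.Agent.Lib.Helper9.TCData.X1690.S550
import Cfsg.Agent.Lib.Helper9.TCData.X1690.S551
import Cfsg.Agent.Lib.Helper9.TCData.X1690.S552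
import Cfsg.Agent.Lib.Helper9.TCData.X1690.S553
import Cfsg.Agent.Lib.Helper9.TCData.X1690.S554
import Cfsg.Agent.Lib.Helper9.TCData.X1690.S555
import Cfsg.Agent.Lib.Helper9.TCData.X1690.S556
import Cfsg.Agent.Lib.Helper9.TCData.X1690.S557
import Cfsg.Agent.Lib.Helper9.TCData.X1690.S558
import Cfsg.Agent.Lib.Helper9.TCData.X1690.S559
import Cfsg.Agent.Lib.Helper9.TCData.X1690.S560
import Cfsg.Agent.Lib.Helper9.TCData.X1690.S561
import Cfsg.Agent.Lib.Helper9.TCData.X1690.S562
import Cfsg.Agent.Lib.Helper9.TCData.X1690.S563
import Cfsg.Agent.Lib.Helper9.TCData.X1690.S564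
import Cfsg.Agent.Lib.Helper9.TCData.X1690.S565
import Cfsg.Agent.Lib.Helper9.TCData.X1690.S566
import Cfsg.Agent.Lib.Helper9.TCData.X1690.S567
import Cfsg.Agent.Lib.Helper9.TCData.X1690.S568
import Cfsg.Agent.Lib.Helper9.TCData.X1690.S569
import Cfsg.Agent.Lib.Helper9.TCData.X1690.S570
import Cfsg.Agent.Lib.Helper9.TCData.X1690.S571
import Cfsg.Agent.Lib.Helper9.TCData.X1690.S572
import Cfsg.Agent.Lib.Helper9.TCData.X1690.S573
import Cfsg.Agent.Lib.Helper9.TCData.X1690.S574
import Cfsg.Agent.Lib.Helper9.TCData.X1690.S575
import Cfsg.Agent.Lib.Helper9.TCData.X1690.S576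
import Cfsg.Agent.Lib.Helper9.TCData.X1690.S577
import Cfsg.Agent.Lib.Helper9.TCData.X1690.S578
import Cfsg.Agent.Lib.Helper9.TCData.X1690.S579
import Cfsg.Agent.Lib.Helper9.TCData.X1690.S580
import Cfsg.Agent.Lib.Helper9.TCData.X1690.S581
import Cfsg.Agent.Lib.Helper9.TCData.X1690.S582
import Cfsg.Agent.Lib.Helper9.TCData.X1690.S583
import Cfsg.Agent.Lib.Helper9.TCData.X1690.S584
import Cfsg.Agent.Lib.Helper9.TCData.X1690.S585
import Cfsg.Agent.Lib.Helper9.TCData.X1690.S586
import Cfsg.Agent.Lib.Helper9.TCData.X1690.S587
import Cfsg.Agent.Lib.Helper9.TCData.X1690.S588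
import Cfsg.Agent.Lib.Helper9.TCData.X1690.S589
import Cfsg.Agent.Lib.Helper9.TCData.X1690.S590
import Cfsg.Agent.Lib.Helper9.TCData.X1690.S591
import Cfsg.Agent.Lib.Helper9.TCData.X1690.S592
import Cfsg.Agent.Lib.Helper9.TCData.X1690.S593
import Cfsg.Agent.Lib.Helper9.TCData.X1690.S594
import Cfsg.Agent.Lib.Helper9.TCData.X1690.S595
import Cfsg.Agent.Lib.Helper9.TCData.X1690.S596
import Cfsg.Agent.Lib.Helper9.TCData.X1690.S597
import Cfsg.Agent.Lib.Helper9.TCData.X1690.S598
import Cfsg.Agent.Lib.Helper9.TCData.X1690.S599
import Cfsg.Agent.Lib.Helper9.TCData.X1690.S600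
import Cfsg.Agent.Lib.Helper9.TCData.X1690.S601
import Cfsg.Agent.Lib.Helper9.TCData.X1690.S602
import Cfsg.Agent.Lib.Helper9.TCData.X1690.S603
import Cfsg.Agent.Lib.Helper9.TCData.X1690.S604
import Cfsg.Agent.Lib.Helper9.TCData.X1690.S605
import Cfsg.Agent.Lib.Helper9.TCData.X1690.S606
import Cfsg.Agent.Lib.Helper9.TCData.X1690.S607
import Cfsg.Agent.Lib.Helper9.TCData.X1690.S608
import Cfsg.Agent.Lib.Helper9.TCData.X1690.S609
import Cfsg.Agent.Lib.Helper9.TCData.X1690.S610
import Cfsg.Agent.Lib.Helper9.TCData.X1690.S611
import Cfsg.Agent.Lib.Helper9.TCData.X1690.S612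
import Cfsg.Agent.Lib.Helper9.TCData.X1690.S613
import Cfsg.Agent.Lib.Helper9.TCData.X1690.S614
import Cfsg.Agent.Lib.Helper9.TCData.X1690.S615
import Cfsg.Agent.Lib.Helper9.TCData.X1690.S616
import Cfsg.Agent.Lib.Helper9.TCData.X1690.S617
import Cfsg.Agent.Lib.Helper9.TCData.X1690.S618
import Cfsg.Agent.Lib.Helper9.TCData.X1690.S619
import Cfsg.Agent.Lib.Helper9.TCData.X1690.S620
import Cfsg.Agent.Lib.Helper9.TCData.X1690.S621
import Cfsg.Agent.Lib.Helper9.TCData.X1690.S622
import Cfsg.Agent.Lib.Helper9.TCData.X1690.S623
import Cfsg.Agent.Lib.Helper9.TCData.X1690.S624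
import Cfsg.Agent.Lib.Helper9.TCData.X1690.S625
import Cfsg.Agent.Lib.Helper9.TCData.X1690.S626
import Cfsg.Agent.Lib.Helper9.TCData.X1690.S627
import Cfsg.Agent.Lib.Helper9.TCData.X1690.S628
import Cfsg.Agent.Lib.Helper9.TCData.X1690.S629
import Cfsg.Agent.Lib.Helper9.TCData.X1690.S630
import Cfsg.Agent.Lib.Helper9.TCData.X1690.S631
import Cfsg.Agent.Lib.Helper9.TCData.X1690.S632
import Cfsg.Agent.Lib.Helper9.TCData.X1690.S633
import Cfsg.Agent.Lib.Helper9.TCData.X1690.S634
import Cfsg.Agent.Lib.Helper9.TCData.X1690.S635
import Cfsg.Agent.Lib.Helper9.TCData.X1690.S636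
import Cfsg.Agent.Lib.Helper9.TCData.X1690.S637
import Cfsg.Agent.Lib.Helper9.TCData.X1690.S638
import Cfsg.Agent.Lib.Helper9.TCData.X1690.S639
import Cfsg.Agent.Lib.Helper9.TCData.X1690.S640
import Cfsg.Agent.Lib.Helper9.TCData.X1690.S641
import Cfsg.Agent.Lib.Helper9.TCData.X1690.S642
import Cfsg.Agent.Lib.Helper9.TCData.X1690.S643
import Cfsg.Agent.Lib.Helper9.TCData.X1690.S644
import Cfsg.Agent.Lib.Helper9.TCData.X1690.S645
import Cfsg.Agent.Lib.Helper9.TCData.X1690.S646
import Cfsg.Agent.Lib.Helper9.TCData.X1690.S647
import Cfsg.Agent.Lib.Helper9.TCData.X1690.S648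
import Cfsg.Agent.Lib.Helper9.TCData.X1690.S649
import Cfsg.Agent.Lib.Helper9.TCData.X1690.S650
import Cfsg.Agent.Lib.Helper9.TCData.X1690.S651
import Cfsg.Agent.Lib.Helper9.TCData.X1690.S652
import Cfsg.Agent.Lib.Helper9.TCData.X1690.S653
import Cfsg.Agent.Lib.Helper9.TCData.X1690.S654
import Cfsg.Agent.Lib.Helper9.TCData.X1690.S655
import Cfsg.Agent.Lib.Helper9.TCData.X1690.S656
import Cfsg.Agent.Lib.Helper9.TCData.X1690.S657
import Cfsg.Agent.Lib.Helper9.TCData.X1690.S658
import Cfsg.Agent.Lib.Helper9.TCData.X1690.S659
import Cfsg.Agent.Lib.Helper9.TCData.X1690.S660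
import Cfsg.Agent.Lib.Helper9.TCData.X1690.S661
import Cfsg.Agent.Lib.Helper9.TCData.X1690.S662
import Cfsg.Agent.Lib.Helper9.TCData.X1690.S663
import Cfsg.Agent.Lib.Helper9.TCData.X1690.S664
import Cfsg.Agent.Lib.Helper9.TCData.X1690.S665
import Cfsg.Agent.Lib.Helper9.TCData.X1690.S666
import Cfsg.Agent.Lib.Helper9.TCData.X1690.S667
import Cfsg.Agent.Lib.Helper9.TCData.X1690.S668
import Cfsg.Agent.Lib.Helper9.TCData.X1690.S669
import Cfsg.Agent.Lib.Helper9.TCData.X1690.S670
import Cfsg.Agent.Lib.Helper9.TCData.X1690.S671
import Cfsg.Agent.Lib.Helper9.TCData.X1690.S672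
import Cfsg.Agent.Lib.Helper9.TCData.X1690.S673
import Cfsg.Agent.Lib.Helper9.TCData.X1690.S674
import Cfsg.Agent.Lib.Helper9.TCData.X1690.S675
import Cfsg.Agent.Lib.Helper9.TCData.X1690.S676
import Cfsg.Agent.Lib.Helper9.TCData.X1690.S677
import Cfsg.Agent.Lib.Helper9.TCData.X1690.S678
import Cfsg.Agent.Lib.Helper9.TCData.X1690.S679
import Cfsg.Agent.Lib.Helper9.TCData.X1690.S680
import Cfsg.Agent.Lib.Helper9.TCData.X1690.S681
import Cfsg.Agent.Lib.Helper9.TCData.X1690.S682
import Cfsg.Agent.Lib.Helper9.TCData.X1690.S683
import Cfsg.Agent.Lib.Helper9.TCData.X1690.S684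
import Cfsg.Agent.Lib.Helper9.TCData.X1690.S685
import Cfsg.Agent.Lib.Helper9.TCData.X1690.S686
import Cfsg.Agent.Lib.Helper9.TCData.X1690.S687
import Cfsg.Agent.Lib.Helper9.TCData.X1690.S688
import Cfsg.Agent.Lib.Helper9.TCData.X1690.S689
import Cfsg.Agent.Lib.Helper9.TCData.X1690.S690
import Cfsg.Agent.Lib.Helper9.TCData.X1690.S691
import Cfsg.Agent.Lib.Helper9.TCData.X1690.S692
import Cfsg.Agent.Lib.Helper9.TCData.X1690.S693
import Cfsg.Agent.Lib.Helper9.TCData.X1690.S694
import Cfsg.Agent.Lib.Helper9.TCData.X1690.S695
import Cfsg.Agent.Lib.Helper9.TCData.X1690.S696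
import Cfsg.Agent.Lib.Helper9.TCData.X1690.S697
import Cfsg.Agent.Lib.Helper9.TCData.X1690.S698
import Cfsg.Agent.Lib.Helper9.TCData.X1690.S699
import Cfsg.Agent.Lib.Helper9.TCData.X1690.S700
import Cfsg.Agent.Lib.Helper9.TCData.X1690.S701
import Cfsg.Agent.Lib.Helper9.TCData.X1690.S702
import Cfsg.Agent.Lib.Helper9.TCData.X1690.S703
import Cfsg.Agent.Lib.Helper9.TCData.X1690.S704
import Cfsg.Agent.Lib.Helper9.TCData.X1690.S705
import Cfsg.Agent.Lib.Helper9.TCData.X1690.S706
import Cfsg.Agent.Lib.Helper9.TCData.X1690.S707
import Cfsg.Agent.Lib.Helper9.TCData.X1690.S708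
import Cfsg.Agent.Lib.Helper9.TCData.X1690.S709
import Cfsg.Agent.Lib.Helper9.TCData.X1690.S710
import Cfsg.Agent.Lib.Helper9.TCData.X1690.S711
import Cfsg.Agent.Lib.Helper9.TCData.X1690.S712
import Cfsg.Agent.Lib.Helper9.TCData.X1690.S713
import Cfsg.Agent.Lib.Helper9.TCData.X1690.S714
import Cfsg.Agent.Lib.Helper9.TCData.X1690.S715
import Cfsg.Agent.Lib.Helper9.TCData.X1690.S716
import Cfsg.Agent.Lib.Helper9.TCData.X1690.S717
import Cfsg.Agent.Lib.Helper9.TCData.X1690.S718
import Cfsg.Agent.Lib.Helper9.TCData.X1690.S719
import Cfsg.Agent.Lib.Helper9.TCData.X1690.S720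
import Cfsg.Agent.Lib.Helper9.TCData.X1690.S721
import Cfsg.Agent.Lib.Helper9.TCData.X1690.S722
import Cfsg.Agent.Lib.Helper9.TCData.X1690.S723
import Cfsg.Agent.Lib.Helper9.TCData.X1690.S724
import Cfsg.Agent.Lib.Helper9.TCData.X1690.S725
import Cfsg.Agent.Lib.Helper9.TCData.X1690.S726
import Cfsg.Agent.Lib.Helper9.TCData.X1690.S727
import Cfsg.Agent.Lib.Helper9.TCData.X1690.S728
import Cfsg.Agent.Lib.Helper9.TCData.X1690.S729
import Cfsg.Agent.Lib.Helper9.TCData.X1690.S730
import Cfsg.Agent.Lib.Helper9.TCData.X1690.S731
import Cfsg.Agent.Lib.Helper9.TCData.X1690.S732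
import Cfsg.Agent.Lib.Helper9.TCData.X1690.S733
import Cfsg.Agent.Lib.Helper9.TCData.X1690.S734
import Cfsg.Agent.Lib.Helper9.TCData.X1690.S735
import Cfsg.Agent.Lib.Helper9.TCData.X1690.S736
import Cfsg.Agent.Lib.Helper9.TCData.X1690.S737
import Cfsg.Agent.Lib.Helper9.TCData.X1690.S738
import Cfsg.Agent.Lib.Helper9.TCData.X1690.S739
import Cfsg.Agent.Lib.Helper9.TCData.X1690.S740
import Cfsg.Agent.Lib.Helper9.TCData.X1690.S741
import Cfsg.Agent.Lib.Helper9.TCData.X1690.S742
import Cfsg.Agent.Lib.Helper9.TCData.X1690.S743
import Cfsg.Agent.Lib.Helper9.TCData.X1690.S744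
import Cfsg.Agent.Lib.Helper9.TCData.X1690.S745
import Cfsg.Agent.Lib.Helper9.TCData.X1690.S746
import Cfsg.Agent.Lib.Helper9.TCData.X1690.S747
import Cfsg.Agent.Lib.Helper9.TCData.X1690.S748
import Cfsg.Agent.Lib.Helper9.TCData.X1690.S749
import Cfsg.Agent.Lib.Helper9.TCData.X1690.S750
import Cfsg.Agent.Lib.Helper9.TCData.X1690.S751
import Cfsg.Agent.Lib.Helper9.TCData.X1690.S752
import Cfsg.Agent.Lib.Helper9.TCData.X1690.S753
import Cfsg.Agent.Lib.Helper9.TCData.X1690.S754
import Cfsg.Agent.Lib.Helper9.TCData.X1690.S755
import Cfsg.Agent.Lib.Helper9.TCData.X1690.S756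
import Cfsg.Agent.Lib.Helper9.TCData.X1690.S757
import Cfsg.Agent.Lib.Helper9.TCData.X1690.S758
import Cfsg.Agent.Lib.Helper9.TCData.X1690.S759
import Cfsg.Agent.Lib.Helper9.TCData.X1690.S760
import Cfsg.Agent.Lib.Helper9.TCData.X1690.S761
import Cfsg.Agent.Lib.Helper9.TCData.X1690.S762
import Cfsg.Agent.Lib.Helper9.TCData.X1690.S763
import Cfsg.Agent.Lib.Helper9.TCData.X1690.S764
import Cfsg.Agent.Lib.Helper9.TCData.X1690.S765
import Cfsg.Agent.Lib.Helper9.TCData.X1690.S766
import Cfsg.Agent.Lib.Helper9.TCData.X1690.S767
import Cfsg.Agent.Lib.Helper9.TCData.X1690.S768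
import Cfsg.Agent.Lib.Helper9.TCData.X1690.S769
import Cfsg.Agent.Lib.Helper9.TCData.X1690.S770
import Cfsg.Agent.Lib.Helper9.TCData.X1690.S771
import Cfsg.Agent.Lib.Helper9.TCData.X1690.S772
import Cfsg.Agent.Lib.Helper9.TCData.X1690.S773
import Cfsg.Agent.Lib.Helper9.TCData.X1690.S774
import Cfsg.Agent.Lib.Helper9.TCData.X1690.S775
import Cfsg.Agent.Lib.Helper9.TCData.X1690.S776
import Cfsg.Agent.Lib.Helper9.TCData.X1690.S777
import Cfsg.Agent.Lib.Helper9.TCData.X1690.S778
import Cfsg.Agent.Lib.Helper9.TCData.X1690.S779
import Cfsg.Agent.Lib.Helper9.TCData.X1690.S780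
import Cfsg.Agent.Lib.Helper9.TCData.X1690.S781
import Cfsg.Agent.Lib.Helper9.TCData.X1690.S782
import Cfsg.Agent.Lib.Helper9.TCData.X1690.S783
import Cfsg.Agent.Lib.Helper9.TCData.X1690.S784
import Cfsg.Agent.Lib.Helper9.TCData.X1690.S785
import Cfsg.Agent.Lib.Helper9.TCData.X1690.S786
import Cfsg.Agent.Lib.Helper9.TCData.X1690.S787
import Cfsg.Agent.Lib.Helper9.TCData.X1690.S788
import Cfsg.Agent.Lib.Helper9.TCData.X1690.S789
import Cfsg.Agent.Lib.Helper9.TCData.X1690.S790
import Cfsg.Agent.Lib.Helper9.TCData.X1690.S791
import Cfsg.Agent.Lib.Helper9.TCData.X1690.S792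
import Cfsg.Agent.Lib.Helper9.TCData.X1690.S793
import Cfsg.Agent.Lib.Helper9.TCData.X1690.S794
import Cfsg.Agent.Lib.Helper9.TCData.X1690.S795
import Cfsg.Agent.Lib.Helper9.TCData.X1690.S796
import Cfsg.Agent.Lib.Helper9.TCData.X1690.S797
import Cfsg.Agent.Lib.Helper9.TCData.X1690.S798
import Cfsg.Agent.Lib.Helper9.TCData.X1690.S799
import Cfsg.Agent.Lib.Helper9.TCData.X1690.S800
import Cfsg.Agent.Lib.Helper9.TCData.X1690.S801
import Cfsg.Agent.Lib.Helper9.TCData.X1690.S802
import Cfsg.Agent.Lib.Helper9.TCData.X1690.S803
import Cfsg.Agent.Lib.Helper9.TCData.X1690.S804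
import Cfsg.Agent.Lib.Helper9.TCData.X1690.S805
import Cfsg.Agent.Lib.Helper9.TCData.X1690.S806
import Cfsg.Agent.Lib.Helper9.TCData.X1690.S807
import Cfsg.Agent.Lib.Helper9.TCData.X1690.S808
import Cfsg.Agent.Lib.Helper9.TCData.X1690.S809
import Cfsg.Agent.Lib.Helper9.TCData.X1690.S810
import Cfsg.Agent.Lib.Helper9.TCData.X1690.S811
import Cfsg.Agent.Lib.Helper9.TCData.X1690.S812
import Cfsg.Agent.Lib.Helper9.TCData.X1690.S813
import Cfsg.Agent.Lib.Helper9.TCData.X1690.S814
import Cfsg.Agent.Lib.Helper9.TCData.X1690.S815
import Cfsg.Agent.Lib.Helper9.TCData.X1690.S816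
import Cfsg.Agent.Lib.Helper9.TCData.X1690.S817
import Cfsg.Agent.Lib.Helper9.TCData.X1690.S818
import Cfsg.Agent.Lib.Helper9.TCData.X1690.S819
import Cfsg.Agent.Lib.Helper9.TCData.X1690.S820
import Cfsg.Agent.Lib.Helper9.TCData.X1690.S821
import Cfsg.Agent.Lib.Helper9.TCData.X1690.S822
import Cfsg.Agent.Lib.Helper9.TCData.X1690.S823
import Cfsg.Agent.Lib.Helper9.TCData.X1690.S824
import Cfsg.Agent.Lib.Helper9.TCData.X1690.S825
import Cfsg.Agent.Lib.Helper9.TCData.X1690.S826
import Cfsg.Agent.Lib.Helper9.TCData.X1690.S827
import Cfsg.Agent.Lib.Helper9.TCData.X1690.S828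
import Cfsg.Agent.Lib.Helper9.TCData.X1690.S829
import Cfsg.Agent.Lib.Helper9.TCData.X1690.S830
import Cfsg.Agent.Lib.Helper9.TCData.X1690.S831
import Cfsg.Agent.Lib.Helper9.TCData.X1690.S832
import Cfsg.Agent.Lib.Helper9.TCData.X1690.S833
import Cfsg.Agent.Lib.Helper9.TCData.X1690.S834
import Cfsg.Agent.Lib.Helper9.TCData.X1690.S835
import Cfsg.Agent.Lib.Helper9.TCData.X1690.S836
import Cfsg.Agent.Lib.Helper9.TCData.X1690.S837
import Cfsg.Agent.Lib.Helper9.TCData.X1690.S838
import Cfsg.Agent.Lib.Helper9.TCData.X1690.S839
import Cfsg.Agent.Lib.Helper9.TCData.X1690.S840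
import Cfsg.Agent.Lib.Helper9.TCData.X1690.S841
import Cfsg.Agent.Lib.Helper9.TCData.X1690.S842
import Cfsg.Agent.Lib.Helper9.TCData.X1690.S843
import Cfsg.Agent.Lib.Helper9.TCData.X1690.S844
import Cfsg.Agent.Lib.Helper9.TCData.X1690.S845
import Cfsg.Agent.Lib.Helper9.TCData.X1690.S846
import Cfsg.Agent.Lib.Helper9.TCData.X1690.S847
import Cfsg.Agent.Lib.Helper9.TCData.X1690.S848
import Cfsg.Agent.Lib.Helper9.TCData.X1690.S849
import Cfsg.Agent.Lib.Helper9.TCData.X1690.S850
import Cfsg.Agent.Lib.Helper9.TCData.X1690.S851
import Cfsg.Agent.Lib.Helper9.TCData.X1690.S852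
import Cfsg.Agent.Lib.Helper9.TCData.X1690.S853
import Cfsg.Agent.Lib.Helper9.TCData.X1690.S854
import Cfsg.Agent.Lib.Helper9.TCData.X1690.S855
import Cfsg.Agent.Lib.Helper9.TCData.X1690.S856
import Cfsg.Agent.Lib.Helper9.TCData.X1690.S857
import Cfsg.Agent.Lib.Helper9.TCData.X1690.S858
import Cfsg.Agent.Lib.Helper9.TCData.X1690.S859
import Cfsg.Agent.Lib.Helper9.TCData.X1690.S860
import Cfsg.Agent.Lib.Helper9.TCData.X1690.S861
import Cfsg.Agent.Lib.Helper9.TCData.X1690.S862
import Cfsg.Agent.Lib.Helper9.TCData.X1690.S863
import Cfsg.Agent.Lib.Helper9.TCData.X1690.S864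
import Cfsg.Agent.Lib.Helper9.TCData.X1690.S865
import Cfsg.Agent.Lib.Helper9.TCData.X1690.S866
import Cfsg.Agent.Lib.Helper9.TCData.X1690.S867
import Cfsg.Agent.Lib.Helper9.TCData.X1690.S868
import Cfsg.Agent.Lib.Helper9.TCData.X1690.S869
import Cfsg.Agent.Lib.Helper9.TCData.X1690.S870
import Cfsg.Agent.Lib.Helper9.TCData.X1690.S871
import Cfsg.Agent.Lib.Helper9.TCData.X1690.S872
import Cfsg.Agent.Lib.Helper9.TCData.X1690.S873
import Cfsg.Agent.Lib.Helper9.TCData.X1690.S874
import Cfsg.Agent.Lib.Helper9.TCData.X1690.S875
import Cfsg.Agent.Lib.Helper9.TCData.X1690.S876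
import Cfsg.Agent.Lib.Helper9.TCData.X1690.S877
import Cfsg.Agent.Lib.Helper9.TCData.X1690.S878
import Cfsg.Agent.Lib.Helper9.TCData.X1690.S879
import Cfsg.Agent.Lib.Helper9.TCData.X1690.S880
import Cfsg.Agent.Lib.Helper9.TCData.X1690.S881
import Cfsg.Agent.Lib.Helper9.TCData.X1690.S882
import Cfsg.Agent.Lib.Helper9.TCData.X1690.S883
import Cfsg.Agent.Lib.Helper9.TCData.X1690.S884
import Cfsg.Agent.Lib.Helper9.TCData.X1690.S885
import Cfsg.Agent.Lib.Helper9.TCData.X1690.S886
import Cfsg.Agent.Lib.Helper9.TCData.X1690.S887
import Cfsg.Agent.Lib.Helper9.TCData.X1690.S888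
import Cfsg.Agent.Lib.Helper9.TCData.X1690.S889
import Cfsg.Agent.Lib.Helper9.TCData.X1690.S890
import Cfsg.Agent.Lib.Helper9.TCData.X1690.S891
import Cfsg.Agent.Lib.Helper9.TCData.X1690.S892
import Cfsg.Agent.Lib.Helper9.TCData.X1690.S893
import Cfsg.Agent.Lib.Helper9.TCData.X1690.S894
import Cfsg.Agent.Lib.Helper9.TCData.X1690.S895
import Cfsg.Agent.Lib.Helper9.TCData.X1690.S896
import Cfsg.Agent.Lib.Helper9.TCData.X1690.S897
import Cfsg.Agent.Lib.Helper9.TCData.X1690.S898
import Cfsg.Agent.Lib.Helper9.TCData.X1690.S899
import Cfsg.Agent.Lib.Helper9.TCData.X1690.S900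
import Cfsg.Agent.Lib.Helper9.TCData.X1690.S901
import Cfsg.Agent.Lib.Helper9.TCData.X1690.S902
import Cfsg.Agent.Lib.Helper9.TCData.X1690.S903
import Cfsg.Agent.Lib.Helper9.TCData.X1690.S904
import Cfsg.Agent.Lib.Helper9.TCData.X1690.S905
import Cfsg.Agent.Lib.Helper9.TCData.X1690.S906
import Cfsg.Agent.Lib.Helper9.TCData.X1690.S907
import Cfsg.Agent.Lib.Helper9.TCData.X1690.S908
import Cfsg.Agent.Lib.Helper9.TCData.X1690.S909
import Cfsg.Agent.Lib.Helper9.TCData.X1690.S910
import Cfsg.Agent.Lib.Helper9.TCData.X1690.S911
import Cfsg.Agent.Lib.Helper9.TCData.X1690.S912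
import Cfsg.Agent.Lib.Helper9.TCData.X1690.S913
import Cfsg.Agent.Lib.Helper9.TCData.X1690.S914
import Cfsg.Agent.Lib.Helper9.TCData.X1690.S915
import Cfsg.Agent.Lib.Helper9.TCData.X1690.S916
import Cfsg.Agent.Lib.Helper9.TCData.X1690.S917
import Cfsg.Agent.Lib.Helper9.TCData.X1690.S918
import Cfsg.Agent.Lib.Helper9.TCData.X1690.S919
import Cfsg.Agent.Lib.Helper9.TCData.X1690.S920
import Cfsg.Agent.Lib.Helper9.TCData.X1690.S921
import Cfsg.Agent.Lib.Helper9.TCData.X1690.S922
import Cfsg.Agent.Lib.Helper9.TCData.X1690.S923
import Cfsg.Agent.Lib.Helper9.TCData.X1690.S924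
import Cfsg.Agent.Lib.Helper9.TCData.X1690.S925
import Cfsg.Agent.Lib.Helper9.TCData.X1690.S926
import Cfsg.Agent.Lib.Helper9.TCData.X1690.S927
import Cfsg.Agent.Lib.Helper9.TCData.X1690.S928
import Cfsg.Agent.Lib.Helper9.TCData.X1690.S929
import Cfsg.Agent.Lib.Helper9.TCData.X1690.S930
import Cfsg.Agent.Lib.Helper9.TCData.X1690.S931
import Cfsg.Agent.Lib.Helper9.TCData.X1690.S932
import Cfsg.Agent.Lib.Helper9.TCData.X1690.S933
import Cfsg.Agent.Lib.Helper9.TCData.X1690.S934
import Cfsg.Agent.Lib.Helper9.TCData.X1690.S935
import Cfsg.Agent.Lib.Helper9.TCData.X1690.S936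
import Cfsg.Agent.Lib.Helper9.TCData.X1690.S937
import Cfsg.Agent.Lib.Helper9.TCData.X1690.S938
import Cfsg.Agent.Lib.Helper9.TCData.X1690.S939
import Cfsg.Agent.Lib.Helper9.TCData.X1690.S940
import Cfsg.Agent.Lib.Helper9.TCData.X1690.S941
import Cfsg.Agent.Lib.Helper9.TCData.X1690.S942
import Cfsg.Agent.Lib.Helper9.TCData.X1690.S943
import Cfsg.Agent.Lib.Helper9.TCData.X1690.S944
import Cfsg.Agent.Lib.Helper9.TCData.X1690.S945
import Cfsg.Agent.Lib.Helper9.TCData.X1690.S946
import Cfsg.Agent.Lib.Helper9.TCData.X1690.S947
import Cfsg.Agent.Lib.Helper9.TCData.X1690.S948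
import Cfsg.Agent.Lib.Helper9.TCData.X1690.S949
import Cfsg.Agent.Lib.Helper9.TCData.X1690.S950
import Cfsg.Agent.Lib.Helper9.TCData.X1690.S951
import Cfsg.Agent.Lib.Helper9.TCData.X1690.S952
import Cfsg.Agent.Lib.Helper9.TCData.X1690.S953
import Cfsg.Agent.Lib.Helper9.TCData.X1690.S954
import Cfsg.Agent.Lib.Helper9.TCData.X1690.S955
import Cfsg.Agent.Lib.Helper9.TCData.X1690.S956
import Cfsg.Agent.Lib.Helper9.TCData.X1690.S957
import Cfsg.Agent.Lib.Helper9.TCData.X1690.S958
import Cfsg.Agent.Lib.Helper9.TCData.X1690.S959
import Cfsg.Agent.Lib.Helper9.TCData.X1690.S960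
import Cfsg.Agent.Lib.Helper9.TCData.X1690.S961
import Cfsg.Agent.Lib.Helper9.TCData.X1690.S962
import Cfsg.Agent.Lib.Helper9.TCData.X1690.S963
import Cfsg.Agent.Lib.Helper9.TCData.X1690.S964
import Cfsg.Agent.Lib.Helper9.TCData.X1690.S965
import Cfsg.Agent.Lib.Helper9.TCData.X1690.S966
import Cfsg.Agent.Lib.Helper9.TCData.X1690.S967
import Cfsg.Agent.Lib.Helper9.TCData.X1690.S968
import Cfsg.Agent.Lib.Helper9.TCData.X1690.S969
import Cfsg.Agent.Lib.Helper9.TCData.X1690.S970
import Cfsg.Agent.Lib.Helper9.TCData.X1690.S971
import Cfsg.Agent.Lib.Helper9.TCData.X1690.S972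
import Cfsg.Agent.Lib.Helper9.TCData.X1690.S973
import Cfsg.Agent.Lib.Helper9.TCData.X1690.S974
import Cfsg.Agent.Lib.Helper9.TCData.X1690.S975
import Cfsg.Agent.Lib.Helper9.TCData.X1690.S976
import Cfsg.Agent.Lib.Helper9.TCData.X1690.S977
import Cfsg.Agent.Lib.Helper9.TCData.X1690.S978
import Cfsg.Agent.Lib.Helper9.TCData.X1690.S979
import Cfsg.Agent.Lib.Helper9.TCData.X1690.S980
import Cfsg.Agent.Lib.Helper9.TCData.X1690.S981
import Cfsg.Agent.Lib.Helper9.TCData.X1690.S982
import Cfsg.Agent.Lib.Helper9.TCData.X1690.S983
import Cfsg.Agent.Lib.Helper9.TCData.X1690.S984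
import Cfsg.Agent.Lib.Helper9.TCData.X1690.S985
import Cfsg.Agent.Lib.Helper9.TCData.X1690.S986
import Cfsg.Agent.Lib.Helper9.TCData.X1690.S987
import Cfsg.Agent.Lib.Helper9.TCData.X1690.S988
import Cfsg.Agent.Lib.Helper9.TCData.X1690.S989
import Cfsg.Agent.Lib.Helper9.TCData.X1690.S990
import Cfsg.Agent.Lib.Helper9.TCData.X1690.S991
import Cfsg.Agent.Lib.Helper9.TCData.X1690.S992
import Cfsg.Agent.Lib.Helper9.TCData.X1690.S993
import Cfsg.Agent.Lib.Helper9.TCData.X1690.S994
import Cfsg.Agent.Lib.Helper9.TCData.X1690.S995
import Cfsg.Agent.Lib.Helper9.TCData.X1690.S996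
import Cfsg.Agent.Lib.Helper9.TCData.X1690.S997
import Cfsg.Agent.Lib.Helper9.TCData.X1690.S998
import Cfsg.Agent.Lib.Helper9.TCData.X1690.S999
import Cfsg.Agent.Lib.Helper9.TCData.X1690.S1000
import Cfsg.Agent.Lib.Helper9.TCData.X1690.S1001
import Cfsg.Agent.Lib.Helper9.TCData.X1690.S1002
import Cfsg.Agent.Lib.Helper9.TCData.X1690.S1003
import Cfsg.Agent.Lib.Helper9.TCData.X1690.S1004
import Cfsg.Agent.Lib.Helper9.TCData.X1690.S1005
import Cfsg.Agent.Lib.Helper9.TCData.X1690.S1006
import Cfsg.Agent.Lib.Helper9.TCData.X1690.S1007
import Cfsg.Agent.Lib.Helper9.TCData.X1690.S1008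
import Cfsg.Agent.Lib.Helper9.TCData.X1690.S1009
import Cfsg.Agent.Lib.Helper9.TCData.X1690.S1010
import Cfsg.Agent.Lib.Helper9.TCData.X1690.S1011
import Cfsg.Agent.Lib.Helper9.TCData.X1690.S1012
import Cfsg.Agent.Lib.Helper9.TCData.X1690.S1013
import Cfsg.Agent.Lib.Helper9.TCData.X1690.S1014
import Cfsg.Agent.Lib.Helper9.TCData.X1690.S1015
import Cfsg.Agent.Lib.Helper9.TCData.X1690.S1016
import Cfsg.Agent.Lib.Helper9.TCData.X1690.S1017
import Cfsg.Agent.Lib.Helper9.TCData.X1690.S1018
import Cfsg.Agent.Lib.Helper9.TCData.X1690.S1019
import Cfsg.Agent.Lib.Helper9.TCData.X1690.S1020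
import Cfsg.Agent.Lib.Helper9.TCData.X1690.S1021
import Cfsg.Agent.Lib.Helper9.TCData.X1690.S1022
import Cfsg.Agent.Lib.Helper9.TCData.X1690.S1023
import Cfsg.Agent.Lib.Helper9.TCData.X1690.S1024
import Cfsg.Agent.Lib.Helper9.TCData.X1690.S1025
import Cfsg.Agent.Lib.Helper9.TCData.X1690.S1026
import Cfsg.Agent.Lib.Helper9.TCData.X1690.S1027
import Cfsg.Agent.Lib.Helper9.TCData.X1690.S1028
import Cfsg.Agent.Lib.Helper9.TCData.X1690.S1029
import Cfsg.Agent.Lib.Helper9.TCData.X1690.S1030
import Cfsg.Agent.Lib.Helper9.TCData.X1690.S1031
import Cfsg.Agent.Lib.Helper9.TCData.X1690.S1032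
import Cfsg.Agent.Lib.Helper9.TCData.X1690.S1033
import Cfsg.Agent.Lib.Helper9.TCData.X1690.S1034
import Cfsg.Agent.Lib.Helper9.TCData.X1690.S1035
import Cfsg.Agent.Lib.Helper9.TCData.X1690.S1036
import Cfsg.Agent.Lib.Helper9.TCData.X1690.S1037
import Cfsg.Agent.Lib.Helper9.TCData.X1690.S1038
import Cfsg.Agent.Lib.Helper9.TCData.X1690.S1039
import Cfsg.Agent.Lib.Helper9.TCData.X1690.S1040
import Cfsg.Agent.Lib.Helper9.TCData.X1690.S1041
import Cfsg.Agent.Lib.Helper9.TCData.X1690.S1042
import Cfsg.Agent.Lib.Helper9.TCData.X1690.S1043
import Cfsg.Agent.Lib.Helper9.TCData.X1690.S1044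
import Cfsg.Agent.Lib.Helper9.TCData.X1690.S1045
import Cfsg.Agent.Lib.Helper9.TCData.X1690.S1046
import Cfsg.Agent.Lib.Helper9.TCData.X1690.S1047
import Cfsg.Agent.Lib.Helper9.TCData.X1690.S1048
import Cfsg.Agent.Lib.Helper9.TCData.X1690.S1049
import Cfsg.Agent.Lib.Helper9.TCData.X1690.S1050
import Cfsg.Agent.Lib.Helper9.TCData.X1690.S1051
import Cfsg.Agent.Lib.Helper9.TCData.X1690.S1052
import Cfsg.Agent.Lib.Helper9.TCData.X1690.S1053
import Cfsg.Agent.Lib.Helper9.TCData.X1690.S1054
import Cfsg.Agent.Lib.Helper9.TCData.X1690.S1055
import Cfsg.Agent.Lib.Helper9.TCData.X1690.S1056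
import Cfsg.Agent.Lib.Helper9.TCData.X1690.S1057
import Cfsg.Agent.Lib.Helper9.TCData.X1690.S1058
import Cfsg.Agent.Lib.Helper9.TCData.X1690.S1059
import Cfsg.Agent.Lib.Helper9.TCData.X1690.S1060
import Cfsg.Agent.Lib.Helper9.TCData.X1690.S1061
import Cfsg.Agent.Lib.Helper9.TCData.X1690.S1062
import Cfsg.Agent.Lib.Helper9.TCData.X1690.S1063
import Cfsg.Agent.Lib.Helper9.TCData.X1690.S1064
import Cfsg.Agent.Lib.Helper9.TCData.X1690.S1065
import Cfsg.Agent.Lib.Helper9.TCData.X1690.S1066
import Cfsg.Agent.Lib.Helper9.TCData.X1690.S1067
import Cfsg.Agent.Lib.Helper9.TCData.X1690.S1068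
import Cfsg.Agent.Lib.Helper9.TCData.X1690.S1069
import Cfsg.Agent.Lib.Helper9.TCData.X1690.S1070
import Cfsg.Agent.Lib.Helper9.TCData.X1690.S1071
import Cfsg.Agent.Lib.Helper9.TCData.X1690.S1072
import Cfsg.Agent.Lib.Helper9.TCData.X1690.S1073
import Cfsg.Agent.Lib.Helper9.TCData.X1690.S1074
import Cfsg.Agent.Lib.Helper9.TCData.X1690.S1075
import Cfsg.Agent.Lib.Helper9.TCData.X1690.S1076
import Cfsg.Agent.Lib.Helper9.TCData.X1690.S1077
import Cfsg.Agent.Lib.Helper9.TCData.X1690.S1078
import Cfsg.Agent.Lib.Helper9.TCData.X1690.S1079
import Cfsg.Agent.Lib.Helper9.TCData.X1690.S1080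
import Cfsg.Agent.Lib.Helper9.TCData.X1690.S1081
import Cfsg.Agent.Lib.Helper9.TCData.X1690.S1082
import Cfsg.Agent.Lib.Helper9.TCData.X1690.S1083
import Cfsg.Agent.Lib.Helper9.TCData.X1690.S1084
import Cfsg.Agent.Lib.Helper9.TCData.X1690.S1085
import Cfsg.Agent.Lib.Helper9.TCData.X1690.S1086
import Cfsg.Agent.Lib.Helper9.TCData.X1690.S1087
import Cfsg.Agent.Lib.Helper9.TCData.X1690.S1088
import Cfsg.Agent.Lib.Helper9.TCData.X1690.S1089
import Cfsg.Agent.Lib.Helper9.TCData.X1690.S1090
import Cfsg.Agent.Lib.Helper9.TCData.X1690.S1091
import Cfsg.Agent.Lib.Helper9.TCData.X1690.S1092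
import Cfsg.Agent.Lib.Helper9.TCData.X1690.S1093
import Cfsg.Agent.Lib.Helper9.TCData.X1690.S1094
import Cfsg.Agent.Lib.Helper9.TCData.X1690.S1095
import Cfsg.Agent.Lib.Helper9.TCData.X1690.S1096
import Cfsg.Agent.Lib.Helper9.TCData.X1690.S1097
import Cfsg.Agent.Lib.Helper9.TCData.X1690.S1098
import Cfsg.Agent.Lib.Helper9.TCData.X1690.S1099
import Cfsg.Agent.Lib.Helper9.TCData.X1690.S1100
import Cfsg.Agent.Lib.Helper9.TCData.X1690.S1101
import Cfsg.Agent.Lib.Helper9.TCData.X1690.S1102
import Cfsg.Agent.Lib.Helper9.TCData.X1690.S1103
import Cfsg.Agent.Lib.Helper9.TCData.X1690.S1104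
import Cfsg.Agent.Lib.Helper9.TCData.X1690.S1105
import Cfsg.Agent.Lib.Helper9.TCData.X1690.S1106
import Cfsg.Agent.Lib.Helper9.TCData.X1690.S1107
import Cfsg.Agent.Lib.Helper9.TCData.X1690.S1108
import Cfsg.Agent.Lib.Helper9.TCData.X1690.S1109
import Cfsg.Agent.Lib.Helper9.TCData.X1690.S1110
import Cfsg.Agent.Lib.Helper9.TCData.X1690.S1111
import Cfsg.Agent.Lib.Helper9.TCData.X1690.S1112
import Cfsg.Agent.Lib.Helper9.TCData.X1690.S1113
import Cfsg.Agent.Lib.Helper9.TCData.X1690.S1114
import Cfsg.Agent.Lib.Helper9.TCData.X1690.S1115
import Cfsg.Agent.Lib.Helper9.TCData.X1690.S1116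
import Cfsg.Agent.Lib.Helper9.TCData.X1690.S1117
import Cfsg.Agent.Lib.Helper9.TCData.X1690.S1118
import Cfsg.Agent.Lib.Helper9.TCData.X1690.S1119
import Cfsg.Agent.Lib.Helper9.TCData.X1690.S1120
import Cfsg.Agent.Lib.Helper9.TCData.X1690.S1121
import Cfsg.Agent.Lib.Helper9.TCData.X1690.S1122
import Cfsg.Agent.Lib.Helper9.TCData.X1690.S1123
import Cfsg.Agent.Lib.Helper9.TCData.X1690.S1124
import Cfsg.Agent.Lib.Helper9.TCData.X1690.S1125
import Cfsg.Agent.Lib.Helper9.TCData.X1690.S1126
import Cfsg.Agent.Lib.Helper9.TCData.X1690.S1127
import Cfsg.Agent.Lib.Helper9.TCData.X1690.S1128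
import Cfsg.Agent.Lib.Helper9.TCData.X1690.S1129
import Cfsg.Agent.Lib.Helper9.TCData.X1690.S1130
import Cfsg.Agent.Lib.Helper9.TCData.X1690.S1131
import Cfsg.Agent.Lib.Helper9.TCData.X1690.S1132
import Cfsg.Agent.Lib.Helper9.TCData.X1690.S1133
import Cfsg.Agent.Lib.Helper9.TCData.X1690.S1134
import Cfsg.Agent.Lib.Helper9.TCData.X1690.S1135
import Cfsg.Agent.Lib.Helper9.TCData.X1690.S1136
import Cfsg.Agent.Lib.Helper9.TCData.X1690.S1137
import Cfsg.Agent.Lib.Helper9.TCData.X1690.S1138
import Cfsg.Agent.Lib.Helper9.TCData.X1690.S1139
import Cfsg.Agent.Lib.Helper9.TCData.X1690.S1140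
import Cfsg.Agent.Lib.Helper9.TCData.X1690.S1141
import Cfsg.Agent.Lib.Helper9.TCData.X1690.S1142
import Cfsg.Agent.Lib.Helper9.TCData.X1690.S1143
import Cfsg.Agent.Lib.Helper9.TCData.X1690.S1144
import Cfsg.Agent.Lib.Helper9.TCData.X1690.S1145
import Cfsg.Agent.Lib.Helper9.TCData.X1690.S1146
import Cfsg.Agent.Lib.Helper9.TCData.X1690.S1147
import Cfsg.Agent.Lib.Helper9.TCData.X1690.S1148
import Cfsg.Agent.Lib.Helper9.TCData.X1690.S1149
import Cfsg.Agent.Lib.Helper9.TCData.X1690.S1150
import Cfsg.Agent.Lib.Helper9.TCData.X1690.S1151
import Cfsg.Agent.Lib.Helper9.TCData.X1690.S1152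
import Cfsg.Agent.Lib.Helper9.TCData.X1690.S1153
import Cfsg.Agent.Lib.Helper9.TCData.X1690.S1154
import Cfsg.Agent.Lib.Helper9.TCData.X1690.S1155
import Cfsg.Agent.Lib.Helper9.TCData.X1690.S1156
import Cfsg.Agent.Lib.Helper9.TCData.X1690.S1157
import Cfsg.Agent.Lib.Helper9.TCData.X1690.S1158
import Cfsg.Agent.Lib.Helper9.TCData.X1690.S1159
import Cfsg.Agent.Lib.Helper9.TCData.X1690.S1160
import Cfsg.Agent.Lib.Helper9.TCData.X1690.S1161
import Cfsg.Agent.Lib.Helper9.TCData.X1690.S1162
import Cfsg.Agent.Lib.Helper9.TCData.X1690.S1163
import Cfsg.Agent.Lib.Helper9.TCData.X1690.S1164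
import Cfsg.Agent.Lib.Helper9.TCData.X1690.S1165
import Cfsg.Agent.Lib.Helper9.TCData.X1690.S1166
import Cfsg.Agent.Lib.Helper9.TCData.X1690.S1167
import Cfsg.Agent.Lib.Helper9.TCData.X1690.S1168
import Cfsg.Agent.Lib.Helper9.TCData.X1690.S1169
import Cfsg.Agent.Lib.Helper9.TCData.X1690.S1170
import Cfsg.Agent.Lib.Helper9.TCData.X1690.S1171
import Cfsg.Agent.Lib.Helper9.TCData.X1690.S1172
import Cfsg.Agent.Lib.Helper9.TCData.X1690.S1173
import Cfsg.Agent.Lib.Helper9.TCData.X1690.S1174
import Cfsg.Agent.Lib.Helper9.TCData.X1690.S1175
import Cfsg.Agent.Lib.Helper9.TCData.X1690.S1176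
import Cfsg.Agent.Lib.Helper9.TCData.X1690.S1177
import Cfsg.Agent.Lib.Helper9.TCData.X1690.S1178
import Cfsg.Agent.Lib.Helper9.TCData.X1690.S1179
import Cfsg.Agent.Lib.Helper9.TCData.X1690.S1180
import Cfsg.Agent.Lib.Helper9.TCData.X1690.S1181
import Cfsg.Agent.Lib.Helper9.TCData.X1690.S1182

set_option autoImplicit false
set_option maxRecDepth 1000000

namespace Cfsg.Agent.Helper9.TCData.X1690
open Cfsg.Agent.Helper9.TC2


theorem hE0 : ∀ u < 394454, chkE tab 0 u = true := by
  have h0 : ∀ u < 0, (fun u => chkE tab 0 u) u = true := range_zero
  have h1 : ∀ u < 1916, (fun u => chkE tab 0 u) u = true := ext_range (a := 0) (len := 1916) h0 e0_0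
  have h2 : ∀ u < 3850, (fun u => chkE tab 0 u) u = true := ext_range (a := 1916) (len := 1934) h1 e0_1
  have h3 : ∀ u < 5732, (fun u => chkE tab 0 u) u = true := ext_range (a := 3850) (len := 1882) h2 e0_2
  have h4 : ∀ u < 7770, (fun u => chkE tab 0 u) u = true := ext_range (a := 5732) (len := 2038) h3 e0_3
  have h5 : ∀ u < 10202, (fun u => chkE tab 0 u) u = true := ext_range (a := 7770) (len := 2432) h4 e0_4
  have h6 : ∀ u < 12815, (fun u => chkE tab 0 u) u = true := ext_range (a := 10202) (len := 2613) h5 e0_5
  have h7 : ∀ u < 14386, (fun u => chkE tab 0 u) u = true := ext_range (a := 12815) (len := 1571) h6 e0_6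
  have h8 : ∀ u < 16766, (fun u => chkE tab 0 u) u = true := ext_range (a := 14386) (len := 2380) h7 e0_7
  have h9 : ∀ u < 18350, (fun u => chkE tab 0 u) u = true := ext_range (a := 16766) (len := 1584) h8 e0_8
  have h10 : ∀ u < 21027, (fun u => chkE tab 0 u) u = true := ext_range (a := 18350) (len := 2677) h9 e0_9
  have h11 : ∀ u < 22612, (fun u => chkE tab 0 u) u = true := ext_range (a := 21027) (len := 1585) h10 e0_10
  have h12 : ∀ u < 24201, (fun u => chkE tab 0 u) u = true := ext_range (a := 22612) (len := 1589) h11 e0_11
  have h13 : ∀ u < 27292, (fun u => chkE tab 0 u) u = true := ext_range (a := 24201) (len := 3091) h12 e0_12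
  have h14 : ∀ u < 28867, (fun u => chkE tab 0 u) u = true := ext_range (a := 27292) (len := 1575) h13 e0_13
  have h15 : ∀ u < 30500, (fun u => chkE tab 0 u) u = true := ext_range (a := 28867) (len := 1633) h14 e0_14
  have h16 : ∀ u < 32098, (fun u => chkE tab 0 u) u = true := ext_range (a := 30500) (len := 1598) h15 e0_15
  have h17 : ∀ u < 34985, (fun u => chkE tab 0 u) u = true := ext_range (a := 32098) (len := 2887) h16 e0_16
  have h18 : ∀ u < 37368, (fun u => chkE tab 0 u) u = true := ext_range (a := 34985) (len := 2383) h17 e0_17
  have h19 : ∀ u < 38967, (fun u => chkE tab 0 u) u = true := ext_range (a := 37368) (len := 1599) h18 e0_18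
  have h20 : ∀ u < 40630, (fun u => chkE tab 0 u) u = true := ext_range (a := 38967) (len := 1663) h19 e0_19
  have h21 : ∀ u < 42264, (fun u => chkE tab 0 u) u = true := ext_range (a := 40630) (len := 1634) h20 e0_20
  have h22 : ∀ u < 43869, (fun u => chkE tab 0 u) u = true := ext_range (a := 42264) (len := 1605) h21 e0_21
  have h23 : ∀ u < 46913, (fun u => chkE tab 0 u) u = true := ext_range (a := 43869) (len := 3044) h22 e0_22
  have h24 : ∀ u < 49996, (fun u => chkE tab 0 u) u = true := ext_range (a := 46913) (len := 3083) h23 e0_23
  have h25 : ∀ u < 51582, (fun u => chkE tab 0 u) u = true := ext_range (a := 49996) (len := 1586) h24 e0_24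
  have h26 : ∀ u < 53203, (fun u => chkE tab 0 u) u = true := ext_range (a := 51582) (len := 1621) h25 e0_25
  have h27 : ∀ u < 54882, (fun u => chkE tab 0 u) u = true := ext_range (a := 53203) (len := 1679) h26 e0_26
  have h28 : ∀ u < 56561, (fun u => chkE tab 0 u) u = true := ext_range (a := 54882) (len := 1679) h27 e0_27
  have h29 : ∀ u < 58194, (fun u => chkE tab 0 u) u = true := ext_range (a := 56561) (len := 1633) h28 e0_28
  have h30 : ∀ u < 59830, (fun u => chkE tab 0 u) u = true := ext_range (a := 58194) (len := 1636) h29 e0_29
  have h31 : ∀ u < 61764, (fun u => chkE tab 0 u) u = true := ext_range (a := 59830) (len := 1934) h30 e0_30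
  have h32 : ∀ u < 66046, (fun u => chkE tab 0 u) u = true := ext_range (a := 61764) (len := 4282) h31 e0_31
  have h33 : ∀ u < 68769, (fun u => chkE tab 0 u) u = true := ext_range (a := 66046) (len := 2723) h32 e0_32
  have h34 : ∀ u < 70370, (fun u => chkE tab 0 u) u = true := ext_range (a := 68769) (len := 1601) h33 e0_33
  have h35 : ∀ u < 72026, (fun u => chkE tab 0 u) u = true := ext_range (a := 70370) (len := 1656) h34 e0_34
  have h36 : ∀ u < 73668, (fun u => chkE tab 0 u) u = true := ext_range (a := 72026) (len := 1642) h35 e0_35
  have h37 : ∀ u < 75360, (fun u => chkE tab 0 u) u = true := ext_range (a := 73668) (len := 1692) h36 e0_36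
  have h38 : ∀ u < 77039, (fun u => chkE tab 0 u) u = true := ext_range (a := 75360) (len := 1679) h37 e0_37
  have h39 : ∀ u < 78692, (fun u => chkE tab 0 u) u = true := ext_range (a := 77039) (len := 1653) h38 e0_38
  have h40 : ∀ u < 80365, (fun u => chkE tab 0 u) u = true := ext_range (a := 78692) (len := 1673) h39 e0_39
  have h41 : ∀ u < 82000, (fun u => chkE tab 0 u) u = true := ext_range (a := 80365) (len := 1635) h40 e0_40
  have h42 : ∀ u < 83723, (fun u => chkE tab 0 u) u = true := ext_range (a := 82000) (len := 1723) h41 e0_41
  have h43 : ∀ u < 86501, (fun u => chkE tab 0 u) u = true := ext_range (a := 83723) (len := 2778) h42 e0_42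
  have h44 : ∀ u < 90758, (fun u => chkE tab 0 u) u = true := ext_range (a := 86501) (len := 4257) h43 e0_43
  have h45 : ∀ u < 94249, (fun u => chkE tab 0 u) u = true := ext_range (a := 90758) (len := 3491) h44 e0_44
  have h46 : ∀ u < 95922, (fun u => chkE tab 0 u) u = true := ext_range (a := 94249) (len := 1673) h45 e0_45
  have h47 : ∀ u < 97547, (fun u => chkE tab 0 u) u = true := ext_range (a := 95922) (len := 1625) h46 e0_46
  have h48 : ∀ u < 99208, (fun u => chkE tab 0 u) u = true := ext_range (a := 97547) (len := 1661) h47 e0_47
  have h49 : ∀ u < 100861, (fun u => chkE tab 0 u) u = true := ext_range (a := 99208) (len := 1653) h48 e0_48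
  have h50 : ∀ u < 102529, (fun u => chkE tab 0 u) u = true := ext_range (a := 100861) (len := 1668) h49 e0_49
  have h51 : ∀ u < 104198, (fun u => chkE tab 0 u) u = true := ext_range (a := 102529) (len := 1669) h50 e0_50
  have h52 : ∀ u < 105918, (fun u => chkE tab 0 u) u = true := ext_range (a := 104198) (len := 1720) h51 e0_51
  have h53 : ∀ u < 107586, (fun u => chkE tab 0 u) u = true := ext_range (a := 105918) (len := 1668) h52 e0_52
  have h54 : ∀ u < 109236, (fun u => chkE tab 0 u) u = true := ext_range (a := 107586) (len := 1650) h53 e0_53
  have h55 : ∀ u < 110975, (fun u => chkE tab 0 u) u = true := ext_range (a := 109236) (len := 1739) h54 e0_54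
  have h56 : ∀ u < 112624, (fun u => chkE tab 0 u) u = true := ext_range (a := 110975) (len := 1649) h55 e0_55
  have h57 : ∀ u < 114297, (fun u => chkE tab 0 u) u = true := ext_range (a := 112624) (len := 1673) h56 e0_56
  have h58 : ∀ u < 116083, (fun u => chkE tab 0 u) u = true := ext_range (a := 114297) (len := 1786) h57 e0_57
  have h59 : ∀ u < 118924, (fun u => chkE tab 0 u) u = true := ext_range (a := 116083) (len := 2841) h58 e0_58
  have h60 : ∀ u < 126113, (fun u => chkE tab 0 u) u = true := ext_range (a := 118924) (len := 7189) h59 e0_59
  have h61 : ∀ u < 131128, (fun u => chkE tab 0 u) u = true := ext_range (a := 126113) (len := 5015) h60 e0_60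
  have h62 : ∀ u < 133386, (fun u => chkE tab 0 u) u = true := ext_range (a := 131128) (len := 2258) h61 e0_61
  have h63 : ∀ u < 135789, (fun u => chkE tab 0 u) u = true := ext_range (a := 133386) (len := 2403) h62 e0_62
  have h64 : ∀ u < 137827, (fun u => chkE tab 0 u) u = true := ext_range (a := 135789) (len := 2038) h63 e0_63
  have h65 : ∀ u < 143046, (fun u => chkE tab 0 u) u = true := ext_range (a := 137827) (len := 5219) h64 e0_64
  have h66 : ∀ u < 147137, (fun u => chkE tab 0 u) u = true := ext_range (a := 143046) (len := 4091) h65 e0_65
  have h67 : ∀ u < 150759, (fun u => chkE tab 0 u) u = true := ext_range (a := 147137) (len := 3622) h66 e0_66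
  have h68 : ∀ u < 153006, (fun u => chkE tab 0 u) u = true := ext_range (a := 150759) (len := 2247) h67 e0_67
  have h69 : ∀ u < 154994, (fun u => chkE tab 0 u) u = true := ext_range (a := 153006) (len := 1988) h68 e0_68
  have h70 : ∀ u < 157168, (fun u => chkE tab 0 u) u = true := ext_range (a := 154994) (len := 2174) h69 e0_69
  have h71 : ∀ u < 159331, (fun u => chkE tab 0 u) u = true := ext_range (a := 157168) (len := 2163) h70 e0_70
  have h72 : ∀ u < 161977, (fun u => chkE tab 0 u) u = true := ext_range (a := 159331) (len := 2646) h71 e0_71
  have h73 : ∀ u < 167630, (fun u => chkE tab 0 u) u = true := ext_range (a := 161977) (len := 5653) h72 e0_72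
  have h74 : ∀ u < 169261, (fun u => chkE tab 0 u) u = true := ext_range (a := 167630) (len := 1631) h73 e0_73
  have h75 : ∀ u < 170901, (fun u => chkE tab 0 u) u = true := ext_range (a := 169261) (len := 1640) h74 e0_74
  have h76 : ∀ u < 172593, (fun u => chkE tab 0 u) u = true := ext_range (a := 170901) (len := 1692) h75 e0_75
  have h77 : ∀ u < 174215, (fun u => chkE tab 0 u) u = true := ext_range (a := 172593) (len := 1622) h76 e0_76
  have h78 : ∀ u < 175844, (fun u => chkE tab 0 u) u = true := ext_range (a := 174215) (len := 1629) h77 e0_77
  have h79 : ∀ u < 177367, (fun u => chkE tab 0 u) u = true := ext_range (a := 175844) (len := 1523) h78 e0_78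
  have h80 : ∀ u < 181547, (fun u => chkE tab 0 u) u = true := ext_range (a := 177367) (len := 4180) h79 e0_79
  have h81 : ∀ u < 185514, (fun u => chkE tab 0 u) u = true := ext_range (a := 181547) (len := 3967) h80 e0_80
  have h82 : ∀ u < 187127, (fun u => chkE tab 0 u) u = true := ext_range (a := 185514) (len := 1613) h81 e0_81
  have h83 : ∀ u < 188774, (fun u => chkE tab 0 u) u = true := ext_range (a := 187127) (len := 1647) h82 e0_82
  have h84 : ∀ u < 190546, (fun u => chkE tab 0 u) u = true := ext_range (a := 188774) (len := 1772) h83 e0_83
  have h85 : ∀ u < 192148, (fun u => chkE tab 0 u) u = true := ext_range (a := 190546) (len := 1602) h84 e0_84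
  have h86 : ∀ u < 193715, (fun u => chkE tab 0 u) u = true := ext_range (a := 192148) (len := 1567) h85 e0_85
  have h87 : ∀ u < 195284, (fun u => chkE tab 0 u) u = true := ext_range (a := 193715) (len := 1569) h86 e0_86
  have h88 : ∀ u < 198715, (fun u => chkE tab 0 u) u = true := ext_range (a := 195284) (len := 3431) h87 e0_87
  have h89 : ∀ u < 203964, (fun u => chkE tab 0 u) u = true := ext_range (a := 198715) (len := 5249) h88 e0_88
  have h90 : ∀ u < 205592, (fun u => chkE tab 0 u) u = true := ext_range (a := 203964) (len := 1628) h89 e0_89
  have h91 : ∀ u < 207204, (fun u => chkE tab 0 u) u = true := ext_range (a := 205592) (len := 1612) h90 e0_90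
  have h92 : ∀ u < 209025, (fun u => chkE tab 0 u) u = true := ext_range (a := 207204) (len := 1821) h91 e0_91
  have h93 : ∀ u < 210692, (fun u => chkE tab 0 u) u = true := ext_range (a := 209025) (len := 1667) h92 e0_92
  have h94 : ∀ u < 212290, (fun u => chkE tab 0 u) u = true := ext_range (a := 210692) (len := 1598) h93 e0_93
  have h95 : ∀ u < 213899, (fun u => chkE tab 0 u) u = true := ext_range (a := 212290) (len := 1609) h94 e0_94
  have h96 : ∀ u < 215441, (fun u => chkE tab 0 u) u = true := ext_range (a := 213899) (len := 1542) h95 e0_95
  have h97 : ∀ u < 220467, (fun u => chkE tab 0 u) u = true := ext_range (a := 215441) (len := 5026) h96 e0_96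
  have h98 : ∀ u < 224625, (fun u => chkE tab 0 u) u = true := ext_range (a := 220467) (len := 4158) h97 e0_97
  have h99 : ∀ u < 226266, (fun u => chkE tab 0 u) u = true := ext_range (a := 224625) (len := 1641) h98 e0_98
  have h100 : ∀ u < 227923, (fun u => chkE tab 0 u) u = true := ext_range (a := 226266) (len := 1657) h99 e0_99
  have h101 : ∀ u < 229775, (fun u => chkE tab 0 u) u = true := ext_range (a := 227923) (len := 1852) h100 e0_100
  have h102 : ∀ u < 231501, (fun u => chkE tab 0 u) u = true := ext_range (a := 229775) (len := 1726) h101 e0_101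
  have h103 : ∀ u < 233078, (fun u => chkE tab 0 u) u = true := ext_range (a := 231501) (len := 1577) h102 e0_102
  have h104 : ∀ u < 234612, (fun u => chkE tab 0 u) u = true := ext_range (a := 233078) (len := 1534) h103 e0_103
  have h105 : ∀ u < 236204, (fun u => chkE tab 0 u) u = true := ext_range (a := 234612) (len := 1592) h104 e0_104
  have h106 : ∀ u < 239901, (fun u => chkE tab 0 u) u = true := ext_range (a := 236204) (len := 3697) h105 e0_105
  have h107 : ∀ u < 245970, (fun u => chkE tab 0 u) u = true := ext_range (a := 239901) (len := 6069) h106 e0_106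
  have h108 : ∀ u < 247606, (fun u => chkE tab 0 u) u = true := ext_range (a := 245970) (len := 1636) h107 e0_107
  have h109 : ∀ u < 249257, (fun u => chkE tab 0 u) u = true := ext_range (a := 247606) (len := 1651) h108 e0_108
  have h110 : ∀ u < 250861, (fun u => chkE tab 0 u) u = true := ext_range (a := 249257) (len := 1604) h109 e0_109
  have h111 : ∀ u < 252730, (fun u => chkE tab 0 u) u = true := ext_range (a := 250861) (len := 1869) h110 e0_110
  have h112 : ∀ u < 254487, (fun u => chkE tab 0 u) u = true := ext_range (a := 252730) (len := 1757) h111 e0_111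
  have h113 : ∀ u < 256060, (fun u => chkE tab 0 u) u = true := ext_range (a := 254487) (len := 1573) h112 e0_112
  have h114 : ∀ u < 257579, (fun u => chkE tab 0 u) u = true := ext_range (a := 256060) (len := 1519) h113 e0_113
  have h115 : ∀ u < 259167, (fun u => chkE tab 0 u) u = true := ext_range (a := 257579) (len := 1588) h114 e0_114
  have h116 : ∀ u < 263446, (fun u => chkE tab 0 u) u = true := ext_range (a := 259167) (len := 4279) h115 e0_115
  have h117 : ∀ u < 269471, (fun u => chkE tab 0 u) u = true := ext_range (a := 263446) (len := 6025) h116 e0_116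
  have h118 : ∀ u < 271107, (fun u => chkE tab 0 u) u = true := ext_range (a := 269471) (len := 1636) h117 e0_117
  have h119 : ∀ u < 272789, (fun u => chkE tab 0 u) u = true := ext_range (a := 271107) (len := 1682) h118 e0_118
  have h120 : ∀ u < 274379, (fun u => chkE tab 0 u) u = true := ext_range (a := 272789) (len := 1590) h119 e0_119
  have h121 : ∀ u < 276296, (fun u => chkE tab 0 u) u = true := ext_range (a := 274379) (len := 1917) h120 e0_120
  have h122 : ∀ u < 277977, (fun u => chkE tab 0 u) u = true := ext_range (a := 276296) (len := 1681) h121 e0_121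
  have h123 : ∀ u < 279672, (fun u => chkE tab 0 u) u = true := ext_range (a := 277977) (len := 1695) h122 e0_122
  have h124 : ∀ u < 281197, (fun u => chkE tab 0 u) u = true := ext_range (a := 279672) (len := 1525) h123 e0_123
  have h125 : ∀ u < 282759, (fun u => chkE tab 0 u) u = true := ext_range (a := 281197) (len := 1562) h124 e0_124
  have h126 : ∀ u < 285337, (fun u => chkE tab 0 u) u = true := ext_range (a := 282759) (len := 2578) h125 e0_125
  have h127 : ∀ u < 291617, (fun u => chkE tab 0 u) u = true := ext_range (a := 285337) (len := 6280) h126 e0_126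
  have h128 : ∀ u < 295181, (fun u => chkE tab 0 u) u = true := ext_range (a := 291617) (len := 3564) h127 e0_127
  have h129 : ∀ u < 296776, (fun u => chkE tab 0 u) u = true := ext_range (a := 295181) (len := 1595) h128 e0_128
  have h130 : ∀ u < 298450, (fun u => chkE tab 0 u) u = true := ext_range (a := 296776) (len := 1674) h129 e0_129
  have h131 : ∀ u < 300079, (fun u => chkE tab 0 u) u = true := ext_range (a := 298450) (len := 1629) h130 e0_130
  have h132 : ∀ u < 301991, (fun u => chkE tab 0 u) u = true := ext_range (a := 300079) (len := 1912) h131 e0_131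
  have h133 : ∀ u < 303732, (fun u => chkE tab 0 u) u = true := ext_range (a := 301991) (len := 1741) h132 e0_132
  have h134 : ∀ u < 305419, (fun u => chkE tab 0 u) u = true := ext_range (a := 303732) (len := 1687) h133 e0_133
  have h135 : ∀ u < 306914, (fun u => chkE tab 0 u) u = true := ext_range (a := 305419) (len := 1495) h134 e0_134
  have h136 : ∀ u < 308479, (fun u => chkE tab 0 u) u = true := ext_range (a := 306914) (len := 1565) h135 e0_135
  have h137 : ∀ u < 312708, (fun u => chkE tab 0 u) u = true := ext_range (a := 308479) (len := 4229) h136 e0_136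
  have h138 : ∀ u < 318989, (fun u => chkE tab 0 u) u = true := ext_range (a := 312708) (len := 6281) h137 e0_137
  have h139 : ∀ u < 321201, (fun u => chkE tab 0 u) u = true := ext_range (a := 318989) (len := 2212) h138 e0_138
  have h140 : ∀ u < 322961, (fun u => chkE tab 0 u) u = true := ext_range (a := 321201) (len := 1760) h139 e0_139
  have h141 : ∀ u < 324560, (fun u => chkE tab 0 u) u = true := ext_range (a := 322961) (len := 1599) h140 e0_140
  have h142 : ∀ u < 326278, (fun u => chkE tab 0 u) u = true := ext_range (a := 324560) (len := 1718) h141 e0_141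
  have h143 : ∀ u < 328055, (fun u => chkE tab 0 u) u = true := ext_range (a := 326278) (len := 1777) h142 e0_142
  have h144 : ∀ u < 329916, (fun u => chkE tab 0 u) u = true := ext_range (a := 328055) (len := 1861) h143 e0_143
  have h145 : ∀ u < 331457, (fun u => chkE tab 0 u) u = true := ext_range (a := 329916) (len := 1541) h144 e0_144
  have h146 : ∀ u < 333011, (fun u => chkE tab 0 u) u = true := ext_range (a := 331457) (len := 1554) h145 e0_145
  have h147 : ∀ u < 335656, (fun u => chkE tab 0 u) u = true := ext_range (a := 333011) (len := 2645) h146 e0_146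
  have h148 : ∀ u < 342059, (fun u => chkE tab 0 u) u = true := ext_range (a := 335656) (len := 6403) h147 e0_147
  have h149 : ∀ u < 345429, (fun u => chkE tab 0 u) u = true := ext_range (a := 342059) (len := 3370) h148 e0_148
  have h150 : ∀ u < 347226, (fun u => chkE tab 0 u) u = true := ext_range (a := 345429) (len := 1797) h149 e0_149
  have h151 : ∀ u < 348817, (fun u => chkE tab 0 u) u = true := ext_range (a := 347226) (len := 1591) h150 e0_150
  have h152 : ∀ u < 350617, (fun u => chkE tab 0 u) u = true := ext_range (a := 348817) (len := 1800) h151 e0_151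
  have h153 : ∀ u < 352452, (fun u => chkE tab 0 u) u = true := ext_range (a := 350617) (len := 1835) h152 e0_152
  have h154 : ∀ u < 354075, (fun u => chkE tab 0 u) u = true := ext_range (a := 352452) (len := 1623) h153 e0_153
  have h155 : ∀ u < 355618, (fun u => chkE tab 0 u) u = true := ext_range (a := 354075) (len := 1543) h154 e0_154
  have h156 : ∀ u < 359486, (fun u => chkE tab 0 u) u = true := ext_range (a := 355618) (len := 3868) h155 e0_155
  have h157 : ∀ u < 365164, (fun u => chkE tab 0 u) u = true := ext_range (a := 359486) (len := 5678) h156 e0_156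
  have h158 : ∀ u < 366961, (fun u => chkE tab 0 u) u = true := ext_range (a := 365164) (len := 1797) h157 e0_157
  have h159 : ∀ u < 368597, (fun u => chkE tab 0 u) u = true := ext_range (a := 366961) (len := 1636) h158 e0_158
  have h160 : ∀ u < 370502, (fun u => chkE tab 0 u) u = true := ext_range (a := 368597) (len := 1905) h159 e0_159
  have h161 : ∀ u < 372072, (fun u => chkE tab 0 u) u = true := ext_range (a := 370502) (len := 1570) h160 e0_160
  have h162 : ∀ u < 374389, (fun u => chkE tab 0 u) u = true := ext_range (a := 372072) (len := 2317) h161 e0_161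
  have h163 : ∀ u < 379619, (fun u => chkE tab 0 u) u = true := ext_range (a := 374389) (len := 5230) h162 e0_162
  have h164 : ∀ u < 381256, (fun u => chkE tab 0 u) u = true := ext_range (a := 379619) (len := 1637) h163 e0_163
  have h165 : ∀ u < 383043, (fun u => chkE tab 0 u) u = true := ext_range (a := 381256) (len := 1787) h164 e0_164
  have h166 : ∀ u < 385966, (fun u => chkE tab 0 u) u = true := ext_range (a := 383043) (len := 2923) h165 e0_165
  have h167 : ∀ u < 388735, (fun u => chkE tab 0 u) u = true := ext_range (a := 385966) (len := 2769) h166 e0_166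
  have h168 : ∀ u < 391053, (fun u => chkE tab 0 u) u = true := ext_range (a := 388735) (len := 2318) h167 e0_167
  have h169 : ∀ u < 393650, (fun u => chkE tab 0 u) u = true := ext_range (a := 391053) (len := 2597) h168 e0_168
  have h170 : ∀ u < 394454, (fun u => chkE tab 0 u) u = true := ext_range (a := 393650) (len := 804) h169 e0_169
  exact h170

theorem hE1 : ∀ u < 394454, chkE tab 1 u = true := by
  have h0 : ∀ u < 0, (fun u => chkE tab 1 u) u = true := range_zero
  have h1 : ∀ u < 1815, (fun u => chkE tab 1 u) u = true := ext_range (a := 0) (len := 1815) h0 e1_0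
  have h2 : ∀ u < 3707, (fun u => chkE tab 1 u) u = true := ext_range (a := 1815) (len := 1892) h1 e1_1
  have h3 : ∀ u < 5554, (fun u => chkE tab 1 u) u = true := ext_range (a := 3707) (len := 1847) h2 e1_2
  have h4 : ∀ u < 7490, (fun u => chkE tab 1 u) u = true := ext_range (a := 5554) (len := 1936) h3 e1_3
  have h5 : ∀ u < 9688, (fun u => chkE tab 1 u) u = true := ext_range (a := 7490) (len := 2198) h4 e1_4
  have h6 : ∀ u < 12167, (fun u => chkE tab 1 u) u = true := ext_range (a := 9688) (len := 2479) h5 e1_5
  have h7 : ∀ u < 13920, (fun u => chkE tab 1 u) u = true := ext_range (a := 12167) (len := 1753) h6 e1_6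
  have h8 : ∀ u < 16051, (fun u => chkE tab 1 u) u = true := ext_range (a := 13920) (len := 2131) h7 e1_7
  have h9 : ∀ u < 17786, (fun u => chkE tab 1 u) u = true := ext_range (a := 16051) (len := 1735) h8 e1_8
  have h10 : ∀ u < 20026, (fun u => chkE tab 1 u) u = true := ext_range (a := 17786) (len := 2240) h9 e1_9
  have h11 : ∀ u < 21812, (fun u => chkE tab 1 u) u = true := ext_range (a := 20026) (len := 1786) h10 e1_10
  have h12 : ∀ u < 23553, (fun u => chkE tab 1 u) u = true := ext_range (a := 21812) (len := 1741) h11 e1_11
  have h13 : ∀ u < 25966, (fun u => chkE tab 1 u) u = true := ext_range (a := 23553) (len := 2413) h12 e1_12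
  have h14 : ∀ u < 27857, (fun u => chkE tab 1 u) u = true := ext_range (a := 25966) (len := 1891) h13 e1_13
  have h15 : ∀ u < 29601, (fun u => chkE tab 1 u) u = true := ext_range (a := 27857) (len := 1744) h14 e1_14
  have h16 : ∀ u < 31397, (fun u => chkE tab 1 u) u = true := ext_range (a := 29601) (len := 1796) h15 e1_15
  have h17 : ∀ u < 33956, (fun u => chkE tab 1 u) u = true := ext_range (a := 31397) (len := 2559) h16 e1_16
  have h18 : ∀ u < 35903, (fun u => chkE tab 1 u) u = true := ext_range (a := 33956) (len := 1947) h17 e1_17
  have h19 : ∀ u < 37734, (fun u => chkE tab 1 u) u = true := ext_range (a := 35903) (len := 1831) h18 e1_18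
  have h20 : ∀ u < 39491, (fun u => chkE tab 1 u) u = true := ext_range (a := 37734) (len := 1757) h19 e1_19
  have h21 : ∀ u < 41318, (fun u => chkE tab 1 u) u = true := ext_range (a := 39491) (len := 1827) h20 e1_20
  have h22 : ∀ u < 43810, (fun u => chkE tab 1 u) u = true := ext_range (a := 41318) (len := 2492) h21 e1_21
  have h23 : ∀ u < 45987, (fun u => chkE tab 1 u) u = true := ext_range (a := 43810) (len := 2177) h22 e1_22
  have h24 : ∀ u < 47967, (fun u => chkE tab 1 u) u = true := ext_range (a := 45987) (len := 1980) h23 e1_23
  have h25 : ∀ u < 50024, (fun u => chkE tab 1 u) u = true := ext_range (a := 47967) (len := 2057) h24 e1_24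
  have h26 : ∀ u < 51752, (fun u => chkE tab 1 u) u = true := ext_range (a := 50024) (len := 1728) h25 e1_25
  have h27 : ∀ u < 53510, (fun u => chkE tab 1 u) u = true := ext_range (a := 51752) (len := 1758) h26 e1_26
  have h28 : ∀ u < 55373, (fun u => chkE tab 1 u) u = true := ext_range (a := 53510) (len := 1863) h27 e1_27
  have h29 : ∀ u < 57175, (fun u => chkE tab 1 u) u = true := ext_range (a := 55373) (len := 1802) h28 e1_28
  have h30 : ∀ u < 59917, (fun u => chkE tab 1 u) u = true := ext_range (a := 57175) (len := 2742) h29 e1_29
  have h31 : ∀ u < 62248, (fun u => chkE tab 1 u) u = true := ext_range (a := 59917) (len := 2331) h30 e1_30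
  have h32 : ∀ u < 64200, (fun u => chkE tab 1 u) u = true := ext_range (a := 62248) (len := 1952) h31 e1_31
  have h33 : ∀ u < 66252, (fun u => chkE tab 1 u) u = true := ext_range (a := 64200) (len := 2052) h32 e1_32
  have h34 : ∀ u < 68416, (fun u => chkE tab 1 u) u = true := ext_range (a := 66252) (len := 2164) h33 e1_33
  have h35 : ∀ u < 70139, (fun u => chkE tab 1 u) u = true := ext_range (a := 68416) (len := 1723) h34 e1_34
  have h36 : ∀ u < 71948, (fun u => chkE tab 1 u) u = true := ext_range (a := 70139) (len := 1809) h35 e1_35
  have h37 : ∀ u < 73742, (fun u => chkE tab 1 u) u = true := ext_range (a := 71948) (len := 1794) h36 e1_36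
  have h38 : ∀ u < 75623, (fun u => chkE tab 1 u) u = true := ext_range (a := 73742) (len := 1881) h37 e1_37
  have h39 : ∀ u < 77492, (fun u => chkE tab 1 u) u = true := ext_range (a := 75623) (len := 1869) h38 e1_38
  have h40 : ∀ u < 79285, (fun u => chkE tab 1 u) u = true := ext_range (a := 77492) (len := 1793) h39 e1_39
  have h41 : ∀ u < 82102, (fun u => chkE tab 1 u) u = true := ext_range (a := 79285) (len := 2817) h40 e1_40
  have h42 : ∀ u < 84743, (fun u => chkE tab 1 u) u = true := ext_range (a := 82102) (len := 2641) h41 e1_41
  have h43 : ∀ u < 86727, (fun u => chkE tab 1 u) u = true := ext_range (a := 84743) (len := 1984) h42 e1_42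
  have h44 : ∀ u < 88736, (fun u => chkE tab 1 u) u = true := ext_range (a := 86727) (len := 2009) h43 e1_43
  have h45 : ∀ u < 90805, (fun u => chkE tab 1 u) u = true := ext_range (a := 88736) (len := 2069) h44 e1_44
  have h46 : ∀ u < 92986, (fun u => chkE tab 1 u) u = true := ext_range (a := 90805) (len := 2181) h45 e1_45
  have h47 : ∀ u < 95069, (fun u => chkE tab 1 u) u = true := ext_range (a := 92986) (len := 2083) h46 e1_46
  have h48 : ∀ u < 96817, (fun u => chkE tab 1 u) u = true := ext_range (a := 95069) (len := 1748) h47 e1_47
  have h49 : ∀ u < 98665, (fun u => chkE tab 1 u) u = true := ext_range (a := 96817) (len := 1848) h48 e1_48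
  have h50 : ∀ u < 100424, (fun u => chkE tab 1 u) u = true := ext_range (a := 98665) (len := 1759) h49 e1_49
  have h51 : ∀ u < 102293, (fun u => chkE tab 1 u) u = true := ext_range (a := 100424) (len := 1869) h50 e1_50
  have h52 : ∀ u < 104119, (fun u => chkE tab 1 u) u = true := ext_range (a := 102293) (len := 1826) h51 e1_51
  have h53 : ∀ u < 106035, (fun u => chkE tab 1 u) u = true := ext_range (a := 104119) (len := 1916) h52 e1_52
  have h54 : ∀ u < 107902, (fun u => chkE tab 1 u) u = true := ext_range (a := 106035) (len := 1867) h53 e1_53
  have h55 : ∀ u < 109751, (fun u => chkE tab 1 u) u = true := ext_range (a := 107902) (len := 1849) h54 e1_54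
  have h56 : ∀ u < 112473, (fun u => chkE tab 1 u) u = true := ext_range (a := 109751) (len := 2722) h55 e1_55
  have h57 : ∀ u < 115184, (fun u => chkE tab 1 u) u = true := ext_range (a := 112473) (len := 2711) h56 e1_56
  have h58 : ∀ u < 117817, (fun u => chkE tab 1 u) u = true := ext_range (a := 115184) (len := 2633) h57 e1_57
  have h59 : ∀ u < 120165, (fun u => chkE tab 1 u) u = true := ext_range (a := 117817) (len := 2348) h58 e1_58
  have h60 : ∀ u < 122727, (fun u => chkE tab 1 u) u = true := ext_range (a := 120165) (len := 2562) h59 e1_59
  have h61 : ∀ u < 125922, (fun u => chkE tab 1 u) u = true := ext_range (a := 122727) (len := 3195) h60 e1_60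
  have h62 : ∀ u < 129131, (fun u => chkE tab 1 u) u = true := ext_range (a := 125922) (len := 3209) h61 e1_61
  have h63 : ∀ u < 132140, (fun u => chkE tab 1 u) u = true := ext_range (a := 129131) (len := 3009) h62 e1_62
  have h64 : ∀ u < 134405, (fun u => chkE tab 1 u) u = true := ext_range (a := 132140) (len := 2265) h63 e1_63
  have h65 : ∀ u < 136627, (fun u => chkE tab 1 u) u = true := ext_range (a := 134405) (len := 2222) h64 e1_64
  have h66 : ∀ u < 139241, (fun u => chkE tab 1 u) u = true := ext_range (a := 136627) (len := 2614) h65 e1_65
  have h67 : ∀ u < 142309, (fun u => chkE tab 1 u) u = true := ext_range (a := 139241) (len := 3068) h66 e1_66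
  have h68 : ∀ u < 145872, (fun u => chkE tab 1 u) u = true := ext_range (a := 142309) (len := 3563) h67 e1_67
  have h69 : ∀ u < 149020, (fun u => chkE tab 1 u) u = true := ext_range (a := 145872) (len := 3148) h68 e1_68
  have h70 : ∀ u < 152038, (fun u => chkE tab 1 u) u = true := ext_range (a := 149020) (len := 3018) h69 e1_69
  have h71 : ∀ u < 156602, (fun u => chkE tab 1 u) u = true := ext_range (a := 152038) (len := 4564) h70 e1_70
  have h72 : ∀ u < 161777, (fun u => chkE tab 1 u) u = true := ext_range (a := 156602) (len := 5175) h71 e1_71
  have h73 : ∀ u < 163930, (fun u => chkE tab 1 u) u = true := ext_range (a := 161777) (len := 2153) h72 e1_72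
  have h74 : ∀ u < 166071, (fun u => chkE tab 1 u) u = true := ext_range (a := 163930) (len := 2141) h73 e1_73
  have h75 : ∀ u < 168370, (fun u => chkE tab 1 u) u = true := ext_range (a := 166071) (len := 2299) h74 e1_74
  have h76 : ∀ u < 170154, (fun u => chkE tab 1 u) u = true := ext_range (a := 168370) (len := 1784) h75 e1_75
  have h77 : ∀ u < 172166, (fun u => chkE tab 1 u) u = true := ext_range (a := 170154) (len := 2012) h76 e1_76
  have h78 : ∀ u < 174090, (fun u => chkE tab 1 u) u = true := ext_range (a := 172166) (len := 1924) h77 e1_77
  have h79 : ∀ u < 176089, (fun u => chkE tab 1 u) u = true := ext_range (a := 174090) (len := 1999) h78 e1_78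
  have h80 : ∀ u < 179557, (fun u => chkE tab 1 u) u = true := ext_range (a := 176089) (len := 3468) h79 e1_79
  have h81 : ∀ u < 181741, (fun u => chkE tab 1 u) u = true := ext_range (a := 179557) (len := 2184) h80 e1_80
  have h82 : ∀ u < 183952, (fun u => chkE tab 1 u) u = true := ext_range (a := 181741) (len := 2211) h81 e1_81
  have h83 : ∀ u < 186251, (fun u => chkE tab 1 u) u = true := ext_range (a := 183952) (len := 2299) h82 e1_82
  have h84 : ∀ u < 188010, (fun u => chkE tab 1 u) u = true := ext_range (a := 186251) (len := 1759) h83 e1_83
  have h85 : ∀ u < 190172, (fun u => chkE tab 1 u) u = true := ext_range (a := 188010) (len := 2162) h84 e1_84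
  have h86 : ∀ u < 192121, (fun u => chkE tab 1 u) u = true := ext_range (a := 190172) (len := 1949) h85 e1_85
  have h87 : ∀ u < 194104, (fun u => chkE tab 1 u) u = true := ext_range (a := 192121) (len := 1983) h86 e1_86
  have h88 : ∀ u < 197575, (fun u => chkE tab 1 u) u = true := ext_range (a := 194104) (len := 3471) h87 e1_87
  have h89 : ∀ u < 199891, (fun u => chkE tab 1 u) u = true := ext_range (a := 197575) (len := 2316) h88 e1_88
  have h90 : ∀ u < 202199, (fun u => chkE tab 1 u) u = true := ext_range (a := 199891) (len := 2308) h89 e1_89
  have h91 : ∀ u < 204623, (fun u => chkE tab 1 u) u = true := ext_range (a := 202199) (len := 2424) h90 e1_90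
  have h92 : ∀ u < 206474, (fun u => chkE tab 1 u) u = true := ext_range (a := 204623) (len := 1851) h91 e1_91
  have h93 : ∀ u < 208534, (fun u => chkE tab 1 u) u = true := ext_range (a := 206474) (len := 2060) h92 e1_92
  have h94 : ∀ u < 210651, (fun u => chkE tab 1 u) u = true := ext_range (a := 208534) (len := 2117) h93 e1_93
  have h95 : ∀ u < 212542, (fun u => chkE tab 1 u) u = true := ext_range (a := 210651) (len := 1891) h94 e1_94
  have h96 : ∀ u < 215338, (fun u => chkE tab 1 u) u = true := ext_range (a := 212542) (len := 2796) h95 e1_95
  have h97 : ∀ u < 218224, (fun u => chkE tab 1 u) u = true := ext_range (a := 215338) (len := 2886) h96 e1_96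
  have h98 : ∀ u < 220638, (fun u => chkE tab 1 u) u = true := ext_range (a := 218224) (len := 2414) h97 e1_97
  have h99 : ∀ u < 222969, (fun u => chkE tab 1 u) u = true := ext_range (a := 220638) (len := 2331) h98 e1_98
  have h100 : ∀ u < 225281, (fun u => chkE tab 1 u) u = true := ext_range (a := 222969) (len := 2312) h99 e1_99
  have h101 : ∀ u < 227216, (fun u => chkE tab 1 u) u = true := ext_range (a := 225281) (len := 1935) h100 e1_100
  have h102 : ∀ u < 229300, (fun u => chkE tab 1 u) u = true := ext_range (a := 227216) (len := 2084) h101 e1_101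
  have h103 : ∀ u < 231450, (fun u => chkE tab 1 u) u = true := ext_range (a := 229300) (len := 2150) h102 e1_102
  have h104 : ∀ u < 233387, (fun u => chkE tab 1 u) u = true := ext_range (a := 231450) (len := 1937) h103 e1_103
  have h105 : ∀ u < 235349, (fun u => chkE tab 1 u) u = true := ext_range (a := 233387) (len := 1962) h104 e1_104
  have h106 : ∀ u < 238753, (fun u => chkE tab 1 u) u = true := ext_range (a := 235349) (len := 3404) h105 e1_105
  have h107 : ∀ u < 241457, (fun u => chkE tab 1 u) u = true := ext_range (a := 238753) (len := 2704) h106 e1_106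
  have h108 : ∀ u < 243762, (fun u => chkE tab 1 u) u = true := ext_range (a := 241457) (len := 2305) h107 e1_107
  have h109 : ∀ u < 246415, (fun u => chkE tab 1 u) u = true := ext_range (a := 243762) (len := 2653) h108 e1_108
  have h110 : ∀ u < 248349, (fun u => chkE tab 1 u) u = true := ext_range (a := 246415) (len := 1934) h109 e1_109
  have h111 : ∀ u < 250264, (fun u => chkE tab 1 u) u = true := ext_range (a := 248349) (len := 1915) h110 e1_110
  have h112 : ∀ u < 252647, (fun u => chkE tab 1 u) u = true := ext_range (a := 250264) (len := 2383) h111 e1_111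
  have h113 : ∀ u < 254680, (fun u => chkE tab 1 u) u = true := ext_range (a := 252647) (len := 2033) h112 e1_112
  have h114 : ∀ u < 256482, (fun u => chkE tab 1 u) u = true := ext_range (a := 254680) (len := 1802) h113 e1_113
  have h115 : ∀ u < 258451, (fun u => chkE tab 1 u) u = true := ext_range (a := 256482) (len := 1969) h114 e1_114
  have h116 : ∀ u < 262072, (fun u => chkE tab 1 u) u = true := ext_range (a := 258451) (len := 3621) h115 e1_115
  have h117 : ∀ u < 264727, (fun u => chkE tab 1 u) u = true := ext_range (a := 262072) (len := 2655) h116 e1_116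
  have h118 : ∀ u < 267077, (fun u => chkE tab 1 u) u = true := ext_range (a := 264727) (len := 2350) h117 e1_117
  have h119 : ∀ u < 269801, (fun u => chkE tab 1 u) u = true := ext_range (a := 267077) (len := 2724) h118 e1_118
  have h120 : ∀ u < 271751, (fun u => chkE tab 1 u) u = true := ext_range (a := 269801) (len := 1950) h119 e1_119
  have h121 : ∀ u < 273593, (fun u => chkE tab 1 u) u = true := ext_range (a := 271751) (len := 1842) h120 e1_120
  have h122 : ∀ u < 275893, (fun u => chkE tab 1 u) u = true := ext_range (a := 273593) (len := 2300) h121 e1_121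
  have h123 : ∀ u < 278104, (fun u => chkE tab 1 u) u = true := ext_range (a := 275893) (len := 2211) h122 e1_122
  have h124 : ∀ u < 280127, (fun u => chkE tab 1 u) u = true := ext_range (a := 278104) (len := 2023) h123 e1_123
  have h125 : ∀ u < 281923, (fun u => chkE tab 1 u) u = true := ext_range (a := 280127) (len := 1796) h124 e1_124
  have h126 : ∀ u < 285244, (fun u => chkE tab 1 u) u = true := ext_range (a := 281923) (len := 3321) h125 e1_125
  have h127 : ∀ u < 288102, (fun u => chkE tab 1 u) u = true := ext_range (a := 285244) (len := 2858) h126 e1_126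
  have h128 : ∀ u < 290600, (fun u => chkE tab 1 u) u = true := ext_range (a := 288102) (len := 2498) h127 e1_127
  have h129 : ∀ u < 293139, (fun u => chkE tab 1 u) u = true := ext_range (a := 290600) (len := 2539) h128 e1_128
  have h130 : ∀ u < 295519, (fun u => chkE tab 1 u) u = true := ext_range (a := 293139) (len := 2380) h129 e1_129
  have h131 : ∀ u < 297684, (fun u => chkE tab 1 u) u = true := ext_range (a := 295519) (len := 2165) h130 e1_130
  have h132 : ∀ u < 299531, (fun u => chkE tab 1 u) u = true := ext_range (a := 297684) (len := 1847) h131 e1_131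
  have h133 : ∀ u < 302009, (fun u => chkE tab 1 u) u = true := ext_range (a := 299531) (len := 2478) h132 e1_132
  have h134 : ∀ u < 304004, (fun u => chkE tab 1 u) u = true := ext_range (a := 302009) (len := 1995) h133 e1_133
  have h135 : ∀ u < 305966, (fun u => chkE tab 1 u) u = true := ext_range (a := 304004) (len := 1962) h134 e1_134
  have h136 : ∀ u < 307911, (fun u => chkE tab 1 u) u = true := ext_range (a := 305966) (len := 1945) h135 e1_135
  have h137 : ∀ u < 311328, (fun u => chkE tab 1 u) u = true := ext_range (a := 307911) (len := 3417) h136 e1_136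
  have h138 : ∀ u < 314300, (fun u => chkE tab 1 u) u = true := ext_range (a := 311328) (len := 2972) h137 e1_137
  have h139 : ∀ u < 316910, (fun u => chkE tab 1 u) u = true := ext_range (a := 314300) (len := 2610) h138 e1_138
  have h140 : ∀ u < 319759, (fun u => chkE tab 1 u) u = true := ext_range (a := 316910) (len := 2849) h139 e1_139
  have h141 : ∀ u < 321944, (fun u => chkE tab 1 u) u = true := ext_range (a := 319759) (len := 2185) h140 e1_140
  have h142 : ∀ u < 323878, (fun u => chkE tab 1 u) u = true := ext_range (a := 321944) (len := 1934) h141 e1_141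
  have h143 : ∀ u < 325813, (fun u => chkE tab 1 u) u = true := ext_range (a := 323878) (len := 1935) h142 e1_142
  have h144 : ∀ u < 328313, (fun u => chkE tab 1 u) u = true := ext_range (a := 325813) (len := 2500) h143 e1_143
  have h145 : ∀ u < 330422, (fun u => chkE tab 1 u) u = true := ext_range (a := 328313) (len := 2109) h144 e1_144
  have h146 : ∀ u < 332336, (fun u => chkE tab 1 u) u = true := ext_range (a := 330422) (len := 1914) h145 e1_145
  have h147 : ∀ u < 335405, (fun u => chkE tab 1 u) u = true := ext_range (a := 332336) (len := 3069) h146 e1_146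
  have h148 : ∀ u < 338695, (fun u => chkE tab 1 u) u = true := ext_range (a := 335405) (len := 3290) h147 e1_147
  have h149 : ∀ u < 341329, (fun u => chkE tab 1 u) u = true := ext_range (a := 338695) (len := 2634) h148 e1_148
  have h150 : ∀ u < 344427, (fun u => chkE tab 1 u) u = true := ext_range (a := 341329) (len := 3098) h149 e1_149
  have h151 : ∀ u < 346532, (fun u => chkE tab 1 u) u = true := ext_range (a := 344427) (len := 2105) h150 e1_150
  have h152 : ∀ u < 348471, (fun u => chkE tab 1 u) u = true := ext_range (a := 346532) (len := 1939) h151 e1_151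
  have h153 : ∀ u < 350864, (fun u => chkE tab 1 u) u = true := ext_range (a := 348471) (len := 2393) h152 e1_152
  have h154 : ∀ u < 353098, (fun u => chkE tab 1 u) u = true := ext_range (a := 350864) (len := 2234) h153 e1_153
  have h155 : ∀ u < 354975, (fun u => chkE tab 1 u) u = true := ext_range (a := 353098) (len := 1877) h154 e1_154
  have h156 : ∀ u < 358278, (fun u => chkE tab 1 u) u = true := ext_range (a := 354975) (len := 3303) h155 e1_155
  have h157 : ∀ u < 361464, (fun u => chkE tab 1 u) u = true := ext_range (a := 358278) (len := 3186) h156 e1_156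
  have h158 : ∀ u < 364706, (fun u => chkE tab 1 u) u = true := ext_range (a := 361464) (len := 3242) h157 e1_157
  have h159 : ∀ u < 367084, (fun u => chkE tab 1 u) u = true := ext_range (a := 364706) (len := 2378) h158 e1_158
  have h160 : ∀ u < 369006, (fun u => chkE tab 1 u) u = true := ext_range (a := 367084) (len := 1922) h159 e1_159
  have h161 : ∀ u < 371352, (fun u => chkE tab 1 u) u = true := ext_range (a := 369006) (len := 2346) h160 e1_160
  have h162 : ∀ u < 373964, (fun u => chkE tab 1 u) u = true := ext_range (a := 371352) (len := 2612) h161 e1_161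
  have h163 : ∀ u < 377305, (fun u => chkE tab 1 u) u = true := ext_range (a := 373964) (len := 3341) h162 e1_162
  have h164 : ∀ u < 380281, (fun u => chkE tab 1 u) u = true := ext_range (a := 377305) (len := 2976) h163 e1_163
  have h165 : ∀ u < 382481, (fun u => chkE tab 1 u) u = true := ext_range (a := 380281) (len := 2200) h164 e1_164
  have h166 : ∀ u < 384947, (fun u => chkE tab 1 u) u = true := ext_range (a := 382481) (len := 2466) h165 e1_165
  have h167 : ∀ u < 388177, (fun u => chkE tab 1 u) u = true := ext_range (a := 384947) (len := 3230) h166 e1_166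
  have h168 : ∀ u < 390427, (fun u => chkE tab 1 u) u = true := ext_range (a := 388177) (len := 2250) h167 e1_167
  have h169 : ∀ u < 393334, (fun u => chkE tab 1 u) u = true := ext_range (a := 390427) (len := 2907) h168 e1_168
  have h170 : ∀ u < 394454, (fun u => chkE tab 1 u) u = true := ext_range (a := 393334) (len := 1120) h169 e1_169
  exact h170

theorem hE2 : ∀ u < 394454, chkE tab 2 u = true := by
  have h0 : ∀ u < 0, (fun u => chkE tab 2 u) u = true := range_zero
  have h1 : ∀ u < 1867, (fun u => chkE tab 2 u) u = true := ext_range (a := 0) (len := 1867) h0 e2_0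
  have h2 : ∀ u < 3809, (fun u => chkE tab 2 u) u = true := ext_range (a := 1867) (len := 1942) h1 e2_1
  have h3 : ∀ u < 5770, (fun u => chkE tab 2 u) u = true := ext_range (a := 3809) (len := 1961) h2 e2_2
  have h4 : ∀ u < 7684, (fun u => chkE tab 2 u) u = true := ext_range (a := 5770) (len := 1914) h3 e2_3
  have h5 : ∀ u < 9942, (fun u => chkE tab 2 u) u = true := ext_range (a := 7684) (len := 2258) h4 e2_4
  have h6 : ∀ u < 12433, (fun u => chkE tab 2 u) u = true := ext_range (a := 9942) (len := 2491) h5 e2_5
  have h7 : ∀ u < 14376, (fun u => chkE tab 2 u) u = true := ext_range (a := 12433) (len := 1943) h6 e2_6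
  have h8 : ∀ u < 16451, (fun u => chkE tab 2 u) u = true := ext_range (a := 14376) (len := 2075) h7 e2_7
  have h9 : ∀ u < 18363, (fun u => chkE tab 2 u) u = true := ext_range (a := 16451) (len := 1912) h8 e2_8
  have h10 : ∀ u < 20504, (fun u => chkE tab 2 u) u = true := ext_range (a := 18363) (len := 2141) h9 e2_9
  have h11 : ∀ u < 22377, (fun u => chkE tab 2 u) u = true := ext_range (a := 20504) (len := 1873) h10 e2_10
  have h12 : ∀ u < 24434, (fun u => chkE tab 2 u) u = true := ext_range (a := 22377) (len := 2057) h11 e2_11
  have h13 : ∀ u < 26575, (fun u => chkE tab 2 u) u = true := ext_range (a := 24434) (len := 2141) h12 e2_12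
  have h14 : ∀ u < 28499, (fun u => chkE tab 2 u) u = true := ext_range (a := 26575) (len := 1924) h13 e2_13
  have h15 : ∀ u < 30394, (fun u => chkE tab 2 u) u = true := ext_range (a := 28499) (len := 1895) h14 e2_14
  have h16 : ∀ u < 32562, (fun u => chkE tab 2 u) u = true := ext_range (a := 30394) (len := 2168) h15 e2_15
  have h17 : ∀ u < 34745, (fun u => chkE tab 2 u) u = true := ext_range (a := 32562) (len := 2183) h16 e2_16
  have h18 : ∀ u < 36777, (fun u => chkE tab 2 u) u = true := ext_range (a := 34745) (len := 2032) h17 e2_17
  have h19 : ∀ u < 38618, (fun u => chkE tab 2 u) u = true := ext_range (a := 36777) (len := 1841) h18 e2_18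
  have h20 : ∀ u < 40549, (fun u => chkE tab 2 u) u = true := ext_range (a := 38618) (len := 1931) h19 e2_19
  have h21 : ∀ u < 42572, (fun u => chkE tab 2 u) u = true := ext_range (a := 40549) (len := 2023) h20 e2_20
  have h22 : ∀ u < 44956, (fun u => chkE tab 2 u) u = true := ext_range (a := 42572) (len := 2384) h21 e2_21
  have h23 : ∀ u < 47033, (fun u => chkE tab 2 u) u = true := ext_range (a := 44956) (len := 2077) h22 e2_22
  have h24 : ∀ u < 49053, (fun u => chkE tab 2 u) u = true := ext_range (a := 47033) (len := 2020) h23 e2_23
  have h25 : ∀ u < 51031, (fun u => chkE tab 2 u) u = true := ext_range (a := 49053) (len := 1978) h24 e2_24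
  have h26 : ∀ u < 52920, (fun u => chkE tab 2 u) u = true := ext_range (a := 51031) (len := 1889) h25 e2_25
  have h27 : ∀ u < 54829, (fun u => chkE tab 2 u) u = true := ext_range (a := 52920) (len := 1909) h26 e2_26
  have h28 : ∀ u < 56781, (fun u => chkE tab 2 u) u = true := ext_range (a := 54829) (len := 1952) h27 e2_27
  have h29 : ∀ u < 59004, (fun u => chkE tab 2 u) u = true := ext_range (a := 56781) (len := 2223) h28 e2_28
  have h30 : ∀ u < 61427, (fun u => chkE tab 2 u) u = true := ext_range (a := 59004) (len := 2423) h29 e2_29
  have h31 : ∀ u < 63581, (fun u => chkE tab 2 u) u = true := ext_range (a := 61427) (len := 2154) h30 e2_30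
  have h32 : ∀ u < 65531, (fun u => chkE tab 2 u) u = true := ext_range (a := 63581) (len := 1950) h31 e2_31
  have h33 : ∀ u < 67572, (fun u => chkE tab 2 u) u = true := ext_range (a := 65531) (len := 2041) h32 e2_32
  have h34 : ∀ u < 69602, (fun u => chkE tab 2 u) u = true := ext_range (a := 67572) (len := 2030) h33 e2_33
  have h35 : ∀ u < 71504, (fun u => chkE tab 2 u) u = true := ext_range (a := 69602) (len := 1902) h34 e2_34
  have h36 : ∀ u < 73433, (fun u => chkE tab 2 u) u = true := ext_range (a := 71504) (len := 1929) h35 e2_35
  have h37 : ∀ u < 75354, (fun u => chkE tab 2 u) u = true := ext_range (a := 73433) (len := 1921) h36 e2_36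
  have h38 : ∀ u < 77333, (fun u => chkE tab 2 u) u = true := ext_range (a := 75354) (len := 1979) h37 e2_37
  have h39 : ∀ u < 79338, (fun u => chkE tab 2 u) u = true := ext_range (a := 77333) (len := 2005) h38 e2_38
  have h40 : ∀ u < 81656, (fun u => chkE tab 2 u) u = true := ext_range (a := 79338) (len := 2318) h39 e2_39
  have h41 : ∀ u < 84110, (fun u => chkE tab 2 u) u = true := ext_range (a := 81656) (len := 2454) h40 e2_40
  have h42 : ∀ u < 86327, (fun u => chkE tab 2 u) u = true := ext_range (a := 84110) (len := 2217) h41 e2_41
  have h43 : ∀ u < 88417, (fun u => chkE tab 2 u) u = true := ext_range (a := 86327) (len := 2090) h42 e2_42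
  have h44 : ∀ u < 90412, (fun u => chkE tab 2 u) u = true := ext_range (a := 88417) (len := 1995) h43 e2_43
  have h45 : ∀ u < 92462, (fun u => chkE tab 2 u) u = true := ext_range (a := 90412) (len := 2050) h44 e2_44
  have h46 : ∀ u < 94618, (fun u => chkE tab 2 u) u = true := ext_range (a := 92462) (len := 2156) h45 e2_45
  have h47 : ∀ u < 96564, (fun u => chkE tab 2 u) u = true := ext_range (a := 94618) (len := 1946) h46 e2_46
  have h48 : ∀ u < 98508, (fun u => chkE tab 2 u) u = true := ext_range (a := 96564) (len := 1944) h47 e2_47
  have h49 : ∀ u < 100375, (fun u => chkE tab 2 u) u = true := ext_range (a := 98508) (len := 1867) h48 e2_48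
  have h50 : ∀ u < 102397, (fun u => chkE tab 2 u) u = true := ext_range (a := 100375) (len := 2022) h49 e2_49
  have h51 : ∀ u < 104300, (fun u => chkE tab 2 u) u = true := ext_range (a := 102397) (len := 1903) h50 e2_50
  have h52 : ∀ u < 106294, (fun u => chkE tab 2 u) u = true := ext_range (a := 104300) (len := 1994) h51 e2_51
  have h53 : ∀ u < 108254, (fun u => chkE tab 2 u) u = true := ext_range (a := 106294) (len := 1960) h52 e2_52
  have h54 : ∀ u < 110282, (fun u => chkE tab 2 u) u = true := ext_range (a := 108254) (len := 2028) h53 e2_53
  have h55 : ∀ u < 112726, (fun u => chkE tab 2 u) u = true := ext_range (a := 110282) (len := 2444) h54 e2_54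
  have h56 : ∀ u < 115175, (fun u => chkE tab 2 u) u = true := ext_range (a := 112726) (len := 2449) h55 e2_55
  have h57 : ∀ u < 117750, (fun u => chkE tab 2 u) u = true := ext_range (a := 115175) (len := 2575) h56 e2_56
  have h58 : ∀ u < 120244, (fun u => chkE tab 2 u) u = true := ext_range (a := 117750) (len := 2494) h57 e2_57
  have h59 : ∀ u < 122800, (fun u => chkE tab 2 u) u = true := ext_range (a := 120244) (len := 2556) h58 e2_58
  have h60 : ∀ u < 126315, (fun u => chkE tab 2 u) u = true := ext_range (a := 122800) (len := 3515) h59 e2_59
  have h61 : ∀ u < 129543, (fun u => chkE tab 2 u) u = true := ext_range (a := 126315) (len := 3228) h60 e2_60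
  have h62 : ∀ u < 132735, (fun u => chkE tab 2 u) u = true := ext_range (a := 129543) (len := 3192) h61 e2_61
  have h63 : ∀ u < 135079, (fun u => chkE tab 2 u) u = true := ext_range (a := 132735) (len := 2344) h62 e2_62
  have h64 : ∀ u < 137302, (fun u => chkE tab 2 u) u = true := ext_range (a := 135079) (len := 2223) h63 e2_63
  have h65 : ∀ u < 140225, (fun u => chkE tab 2 u) u = true := ext_range (a := 137302) (len := 2923) h64 e2_64
  have h66 : ∀ u < 143900, (fun u => chkE tab 2 u) u = true := ext_range (a := 140225) (len := 3675) h65 e2_65
  have h67 : ∀ u < 147273, (fun u => chkE tab 2 u) u = true := ext_range (a := 143900) (len := 3373) h66 e2_66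
  have h68 : ∀ u < 151230, (fun u => chkE tab 2 u) u = true := ext_range (a := 147273) (len := 3957) h67 e2_67
  have h69 : ∀ u < 154893, (fun u => chkE tab 2 u) u = true := ext_range (a := 151230) (len := 3663) h68 e2_68
  have h70 : ∀ u < 160436, (fun u => chkE tab 2 u) u = true := ext_range (a := 154893) (len := 5543) h69 e2_69
  have h71 : ∀ u < 163652, (fun u => chkE tab 2 u) u = true := ext_range (a := 160436) (len := 3216) h70 e2_70
  have h72 : ∀ u < 166096, (fun u => chkE tab 2 u) u = true := ext_range (a := 163652) (len := 2444) h71 e2_71
  have h73 : ∀ u < 168434, (fun u => chkE tab 2 u) u = true := ext_range (a := 166096) (len := 2338) h72 e2_72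
  have h74 : ∀ u < 170479, (fun u => chkE tab 2 u) u = true := ext_range (a := 168434) (len := 2045) h73 e2_73
  have h75 : ∀ u < 172577, (fun u => chkE tab 2 u) u = true := ext_range (a := 170479) (len := 2098) h74 e2_74
  have h76 : ∀ u < 174632, (fun u => chkE tab 2 u) u = true := ext_range (a := 172577) (len := 2055) h75 e2_75
  have h77 : ∀ u < 176857, (fun u => chkE tab 2 u) u = true := ext_range (a := 174632) (len := 2225) h76 e2_76
  have h78 : ∀ u < 179237, (fun u => chkE tab 2 u) u = true := ext_range (a := 176857) (len := 2380) h77 e2_77
  have h79 : ∀ u < 181914, (fun u => chkE tab 2 u) u = true := ext_range (a := 179237) (len := 2677) h78 e2_78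
  have h80 : ∀ u < 184154, (fun u => chkE tab 2 u) u = true := ext_range (a := 181914) (len := 2240) h79 e2_79
  have h81 : ∀ u < 186407, (fun u => chkE tab 2 u) u = true := ext_range (a := 184154) (len := 2253) h80 e2_80
  have h82 : ∀ u < 188544, (fun u => chkE tab 2 u) u = true := ext_range (a := 186407) (len := 2137) h81 e2_81
  have h83 : ∀ u < 190700, (fun u => chkE tab 2 u) u = true := ext_range (a := 188544) (len := 2156) h82 e2_82
  have h84 : ∀ u < 192669, (fun u => chkE tab 2 u) u = true := ext_range (a := 190700) (len := 1969) h83 e2_83
  have h85 : ∀ u < 194990, (fun u => chkE tab 2 u) u = true := ext_range (a := 192669) (len := 2321) h84 e2_84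
  have h86 : ∀ u < 197458, (fun u => chkE tab 2 u) u = true := ext_range (a := 194990) (len := 2468) h85 e2_85
  have h87 : ∀ u < 200118, (fun u => chkE tab 2 u) u = true := ext_range (a := 197458) (len := 2660) h86 e2_86
  have h88 : ∀ u < 202402, (fun u => chkE tab 2 u) u = true := ext_range (a := 200118) (len := 2284) h87 e2_87
  have h89 : ∀ u < 204754, (fun u => chkE tab 2 u) u = true := ext_range (a := 202402) (len := 2352) h88 e2_88
  have h90 : ∀ u < 206879, (fun u => chkE tab 2 u) u = true := ext_range (a := 204754) (len := 2125) h89 e2_89
  have h91 : ∀ u < 209133, (fun u => chkE tab 2 u) u = true := ext_range (a := 206879) (len := 2254) h90 e2_90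
  have h92 : ∀ u < 211123, (fun u => chkE tab 2 u) u = true := ext_range (a := 209133) (len := 1990) h91 e2_91
  have h93 : ∀ u < 213127, (fun u => chkE tab 2 u) u = true := ext_range (a := 211123) (len := 2004) h92 e2_92
  have h94 : ∀ u < 215657, (fun u => chkE tab 2 u) u = true := ext_range (a := 213127) (len := 2530) h93 e2_93
  have h95 : ∀ u < 218250, (fun u => chkE tab 2 u) u = true := ext_range (a := 215657) (len := 2593) h94 e2_94
  have h96 : ∀ u < 220889, (fun u => chkE tab 2 u) u = true := ext_range (a := 218250) (len := 2639) h95 e2_95
  have h97 : ∀ u < 223087, (fun u => chkE tab 2 u) u = true := ext_range (a := 220889) (len := 2198) h96 e2_96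
  have h98 : ∀ u < 225448, (fun u => chkE tab 2 u) u = true := ext_range (a := 223087) (len := 2361) h97 e2_97
  have h99 : ∀ u < 227622, (fun u => chkE tab 2 u) u = true := ext_range (a := 225448) (len := 2174) h98 e2_98
  have h100 : ∀ u < 229837, (fun u => chkE tab 2 u) u = true := ext_range (a := 227622) (len := 2215) h99 e2_99
  have h101 : ∀ u < 231894, (fun u => chkE tab 2 u) u = true := ext_range (a := 229837) (len := 2057) h100 e2_100
  have h102 : ∀ u < 233902, (fun u => chkE tab 2 u) u = true := ext_range (a := 231894) (len := 2008) h101 e2_101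
  have h103 : ∀ u < 236151, (fun u => chkE tab 2 u) u = true := ext_range (a := 233902) (len := 2249) h102 e2_102
  have h104 : ∀ u < 238745, (fun u => chkE tab 2 u) u = true := ext_range (a := 236151) (len := 2594) h103 e2_103
  have h105 : ∀ u < 241379, (fun u => chkE tab 2 u) u = true := ext_range (a := 238745) (len := 2634) h104 e2_104
  have h106 : ∀ u < 243936, (fun u => chkE tab 2 u) u = true := ext_range (a := 241379) (len := 2557) h105 e2_105
  have h107 : ∀ u < 246332, (fun u => chkE tab 2 u) u = true := ext_range (a := 243936) (len := 2396) h106 e2_106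
  have h108 : ∀ u < 248671, (fun u => chkE tab 2 u) u = true := ext_range (a := 246332) (len := 2339) h107 e2_107
  have h109 : ∀ u < 250695, (fun u => chkE tab 2 u) u = true := ext_range (a := 248671) (len := 2024) h108 e2_108
  have h110 : ∀ u < 253050, (fun u => chkE tab 2 u) u = true := ext_range (a := 250695) (len := 2355) h109 e2_109
  have h111 : ∀ u < 255019, (fun u => chkE tab 2 u) u = true := ext_range (a := 253050) (len := 1969) h110 e2_110
  have h112 : ∀ u < 256926, (fun u => chkE tab 2 u) u = true := ext_range (a := 255019) (len := 1907) h111 e2_111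
  have h113 : ∀ u < 259219, (fun u => chkE tab 2 u) u = true := ext_range (a := 256926) (len := 2293) h112 e2_112
  have h114 : ∀ u < 261842, (fun u => chkE tab 2 u) u = true := ext_range (a := 259219) (len := 2623) h113 e2_113
  have h115 : ∀ u < 264584, (fun u => chkE tab 2 u) u = true := ext_range (a := 261842) (len := 2742) h114 e2_114
  have h116 : ∀ u < 267171, (fun u => chkE tab 2 u) u = true := ext_range (a := 264584) (len := 2587) h115 e2_115
  have h117 : ∀ u < 269546, (fun u => chkE tab 2 u) u = true := ext_range (a := 267171) (len := 2375) h116 e2_116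
  have h118 : ∀ u < 271963, (fun u => chkE tab 2 u) u = true := ext_range (a := 269546) (len := 2417) h117 e2_117
  have h119 : ∀ u < 273974, (fun u => chkE tab 2 u) u = true := ext_range (a := 271963) (len := 2011) h118 e2_118
  have h120 : ∀ u < 276258, (fun u => chkE tab 2 u) u = true := ext_range (a := 273974) (len := 2284) h119 e2_119
  have h121 : ∀ u < 278380, (fun u => chkE tab 2 u) u = true := ext_range (a := 276258) (len := 2122) h120 e2_120
  have h122 : ∀ u < 280283, (fun u => chkE tab 2 u) u = true := ext_range (a := 278380) (len := 1903) h121 e2_121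
  have h123 : ∀ u < 282124, (fun u => chkE tab 2 u) u = true := ext_range (a := 280283) (len := 1841) h122 e2_122
  have h124 : ∀ u < 285002, (fun u => chkE tab 2 u) u = true := ext_range (a := 282124) (len := 2878) h123 e2_123
  have h125 : ∀ u < 287794, (fun u => chkE tab 2 u) u = true := ext_range (a := 285002) (len := 2792) h124 e2_124
  have h126 : ∀ u < 290479, (fun u => chkE tab 2 u) u = true := ext_range (a := 287794) (len := 2685) h125 e2_125
  have h127 : ∀ u < 292753, (fun u => chkE tab 2 u) u = true := ext_range (a := 290479) (len := 2274) h126 e2_126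
  have h128 : ∀ u < 295306, (fun u => chkE tab 2 u) u = true := ext_range (a := 292753) (len := 2553) h127 e2_127
  have h129 : ∀ u < 297561, (fun u => chkE tab 2 u) u = true := ext_range (a := 295306) (len := 2255) h128 e2_128
  have h130 : ∀ u < 299731, (fun u => chkE tab 2 u) u = true := ext_range (a := 297561) (len := 2170) h129 e2_129
  have h131 : ∀ u < 301970, (fun u => chkE tab 2 u) u = true := ext_range (a := 299731) (len := 2239) h130 e2_130
  have h132 : ∀ u < 304098, (fun u => chkE tab 2 u) u = true := ext_range (a := 301970) (len := 2128) h131 e2_131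
  have h133 : ∀ u < 305966, (fun u => chkE tab 2 u) u = true := ext_range (a := 304098) (len := 1868) h132 e2_132
  have h134 : ∀ u < 307978, (fun u => chkE tab 2 u) u = true := ext_range (a := 305966) (len := 2012) h133 e2_133
  have h135 : ∀ u < 311048, (fun u => chkE tab 2 u) u = true := ext_range (a := 307978) (len := 3070) h134 e2_134
  have h136 : ∀ u < 313927, (fun u => chkE tab 2 u) u = true := ext_range (a := 311048) (len := 2879) h135 e2_135
  have h137 : ∀ u < 316538, (fun u => chkE tab 2 u) u = true := ext_range (a := 313927) (len := 2611) h136 e2_136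
  have h138 : ∀ u < 318961, (fun u => chkE tab 2 u) u = true := ext_range (a := 316538) (len := 2423) h137 e2_137
  have h139 : ∀ u < 321414, (fun u => chkE tab 2 u) u = true := ext_range (a := 318961) (len := 2453) h138 e2_138
  have h140 : ∀ u < 323708, (fun u => chkE tab 2 u) u = true := ext_range (a := 321414) (len := 2294) h139 e2_139
  have h141 : ∀ u < 325911, (fun u => chkE tab 2 u) u = true := ext_range (a := 323708) (len := 2203) h140 e2_140
  have h142 : ∀ u < 328251, (fun u => chkE tab 2 u) u = true := ext_range (a := 325911) (len := 2340) h141 e2_141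
  have h143 : ∀ u < 330277, (fun u => chkE tab 2 u) u = true := ext_range (a := 328251) (len := 2026) h142 e2_142
  have h144 : ∀ u < 332208, (fun u => chkE tab 2 u) u = true := ext_range (a := 330277) (len := 1931) h143 e2_143
  have h145 : ∀ u < 335011, (fun u => chkE tab 2 u) u = true := ext_range (a := 332208) (len := 2803) h144 e2_144
  have h146 : ∀ u < 338177, (fun u => chkE tab 2 u) u = true := ext_range (a := 335011) (len := 3166) h145 e2_145
  have h147 : ∀ u < 340952, (fun u => chkE tab 2 u) u = true := ext_range (a := 338177) (len := 2775) h146 e2_146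
  have h148 : ∀ u < 343474, (fun u => chkE tab 2 u) u = true := ext_range (a := 340952) (len := 2522) h147 e2_147
  have h149 : ∀ u < 346000, (fun u => chkE tab 2 u) u = true := ext_range (a := 343474) (len := 2526) h148 e2_148
  have h150 : ∀ u < 348400, (fun u => chkE tab 2 u) u = true := ext_range (a := 346000) (len := 2400) h149 e2_149
  have h151 : ∀ u < 350624, (fun u => chkE tab 2 u) u = true := ext_range (a := 348400) (len := 2224) h150 e2_150
  have h152 : ∀ u < 352833, (fun u => chkE tab 2 u) u = true := ext_range (a := 350624) (len := 2209) h151 e2_151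
  have h153 : ∀ u < 354759, (fun u => chkE tab 2 u) u = true := ext_range (a := 352833) (len := 1926) h152 e2_152
  have h154 : ∀ u < 357864, (fun u => chkE tab 2 u) u = true := ext_range (a := 354759) (len := 3105) h153 e2_153
  have h155 : ∀ u < 361131, (fun u => chkE tab 2 u) u = true := ext_range (a := 357864) (len := 3267) h154 e2_154
  have h156 : ∀ u < 363883, (fun u => chkE tab 2 u) u = true := ext_range (a := 361131) (len := 2752) h155 e2_155
  have h157 : ∀ u < 366498, (fun u => chkE tab 2 u) u = true := ext_range (a := 363883) (len := 2615) h156 e2_156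
  have h158 : ∀ u < 368800, (fun u => chkE tab 2 u) u = true := ext_range (a := 366498) (len := 2302) h157 e2_157
  have h159 : ∀ u < 371093, (fun u => chkE tab 2 u) u = true := ext_range (a := 368800) (len := 2293) h158 e2_158
  have h160 : ∀ u < 373581, (fun u => chkE tab 2 u) u = true := ext_range (a := 371093) (len := 2488) h159 e2_159
  have h161 : ∀ u < 377010, (fun u => chkE tab 2 u) u = true := ext_range (a := 373581) (len := 3429) h160 e2_160
  have h162 : ∀ u < 379781, (fun u => chkE tab 2 u) u = true := ext_range (a := 377010) (len := 2771) h161 e2_161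
  have h163 : ∀ u < 382090, (fun u => chkE tab 2 u) u = true := ext_range (a := 379781) (len := 2309) h162 e2_162
  have h164 : ∀ u < 384703, (fun u => chkE tab 2 u) u = true := ext_range (a := 382090) (len := 2613) h163 e2_163
  have h165 : ∀ u < 387815, (fun u => chkE tab 2 u) u = true := ext_range (a := 384703) (len := 3112) h164 e2_164
  have h166 : ∀ u < 390326, (fun u => chkE tab 2 u) u = true := ext_range (a := 387815) (len := 2511) h165 e2_165
  have h167 : ∀ u < 393265, (fun u => chkE tab 2 u) u = true := ext_range (a := 390326) (len := 2939) h166 e2_166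
  have h168 : ∀ u < 394454, (fun u => chkE tab 2 u) u = true := ext_range (a := 393265) (len := 1189) h167 e2_167
  exact h168

theorem hE3 : ∀ u < 394454, chkE tab 3 u = true := by
  have h0 : ∀ u < 0, (fun u => chkE tab 3 u) u = true := range_zero
  have h1 : ∀ u < 1966, (fun u => chkE tab 3 u) u = true := ext_range (a := 0) (len := 1966) h0 e3_0
  have h2 : ∀ u < 3952, (fun u => chkE tab 3 u) u = true := ext_range (a := 1966) (len := 1986) h1 e3_1
  have h3 : ∀ u < 5925, (fun u => chkE tab 3 u) u = true := ext_range (a := 3952) (len := 1973) h2 e3_2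
  have h4 : ∀ u < 7951, (fun u => chkE tab 3 u) u = true := ext_range (a := 5925) (len := 2026) h3 e3_3
  have h5 : ∀ u < 10284, (fun u => chkE tab 3 u) u = true := ext_range (a := 7951) (len := 2333) h4 e3_4
  have h6 : ∀ u < 12732, (fun u => chkE tab 3 u) u = true := ext_range (a := 10284) (len := 2448) h5 e3_5
  have h7 : ∀ u < 14727, (fun u => chkE tab 3 u) u = true := ext_range (a := 12732) (len := 1995) h6 e3_6
  have h8 : ∀ u < 16819, (fun u => chkE tab 3 u) u = true := ext_range (a := 14727) (len := 2092) h7 e3_7
  have h9 : ∀ u < 18812, (fun u => chkE tab 3 u) u = true := ext_range (a := 16819) (len := 1993) h8 e3_8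
  have h10 : ∀ u < 20987, (fun u => chkE tab 3 u) u = true := ext_range (a := 18812) (len := 2175) h9 e3_9
  have h11 : ∀ u < 22908, (fun u => chkE tab 3 u) u = true := ext_range (a := 20987) (len := 1921) h10 e3_10
  have h12 : ∀ u < 24982, (fun u => chkE tab 3 u) u = true := ext_range (a := 22908) (len := 2074) h11 e3_11
  have h13 : ∀ u < 27160, (fun u => chkE tab 3 u) u = true := ext_range (a := 24982) (len := 2178) h12 e3_12
  have h14 : ∀ u < 29128, (fun u => chkE tab 3 u) u = true := ext_range (a := 27160) (len := 1968) h13 e3_13
  have h15 : ∀ u < 31160, (fun u => chkE tab 3 u) u = true := ext_range (a := 29128) (len := 2032) h14 e3_14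
  have h16 : ∀ u < 33216, (fun u => chkE tab 3 u) u = true := ext_range (a := 31160) (len := 2056) h15 e3_15
  have h17 : ∀ u < 35410, (fun u => chkE tab 3 u) u = true := ext_range (a := 33216) (len := 2194) h16 e3_16
  have h18 : ∀ u < 37495, (fun u => chkE tab 3 u) u = true := ext_range (a := 35410) (len := 2085) h17 e3_17
  have h19 : ∀ u < 39407, (fun u => chkE tab 3 u) u = true := ext_range (a := 37495) (len := 1912) h18 e3_18
  have h20 : ∀ u < 41398, (fun u => chkE tab 3 u) u = true := ext_range (a := 39407) (len := 1991) h19 e3_19
  have h21 : ∀ u < 43510, (fun u => chkE tab 3 u) u = true := ext_range (a := 41398) (len := 2112) h20 e3_20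
  have h22 : ∀ u < 45785, (fun u => chkE tab 3 u) u = true := ext_range (a := 43510) (len := 2275) h21 e3_21
  have h23 : ∀ u < 47808, (fun u => chkE tab 3 u) u = true := ext_range (a := 45785) (len := 2023) h22 e3_22
  have h24 : ∀ u < 49967, (fun u => chkE tab 3 u) u = true := ext_range (a := 47808) (len := 2159) h23 e3_23
  have h25 : ∀ u < 51929, (fun u => chkE tab 3 u) u = true := ext_range (a := 49967) (len := 1962) h24 e3_24
  have h26 : ∀ u < 53892, (fun u => chkE tab 3 u) u = true := ext_range (a := 51929) (len := 1963) h25 e3_25
  have h27 : ∀ u < 55907, (fun u => chkE tab 3 u) u = true := ext_range (a := 53892) (len := 2015) h26 e3_26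
  have h28 : ∀ u < 58070, (fun u => chkE tab 3 u) u = true := ext_range (a := 55907) (len := 2163) h27 e3_27
  have h29 : ∀ u < 60124, (fun u => chkE tab 3 u) u = true := ext_range (a := 58070) (len := 2054) h28 e3_28
  have h30 : ∀ u < 62396, (fun u => chkE tab 3 u) u = true := ext_range (a := 60124) (len := 2272) h29 e3_29
  have h31 : ∀ u < 64566, (fun u => chkE tab 3 u) u = true := ext_range (a := 62396) (len := 2170) h30 e3_30
  have h32 : ∀ u < 66698, (fun u => chkE tab 3 u) u = true := ext_range (a := 64566) (len := 2132) h31 e3_31
  have h33 : ∀ u < 68784, (fun u => chkE tab 3 u) u = true := ext_range (a := 66698) (len := 2086) h32 e3_32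
  have h34 : ∀ u < 70796, (fun u => chkE tab 3 u) u = true := ext_range (a := 68784) (len := 2012) h33 e3_33
  have h35 : ∀ u < 72744, (fun u => chkE tab 3 u) u = true := ext_range (a := 70796) (len := 1948) h34 e3_34
  have h36 : ∀ u < 74750, (fun u => chkE tab 3 u) u = true := ext_range (a := 72744) (len := 2006) h35 e3_35
  have h37 : ∀ u < 76809, (fun u => chkE tab 3 u) u = true := ext_range (a := 74750) (len := 2059) h36 e3_36
  have h38 : ∀ u < 79000, (fun u => chkE tab 3 u) u = true := ext_range (a := 76809) (len := 2191) h37 e3_37
  have h39 : ∀ u < 81066, (fun u => chkE tab 3 u) u = true := ext_range (a := 79000) (len := 2066) h38 e3_38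
  have h40 : ∀ u < 83172, (fun u => chkE tab 3 u) u = true := ext_range (a := 81066) (len := 2106) h39 e3_39
  have h41 : ∀ u < 85367, (fun u => chkE tab 3 u) u = true := ext_range (a := 83172) (len := 2195) h40 e3_40
  have h42 : ∀ u < 87758, (fun u => chkE tab 3 u) u = true := ext_range (a := 85367) (len := 2391) h41 e3_41
  have h43 : ∀ u < 89802, (fun u => chkE tab 3 u) u = true := ext_range (a := 87758) (len := 2044) h42 e3_42
  have h44 : ∀ u < 91877, (fun u => chkE tab 3 u) u = true := ext_range (a := 89802) (len := 2075) h43 e3_43
  have h45 : ∀ u < 94079, (fun u => chkE tab 3 u) u = true := ext_range (a := 91877) (len := 2202) h44 e3_44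
  have h46 : ∀ u < 96185, (fun u => chkE tab 3 u) u = true := ext_range (a := 94079) (len := 2106) h45 e3_45
  have h47 : ∀ u < 98219, (fun u => chkE tab 3 u) u = true := ext_range (a := 96185) (len := 2034) h46 e3_46
  have h48 : ∀ u < 100170, (fun u => chkE tab 3 u) u = true := ext_range (a := 98219) (len := 1951) h47 e3_47
  have h49 : ∀ u < 102261, (fun u => chkE tab 3 u) u = true := ext_range (a := 100170) (len := 2091) h48 e3_48
  have h50 : ∀ u < 104231, (fun u => chkE tab 3 u) u = true := ext_range (a := 102261) (len := 1970) h49 e3_49
  have h51 : ∀ u < 106332, (fun u => chkE tab 3 u) u = true := ext_range (a := 104231) (len := 2101) h50 e3_50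
  have h52 : ∀ u < 108338, (fun u => chkE tab 3 u) u = true := ext_range (a := 106332) (len := 2006) h51 e3_51
  have h53 : ∀ u < 110603, (fun u => chkE tab 3 u) u = true := ext_range (a := 108338) (len := 2265) h52 e3_52
  have h54 : ∀ u < 112750, (fun u => chkE tab 3 u) u = true := ext_range (a := 110603) (len := 2147) h53 e3_53
  have h55 : ∀ u < 114886, (fun u => chkE tab 3 u) u = true := ext_range (a := 112750) (len := 2136) h54 e3_54
  have h56 : ∀ u < 117098, (fun u => chkE tab 3 u) u = true := ext_range (a := 114886) (len := 2212) h55 e3_55
  have h57 : ∀ u < 119964, (fun u => chkE tab 3 u) u = true := ext_range (a := 117098) (len := 2866) h56 e3_56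
  have h58 : ∀ u < 122904, (fun u => chkE tab 3 u) u = true := ext_range (a := 119964) (len := 2940) h57 e3_57
  have h59 : ∀ u < 126819, (fun u => chkE tab 3 u) u = true := ext_range (a := 122904) (len := 3915) h58 e3_58
  have h60 : ∀ u < 130671, (fun u => chkE tab 3 u) u = true := ext_range (a := 126819) (len := 3852) h59 e3_59
  have h61 : ∀ u < 133576, (fun u => chkE tab 3 u) u = true := ext_range (a := 130671) (len := 2905) h60 e3_60
  have h62 : ∀ u < 136227, (fun u => chkE tab 3 u) u = true := ext_range (a := 133576) (len := 2651) h61 e3_61
  have h63 : ∀ u < 138954, (fun u => chkE tab 3 u) u = true := ext_range (a := 136227) (len := 2727) h62 e3_62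
  have h64 : ∀ u < 142806, (fun u => chkE tab 3 u) u = true := ext_range (a := 138954) (len := 3852) h63 e3_63
  have h65 : ∀ u < 146788, (fun u => chkE tab 3 u) u = true := ext_range (a := 142806) (len := 3982) h64 e3_64
  have h66 : ∀ u < 151516, (fun u => chkE tab 3 u) u = true := ext_range (a := 146788) (len := 4728) h65 e3_65
  have h67 : ∀ u < 154853, (fun u => chkE tab 3 u) u = true := ext_range (a := 151516) (len := 3337) h66 e3_66
  have h68 : ∀ u < 160149, (fun u => chkE tab 3 u) u = true := ext_range (a := 154853) (len := 5296) h67 e3_67
  have h69 : ∀ u < 163566, (fun u => chkE tab 3 u) u = true := ext_range (a := 160149) (len := 3417) h68 e3_68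
  have h70 : ∀ u < 165961, (fun u => chkE tab 3 u) u = true := ext_range (a := 163566) (len := 2395) h69 e3_69
  have h71 : ∀ u < 168370, (fun u => chkE tab 3 u) u = true := ext_range (a := 165961) (len := 2409) h70 e3_70
  have h72 : ∀ u < 170537, (fun u => chkE tab 3 u) u = true := ext_range (a := 168370) (len := 2167) h71 e3_71
  have h73 : ∀ u < 172714, (fun u => chkE tab 3 u) u = true := ext_range (a := 170537) (len := 2177) h72 e3_72
  have h74 : ∀ u < 174805, (fun u => chkE tab 3 u) u = true := ext_range (a := 172714) (len := 2091) h73 e3_73
  have h75 : ∀ u < 177217, (fun u => chkE tab 3 u) u = true := ext_range (a := 174805) (len := 2412) h74 e3_74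
  have h76 : ∀ u < 179674, (fun u => chkE tab 3 u) u = true := ext_range (a := 177217) (len := 2457) h75 e3_75
  have h77 : ∀ u < 182187, (fun u => chkE tab 3 u) u = true := ext_range (a := 179674) (len := 2513) h76 e3_76
  have h78 : ∀ u < 184546, (fun u => chkE tab 3 u) u = true := ext_range (a := 182187) (len := 2359) h77 e3_77
  have h79 : ∀ u < 186830, (fun u => chkE tab 3 u) u = true := ext_range (a := 184546) (len := 2284) h78 e3_78
  have h80 : ∀ u < 189016, (fun u => chkE tab 3 u) u = true := ext_range (a := 186830) (len := 2186) h79 e3_79
  have h81 : ∀ u < 191118, (fun u => chkE tab 3 u) u = true := ext_range (a := 189016) (len := 2102) h80 e3_80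
  have h82 : ∀ u < 193219, (fun u => chkE tab 3 u) u = true := ext_range (a := 191118) (len := 2101) h81 e3_81
  have h83 : ∀ u < 195659, (fun u => chkE tab 3 u) u = true := ext_range (a := 193219) (len := 2440) h82 e3_82
  have h84 : ∀ u < 198204, (fun u => chkE tab 3 u) u = true := ext_range (a := 195659) (len := 2545) h83 e3_83
  have h85 : ∀ u < 200707, (fun u => chkE tab 3 u) u = true := ext_range (a := 198204) (len := 2503) h84 e3_84
  have h86 : ∀ u < 202996, (fun u => chkE tab 3 u) u = true := ext_range (a := 200707) (len := 2289) h85 e3_85
  have h87 : ∀ u < 205370, (fun u => chkE tab 3 u) u = true := ext_range (a := 202996) (len := 2374) h86 e3_86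
  have h88 : ∀ u < 207657, (fun u => chkE tab 3 u) u = true := ext_range (a := 205370) (len := 2287) h87 e3_87
  have h89 : ∀ u < 209871, (fun u => chkE tab 3 u) u = true := ext_range (a := 207657) (len := 2214) h88 e3_88
  have h90 : ∀ u < 211958, (fun u => chkE tab 3 u) u = true := ext_range (a := 209871) (len := 2087) h89 e3_89
  have h91 : ∀ u < 214106, (fun u => chkE tab 3 u) u = true := ext_range (a := 211958) (len := 2148) h90 e3_90
  have h92 : ∀ u < 216684, (fun u => chkE tab 3 u) u = true := ext_range (a := 214106) (len := 2578) h91 e3_91
  have h93 : ∀ u < 219319, (fun u => chkE tab 3 u) u = true := ext_range (a := 216684) (len := 2635) h92 e3_92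
  have h94 : ∀ u < 221770, (fun u => chkE tab 3 u) u = true := ext_range (a := 219319) (len := 2451) h93 e3_93
  have h95 : ∀ u < 224187, (fun u => chkE tab 3 u) u = true := ext_range (a := 221770) (len := 2417) h94 e3_94
  have h96 : ∀ u < 226535, (fun u => chkE tab 3 u) u = true := ext_range (a := 224187) (len := 2348) h95 e3_95
  have h97 : ∀ u < 228769, (fun u => chkE tab 3 u) u = true := ext_range (a := 226535) (len := 2234) h96 e3_96
  have h98 : ∀ u < 230941, (fun u => chkE tab 3 u) u = true := ext_range (a := 228769) (len := 2172) h97 e3_97
  have h99 : ∀ u < 233051, (fun u => chkE tab 3 u) u = true := ext_range (a := 230941) (len := 2110) h98 e3_98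
  have h100 : ∀ u < 235209, (fun u => chkE tab 3 u) u = true := ext_range (a := 233051) (len := 2158) h99 e3_99
  have h101 : ∀ u < 237805, (fun u => chkE tab 3 u) u = true := ext_range (a := 235209) (len := 2596) h100 e3_100
  have h102 : ∀ u < 240490, (fun u => chkE tab 3 u) u = true := ext_range (a := 237805) (len := 2685) h101 e3_101
  have h103 : ∀ u < 243014, (fun u => chkE tab 3 u) u = true := ext_range (a := 240490) (len := 2524) h102 e3_102
  have h104 : ∀ u < 245328, (fun u => chkE tab 3 u) u = true := ext_range (a := 243014) (len := 2314) h103 e3_103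
  have h105 : ∀ u < 247733, (fun u => chkE tab 3 u) u = true := ext_range (a := 245328) (len := 2405) h104 e3_104
  have h106 : ∀ u < 250105, (fun u => chkE tab 3 u) u = true := ext_range (a := 247733) (len := 2372) h105 e3_105
  have h107 : ∀ u < 252383, (fun u => chkE tab 3 u) u = true := ext_range (a := 250105) (len := 2278) h106 e3_106
  have h108 : ∀ u < 254494, (fun u => chkE tab 3 u) u = true := ext_range (a := 252383) (len := 2111) h107 e3_107
  have h109 : ∀ u < 256606, (fun u => chkE tab 3 u) u = true := ext_range (a := 254494) (len := 2112) h108 e3_108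
  have h110 : ∀ u < 258911, (fun u => chkE tab 3 u) u = true := ext_range (a := 256606) (len := 2305) h109 e3_109
  have h111 : ∀ u < 261703, (fun u => chkE tab 3 u) u = true := ext_range (a := 258911) (len := 2792) h110 e3_110
  have h112 : ∀ u < 264385, (fun u => chkE tab 3 u) u = true := ext_range (a := 261703) (len := 2682) h111 e3_111
  have h113 : ∀ u < 266911, (fun u => chkE tab 3 u) u = true := ext_range (a := 264385) (len := 2526) h112 e3_112
  have h114 : ∀ u < 269323, (fun u => chkE tab 3 u) u = true := ext_range (a := 266911) (len := 2412) h113 e3_113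
  have h115 : ∀ u < 271651, (fun u => chkE tab 3 u) u = true := ext_range (a := 269323) (len := 2328) h114 e3_114
  have h116 : ∀ u < 274044, (fun u => chkE tab 3 u) u = true := ext_range (a := 271651) (len := 2393) h115 e3_115
  have h117 : ∀ u < 276310, (fun u => chkE tab 3 u) u = true := ext_range (a := 274044) (len := 2266) h116 e3_116
  have h118 : ∀ u < 278447, (fun u => chkE tab 3 u) u = true := ext_range (a := 276310) (len := 2137) h117 e3_117
  have h119 : ∀ u < 280464, (fun u => chkE tab 3 u) u = true := ext_range (a := 278447) (len := 2017) h118 e3_118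
  have h120 : ∀ u < 282635, (fun u => chkE tab 3 u) u = true := ext_range (a := 280464) (len := 2171) h119 e3_119
  have h121 : ∀ u < 285488, (fun u => chkE tab 3 u) u = true := ext_range (a := 282635) (len := 2853) h120 e3_120
  have h122 : ∀ u < 288357, (fun u => chkE tab 3 u) u = true := ext_range (a := 285488) (len := 2869) h121 e3_121
  have h123 : ∀ u < 290975, (fun u => chkE tab 3 u) u = true := ext_range (a := 288357) (len := 2618) h122 e3_122
  have h124 : ∀ u < 293338, (fun u => chkE tab 3 u) u = true := ext_range (a := 290975) (len := 2363) h123 e3_123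
  have h125 : ∀ u < 295765, (fun u => chkE tab 3 u) u = true := ext_range (a := 293338) (len := 2427) h124 e3_124
  have h126 : ∀ u < 298158, (fun u => chkE tab 3 u) u = true := ext_range (a := 295765) (len := 2393) h125 e3_125
  have h127 : ∀ u < 300533, (fun u => chkE tab 3 u) u = true := ext_range (a := 298158) (len := 2375) h126 e3_126
  have h128 : ∀ u < 302741, (fun u => chkE tab 3 u) u = true := ext_range (a := 300533) (len := 2208) h127 e3_127
  have h129 : ∀ u < 304829, (fun u => chkE tab 3 u) u = true := ext_range (a := 302741) (len := 2088) h128 e3_128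
  have h130 : ∀ u < 306938, (fun u => chkE tab 3 u) u = true := ext_range (a := 304829) (len := 2109) h129 e3_129
  have h131 : ∀ u < 309550, (fun u => chkE tab 3 u) u = true := ext_range (a := 306938) (len := 2612) h130 e3_130
  have h132 : ∀ u < 312474, (fun u => chkE tab 3 u) u = true := ext_range (a := 309550) (len := 2924) h131 e3_131
  have h133 : ∀ u < 315262, (fun u => chkE tab 3 u) u = true := ext_range (a := 312474) (len := 2788) h132 e3_132
  have h134 : ∀ u < 317845, (fun u => chkE tab 3 u) u = true := ext_range (a := 315262) (len := 2583) h133 e3_133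
  have h135 : ∀ u < 320277, (fun u => chkE tab 3 u) u = true := ext_range (a := 317845) (len := 2432) h134 e3_134
  have h136 : ∀ u < 322684, (fun u => chkE tab 3 u) u = true := ext_range (a := 320277) (len := 2407) h135 e3_135
  have h137 : ∀ u < 325136, (fun u => chkE tab 3 u) u = true := ext_range (a := 322684) (len := 2452) h136 e3_136
  have h138 : ∀ u < 327410, (fun u => chkE tab 3 u) u = true := ext_range (a := 325136) (len := 2274) h137 e3_137
  have h139 : ∀ u < 329593, (fun u => chkE tab 3 u) u = true := ext_range (a := 327410) (len := 2183) h138 e3_138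
  have h140 : ∀ u < 331585, (fun u => chkE tab 3 u) u = true := ext_range (a := 329593) (len := 1992) h139 e3_139
  have h141 : ∀ u < 334072, (fun u => chkE tab 3 u) u = true := ext_range (a := 331585) (len := 2487) h140 e3_140
  have h142 : ∀ u < 337039, (fun u => chkE tab 3 u) u = true := ext_range (a := 334072) (len := 2967) h141 e3_141
  have h143 : ∀ u < 339987, (fun u => chkE tab 3 u) u = true := ext_range (a := 337039) (len := 2948) h142 e3_142
  have h144 : ∀ u < 342665, (fun u => chkE tab 3 u) u = true := ext_range (a := 339987) (len := 2678) h143 e3_143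
  have h145 : ∀ u < 345144, (fun u => chkE tab 3 u) u = true := ext_range (a := 342665) (len := 2479) h144 e3_144
  have h146 : ∀ u < 347493, (fun u => chkE tab 3 u) u = true := ext_range (a := 345144) (len := 2349) h145 e3_145
  have h147 : ∀ u < 350000, (fun u => chkE tab 3 u) u = true := ext_range (a := 347493) (len := 2507) h146 e3_146
  have h148 : ∀ u < 352251, (fun u => chkE tab 3 u) u = true := ext_range (a := 350000) (len := 2251) h147 e3_147
  have h149 : ∀ u < 354300, (fun u => chkE tab 3 u) u = true := ext_range (a := 352251) (len := 2049) h148 e3_148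
  have h150 : ∀ u < 356938, (fun u => chkE tab 3 u) u = true := ext_range (a := 354300) (len := 2638) h149 e3_149
  have h151 : ∀ u < 360070, (fun u => chkE tab 3 u) u = true := ext_range (a := 356938) (len := 3132) h150 e3_150
  have h152 : ∀ u < 362976, (fun u => chkE tab 3 u) u = true := ext_range (a := 360070) (len := 2906) h151 e3_151
  have h153 : ∀ u < 365534, (fun u => chkE tab 3 u) u = true := ext_range (a := 362976) (len := 2558) h152 e3_152
  have h154 : ∀ u < 367982, (fun u => chkE tab 3 u) u = true := ext_range (a := 365534) (len := 2448) h153 e3_153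
  have h155 : ∀ u < 370364, (fun u => chkE tab 3 u) u = true := ext_range (a := 367982) (len := 2382) h154 e3_154
  have h156 : ∀ u < 372478, (fun u => chkE tab 3 u) u = true := ext_range (a := 370364) (len := 2114) h155 e3_155
  have h157 : ∀ u < 375546, (fun u => chkE tab 3 u) u = true := ext_range (a := 372478) (len := 3068) h156 e3_156
  have h158 : ∀ u < 378381, (fun u => chkE tab 3 u) u = true := ext_range (a := 375546) (len := 2835) h157 e3_157
  have h159 : ∀ u < 380955, (fun u => chkE tab 3 u) u = true := ext_range (a := 378381) (len := 2574) h158 e3_158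
  have h160 : ∀ u < 383286, (fun u => chkE tab 3 u) u = true := ext_range (a := 380955) (len := 2331) h159 e3_159
  have h161 : ∀ u < 386248, (fun u => chkE tab 3 u) u = true := ext_range (a := 383286) (len := 2962) h160 e3_160
  have h162 : ∀ u < 388832, (fun u => chkE tab 3 u) u = true := ext_range (a := 386248) (len := 2584) h161 e3_161
  have h163 : ∀ u < 391455, (fun u => chkE tab 3 u) u = true := ext_range (a := 388832) (len := 2623) h162 e3_162
  have h164 : ∀ u < 394136, (fun u => chkE tab 3 u) u = true := ext_range (a := 391455) (len := 2681) h163 e3_163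
  have h165 : ∀ u < 394454, (fun u => chkE tab 3 u) u = true := ext_range (a := 394136) (len := 318) h164 e3_164
  exact h165

theorem hE4 : ∀ u < 394454, chkE tab 4 u = true := by
  have h0 : ∀ u < 0, (fun u => chkE tab 4 u) u = true := range_zero
  have h1 : ∀ u < 2024, (fun u => chkE tab 4 u) u = true := ext_range (a := 0) (len := 2024) h0 e4_0
  have h2 : ∀ u < 4104, (fun u => chkE tab 4 u) u = true := ext_range (a := 2024) (len := 2080) h1 e4_1
  have h3 : ∀ u < 6167, (fun u => chkE tab 4 u) u = true := ext_range (a := 4104) (len := 2063) h2 e4_2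
  have h4 : ∀ u < 8226, (fun u => chkE tab 4 u) u = true := ext_range (a := 6167) (len := 2059) h3 e4_3
  have h5 : ∀ u < 10786, (fun u => chkE tab 4 u) u = true := ext_range (a := 8226) (len := 2560) h4 e4_4
  have h6 : ∀ u < 13099, (fun u => chkE tab 4 u) u = true := ext_range (a := 10786) (len := 2313) h5 e4_5
  have h7 : ∀ u < 15205, (fun u => chkE tab 4 u) u = true := ext_range (a := 13099) (len := 2106) h6 e4_6
  have h8 : ∀ u < 17279, (fun u => chkE tab 4 u) u = true := ext_range (a := 15205) (len := 2074) h7 e4_7
  have h9 : ∀ u < 19415, (fun u => chkE tab 4 u) u = true := ext_range (a := 17279) (len := 2136) h8 e4_8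
  have h10 : ∀ u < 21539, (fun u => chkE tab 4 u) u = true := ext_range (a := 19415) (len := 2124) h9 e4_9
  have h11 : ∀ u < 23589, (fun u => chkE tab 4 u) u = true := ext_range (a := 21539) (len := 2050) h10 e4_10
  have h12 : ∀ u < 25741, (fun u => chkE tab 4 u) u = true := ext_range (a := 23589) (len := 2152) h11 e4_11
  have h13 : ∀ u < 27868, (fun u => chkE tab 4 u) u = true := ext_range (a := 25741) (len := 2127) h12 e4_12
  have h14 : ∀ u < 29982, (fun u => chkE tab 4 u) u = true := ext_range (a := 27868) (len := 2114) h13 e4_13
  have h15 : ∀ u < 32064, (fun u => chkE tab 4 u) u = true := ext_range (a := 29982) (len := 2082) h14 e4_14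
  have h16 : ∀ u < 34221, (fun u => chkE tab 4 u) u = true := ext_range (a := 32064) (len := 2157) h15 e4_15
  have h17 : ∀ u < 36328, (fun u => chkE tab 4 u) u = true := ext_range (a := 34221) (len := 2107) h16 e4_16
  have h18 : ∀ u < 38463, (fun u => chkE tab 4 u) u = true := ext_range (a := 36328) (len := 2135) h17 e4_17
  have h19 : ∀ u < 40544, (fun u => chkE tab 4 u) u = true := ext_range (a := 38463) (len := 2081) h18 e4_18
  have h20 : ∀ u < 42656, (fun u => chkE tab 4 u) u = true := ext_range (a := 40544) (len := 2112) h19 e4_19
  have h21 : ∀ u < 44755, (fun u => chkE tab 4 u) u = true := ext_range (a := 42656) (len := 2099) h20 e4_20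
  have h22 : ∀ u < 46962, (fun u => chkE tab 4 u) u = true := ext_range (a := 44755) (len := 2207) h21 e4_21
  have h23 : ∀ u < 49161, (fun u => chkE tab 4 u) u = true := ext_range (a := 46962) (len := 2199) h22 e4_22
  have h24 : ∀ u < 51325, (fun u => chkE tab 4 u) u = true := ext_range (a := 49161) (len := 2164) h23 e4_23
  have h25 : ∀ u < 53416, (fun u => chkE tab 4 u) u = true := ext_range (a := 51325) (len := 2091) h24 e4_24
  have h26 : ∀ u < 55488, (fun u => chkE tab 4 u) u = true := ext_range (a := 53416) (len := 2072) h25 e4_25
  have h27 : ∀ u < 57600, (fun u => chkE tab 4 u) u = true := ext_range (a := 55488) (len := 2112) h26 e4_26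
  have h28 : ∀ u < 59742, (fun u => chkE tab 4 u) u = true := ext_range (a := 57600) (len := 2142) h27 e4_27
  have h29 : ∀ u < 61943, (fun u => chkE tab 4 u) u = true := ext_range (a := 59742) (len := 2201) h28 e4_28
  have h30 : ∀ u < 64195, (fun u => chkE tab 4 u) u = true := ext_range (a := 61943) (len := 2252) h29 e4_29
  have h31 : ∀ u < 66380, (fun u => chkE tab 4 u) u = true := ext_range (a := 64195) (len := 2185) h30 e4_30
  have h32 : ∀ u < 68570, (fun u => chkE tab 4 u) u = true := ext_range (a := 66380) (len := 2190) h31 e4_31
  have h33 : ∀ u < 70722, (fun u => chkE tab 4 u) u = true := ext_range (a := 68570) (len := 2152) h32 e4_32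
  have h34 : ∀ u < 72804, (fun u => chkE tab 4 u) u = true := ext_range (a := 70722) (len := 2082) h33 e4_33
  have h35 : ∀ u < 74845, (fun u => chkE tab 4 u) u = true := ext_range (a := 72804) (len := 2041) h34 e4_34
  have h36 : ∀ u < 76912, (fun u => chkE tab 4 u) u = true := ext_range (a := 74845) (len := 2067) h35 e4_35
  have h37 : ∀ u < 79070, (fun u => chkE tab 4 u) u = true := ext_range (a := 76912) (len := 2158) h36 e4_36
  have h38 : ∀ u < 81239, (fun u => chkE tab 4 u) u = true := ext_range (a := 79070) (len := 2169) h37 e4_37
  have h39 : ∀ u < 83379, (fun u => chkE tab 4 u) u = true := ext_range (a := 81239) (len := 2140) h38 e4_38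
  have h40 : ∀ u < 85653, (fun u => chkE tab 4 u) u = true := ext_range (a := 83379) (len := 2274) h39 e4_39
  have h41 : ∀ u < 87995, (fun u => chkE tab 4 u) u = true := ext_range (a := 85653) (len := 2342) h40 e4_40
  have h42 : ∀ u < 90115, (fun u => chkE tab 4 u) u = true := ext_range (a := 87995) (len := 2120) h41 e4_41
  have h43 : ∀ u < 92344, (fun u => chkE tab 4 u) u = true := ext_range (a := 90115) (len := 2229) h42 e4_42
  have h44 : ∀ u < 94567, (fun u => chkE tab 4 u) u = true := ext_range (a := 92344) (len := 2223) h43 e4_43
  have h45 : ∀ u < 96804, (fun u => chkE tab 4 u) u = true := ext_range (a := 94567) (len := 2237) h44 e4_44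
  have h46 : ∀ u < 98900, (fun u => chkE tab 4 u) u = true := ext_range (a := 96804) (len := 2096) h45 e4_45
  have h47 : ∀ u < 100979, (fun u => chkE tab 4 u) u = true := ext_range (a := 98900) (len := 2079) h46 e4_46
  have h48 : ∀ u < 103082, (fun u => chkE tab 4 u) u = true := ext_range (a := 100979) (len := 2103) h47 e4_47
  have h49 : ∀ u < 105194, (fun u => chkE tab 4 u) u = true := ext_range (a := 103082) (len := 2112) h48 e4_48
  have h50 : ∀ u < 107321, (fun u => chkE tab 4 u) u = true := ext_range (a := 105194) (len := 2127) h49 e4_49
  have h51 : ∀ u < 109524, (fun u => chkE tab 4 u) u = true := ext_range (a := 107321) (len := 2203) h50 e4_50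
  have h52 : ∀ u < 111667, (fun u => chkE tab 4 u) u = true := ext_range (a := 109524) (len := 2143) h51 e4_51
  have h53 : ∀ u < 113780, (fun u => chkE tab 4 u) u = true := ext_range (a := 111667) (len := 2113) h52 e4_52
  have h54 : ∀ u < 115991, (fun u => chkE tab 4 u) u = true := ext_range (a := 113780) (len := 2211) h53 e4_53
  have h55 : ∀ u < 118679, (fun u => chkE tab 4 u) u = true := ext_range (a := 115991) (len := 2688) h54 e4_54
  have h56 : ∀ u < 121696, (fun u => chkE tab 4 u) u = true := ext_range (a := 118679) (len := 3017) h55 e4_55
  have h57 : ∀ u < 125489, (fun u => chkE tab 4 u) u = true := ext_range (a := 121696) (len := 3793) h56 e4_56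
  have h58 : ∀ u < 129537, (fun u => chkE tab 4 u) u = true := ext_range (a := 125489) (len := 4048) h57 e4_57
  have h59 : ∀ u < 132754, (fun u => chkE tab 4 u) u = true := ext_range (a := 129537) (len := 3217) h58 e4_58
  have h60 : ∀ u < 135552, (fun u => chkE tab 4 u) u = true := ext_range (a := 132754) (len := 2798) h59 e4_59
  have h61 : ∀ u < 138054, (fun u => chkE tab 4 u) u = true := ext_range (a := 135552) (len := 2502) h60 e4_60
  have h62 : ∀ u < 142074, (fun u => chkE tab 4 u) u = true := ext_range (a := 138054) (len := 4020) h61 e4_61
  have h63 : ∀ u < 146002, (fun u => chkE tab 4 u) u = true := ext_range (a := 142074) (len := 3928) h62 e4_62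
  have h64 : ∀ u < 150634, (fun u => chkE tab 4 u) u = true := ext_range (a := 146002) (len := 4632) h63 e4_63
  have h65 : ∀ u < 154466, (fun u => chkE tab 4 u) u = true := ext_range (a := 150634) (len := 3832) h64 e4_64
  have h66 : ∀ u < 159225, (fun u => chkE tab 4 u) u = true := ext_range (a := 154466) (len := 4759) h65 e4_65
  have h67 : ∀ u < 163190, (fun u => chkE tab 4 u) u = true := ext_range (a := 159225) (len := 3965) h66 e4_66
  have h68 : ∀ u < 165580, (fun u => chkE tab 4 u) u = true := ext_range (a := 163190) (len := 2390) h67 e4_67
  have h69 : ∀ u < 167976, (fun u => chkE tab 4 u) u = true := ext_range (a := 165580) (len := 2396) h68 e4_68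
  have h70 : ∀ u < 170290, (fun u => chkE tab 4 u) u = true := ext_range (a := 167976) (len := 2314) h69 e4_69
  have h71 : ∀ u < 172549, (fun u => chkE tab 4 u) u = true := ext_range (a := 170290) (len := 2259) h70 e4_70
  have h72 : ∀ u < 174610, (fun u => chkE tab 4 u) u = true := ext_range (a := 172549) (len := 2061) h71 e4_71
  have h73 : ∀ u < 176927, (fun u => chkE tab 4 u) u = true := ext_range (a := 174610) (len := 2317) h72 e4_72
  have h74 : ∀ u < 179522, (fun u => chkE tab 4 u) u = true := ext_range (a := 176927) (len := 2595) h73 e4_73
  have h75 : ∀ u < 182064, (fun u => chkE tab 4 u) u = true := ext_range (a := 179522) (len := 2542) h74 e4_74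
  have h76 : ∀ u < 184502, (fun u => chkE tab 4 u) u = true := ext_range (a := 182064) (len := 2438) h75 e4_75
  have h77 : ∀ u < 186846, (fun u => chkE tab 4 u) u = true := ext_range (a := 184502) (len := 2344) h76 e4_76
  have h78 : ∀ u < 189243, (fun u => chkE tab 4 u) u = true := ext_range (a := 186846) (len := 2397) h77 e4_77
  have h79 : ∀ u < 191363, (fun u => chkE tab 4 u) u = true := ext_range (a := 189243) (len := 2120) h78 e4_78
  have h80 : ∀ u < 193436, (fun u => chkE tab 4 u) u = true := ext_range (a := 191363) (len := 2073) h79 e4_79
  have h81 : ∀ u < 195890, (fun u => chkE tab 4 u) u = true := ext_range (a := 193436) (len := 2454) h80 e4_80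
  have h82 : ∀ u < 198684, (fun u => chkE tab 4 u) u = true := ext_range (a := 195890) (len := 2794) h81 e4_81
  have h83 : ∀ u < 201154, (fun u => chkE tab 4 u) u = true := ext_range (a := 198684) (len := 2470) h82 e4_82
  have h84 : ∀ u < 203660, (fun u => chkE tab 4 u) u = true := ext_range (a := 201154) (len := 2506) h83 e4_83
  have h85 : ∀ u < 206030, (fun u => chkE tab 4 u) u = true := ext_range (a := 203660) (len := 2370) h84 e4_84
  have h86 : ∀ u < 208457, (fun u => chkE tab 4 u) u = true := ext_range (a := 206030) (len := 2427) h85 e4_85
  have h87 : ∀ u < 210677, (fun u => chkE tab 4 u) u = true := ext_range (a := 208457) (len := 2220) h86 e4_86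
  have h88 : ∀ u < 212792, (fun u => chkE tab 4 u) u = true := ext_range (a := 210677) (len := 2115) h87 e4_87
  have h89 : ∀ u < 215341, (fun u => chkE tab 4 u) u = true := ext_range (a := 212792) (len := 2549) h88 e4_88
  have h90 : ∀ u < 218100, (fun u => chkE tab 4 u) u = true := ext_range (a := 215341) (len := 2759) h89 e4_89
  have h91 : ∀ u < 220778, (fun u => chkE tab 4 u) u = true := ext_range (a := 218100) (len := 2678) h90 e4_90
  have h92 : ∀ u < 223201, (fun u => chkE tab 4 u) u = true := ext_range (a := 220778) (len := 2423) h91 e4_91
  have h93 : ∀ u < 225627, (fun u => chkE tab 4 u) u = true := ext_range (a := 223201) (len := 2426) h92 e4_92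
  have h94 : ∀ u < 228163, (fun u => chkE tab 4 u) u = true := ext_range (a := 225627) (len := 2536) h93 e4_93
  have h95 : ∀ u < 230626, (fun u => chkE tab 4 u) u = true := ext_range (a := 228163) (len := 2463) h94 e4_94
  have h96 : ∀ u < 232816, (fun u => chkE tab 4 u) u = true := ext_range (a := 230626) (len := 2190) h95 e4_95
  have h97 : ∀ u < 235045, (fun u => chkE tab 4 u) u = true := ext_range (a := 232816) (len := 2229) h96 e4_96
  have h98 : ∀ u < 237784, (fun u => chkE tab 4 u) u = true := ext_range (a := 235045) (len := 2739) h97 e4_97
  have h99 : ∀ u < 240717, (fun u => chkE tab 4 u) u = true := ext_range (a := 237784) (len := 2933) h98 e4_98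
  have h100 : ∀ u < 243346, (fun u => chkE tab 4 u) u = true := ext_range (a := 240717) (len := 2629) h99 e4_99
  have h101 : ∀ u < 245880, (fun u => chkE tab 4 u) u = true := ext_range (a := 243346) (len := 2534) h100 e4_100
  have h102 : ∀ u < 248355, (fun u => chkE tab 4 u) u = true := ext_range (a := 245880) (len := 2475) h101 e4_101
  have h103 : ∀ u < 250806, (fun u => chkE tab 4 u) u = true := ext_range (a := 248355) (len := 2451) h102 e4_102
  have h104 : ∀ u < 253374, (fun u => chkE tab 4 u) u = true := ext_range (a := 250806) (len := 2568) h103 e4_103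
  have h105 : ∀ u < 255635, (fun u => chkE tab 4 u) u = true := ext_range (a := 253374) (len := 2261) h104 e4_104
  have h106 : ∀ u < 257923, (fun u => chkE tab 4 u) u = true := ext_range (a := 255635) (len := 2288) h105 e4_105
  have h107 : ∀ u < 260767, (fun u => chkE tab 4 u) u = true := ext_range (a := 257923) (len := 2844) h106 e4_106
  have h108 : ∀ u < 263729, (fun u => chkE tab 4 u) u = true := ext_range (a := 260767) (len := 2962) h107 e4_107
  have h109 : ∀ u < 266427, (fun u => chkE tab 4 u) u = true := ext_range (a := 263729) (len := 2698) h108 e4_108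
  have h110 : ∀ u < 268926, (fun u => chkE tab 4 u) u = true := ext_range (a := 266427) (len := 2499) h109 e4_109
  have h111 : ∀ u < 271435, (fun u => chkE tab 4 u) u = true := ext_range (a := 268926) (len := 2509) h110 e4_110
  have h112 : ∀ u < 274069, (fun u => chkE tab 4 u) u = true := ext_range (a := 271435) (len := 2634) h111 e4_111
  have h113 : ∀ u < 276642, (fun u => chkE tab 4 u) u = true := ext_range (a := 274069) (len := 2573) h112 e4_112
  have h114 : ∀ u < 279114, (fun u => chkE tab 4 u) u = true := ext_range (a := 276642) (len := 2472) h113 e4_113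
  have h115 : ∀ u < 281403, (fun u => chkE tab 4 u) u = true := ext_range (a := 279114) (len := 2289) h114 e4_114
  have h116 : ∀ u < 284118, (fun u => chkE tab 4 u) u = true := ext_range (a := 281403) (len := 2715) h115 e4_115
  have h117 : ∀ u < 287077, (fun u => chkE tab 4 u) u = true := ext_range (a := 284118) (len := 2959) h116 e4_116
  have h118 : ∀ u < 289862, (fun u => chkE tab 4 u) u = true := ext_range (a := 287077) (len := 2785) h117 e4_117
  have h119 : ∀ u < 292488, (fun u => chkE tab 4 u) u = true := ext_range (a := 289862) (len := 2626) h118 e4_118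
  have h120 : ∀ u < 294960, (fun u => chkE tab 4 u) u = true := ext_range (a := 292488) (len := 2472) h119 e4_119
  have h121 : ∀ u < 297539, (fun u => chkE tab 4 u) u = true := ext_range (a := 294960) (len := 2579) h120 e4_120
  have h122 : ∀ u < 300013, (fun u => chkE tab 4 u) u = true := ext_range (a := 297539) (len := 2474) h121 e4_121
  have h123 : ∀ u < 302575, (fun u => chkE tab 4 u) u = true := ext_range (a := 300013) (len := 2562) h122 e4_122
  have h124 : ∀ u < 304999, (fun u => chkE tab 4 u) u = true := ext_range (a := 302575) (len := 2424) h123 e4_123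
  have h125 : ∀ u < 307332, (fun u => chkE tab 4 u) u = true := ext_range (a := 304999) (len := 2333) h124 e4_124
  have h126 : ∀ u < 310087, (fun u => chkE tab 4 u) u = true := ext_range (a := 307332) (len := 2755) h125 e4_125
  have h127 : ∀ u < 313027, (fun u => chkE tab 4 u) u = true := ext_range (a := 310087) (len := 2940) h126 e4_126
  have h128 : ∀ u < 315685, (fun u => chkE tab 4 u) u = true := ext_range (a := 313027) (len := 2658) h127 e4_127
  have h129 : ∀ u < 318285, (fun u => chkE tab 4 u) u = true := ext_range (a := 315685) (len := 2600) h128 e4_128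
  have h130 : ∀ u < 320691, (fun u => chkE tab 4 u) u = true := ext_range (a := 318285) (len := 2406) h129 e4_129
  have h131 : ∀ u < 323230, (fun u => chkE tab 4 u) u = true := ext_range (a := 320691) (len := 2539) h130 e4_130
  have h132 : ∀ u < 325644, (fun u => chkE tab 4 u) u = true := ext_range (a := 323230) (len := 2414) h131 e4_131
  have h133 : ∀ u < 328152, (fun u => chkE tab 4 u) u = true := ext_range (a := 325644) (len := 2508) h132 e4_132
  have h134 : ∀ u < 330465, (fun u => chkE tab 4 u) u = true := ext_range (a := 328152) (len := 2313) h133 e4_133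
  have h135 : ∀ u < 332843, (fun u => chkE tab 4 u) u = true := ext_range (a := 330465) (len := 2378) h134 e4_134
  have h136 : ∀ u < 335576, (fun u => chkE tab 4 u) u = true := ext_range (a := 332843) (len := 2733) h135 e4_135
  have h137 : ∀ u < 338451, (fun u => chkE tab 4 u) u = true := ext_range (a := 335576) (len := 2875) h136 e4_136
  have h138 : ∀ u < 341016, (fun u => chkE tab 4 u) u = true := ext_range (a := 338451) (len := 2565) h137 e4_137
  have h139 : ∀ u < 343542, (fun u => chkE tab 4 u) u = true := ext_range (a := 341016) (len := 2526) h138 e4_138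
  have h140 : ∀ u < 346001, (fun u => chkE tab 4 u) u = true := ext_range (a := 343542) (len := 2459) h139 e4_139
  have h141 : ∀ u < 348374, (fun u => chkE tab 4 u) u = true := ext_range (a := 346001) (len := 2373) h140 e4_140
  have h142 : ∀ u < 350910, (fun u => chkE tab 4 u) u = true := ext_range (a := 348374) (len := 2536) h141 e4_141
  have h143 : ∀ u < 353177, (fun u => chkE tab 4 u) u = true := ext_range (a := 350910) (len := 2267) h142 e4_142
  have h144 : ∀ u < 355393, (fun u => chkE tab 4 u) u = true := ext_range (a := 353177) (len := 2216) h143 e4_143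
  have h145 : ∀ u < 358085, (fun u => chkE tab 4 u) u = true := ext_range (a := 355393) (len := 2692) h144 e4_144
  have h146 : ∀ u < 360937, (fun u => chkE tab 4 u) u = true := ext_range (a := 358085) (len := 2852) h145 e4_145
  have h147 : ∀ u < 363574, (fun u => chkE tab 4 u) u = true := ext_range (a := 360937) (len := 2637) h146 e4_146
  have h148 : ∀ u < 365999, (fun u => chkE tab 4 u) u = true := ext_range (a := 363574) (len := 2425) h147 e4_147
  have h149 : ∀ u < 368416, (fun u => chkE tab 4 u) u = true := ext_range (a := 365999) (len := 2417) h148 e4_148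
  have h150 : ∀ u < 370719, (fun u => chkE tab 4 u) u = true := ext_range (a := 368416) (len := 2303) h149 e4_149
  have h151 : ∀ u < 372988, (fun u => chkE tab 4 u) u = true := ext_range (a := 370719) (len := 2269) h150 e4_150
  have h152 : ∀ u < 375840, (fun u => chkE tab 4 u) u = true := ext_range (a := 372988) (len := 2852) h151 e4_151
  have h153 : ∀ u < 378434, (fun u => chkE tab 4 u) u = true := ext_range (a := 375840) (len := 2594) h152 e4_152
  have h154 : ∀ u < 380824, (fun u => chkE tab 4 u) u = true := ext_range (a := 378434) (len := 2390) h153 e4_153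
  have h155 : ∀ u < 383056, (fun u => chkE tab 4 u) u = true := ext_range (a := 380824) (len := 2232) h154 e4_154
  have h156 : ∀ u < 385847, (fun u => chkE tab 4 u) u = true := ext_range (a := 383056) (len := 2791) h155 e4_155
  have h157 : ∀ u < 388399, (fun u => chkE tab 4 u) u = true := ext_range (a := 385847) (len := 2552) h156 e4_156
  have h158 : ∀ u < 390793, (fun u => chkE tab 4 u) u = true := ext_range (a := 388399) (len := 2394) h157 e4_157
  have h159 : ∀ u < 393643, (fun u => chkE tab 4 u) u = true := ext_range (a := 390793) (len := 2850) h158 e4_158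
  have h160 : ∀ u < 394454, (fun u => chkE tab 4 u) u = true := ext_range (a := 393643) (len := 811) h159 e4_159
  exact h160

theorem hE5 : ∀ u < 394454, chkE tab 5 u = true := by
  have h0 : ∀ u < 0, (fun u => chkE tab 5 u) u = true := range_zero
  have h1 : ∀ u < 2149, (fun u => chkE tab 5 u) u = true := ext_range (a := 0) (len := 2149) h0 e5_0
  have h2 : ∀ u < 4270, (fun u => chkE tab 5 u) u = true := ext_range (a := 2149) (len := 2121) h1 e5_1
  have h3 : ∀ u < 6390, (fun u => chkE tab 5 u) u = true := ext_range (a := 4270) (len := 2120) h2 e5_2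
  have h4 : ∀ u < 8561, (fun u => chkE tab 5 u) u = true := ext_range (a := 6390) (len := 2171) h3 e5_3
  have h5 : ∀ u < 11216, (fun u => chkE tab 5 u) u = true := ext_range (a := 8561) (len := 2655) h4 e5_4
  have h6 : ∀ u < 13472, (fun u => chkE tab 5 u) u = true := ext_range (a := 11216) (len := 2256) h5 e5_5
  have h7 : ∀ u < 15672, (fun u => chkE tab 5 u) u = true := ext_range (a := 13472) (len := 2200) h6 e5_6
  have h8 : ∀ u < 17877, (fun u => chkE tab 5 u) u = true := ext_range (a := 15672) (len := 2205) h7 e5_7
  have h9 : ∀ u < 20078, (fun u => chkE tab 5 u) u = true := ext_range (a := 17877) (len := 2201) h8 e5_8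
  have h10 : ∀ u < 22308, (fun u => chkE tab 5 u) u = true := ext_range (a := 20078) (len := 2230) h9 e5_9
  have h11 : ∀ u < 24529, (fun u => chkE tab 5 u) u = true := ext_range (a := 22308) (len := 2221) h10 e5_10
  have h12 : ∀ u < 26840, (fun u => chkE tab 5 u) u = true := ext_range (a := 24529) (len := 2311) h11 e5_11
  have h13 : ∀ u < 29092, (fun u => chkE tab 5 u) u = true := ext_range (a := 26840) (len := 2252) h12 e5_12
  have h14 : ∀ u < 31323, (fun u => chkE tab 5 u) u = true := ext_range (a := 29092) (len := 2231) h13 e5_13
  have h15 : ∀ u < 33613, (fun u => chkE tab 5 u) u = true := ext_range (a := 31323) (len := 2290) h14 e5_14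
  have h16 : ∀ u < 35976, (fun u => chkE tab 5 u) u = true := ext_range (a := 33613) (len := 2363) h15 e5_15
  have h17 : ∀ u < 38276, (fun u => chkE tab 5 u) u = true := ext_range (a := 35976) (len := 2300) h16 e5_16
  have h18 : ∀ u < 40540, (fun u => chkE tab 5 u) u = true := ext_range (a := 38276) (len := 2264) h17 e5_17
  have h19 : ∀ u < 42782, (fun u => chkE tab 5 u) u = true := ext_range (a := 40540) (len := 2242) h18 e5_18
  have h20 : ∀ u < 45079, (fun u => chkE tab 5 u) u = true := ext_range (a := 42782) (len := 2297) h19 e5_19
  have h21 : ∀ u < 47456, (fun u => chkE tab 5 u) u = true := ext_range (a := 45079) (len := 2377) h20 e5_20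
  have h22 : ∀ u < 49782, (fun u => chkE tab 5 u) u = true := ext_range (a := 47456) (len := 2326) h21 e5_21
  have h23 : ∀ u < 52155, (fun u => chkE tab 5 u) u = true := ext_range (a := 49782) (len := 2373) h22 e5_22
  have h24 : ∀ u < 54390, (fun u => chkE tab 5 u) u = true := ext_range (a := 52155) (len := 2235) h23 e5_23
  have h25 : ∀ u < 56649, (fun u => chkE tab 5 u) u = true := ext_range (a := 54390) (len := 2259) h24 e5_24
  have h26 : ∀ u < 59011, (fun u => chkE tab 5 u) u = true := ext_range (a := 56649) (len := 2362) h25 e5_25
  have h27 : ∀ u < 61309, (fun u => chkE tab 5 u) u = true := ext_range (a := 59011) (len := 2298) h26 e5_26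
  have h28 : ∀ u < 63795, (fun u => chkE tab 5 u) u = true := ext_range (a := 61309) (len := 2486) h27 e5_27
  have h29 : ∀ u < 66162, (fun u => chkE tab 5 u) u = true := ext_range (a := 63795) (len := 2367) h28 e5_28
  have h30 : ∀ u < 68476, (fun u => chkE tab 5 u) u = true := ext_range (a := 66162) (len := 2314) h29 e5_29
  have h31 : ∀ u < 70942, (fun u => chkE tab 5 u) u = true := ext_range (a := 68476) (len := 2466) h30 e5_30
  have h32 : ∀ u < 73207, (fun u => chkE tab 5 u) u = true := ext_range (a := 70942) (len := 2265) h31 e5_31
  have h33 : ∀ u < 75451, (fun u => chkE tab 5 u) u = true := ext_range (a := 73207) (len := 2244) h32 e5_32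
  have h34 : ∀ u < 77738, (fun u => chkE tab 5 u) u = true := ext_range (a := 75451) (len := 2287) h33 e5_33
  have h35 : ∀ u < 80020, (fun u => chkE tab 5 u) u = true := ext_range (a := 77738) (len := 2282) h34 e5_34
  have h36 : ∀ u < 82443, (fun u => chkE tab 5 u) u = true := ext_range (a := 80020) (len := 2423) h35 e5_35
  have h37 : ∀ u < 84753, (fun u => chkE tab 5 u) u = true := ext_range (a := 82443) (len := 2310) h36 e5_36
  have h38 : ∀ u < 87419, (fun u => chkE tab 5 u) u = true := ext_range (a := 84753) (len := 2666) h37 e5_37
  have h39 : ∀ u < 89733, (fun u => chkE tab 5 u) u = true := ext_range (a := 87419) (len := 2314) h38 e5_38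
  have h40 : ∀ u < 92166, (fun u => chkE tab 5 u) u = true := ext_range (a := 89733) (len := 2433) h39 e5_39
  have h41 : ∀ u < 94538, (fun u => chkE tab 5 u) u = true := ext_range (a := 92166) (len := 2372) h40 e5_40
  have h42 : ∀ u < 96956, (fun u => chkE tab 5 u) u = true := ext_range (a := 94538) (len := 2418) h41 e5_41
  have h43 : ∀ u < 99369, (fun u => chkE tab 5 u) u = true := ext_range (a := 96956) (len := 2413) h42 e5_42
  have h44 : ∀ u < 101649, (fun u => chkE tab 5 u) u = true := ext_range (a := 99369) (len := 2280) h43 e5_43
  have h45 : ∀ u < 103948, (fun u => chkE tab 5 u) u = true := ext_range (a := 101649) (len := 2299) h44 e5_44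
  have h46 : ∀ u < 106270, (fun u => chkE tab 5 u) u = true := ext_range (a := 103948) (len := 2322) h45 e5_45
  have h47 : ∀ u < 108456, (fun u => chkE tab 5 u) u = true := ext_range (a := 106270) (len := 2186) h46 e5_46
  have h48 : ∀ u < 110848, (fun u => chkE tab 5 u) u = true := ext_range (a := 108456) (len := 2392) h47 e5_47
  have h49 : ∀ u < 113291, (fun u => chkE tab 5 u) u = true := ext_range (a := 110848) (len := 2443) h48 e5_48
  have h50 : ∀ u < 115593, (fun u => chkE tab 5 u) u = true := ext_range (a := 113291) (len := 2302) h49 e5_49
  have h51 : ∀ u < 118254, (fun u => chkE tab 5 u) u = true := ext_range (a := 115593) (len := 2661) h50 e5_50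
  have h52 : ∀ u < 121585, (fun u => chkE tab 5 u) u = true := ext_range (a := 118254) (len := 3331) h51 e5_51
  have h53 : ∀ u < 125784, (fun u => chkE tab 5 u) u = true := ext_range (a := 121585) (len := 4199) h52 e5_52
  have h54 : ∀ u < 130014, (fun u => chkE tab 5 u) u = true := ext_range (a := 125784) (len := 4230) h53 e5_53
  have h55 : ∀ u < 133040, (fun u => chkE tab 5 u) u = true := ext_range (a := 130014) (len := 3026) h54 e5_54
  have h56 : ∀ u < 136021, (fun u => chkE tab 5 u) u = true := ext_range (a := 133040) (len := 2981) h55 e5_55
  have h57 : ∀ u < 139421, (fun u => chkE tab 5 u) u = true := ext_range (a := 136021) (len := 3400) h56 e5_56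
  have h58 : ∀ u < 144114, (fun u => chkE tab 5 u) u = true := ext_range (a := 139421) (len := 4693) h57 e5_57
  have h59 : ∀ u < 147905, (fun u => chkE tab 5 u) u = true := ext_range (a := 144114) (len := 3791) h58 e5_58
  have h60 : ∀ u < 152430, (fun u => chkE tab 5 u) u = true := ext_range (a := 147905) (len := 4525) h59 e5_59
  have h61 : ∀ u < 156162, (fun u => chkE tab 5 u) u = true := ext_range (a := 152430) (len := 3732) h60 e5_60
  have h62 : ∀ u < 161740, (fun u => chkE tab 5 u) u = true := ext_range (a := 156162) (len := 5578) h61 e5_61
  have h63 : ∀ u < 164463, (fun u => chkE tab 5 u) u = true := ext_range (a := 161740) (len := 2723) h62 e5_62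
  have h64 : ∀ u < 166926, (fun u => chkE tab 5 u) u = true := ext_range (a := 164463) (len := 2463) h63 e5_63
  have h65 : ∀ u < 169251, (fun u => chkE tab 5 u) u = true := ext_range (a := 166926) (len := 2325) h64 e5_64
  have h66 : ∀ u < 171769, (fun u => chkE tab 5 u) u = true := ext_range (a := 169251) (len := 2518) h65 e5_65
  have h67 : ∀ u < 174128, (fun u => chkE tab 5 u) u = true := ext_range (a := 171769) (len := 2359) h66 e5_66
  have h68 : ∀ u < 176338, (fun u => chkE tab 5 u) u = true := ext_range (a := 174128) (len := 2210) h67 e5_67
  have h69 : ∀ u < 178979, (fun u => chkE tab 5 u) u = true := ext_range (a := 176338) (len := 2641) h68 e5_68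
  have h70 : ∀ u < 181680, (fun u => chkE tab 5 u) u = true := ext_range (a := 178979) (len := 2701) h69 e5_69
  have h71 : ∀ u < 184133, (fun u => chkE tab 5 u) u = true := ext_range (a := 181680) (len := 2453) h70 e5_70
  have h72 : ∀ u < 186587, (fun u => chkE tab 5 u) u = true := ext_range (a := 184133) (len := 2454) h71 e5_71
  have h73 : ∀ u < 189105, (fun u => chkE tab 5 u) u = true := ext_range (a := 186587) (len := 2518) h72 e5_72
  have h74 : ∀ u < 191500, (fun u => chkE tab 5 u) u = true := ext_range (a := 189105) (len := 2395) h73 e5_73
  have h75 : ∀ u < 193739, (fun u => chkE tab 5 u) u = true := ext_range (a := 191500) (len := 2239) h74 e5_74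
  have h76 : ∀ u < 196318, (fun u => chkE tab 5 u) u = true := ext_range (a := 193739) (len := 2579) h75 e5_75
  have h77 : ∀ u < 199228, (fun u => chkE tab 5 u) u = true := ext_range (a := 196318) (len := 2910) h76 e5_76
  have h78 : ∀ u < 201912, (fun u => chkE tab 5 u) u = true := ext_range (a := 199228) (len := 2684) h77 e5_77
  have h79 : ∀ u < 204522, (fun u => chkE tab 5 u) u = true := ext_range (a := 201912) (len := 2610) h78 e5_78
  have h80 : ∀ u < 207023, (fun u => chkE tab 5 u) u = true := ext_range (a := 204522) (len := 2501) h79 e5_79
  have h81 : ∀ u < 209585, (fun u => chkE tab 5 u) u = true := ext_range (a := 207023) (len := 2562) h80 e5_80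
  have h82 : ∀ u < 211954, (fun u => chkE tab 5 u) u = true := ext_range (a := 209585) (len := 2369) h81 e5_81
  have h83 : ∀ u < 214392, (fun u => chkE tab 5 u) u = true := ext_range (a := 211954) (len := 2438) h82 e5_82
  have h84 : ∀ u < 217379, (fun u => chkE tab 5 u) u = true := ext_range (a := 214392) (len := 2987) h83 e5_83
  have h85 : ∀ u < 220301, (fun u => chkE tab 5 u) u = true := ext_range (a := 217379) (len := 2922) h84 e5_84
  have h86 : ∀ u < 223095, (fun u => chkE tab 5 u) u = true := ext_range (a := 220301) (len := 2794) h85 e5_85
  have h87 : ∀ u < 225780, (fun u => chkE tab 5 u) u = true := ext_range (a := 223095) (len := 2685) h86 e5_86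
  have h88 : ∀ u < 228341, (fun u => chkE tab 5 u) u = true := ext_range (a := 225780) (len := 2561) h87 e5_87
  have h89 : ∀ u < 230991, (fun u => chkE tab 5 u) u = true := ext_range (a := 228341) (len := 2650) h88 e5_88
  have h90 : ∀ u < 233445, (fun u => chkE tab 5 u) u = true := ext_range (a := 230991) (len := 2454) h89 e5_89
  have h91 : ∀ u < 235924, (fun u => chkE tab 5 u) u = true := ext_range (a := 233445) (len := 2479) h90 e5_90
  have h92 : ∀ u < 239093, (fun u => chkE tab 5 u) u = true := ext_range (a := 235924) (len := 3169) h91 e5_91
  have h93 : ∀ u < 242227, (fun u => chkE tab 5 u) u = true := ext_range (a := 239093) (len := 3134) h92 e5_92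
  have h94 : ∀ u < 245060, (fun u => chkE tab 5 u) u = true := ext_range (a := 242227) (len := 2833) h93 e5_93
  have h95 : ∀ u < 247694, (fun u => chkE tab 5 u) u = true := ext_range (a := 245060) (len := 2634) h94 e5_94
  have h96 : ∀ u < 250404, (fun u => chkE tab 5 u) u = true := ext_range (a := 247694) (len := 2710) h95 e5_95
  have h97 : ∀ u < 253170, (fun u => chkE tab 5 u) u = true := ext_range (a := 250404) (len := 2766) h96 e5_96
  have h98 : ∀ u < 255620, (fun u => chkE tab 5 u) u = true := ext_range (a := 253170) (len := 2450) h97 e5_97
  have h99 : ∀ u < 257946, (fun u => chkE tab 5 u) u = true := ext_range (a := 255620) (len := 2326) h98 e5_98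
  have h100 : ∀ u < 261034, (fun u => chkE tab 5 u) u = true := ext_range (a := 257946) (len := 3088) h99 e5_99
  have h101 : ∀ u < 264324, (fun u => chkE tab 5 u) u = true := ext_range (a := 261034) (len := 3290) h100 e5_100
  have h102 : ∀ u < 267431, (fun u => chkE tab 5 u) u = true := ext_range (a := 264324) (len := 3107) h101 e5_101
  have h103 : ∀ u < 270058, (fun u => chkE tab 5 u) u = true := ext_range (a := 267431) (len := 2627) h102 e5_102
  have h104 : ∀ u < 272793, (fun u => chkE tab 5 u) u = true := ext_range (a := 270058) (len := 2735) h103 e5_103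
  have h105 : ∀ u < 275637, (fun u => chkE tab 5 u) u = true := ext_range (a := 272793) (len := 2844) h104 e5_104
  have h106 : ∀ u < 278244, (fun u => chkE tab 5 u) u = true := ext_range (a := 275637) (len := 2607) h105 e5_105
  have h107 : ∀ u < 280716, (fun u => chkE tab 5 u) u = true := ext_range (a := 278244) (len := 2472) h106 e5_106
  have h108 : ∀ u < 282948, (fun u => chkE tab 5 u) u = true := ext_range (a := 280716) (len := 2232) h107 e5_107
  have h109 : ∀ u < 286283, (fun u => chkE tab 5 u) u = true := ext_range (a := 282948) (len := 3335) h108 e5_108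
  have h110 : ∀ u < 289557, (fun u => chkE tab 5 u) u = true := ext_range (a := 286283) (len := 3274) h109 e5_109
  have h111 : ∀ u < 292431, (fun u => chkE tab 5 u) u = true := ext_range (a := 289557) (len := 2874) h110 e5_110
  have h112 : ∀ u < 295202, (fun u => chkE tab 5 u) u = true := ext_range (a := 292431) (len := 2771) h111 e5_111
  have h113 : ∀ u < 297908, (fun u => chkE tab 5 u) u = true := ext_range (a := 295202) (len := 2706) h112 e5_112
  have h114 : ∀ u < 300700, (fun u => chkE tab 5 u) u = true := ext_range (a := 297908) (len := 2792) h113 e5_113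
  have h115 : ∀ u < 303222, (fun u => chkE tab 5 u) u = true := ext_range (a := 300700) (len := 2522) h114 e5_114
  have h116 : ∀ u < 305655, (fun u => chkE tab 5 u) u = true := ext_range (a := 303222) (len := 2433) h115 e5_115
  have h117 : ∀ u < 307946, (fun u => chkE tab 5 u) u = true := ext_range (a := 305655) (len := 2291) h116 e5_116
  have h118 : ∀ u < 311011, (fun u => chkE tab 5 u) u = true := ext_range (a := 307946) (len := 3065) h117 e5_117
  have h119 : ∀ u < 314214, (fun u => chkE tab 5 u) u = true := ext_range (a := 311011) (len := 3203) h118 e5_118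
  have h120 : ∀ u < 317014, (fun u => chkE tab 5 u) u = true := ext_range (a := 314214) (len := 2800) h119 e5_119
  have h121 : ∀ u < 319787, (fun u => chkE tab 5 u) u = true := ext_range (a := 317014) (len := 2773) h120 e5_120
  have h122 : ∀ u < 322346, (fun u => chkE tab 5 u) u = true := ext_range (a := 319787) (len := 2559) h121 e5_121
  have h123 : ∀ u < 324982, (fun u => chkE tab 5 u) u = true := ext_range (a := 322346) (len := 2636) h122 e5_122
  have h124 : ∀ u < 327563, (fun u => chkE tab 5 u) u = true := ext_range (a := 324982) (len := 2581) h123 e5_123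
  have h125 : ∀ u < 329987, (fun u => chkE tab 5 u) u = true := ext_range (a := 327563) (len := 2424) h124 e5_124
  have h126 : ∀ u < 332299, (fun u => chkE tab 5 u) u = true := ext_range (a := 329987) (len := 2312) h125 e5_125
  have h127 : ∀ u < 334953, (fun u => chkE tab 5 u) u = true := ext_range (a := 332299) (len := 2654) h126 e5_126
  have h128 : ∀ u < 337991, (fun u => chkE tab 5 u) u = true := ext_range (a := 334953) (len := 3038) h127 e5_127
  have h129 : ∀ u < 340703, (fun u => chkE tab 5 u) u = true := ext_range (a := 337991) (len := 2712) h128 e5_128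
  have h130 : ∀ u < 343289, (fun u => chkE tab 5 u) u = true := ext_range (a := 340703) (len := 2586) h129 e5_129
  have h131 : ∀ u < 345820, (fun u => chkE tab 5 u) u = true := ext_range (a := 343289) (len := 2531) h130 e5_130
  have h132 : ∀ u < 348348, (fun u => chkE tab 5 u) u = true := ext_range (a := 345820) (len := 2528) h131 e5_131
  have h133 : ∀ u < 350872, (fun u => chkE tab 5 u) u = true := ext_range (a := 348348) (len := 2524) h132 e5_132
  have h134 : ∀ u < 353144, (fun u => chkE tab 5 u) u = true := ext_range (a := 350872) (len := 2272) h133 e5_133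
  have h135 : ∀ u < 355472, (fun u => chkE tab 5 u) u = true := ext_range (a := 353144) (len := 2328) h134 e5_134
  have h136 : ∀ u < 358262, (fun u => chkE tab 5 u) u = true := ext_range (a := 355472) (len := 2790) h135 e5_135
  have h137 : ∀ u < 361015, (fun u => chkE tab 5 u) u = true := ext_range (a := 358262) (len := 2753) h136 e5_136
  have h138 : ∀ u < 363617, (fun u => chkE tab 5 u) u = true := ext_range (a := 361015) (len := 2602) h137 e5_137
  have h139 : ∀ u < 366087, (fun u => chkE tab 5 u) u = true := ext_range (a := 363617) (len := 2470) h138 e5_138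
  have h140 : ∀ u < 368431, (fun u => chkE tab 5 u) u = true := ext_range (a := 366087) (len := 2344) h139 e5_139
  have h141 : ∀ u < 370748, (fun u => chkE tab 5 u) u = true := ext_range (a := 368431) (len := 2317) h140 e5_140
  have h142 : ∀ u < 373199, (fun u => chkE tab 5 u) u = true := ext_range (a := 370748) (len := 2451) h141 e5_141
  have h143 : ∀ u < 375824, (fun u => chkE tab 5 u) u = true := ext_range (a := 373199) (len := 2625) h142 e5_142
  have h144 : ∀ u < 378284, (fun u => chkE tab 5 u) u = true := ext_range (a := 375824) (len := 2460) h143 e5_143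
  have h145 : ∀ u < 380647, (fun u => chkE tab 5 u) u = true := ext_range (a := 378284) (len := 2363) h144 e5_144
  have h146 : ∀ u < 382764, (fun u => chkE tab 5 u) u = true := ext_range (a := 380647) (len := 2117) h145 e5_145
  have h147 : ∀ u < 385374, (fun u => chkE tab 5 u) u = true := ext_range (a := 382764) (len := 2610) h146 e5_146
  have h148 : ∀ u < 387765, (fun u => chkE tab 5 u) u = true := ext_range (a := 385374) (len := 2391) h147 e5_147
  have h149 : ∀ u < 389900, (fun u => chkE tab 5 u) u = true := ext_range (a := 387765) (len := 2135) h148 e5_148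
  have h150 : ∀ u < 392391, (fun u => chkE tab 5 u) u = true := ext_range (a := 389900) (len := 2491) h149 e5_149
  have h151 : ∀ u < 394454, (fun u => chkE tab 5 u) u = true := ext_range (a := 392391) (len := 2063) h150 e5_150
  exact h151

theorem hE6 : ∀ u < 394454, chkE tab 6 u = true := by
  have h0 : ∀ u < 0, (fun u => chkE tab 6 u) u = true := range_zero
  have h1 : ∀ u < 2365, (fun u => chkE tab 6 u) u = true := ext_range (a := 0) (len := 2365) h0 e6_0
  have h2 : ∀ u < 4717, (fun u => chkE tab 6 u) u = true := ext_range (a := 2365) (len := 2352) h1 e6_1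
  have h3 : ∀ u < 6968, (fun u => chkE tab 6 u) u = true := ext_range (a := 4717) (len := 2251) h2 e6_2
  have h4 : ∀ u < 9369, (fun u => chkE tab 6 u) u = true := ext_range (a := 6968) (len := 2401) h3 e6_3
  have h5 : ∀ u < 12077, (fun u => chkE tab 6 u) u = true := ext_range (a := 9369) (len := 2708) h4 e6_4
  have h6 : ∀ u < 14250, (fun u => chkE tab 6 u) u = true := ext_range (a := 12077) (len := 2173) h5 e6_5
  have h7 : ∀ u < 16508, (fun u => chkE tab 6 u) u = true := ext_range (a := 14250) (len := 2258) h6 e6_6
  have h8 : ∀ u < 18627, (fun u => chkE tab 6 u) u = true := ext_range (a := 16508) (len := 2119) h7 e6_7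
  have h9 : ∀ u < 20875, (fun u => chkE tab 6 u) u = true := ext_range (a := 18627) (len := 2248) h8 e6_8
  have h10 : ∀ u < 23015, (fun u => chkE tab 6 u) u = true := ext_range (a := 20875) (len := 2140) h9 e6_9
  have h11 : ∀ u < 25229, (fun u => chkE tab 6 u) u = true := ext_range (a := 23015) (len := 2214) h10 e6_10
  have h12 : ∀ u < 27437, (fun u => chkE tab 6 u) u = true := ext_range (a := 25229) (len := 2208) h11 e6_11
  have h13 : ∀ u < 29607, (fun u => chkE tab 6 u) u = true := ext_range (a := 27437) (len := 2170) h12 e6_12
  have h14 : ∀ u < 31794, (fun u => chkE tab 6 u) u = true := ext_range (a := 29607) (len := 2187) h13 e6_13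
  have h15 : ∀ u < 34090, (fun u => chkE tab 6 u) u = true := ext_range (a := 31794) (len := 2296) h14 e6_14
  have h16 : ∀ u < 36335, (fun u => chkE tab 6 u) u = true := ext_range (a := 34090) (len := 2245) h15 e6_15
  have h17 : ∀ u < 38551, (fun u => chkE tab 6 u) u = true := ext_range (a := 36335) (len := 2216) h16 e6_16
  have h18 : ∀ u < 40810, (fun u => chkE tab 6 u) u = true := ext_range (a := 38551) (len := 2259) h17 e6_17
  have h19 : ∀ u < 43046, (fun u => chkE tab 6 u) u = true := ext_range (a := 40810) (len := 2236) h18 e6_18
  have h20 : ∀ u < 45354, (fun u => chkE tab 6 u) u = true := ext_range (a := 43046) (len := 2308) h19 e6_19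
  have h21 : ∀ u < 47651, (fun u => chkE tab 6 u) u = true := ext_range (a := 45354) (len := 2297) h20 e6_20
  have h22 : ∀ u < 49930, (fun u => chkE tab 6 u) u = true := ext_range (a := 47651) (len := 2279) h21 e6_21
  have h23 : ∀ u < 52245, (fun u => chkE tab 6 u) u = true := ext_range (a := 49930) (len := 2315) h22 e6_22
  have h24 : ∀ u < 54533, (fun u => chkE tab 6 u) u = true := ext_range (a := 52245) (len := 2288) h23 e6_23
  have h25 : ∀ u < 56807, (fun u => chkE tab 6 u) u = true := ext_range (a := 54533) (len := 2274) h24 e6_24
  have h26 : ∀ u < 59108, (fun u => chkE tab 6 u) u = true := ext_range (a := 56807) (len := 2301) h25 e6_25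
  have h27 : ∀ u < 61383, (fun u => chkE tab 6 u) u = true := ext_range (a := 59108) (len := 2275) h26 e6_26
  have h28 : ∀ u < 63817, (fun u => chkE tab 6 u) u = true := ext_range (a := 61383) (len := 2434) h27 e6_27
  have h29 : ∀ u < 66118, (fun u => chkE tab 6 u) u = true := ext_range (a := 63817) (len := 2301) h28 e6_28
  have h30 : ∀ u < 68417, (fun u => chkE tab 6 u) u = true := ext_range (a := 66118) (len := 2299) h29 e6_29
  have h31 : ∀ u < 70784, (fun u => chkE tab 6 u) u = true := ext_range (a := 68417) (len := 2367) h30 e6_30
  have h32 : ∀ u < 73131, (fun u => chkE tab 6 u) u = true := ext_range (a := 70784) (len := 2347) h31 e6_31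
  have h33 : ∀ u < 75481, (fun u => chkE tab 6 u) u = true := ext_range (a := 73131) (len := 2350) h32 e6_32
  have h34 : ∀ u < 77765, (fun u => chkE tab 6 u) u = true := ext_range (a := 75481) (len := 2284) h33 e6_33
  have h35 : ∀ u < 80029, (fun u => chkE tab 6 u) u = true := ext_range (a := 77765) (len := 2264) h34 e6_34
  have h36 : ∀ u < 82410, (fun u => chkE tab 6 u) u = true := ext_range (a := 80029) (len := 2381) h35 e6_35
  have h37 : ∀ u < 84712, (fun u => chkE tab 6 u) u = true := ext_range (a := 82410) (len := 2302) h36 e6_36
  have h38 : ∀ u < 87107, (fun u => chkE tab 6 u) u = true := ext_range (a := 84712) (len := 2395) h37 e6_37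
  have h39 : ∀ u < 89524, (fun u => chkE tab 6 u) u = true := ext_range (a := 87107) (len := 2417) h38 e6_38
  have h40 : ∀ u < 91912, (fun u => chkE tab 6 u) u = true := ext_range (a := 89524) (len := 2388) h39 e6_39
  have h41 : ∀ u < 94242, (fun u => chkE tab 6 u) u = true := ext_range (a := 91912) (len := 2330) h40 e6_40
  have h42 : ∀ u < 96574, (fun u => chkE tab 6 u) u = true := ext_range (a := 94242) (len := 2332) h41 e6_41
  have h43 : ∀ u < 99128, (fun u => chkE tab 6 u) u = true := ext_range (a := 96574) (len := 2554) h42 e6_42
  have h44 : ∀ u < 101435, (fun u => chkE tab 6 u) u = true := ext_range (a := 99128) (len := 2307) h43 e6_43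
  have h45 : ∀ u < 103820, (fun u => chkE tab 6 u) u = true := ext_range (a := 101435) (len := 2385) h44 e6_44
  have h46 : ∀ u < 106190, (fun u => chkE tab 6 u) u = true := ext_range (a := 103820) (len := 2370) h45 e6_45
  have h47 : ∀ u < 108391, (fun u => chkE tab 6 u) u = true := ext_range (a := 106190) (len := 2201) h46 e6_46
  have h48 : ∀ u < 110698, (fun u => chkE tab 6 u) u = true := ext_range (a := 108391) (len := 2307) h47 e6_47
  have h49 : ∀ u < 113160, (fun u => chkE tab 6 u) u = true := ext_range (a := 110698) (len := 2462) h48 e6_48
  have h50 : ∀ u < 115474, (fun u => chkE tab 6 u) u = true := ext_range (a := 113160) (len := 2314) h49 e6_49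
  have h51 : ∀ u < 117923, (fun u => chkE tab 6 u) u = true := ext_range (a := 115474) (len := 2449) h50 e6_50
  have h52 : ∀ u < 121217, (fun u => chkE tab 6 u) u = true := ext_range (a := 117923) (len := 3294) h51 e6_51
  have h53 : ∀ u < 125686, (fun u => chkE tab 6 u) u = true := ext_range (a := 121217) (len := 4469) h52 e6_52
  have h54 : ∀ u < 129729, (fun u => chkE tab 6 u) u = true := ext_range (a := 125686) (len := 4043) h53 e6_53
  have h55 : ∀ u < 132890, (fun u => chkE tab 6 u) u = true := ext_range (a := 129729) (len := 3161) h54 e6_54
  have h56 : ∀ u < 136004, (fun u => chkE tab 6 u) u = true := ext_range (a := 132890) (len := 3114) h55 e6_55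
  have h57 : ∀ u < 139340, (fun u => chkE tab 6 u) u = true := ext_range (a := 136004) (len := 3336) h56 e6_56
  have h58 : ∀ u < 144520, (fun u => chkE tab 6 u) u = true := ext_range (a := 139340) (len := 5180) h57 e6_57
  have h59 : ∀ u < 148228, (fun u => chkE tab 6 u) u = true := ext_range (a := 144520) (len := 3708) h58 e6_58
  have h60 : ∀ u < 152606, (fun u => chkE tab 6 u) u = true := ext_range (a := 148228) (len := 4378) h59 e6_59
  have h61 : ∀ u < 156781, (fun u => chkE tab 6 u) u = true := ext_range (a := 152606) (len := 4175) h60 e6_60
  have h62 : ∀ u < 162044, (fun u => chkE tab 6 u) u = true := ext_range (a := 156781) (len := 5263) h61 e6_61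
  have h63 : ∀ u < 164723, (fun u => chkE tab 6 u) u = true := ext_range (a := 162044) (len := 2679) h62 e6_62
  have h64 : ∀ u < 167250, (fun u => chkE tab 6 u) u = true := ext_range (a := 164723) (len := 2527) h63 e6_63
  have h65 : ∀ u < 169674, (fun u => chkE tab 6 u) u = true := ext_range (a := 167250) (len := 2424) h64 e6_64
  have h66 : ∀ u < 172275, (fun u => chkE tab 6 u) u = true := ext_range (a := 169674) (len := 2601) h65 e6_65
  have h67 : ∀ u < 174505, (fun u => chkE tab 6 u) u = true := ext_range (a := 172275) (len := 2230) h66 e6_66
  have h68 : ∀ u < 176788, (fun u => chkE tab 6 u) u = true := ext_range (a := 174505) (len := 2283) h67 e6_67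
  have h69 : ∀ u < 179462, (fun u => chkE tab 6 u) u = true := ext_range (a := 176788) (len := 2674) h68 e6_68
  have h70 : ∀ u < 182221, (fun u => chkE tab 6 u) u = true := ext_range (a := 179462) (len := 2759) h69 e6_69
  have h71 : ∀ u < 184756, (fun u => chkE tab 6 u) u = true := ext_range (a := 182221) (len := 2535) h70 e6_70
  have h72 : ∀ u < 187172, (fun u => chkE tab 6 u) u = true := ext_range (a := 184756) (len := 2416) h71 e6_71
  have h73 : ∀ u < 189711, (fun u => chkE tab 6 u) u = true := ext_range (a := 187172) (len := 2539) h72 e6_72
  have h74 : ∀ u < 192041, (fun u => chkE tab 6 u) u = true := ext_range (a := 189711) (len := 2330) h73 e6_73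
  have h75 : ∀ u < 194222, (fun u => chkE tab 6 u) u = true := ext_range (a := 192041) (len := 2181) h74 e6_74
  have h76 : ∀ u < 196995, (fun u => chkE tab 6 u) u = true := ext_range (a := 194222) (len := 2773) h75 e6_75
  have h77 : ∀ u < 199926, (fun u => chkE tab 6 u) u = true := ext_range (a := 196995) (len := 2931) h76 e6_76
  have h78 : ∀ u < 202489, (fun u => chkE tab 6 u) u = true := ext_range (a := 199926) (len := 2563) h77 e6_77
  have h79 : ∀ u < 205002, (fun u => chkE tab 6 u) u = true := ext_range (a := 202489) (len := 2513) h78 e6_78
  have h80 : ∀ u < 207585, (fun u => chkE tab 6 u) u = true := ext_range (a := 205002) (len := 2583) h79 e6_79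
  have h81 : ∀ u < 210042, (fun u => chkE tab 6 u) u = true := ext_range (a := 207585) (len := 2457) h80 e6_80
  have h82 : ∀ u < 212377, (fun u => chkE tab 6 u) u = true := ext_range (a := 210042) (len := 2335) h81 e6_81
  have h83 : ∀ u < 214812, (fun u => chkE tab 6 u) u = true := ext_range (a := 212377) (len := 2435) h82 e6_82
  have h84 : ∀ u < 217880, (fun u => chkE tab 6 u) u = true := ext_range (a := 214812) (len := 3068) h83 e6_83
  have h85 : ∀ u < 220774, (fun u => chkE tab 6 u) u = true := ext_range (a := 217880) (len := 2894) h84 e6_84
  have h86 : ∀ u < 223337, (fun u => chkE tab 6 u) u = true := ext_range (a := 220774) (len := 2563) h85 e6_85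
  have h87 : ∀ u < 226026, (fun u => chkE tab 6 u) u = true := ext_range (a := 223337) (len := 2689) h86 e6_86
  have h88 : ∀ u < 228683, (fun u => chkE tab 6 u) u = true := ext_range (a := 226026) (len := 2657) h87 e6_87
  have h89 : ∀ u < 231130, (fun u => chkE tab 6 u) u = true := ext_range (a := 228683) (len := 2447) h88 e6_88
  have h90 : ∀ u < 233601, (fun u => chkE tab 6 u) u = true := ext_range (a := 231130) (len := 2471) h89 e6_89
  have h91 : ∀ u < 236149, (fun u => chkE tab 6 u) u = true := ext_range (a := 233601) (len := 2548) h90 e6_90
  have h92 : ∀ u < 239377, (fun u => chkE tab 6 u) u = true := ext_range (a := 236149) (len := 3228) h91 e6_91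
  have h93 : ∀ u < 242360, (fun u => chkE tab 6 u) u = true := ext_range (a := 239377) (len := 2983) h92 e6_92
  have h94 : ∀ u < 245115, (fun u => chkE tab 6 u) u = true := ext_range (a := 242360) (len := 2755) h93 e6_93
  have h95 : ∀ u < 247957, (fun u => chkE tab 6 u) u = true := ext_range (a := 245115) (len := 2842) h94 e6_94
  have h96 : ∀ u < 250705, (fun u => chkE tab 6 u) u = true := ext_range (a := 247957) (len := 2748) h95 e6_95
  have h97 : ∀ u < 253295, (fun u => chkE tab 6 u) u = true := ext_range (a := 250705) (len := 2590) h96 e6_96
  have h98 : ∀ u < 255813, (fun u => chkE tab 6 u) u = true := ext_range (a := 253295) (len := 2518) h97 e6_97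
  have h99 : ∀ u < 258305, (fun u => chkE tab 6 u) u = true := ext_range (a := 255813) (len := 2492) h98 e6_98
  have h100 : ∀ u < 261596, (fun u => chkE tab 6 u) u = true := ext_range (a := 258305) (len := 3291) h99 e6_99
  have h101 : ∀ u < 264860, (fun u => chkE tab 6 u) u = true := ext_range (a := 261596) (len := 3264) h100 e6_100
  have h102 : ∀ u < 267713, (fun u => chkE tab 6 u) u = true := ext_range (a := 264860) (len := 2853) h101 e6_101
  have h103 : ∀ u < 270614, (fun u => chkE tab 6 u) u = true := ext_range (a := 267713) (len := 2901) h102 e6_102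
  have h104 : ∀ u < 273510, (fun u => chkE tab 6 u) u = true := ext_range (a := 270614) (len := 2896) h103 e6_103
  have h105 : ∀ u < 276270, (fun u => chkE tab 6 u) u = true := ext_range (a := 273510) (len := 2760) h104 e6_104
  have h106 : ∀ u < 278842, (fun u => chkE tab 6 u) u = true := ext_range (a := 276270) (len := 2572) h105 e6_105
  have h107 : ∀ u < 281423, (fun u => chkE tab 6 u) u = true := ext_range (a := 278842) (len := 2581) h106 e6_106
  have h108 : ∀ u < 284246, (fun u => chkE tab 6 u) u = true := ext_range (a := 281423) (len := 2823) h107 e6_107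
  have h109 : ∀ u < 287721, (fun u => chkE tab 6 u) u = true := ext_range (a := 284246) (len := 3475) h108 e6_108
  have h110 : ∀ u < 290797, (fun u => chkE tab 6 u) u = true := ext_range (a := 287721) (len := 3076) h109 e6_109
  have h111 : ∀ u < 293666, (fun u => chkE tab 6 u) u = true := ext_range (a := 290797) (len := 2869) h110 e6_110
  have h112 : ∀ u < 296635, (fun u => chkE tab 6 u) u = true := ext_range (a := 293666) (len := 2969) h111 e6_111
  have h113 : ∀ u < 299569, (fun u => chkE tab 6 u) u = true := ext_range (a := 296635) (len := 2934) h112 e6_112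
  have h114 : ∀ u < 302287, (fun u => chkE tab 6 u) u = true := ext_range (a := 299569) (len := 2718) h113 e6_113
  have h115 : ∀ u < 304830, (fun u => chkE tab 6 u) u = true := ext_range (a := 302287) (len := 2543) h114 e6_114
  have h116 : ∀ u < 307370, (fun u => chkE tab 6 u) u = true := ext_range (a := 304830) (len := 2540) h115 e6_115
  have h117 : ∀ u < 310434, (fun u => chkE tab 6 u) u = true := ext_range (a := 307370) (len := 3064) h116 e6_116
  have h118 : ∀ u < 313788, (fun u => chkE tab 6 u) u = true := ext_range (a := 310434) (len := 3354) h117 e6_117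
  have h119 : ∀ u < 316859, (fun u => chkE tab 6 u) u = true := ext_range (a := 313788) (len := 3071) h118 e6_118
  have h120 : ∀ u < 319820, (fun u => chkE tab 6 u) u = true := ext_range (a := 316859) (len := 2961) h119 e6_119
  have h121 : ∀ u < 322589, (fun u => chkE tab 6 u) u = true := ext_range (a := 319820) (len := 2769) h120 e6_120
  have h122 : ∀ u < 325379, (fun u => chkE tab 6 u) u = true := ext_range (a := 322589) (len := 2790) h121 e6_121
  have h123 : ∀ u < 328041, (fun u => chkE tab 6 u) u = true := ext_range (a := 325379) (len := 2662) h122 e6_122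
  have h124 : ∀ u < 330514, (fun u => chkE tab 6 u) u = true := ext_range (a := 328041) (len := 2473) h123 e6_123
  have h125 : ∀ u < 332954, (fun u => chkE tab 6 u) u = true := ext_range (a := 330514) (len := 2440) h124 e6_124
  have h126 : ∀ u < 336222, (fun u => chkE tab 6 u) u = true := ext_range (a := 332954) (len := 3268) h125 e6_125
  have h127 : ∀ u < 339449, (fun u => chkE tab 6 u) u = true := ext_range (a := 336222) (len := 3227) h126 e6_126
  have h128 : ∀ u < 342513, (fun u => chkE tab 6 u) u = true := ext_range (a := 339449) (len := 3064) h127 e6_127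
  have h129 : ∀ u < 345212, (fun u => chkE tab 6 u) u = true := ext_range (a := 342513) (len := 2699) h128 e6_128
  have h130 : ∀ u < 347921, (fun u => chkE tab 6 u) u = true := ext_range (a := 345212) (len := 2709) h129 e6_129
  have h131 : ∀ u < 350549, (fun u => chkE tab 6 u) u = true := ext_range (a := 347921) (len := 2628) h130 e6_130
  have h132 : ∀ u < 352975, (fun u => chkE tab 6 u) u = true := ext_range (a := 350549) (len := 2426) h131 e6_131
  have h133 : ∀ u < 355221, (fun u => chkE tab 6 u) u = true := ext_range (a := 352975) (len := 2246) h132 e6_132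
  have h134 : ∀ u < 358568, (fun u => chkE tab 6 u) u = true := ext_range (a := 355221) (len := 3347) h133 e6_133
  have h135 : ∀ u < 361647, (fun u => chkE tab 6 u) u = true := ext_range (a := 358568) (len := 3079) h134 e6_134
  have h136 : ∀ u < 364553, (fun u => chkE tab 6 u) u = true := ext_range (a := 361647) (len := 2906) h135 e6_135
  have h137 : ∀ u < 367032, (fun u => chkE tab 6 u) u = true := ext_range (a := 364553) (len := 2479) h136 e6_136
  have h138 : ∀ u < 369558, (fun u => chkE tab 6 u) u = true := ext_range (a := 367032) (len := 2526) h137 e6_137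
  have h139 : ∀ u < 371724, (fun u => chkE tab 6 u) u = true := ext_range (a := 369558) (len := 2166) h138 e6_138
  have h140 : ∀ u < 374710, (fun u => chkE tab 6 u) u = true := ext_range (a := 371724) (len := 2986) h139 e6_139
  have h141 : ∀ u < 377638, (fun u => chkE tab 6 u) u = true := ext_range (a := 374710) (len := 2928) h140 e6_140
  have h142 : ∀ u < 380056, (fun u => chkE tab 6 u) u = true := ext_range (a := 377638) (len := 2418) h141 e6_141
  have h143 : ∀ u < 382464, (fun u => chkE tab 6 u) u = true := ext_range (a := 380056) (len := 2408) h142 e6_142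
  have h144 : ∀ u < 385063, (fun u => chkE tab 6 u) u = true := ext_range (a := 382464) (len := 2599) h143 e6_143
  have h145 : ∀ u < 387701, (fun u => chkE tab 6 u) u = true := ext_range (a := 385063) (len := 2638) h144 e6_144
  have h146 : ∀ u < 389958, (fun u => chkE tab 6 u) u = true := ext_range (a := 387701) (len := 2257) h145 e6_145
  have h147 : ∀ u < 392510, (fun u => chkE tab 6 u) u = true := ext_range (a := 389958) (len := 2552) h146 e6_146
  have h148 : ∀ u < 394454, (fun u => chkE tab 6 u) u = true := ext_range (a := 392510) (len := 1944) h147 e6_147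
  exact h148

theorem hE7 : ∀ u < 394454, chkE tab 7 u = true := by
  have h0 : ∀ u < 0, (fun u => chkE tab 7 u) u = true := range_zero
  have h1 : ∀ u < 2174, (fun u => chkE tab 7 u) u = true := ext_range (a := 0) (len := 2174) h0 e7_0
  have h2 : ∀ u < 4663, (fun u => chkE tab 7 u) u = true := ext_range (a := 2174) (len := 2489) h1 e7_1
  have h3 : ∀ u < 7145, (fun u => chkE tab 7 u) u = true := ext_range (a := 4663) (len := 2482) h2 e7_2
  have h4 : ∀ u < 9762, (fun u => chkE tab 7 u) u = true := ext_range (a := 7145) (len := 2617) h3 e7_3
  have h5 : ∀ u < 12637, (fun u => chkE tab 7 u) u = true := ext_range (a := 9762) (len := 2875) h4 e7_4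
  have h6 : ∀ u < 14934, (fun u => chkE tab 7 u) u = true := ext_range (a := 12637) (len := 2297) h5 e7_5
  have h7 : ∀ u < 17274, (fun u => chkE tab 7 u) u = true := ext_range (a := 14934) (len := 2340) h6 e7_6
  have h8 : ∀ u < 19525, (fun u => chkE tab 7 u) u = true := ext_range (a := 17274) (len := 2251) h7 e7_7
  have h9 : ∀ u < 21772, (fun u => chkE tab 7 u) u = true := ext_range (a := 19525) (len := 2247) h8 e7_8
  have h10 : ∀ u < 23934, (fun u => chkE tab 7 u) u = true := ext_range (a := 21772) (len := 2162) h9 e7_9
  have h11 : ∀ u < 26236, (fun u => chkE tab 7 u) u = true := ext_range (a := 23934) (len := 2302) h10 e7_10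
  have h12 : ∀ u < 28438, (fun u => chkE tab 7 u) u = true := ext_range (a := 26236) (len := 2202) h11 e7_11
  have h13 : ∀ u < 30536, (fun u => chkE tab 7 u) u = true := ext_range (a := 28438) (len := 2098) h12 e7_12
  have h14 : ∀ u < 32794, (fun u => chkE tab 7 u) u = true := ext_range (a := 30536) (len := 2258) h13 e7_13
  have h15 : ∀ u < 35101, (fun u => chkE tab 7 u) u = true := ext_range (a := 32794) (len := 2307) h14 e7_14
  have h16 : ∀ u < 37327, (fun u => chkE tab 7 u) u = true := ext_range (a := 35101) (len := 2226) h15 e7_15
  have h17 : ∀ u < 39498, (fun u => chkE tab 7 u) u = true := ext_range (a := 37327) (len := 2171) h16 e7_16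
  have h18 : ∀ u < 41504, (fun u => chkE tab 7 u) u = true := ext_range (a := 39498) (len := 2006) h17 e7_17
  have h19 : ∀ u < 43826, (fun u => chkE tab 7 u) u = true := ext_range (a := 41504) (len := 2322) h18 e7_18
  have h20 : ∀ u < 46172, (fun u => chkE tab 7 u) u = true := ext_range (a := 43826) (len := 2346) h19 e7_19
  have h21 : ∀ u < 48414, (fun u => chkE tab 7 u) u = true := ext_range (a := 46172) (len := 2242) h20 e7_20
  have h22 : ∀ u < 50595, (fun u => chkE tab 7 u) u = true := ext_range (a := 48414) (len := 2181) h21 e7_21
  have h23 : ∀ u < 52744, (fun u => chkE tab 7 u) u = true := ext_range (a := 50595) (len := 2149) h22 e7_22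
  have h24 : ∀ u < 54947, (fun u => chkE tab 7 u) u = true := ext_range (a := 52744) (len := 2203) h23 e7_23
  have h25 : ∀ u < 56953, (fun u => chkE tab 7 u) u = true := ext_range (a := 54947) (len := 2006) h24 e7_24
  have h26 : ∀ u < 59251, (fun u => chkE tab 7 u) u = true := ext_range (a := 56953) (len := 2298) h25 e7_25
  have h27 : ∀ u < 61458, (fun u => chkE tab 7 u) u = true := ext_range (a := 59251) (len := 2207) h26 e7_26
  have h28 : ∀ u < 63863, (fun u => chkE tab 7 u) u = true := ext_range (a := 61458) (len := 2405) h27 e7_27
  have h29 : ∀ u < 66152, (fun u => chkE tab 7 u) u = true := ext_range (a := 63863) (len := 2289) h28 e7_28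
  have h30 : ∀ u < 68256, (fun u => chkE tab 7 u) u = true := ext_range (a := 66152) (len := 2104) h29 e7_29
  have h31 : ∀ u < 70518, (fun u => chkE tab 7 u) u = true := ext_range (a := 68256) (len := 2262) h30 e7_30
  have h32 : ∀ u < 72701, (fun u => chkE tab 7 u) u = true := ext_range (a := 70518) (len := 2183) h31 e7_31
  have h33 : ∀ u < 74880, (fun u => chkE tab 7 u) u = true := ext_range (a := 72701) (len := 2179) h32 e7_32
  have h34 : ∀ u < 76983, (fun u => chkE tab 7 u) u = true := ext_range (a := 74880) (len := 2103) h33 e7_33
  have h35 : ∀ u < 79067, (fun u => chkE tab 7 u) u = true := ext_range (a := 76983) (len := 2084) h34 e7_34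
  have h36 : ∀ u < 81392, (fun u => chkE tab 7 u) u = true := ext_range (a := 79067) (len := 2325) h35 e7_35
  have h37 : ∀ u < 83619, (fun u => chkE tab 7 u) u = true := ext_range (a := 81392) (len := 2227) h36 e7_36
  have h38 : ∀ u < 85984, (fun u => chkE tab 7 u) u = true := ext_range (a := 83619) (len := 2365) h37 e7_37
  have h39 : ∀ u < 88301, (fun u => chkE tab 7 u) u = true := ext_range (a := 85984) (len := 2317) h38 e7_38
  have h40 : ∀ u < 90504, (fun u => chkE tab 7 u) u = true := ext_range (a := 88301) (len := 2203) h39 e7_39
  have h41 : ∀ u < 92808, (fun u => chkE tab 7 u) u = true := ext_range (a := 90504) (len := 2304) h40 e7_40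
  have h42 : ∀ u < 94922, (fun u => chkE tab 7 u) u = true := ext_range (a := 92808) (len := 2114) h41 e7_41
  have h43 : ∀ u < 97223, (fun u => chkE tab 7 u) u = true := ext_range (a := 94922) (len := 2301) h42 e7_42
  have h44 : ∀ u < 99453, (fun u => chkE tab 7 u) u = true := ext_range (a := 97223) (len := 2230) h43 e7_43
  have h45 : ∀ u < 101584, (fun u => chkE tab 7 u) u = true := ext_range (a := 99453) (len := 2131) h44 e7_44
  have h46 : ∀ u < 103831, (fun u => chkE tab 7 u) u = true := ext_range (a := 101584) (len := 2247) h45 e7_45
  have h47 : ∀ u < 105950, (fun u => chkE tab 7 u) u = true := ext_range (a := 103831) (len := 2119) h46 e7_46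
  have h48 : ∀ u < 107951, (fun u => chkE tab 7 u) u = true := ext_range (a := 105950) (len := 2001) h47 e7_47
  have h49 : ∀ u < 110136, (fun u => chkE tab 7 u) u = true := ext_range (a := 107951) (len := 2185) h48 e7_48
  have h50 : ∀ u < 112535, (fun u => chkE tab 7 u) u = true := ext_range (a := 110136) (len := 2399) h49 e7_49
  have h51 : ∀ u < 114690, (fun u => chkE tab 7 u) u = true := ext_range (a := 112535) (len := 2155) h50 e7_50
  have h52 : ∀ u < 116880, (fun u => chkE tab 7 u) u = true := ext_range (a := 114690) (len := 2190) h51 e7_51
  have h53 : ∀ u < 119802, (fun u => chkE tab 7 u) u = true := ext_range (a := 116880) (len := 2922) h52 e7_52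
  have h54 : ∀ u < 123067, (fun u => chkE tab 7 u) u = true := ext_range (a := 119802) (len := 3265) h53 e7_53
  have h55 : ∀ u < 127685, (fun u => chkE tab 7 u) u = true := ext_range (a := 123067) (len := 4618) h54 e7_54
  have h56 : ∀ u < 131294, (fun u => chkE tab 7 u) u = true := ext_range (a := 127685) (len := 3609) h55 e7_55
  have h57 : ∀ u < 134099, (fun u => chkE tab 7 u) u = true := ext_range (a := 131294) (len := 2805) h56 e7_56
  have h58 : ∀ u < 136898, (fun u => chkE tab 7 u) u = true := ext_range (a := 134099) (len := 2799) h57 e7_57
  have h59 : ∀ u < 140651, (fun u => chkE tab 7 u) u = true := ext_range (a := 136898) (len := 3753) h58 e7_58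
  have h60 : ∀ u < 145103, (fun u => chkE tab 7 u) u = true := ext_range (a := 140651) (len := 4452) h59 e7_59
  have h61 : ∀ u < 148735, (fun u => chkE tab 7 u) u = true := ext_range (a := 145103) (len := 3632) h60 e7_60
  have h62 : ∀ u < 153040, (fun u => chkE tab 7 u) u = true := ext_range (a := 148735) (len := 4305) h61 e7_61
  have h63 : ∀ u < 157244, (fun u => chkE tab 7 u) u = true := ext_range (a := 153040) (len := 4204) h62 e7_62
  have h64 : ∀ u < 162232, (fun u => chkE tab 7 u) u = true := ext_range (a := 157244) (len := 4988) h63 e7_63
  have h65 : ∀ u < 164770, (fun u => chkE tab 7 u) u = true := ext_range (a := 162232) (len := 2538) h64 e7_64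
  have h66 : ∀ u < 167235, (fun u => chkE tab 7 u) u = true := ext_range (a := 164770) (len := 2465) h65 e7_65
  have h67 : ∀ u < 169529, (fun u => chkE tab 7 u) u = true := ext_range (a := 167235) (len := 2294) h66 e7_66
  have h68 : ∀ u < 171896, (fun u => chkE tab 7 u) u = true := ext_range (a := 169529) (len := 2367) h67 e7_67
  have h69 : ∀ u < 174193, (fun u => chkE tab 7 u) u = true := ext_range (a := 171896) (len := 2297) h68 e7_68
  have h70 : ∀ u < 176362, (fun u => chkE tab 7 u) u = true := ext_range (a := 174193) (len := 2169) h69 e7_69
  have h71 : ∀ u < 178920, (fun u => chkE tab 7 u) u = true := ext_range (a := 176362) (len := 2558) h70 e7_70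
  have h72 : ∀ u < 181514, (fun u => chkE tab 7 u) u = true := ext_range (a := 178920) (len := 2594) h71 e7_71
  have h73 : ∀ u < 183893, (fun u => chkE tab 7 u) u = true := ext_range (a := 181514) (len := 2379) h72 e7_72
  have h74 : ∀ u < 186315, (fun u => chkE tab 7 u) u = true := ext_range (a := 183893) (len := 2422) h73 e7_73
  have h75 : ∀ u < 188750, (fun u => chkE tab 7 u) u = true := ext_range (a := 186315) (len := 2435) h74 e7_74
  have h76 : ∀ u < 191014, (fun u => chkE tab 7 u) u = true := ext_range (a := 188750) (len := 2264) h75 e7_75
  have h77 : ∀ u < 193265, (fun u => chkE tab 7 u) u = true := ext_range (a := 191014) (len := 2251) h76 e7_76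
  have h78 : ∀ u < 195582, (fun u => chkE tab 7 u) u = true := ext_range (a := 193265) (len := 2317) h77 e7_77
  have h79 : ∀ u < 198291, (fun u => chkE tab 7 u) u = true := ext_range (a := 195582) (len := 2709) h78 e7_78
  have h80 : ∀ u < 200777, (fun u => chkE tab 7 u) u = true := ext_range (a := 198291) (len := 2486) h79 e7_79
  have h81 : ∀ u < 203282, (fun u => chkE tab 7 u) u = true := ext_range (a := 200777) (len := 2505) h80 e7_80
  have h82 : ∀ u < 205665, (fun u => chkE tab 7 u) u = true := ext_range (a := 203282) (len := 2383) h81 e7_81
  have h83 : ∀ u < 208110, (fun u => chkE tab 7 u) u = true := ext_range (a := 205665) (len := 2445) h82 e7_82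
  have h84 : ∀ u < 210330, (fun u => chkE tab 7 u) u = true := ext_range (a := 208110) (len := 2220) h83 e7_83
  have h85 : ∀ u < 212657, (fun u => chkE tab 7 u) u = true := ext_range (a := 210330) (len := 2327) h84 e7_84
  have h86 : ∀ u < 214926, (fun u => chkE tab 7 u) u = true := ext_range (a := 212657) (len := 2269) h85 e7_85
  have h87 : ∀ u < 217554, (fun u => chkE tab 7 u) u = true := ext_range (a := 214926) (len := 2628) h86 e7_86
  have h88 : ∀ u < 220154, (fun u => chkE tab 7 u) u = true := ext_range (a := 217554) (len := 2600) h87 e7_87
  have h89 : ∀ u < 222605, (fun u => chkE tab 7 u) u = true := ext_range (a := 220154) (len := 2451) h88 e7_88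
  have h90 : ∀ u < 225022, (fun u => chkE tab 7 u) u = true := ext_range (a := 222605) (len := 2417) h89 e7_89
  have h91 : ∀ u < 227523, (fun u => chkE tab 7 u) u = true := ext_range (a := 225022) (len := 2501) h90 e7_90
  have h92 : ∀ u < 229899, (fun u => chkE tab 7 u) u = true := ext_range (a := 227523) (len := 2376) h91 e7_91
  have h93 : ∀ u < 232129, (fun u => chkE tab 7 u) u = true := ext_range (a := 229899) (len := 2230) h92 e7_92
  have h94 : ∀ u < 234351, (fun u => chkE tab 7 u) u = true := ext_range (a := 232129) (len := 2222) h93 e7_93
  have h95 : ∀ u < 236762, (fun u => chkE tab 7 u) u = true := ext_range (a := 234351) (len := 2411) h94 e7_94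
  have h96 : ∀ u < 239494, (fun u => chkE tab 7 u) u = true := ext_range (a := 236762) (len := 2732) h95 e7_95
  have h97 : ∀ u < 242122, (fun u => chkE tab 7 u) u = true := ext_range (a := 239494) (len := 2628) h96 e7_96
  have h98 : ∀ u < 244527, (fun u => chkE tab 7 u) u = true := ext_range (a := 242122) (len := 2405) h97 e7_97
  have h99 : ∀ u < 246922, (fun u => chkE tab 7 u) u = true := ext_range (a := 244527) (len := 2395) h98 e7_98
  have h100 : ∀ u < 249437, (fun u => chkE tab 7 u) u = true := ext_range (a := 246922) (len := 2515) h99 e7_99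
  have h101 : ∀ u < 251829, (fun u => chkE tab 7 u) u = true := ext_range (a := 249437) (len := 2392) h100 e7_100
  have h102 : ∀ u < 254100, (fun u => chkE tab 7 u) u = true := ext_range (a := 251829) (len := 2271) h101 e7_101
  have h103 : ∀ u < 256408, (fun u => chkE tab 7 u) u = true := ext_range (a := 254100) (len := 2308) h102 e7_102
  have h104 : ∀ u < 258729, (fun u => chkE tab 7 u) u = true := ext_range (a := 256408) (len := 2321) h103 e7_103
  have h105 : ∀ u < 261455, (fun u => chkE tab 7 u) u = true := ext_range (a := 258729) (len := 2726) h104 e7_104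
  have h106 : ∀ u < 264242, (fun u => chkE tab 7 u) u = true := ext_range (a := 261455) (len := 2787) h105 e7_105
  have h107 : ∀ u < 266725, (fun u => chkE tab 7 u) u = true := ext_range (a := 264242) (len := 2483) h106 e7_106
  have h108 : ∀ u < 269232, (fun u => chkE tab 7 u) u = true := ext_range (a := 266725) (len := 2507) h107 e7_107
  have h109 : ∀ u < 271623, (fun u => chkE tab 7 u) u = true := ext_range (a := 269232) (len := 2391) h108 e7_108
  have h110 : ∀ u < 274185, (fun u => chkE tab 7 u) u = true := ext_range (a := 271623) (len := 2562) h109 e7_109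
  have h111 : ∀ u < 276620, (fun u => chkE tab 7 u) u = true := ext_range (a := 274185) (len := 2435) h110 e7_110
  have h112 : ∀ u < 278862, (fun u => chkE tab 7 u) u = true := ext_range (a := 276620) (len := 2242) h111 e7_111
  have h113 : ∀ u < 281081, (fun u => chkE tab 7 u) u = true := ext_range (a := 278862) (len := 2219) h112 e7_112
  have h114 : ∀ u < 283553, (fun u => chkE tab 7 u) u = true := ext_range (a := 281081) (len := 2472) h113 e7_113
  have h115 : ∀ u < 286491, (fun u => chkE tab 7 u) u = true := ext_range (a := 283553) (len := 2938) h114 e7_114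
  have h116 : ∀ u < 289488, (fun u => chkE tab 7 u) u = true := ext_range (a := 286491) (len := 2997) h115 e7_115
  have h117 : ∀ u < 291934, (fun u => chkE tab 7 u) u = true := ext_range (a := 289488) (len := 2446) h116 e7_116
  have h118 : ∀ u < 294443, (fun u => chkE tab 7 u) u = true := ext_range (a := 291934) (len := 2509) h117 e7_117
  have h119 : ∀ u < 296919, (fun u => chkE tab 7 u) u = true := ext_range (a := 294443) (len := 2476) h118 e7_118
  have h120 : ∀ u < 299513, (fun u => chkE tab 7 u) u = true := ext_range (a := 296919) (len := 2594) h119 e7_119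
  have h121 : ∀ u < 301928, (fun u => chkE tab 7 u) u = true := ext_range (a := 299513) (len := 2415) h120 e7_120
  have h122 : ∀ u < 304134, (fun u => chkE tab 7 u) u = true := ext_range (a := 301928) (len := 2206) h121 e7_121
  have h123 : ∀ u < 306385, (fun u => chkE tab 7 u) u = true := ext_range (a := 304134) (len := 2251) h122 e7_122
  have h124 : ∀ u < 308819, (fun u => chkE tab 7 u) u = true := ext_range (a := 306385) (len := 2434) h123 e7_123
  have h125 : ∀ u < 311946, (fun u => chkE tab 7 u) u = true := ext_range (a := 308819) (len := 3127) h124 e7_124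
  have h126 : ∀ u < 315158, (fun u => chkE tab 7 u) u = true := ext_range (a := 311946) (len := 3212) h125 e7_125
  have h127 : ∀ u < 317604, (fun u => chkE tab 7 u) u = true := ext_range (a := 315158) (len := 2446) h126 e7_126
  have h128 : ∀ u < 320151, (fun u => chkE tab 7 u) u = true := ext_range (a := 317604) (len := 2547) h127 e7_127
  have h129 : ∀ u < 322745, (fun u => chkE tab 7 u) u = true := ext_range (a := 320151) (len := 2594) h128 e7_128
  have h130 : ∀ u < 325382, (fun u => chkE tab 7 u) u = true := ext_range (a := 322745) (len := 2637) h129 e7_129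
  have h131 : ∀ u < 327731, (fun u => chkE tab 7 u) u = true := ext_range (a := 325382) (len := 2349) h130 e7_130
  have h132 : ∀ u < 329974, (fun u => chkE tab 7 u) u = true := ext_range (a := 327731) (len := 2243) h131 e7_131
  have h133 : ∀ u < 332084, (fun u => chkE tab 7 u) u = true := ext_range (a := 329974) (len := 2110) h132 e7_132
  have h134 : ∀ u < 334808, (fun u => chkE tab 7 u) u = true := ext_range (a := 332084) (len := 2724) h133 e7_133
  have h135 : ∀ u < 338280, (fun u => chkE tab 7 u) u = true := ext_range (a := 334808) (len := 3472) h134 e7_134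
  have h136 : ∀ u < 341247, (fun u => chkE tab 7 u) u = true := ext_range (a := 338280) (len := 2967) h135 e7_135
  have h137 : ∀ u < 343785, (fun u => chkE tab 7 u) u = true := ext_range (a := 341247) (len := 2538) h136 e7_136
  have h138 : ∀ u < 346467, (fun u => chkE tab 7 u) u = true := ext_range (a := 343785) (len := 2682) h137 e7_137
  have h139 : ∀ u < 349268, (fun u => chkE tab 7 u) u = true := ext_range (a := 346467) (len := 2801) h138 e7_138
  have h140 : ∀ u < 351643, (fun u => chkE tab 7 u) u = true := ext_range (a := 349268) (len := 2375) h139 e7_139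
  have h141 : ∀ u < 353789, (fun u => chkE tab 7 u) u = true := ext_range (a := 351643) (len := 2146) h140 e7_140
  have h142 : ∀ u < 356148, (fun u => chkE tab 7 u) u = true := ext_range (a := 353789) (len := 2359) h141 e7_141
  have h143 : ∀ u < 359674, (fun u => chkE tab 7 u) u = true := ext_range (a := 356148) (len := 3526) h142 e7_142
  have h144 : ∀ u < 362774, (fun u => chkE tab 7 u) u = true := ext_range (a := 359674) (len := 3100) h143 e7_143
  have h145 : ∀ u < 365479, (fun u => chkE tab 7 u) u = true := ext_range (a := 362774) (len := 2705) h144 e7_144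
  have h146 : ∀ u < 368286, (fun u => chkE tab 7 u) u = true := ext_range (a := 365479) (len := 2807) h145 e7_145
  have h147 : ∀ u < 370718, (fun u => chkE tab 7 u) u = true := ext_range (a := 368286) (len := 2432) h146 e7_146
  have h148 : ∀ u < 373044, (fun u => chkE tab 7 u) u = true := ext_range (a := 370718) (len := 2326) h147 e7_147
  have h149 : ∀ u < 376591, (fun u => chkE tab 7 u) u = true := ext_range (a := 373044) (len := 3547) h148 e7_148
  have h150 : ∀ u < 379405, (fun u => chkE tab 7 u) u = true := ext_range (a := 376591) (len := 2814) h149 e7_149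
  have h151 : ∀ u < 382124, (fun u => chkE tab 7 u) u = true := ext_range (a := 379405) (len := 2719) h150 e7_150
  have h152 : ∀ u < 384550, (fun u => chkE tab 7 u) u = true := ext_range (a := 382124) (len := 2426) h151 e7_151
  have h153 : ∀ u < 387676, (fun u => chkE tab 7 u) u = true := ext_range (a := 384550) (len := 3126) h152 e7_152
  have h154 : ∀ u < 390288, (fun u => chkE tab 7 u) u = true := ext_range (a := 387676) (len := 2612) h153 e7_153
  have h155 : ∀ u < 393211, (fun u => chkE tab 7 u) u = true := ext_range (a := 390288) (len := 2923) h154 e7_154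
  have h156 : ∀ u < 394454, (fun u => chkE tab 7 u) u = true := ext_range (a := 393211) (len := 1243) h155 e7_155
  exact h156

theorem hE8 : ∀ u < 394454, chkE tab 8 u = true := by
  have h0 : ∀ u < 0, (fun u => chkE tab 8 u) u = true := range_zero
  have h1 : ∀ u < 2023, (fun u => chkE tab 8 u) u = true := ext_range (a := 0) (len := 2023) h0 e8_0
  have h2 : ∀ u < 4261, (fun u => chkE tab 8 u) u = true := ext_range (a := 2023) (len := 2238) h1 e8_1
  have h3 : ∀ u < 6575, (fun u => chkE tab 8 u) u = true := ext_range (a := 4261) (len := 2314) h2 e8_2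
  have h4 : ∀ u < 9029, (fun u => chkE tab 8 u) u = true := ext_range (a := 6575) (len := 2454) h3 e8_3
  have h5 : ∀ u < 11928, (fun u => chkE tab 8 u) u = true := ext_range (a := 9029) (len := 2899) h4 e8_4
  have h6 : ∀ u < 14260, (fun u => chkE tab 8 u) u = true := ext_range (a := 11928) (len := 2332) h5 e8_5
  have h7 : ∀ u < 16714, (fun u => chkE tab 8 u) u = true := ext_range (a := 14260) (len := 2454) h6 e8_6
  have h8 : ∀ u < 18902, (fun u => chkE tab 8 u) u = true := ext_range (a := 16714) (len := 2188) h7 e8_7
  have h9 : ∀ u < 21335, (fun u => chkE tab 8 u) u = true := ext_range (a := 18902) (len := 2433) h8 e8_8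
  have h10 : ∀ u < 23435, (fun u => chkE tab 8 u) u = true := ext_range (a := 21335) (len := 2100) h9 e8_9
  have h11 : ∀ u < 25807, (fun u => chkE tab 8 u) u = true := ext_range (a := 23435) (len := 2372) h10 e8_10
  have h12 : ∀ u < 28163, (fun u => chkE tab 8 u) u = true := ext_range (a := 25807) (len := 2356) h11 e8_11
  have h13 : ∀ u < 30224, (fun u => chkE tab 8 u) u = true := ext_range (a := 28163) (len := 2061) h12 e8_12
  have h14 : ∀ u < 32425, (fun u => chkE tab 8 u) u = true := ext_range (a := 30224) (len := 2201) h13 e8_13
  have h15 : ∀ u < 34752, (fun u => chkE tab 8 u) u = true := ext_range (a := 32425) (len := 2327) h14 e8_14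
  have h16 : ∀ u < 36983, (fun u => chkE tab 8 u) u = true := ext_range (a := 34752) (len := 2231) h15 e8_15
  have h17 : ∀ u < 39274, (fun u => chkE tab 8 u) u = true := ext_range (a := 36983) (len := 2291) h16 e8_16
  have h18 : ∀ u < 41165, (fun u => chkE tab 8 u) u = true := ext_range (a := 39274) (len := 1891) h17 e8_17
  have h19 : ∀ u < 43399, (fun u => chkE tab 8 u) u = true := ext_range (a := 41165) (len := 2234) h18 e8_18
  have h20 : ∀ u < 45694, (fun u => chkE tab 8 u) u = true := ext_range (a := 43399) (len := 2295) h19 e8_19
  have h21 : ∀ u < 47933, (fun u => chkE tab 8 u) u = true := ext_range (a := 45694) (len := 2239) h20 e8_20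
  have h22 : ∀ u < 50126, (fun u => chkE tab 8 u) u = true := ext_range (a := 47933) (len := 2193) h21 e8_21
  have h23 : ∀ u < 52394, (fun u => chkE tab 8 u) u = true := ext_range (a := 50126) (len := 2268) h22 e8_22
  have h24 : ∀ u < 54471, (fun u => chkE tab 8 u) u = true := ext_range (a := 52394) (len := 2077) h23 e8_23
  have h25 : ∀ u < 56423, (fun u => chkE tab 8 u) u = true := ext_range (a := 54471) (len := 1952) h24 e8_24
  have h26 : ∀ u < 58661, (fun u => chkE tab 8 u) u = true := ext_range (a := 56423) (len := 2238) h25 e8_25
  have h27 : ∀ u < 60862, (fun u => chkE tab 8 u) u = true := ext_range (a := 58661) (len := 2201) h26 e8_26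
  have h28 : ∀ u < 63214, (fun u => chkE tab 8 u) u = true := ext_range (a := 60862) (len := 2352) h27 e8_27
  have h29 : ∀ u < 65391, (fun u => chkE tab 8 u) u = true := ext_range (a := 63214) (len := 2177) h28 e8_28
  have h30 : ∀ u < 67563, (fun u => chkE tab 8 u) u = true := ext_range (a := 65391) (len := 2172) h29 e8_29
  have h31 : ∀ u < 69901, (fun u => chkE tab 8 u) u = true := ext_range (a := 67563) (len := 2338) h30 e8_30
  have h32 : ∀ u < 72034, (fun u => chkE tab 8 u) u = true := ext_range (a := 69901) (len := 2133) h31 e8_31
  have h33 : ∀ u < 74257, (fun u => chkE tab 8 u) u = true := ext_range (a := 72034) (len := 2223) h32 e8_32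
  have h34 : ∀ u < 76206, (fun u => chkE tab 8 u) u = true := ext_range (a := 74257) (len := 1949) h33 e8_33
  have h35 : ∀ u < 78147, (fun u => chkE tab 8 u) u = true := ext_range (a := 76206) (len := 1941) h34 e8_34
  have h36 : ∀ u < 80402, (fun u => chkE tab 8 u) u = true := ext_range (a := 78147) (len := 2255) h35 e8_35
  have h37 : ∀ u < 82627, (fun u => chkE tab 8 u) u = true := ext_range (a := 80402) (len := 2225) h36 e8_36
  have h38 : ∀ u < 84793, (fun u => chkE tab 8 u) u = true := ext_range (a := 82627) (len := 2166) h37 e8_37
  have h39 : ∀ u < 87242, (fun u => chkE tab 8 u) u = true := ext_range (a := 84793) (len := 2449) h38 e8_38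
  have h40 : ∀ u < 89377, (fun u => chkE tab 8 u) u = true := ext_range (a := 87242) (len := 2135) h39 e8_39
  have h41 : ∀ u < 91637, (fun u => chkE tab 8 u) u = true := ext_range (a := 89377) (len := 2260) h40 e8_40
  have h42 : ∀ u < 93793, (fun u => chkE tab 8 u) u = true := ext_range (a := 91637) (len := 2156) h41 e8_41
  have h43 : ∀ u < 96124, (fun u => chkE tab 8 u) u = true := ext_range (a := 93793) (len := 2331) h42 e8_42
  have h44 : ∀ u < 98384, (fun u => chkE tab 8 u) u = true := ext_range (a := 96124) (len := 2260) h43 e8_43
  have h45 : ∀ u < 100469, (fun u => chkE tab 8 u) u = true := ext_range (a := 98384) (len := 2085) h44 e8_44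
  have h46 : ∀ u < 102676, (fun u => chkE tab 8 u) u = true := ext_range (a := 100469) (len := 2207) h45 e8_45
  have h47 : ∀ u < 104644, (fun u => chkE tab 8 u) u = true := ext_range (a := 102676) (len := 1968) h46 e8_46
  have h48 : ∀ u < 106655, (fun u => chkE tab 8 u) u = true := ext_range (a := 104644) (len := 2011) h47 e8_47
  have h49 : ∀ u < 108648, (fun u => chkE tab 8 u) u = true := ext_range (a := 106655) (len := 1993) h48 e8_48
  have h50 : ∀ u < 110921, (fun u => chkE tab 8 u) u = true := ext_range (a := 108648) (len := 2273) h49 e8_49
  have h51 : ∀ u < 113150, (fun u => chkE tab 8 u) u = true := ext_range (a := 110921) (len := 2229) h50 e8_50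
  have h52 : ∀ u < 115385, (fun u => chkE tab 8 u) u = true := ext_range (a := 113150) (len := 2235) h51 e8_51
  have h53 : ∀ u < 117812, (fun u => chkE tab 8 u) u = true := ext_range (a := 115385) (len := 2427) h52 e8_52
  have h54 : ∀ u < 120939, (fun u => chkE tab 8 u) u = true := ext_range (a := 117812) (len := 3127) h53 e8_53
  have h55 : ∀ u < 124393, (fun u => chkE tab 8 u) u = true := ext_range (a := 120939) (len := 3454) h54 e8_54
  have h56 : ∀ u < 128154, (fun u => chkE tab 8 u) u = true := ext_range (a := 124393) (len := 3761) h55 e8_55
  have h57 : ∀ u < 132336, (fun u => chkE tab 8 u) u = true := ext_range (a := 128154) (len := 4182) h56 e8_56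
  have h58 : ∀ u < 135466, (fun u => chkE tab 8 u) u = true := ext_range (a := 132336) (len := 3130) h57 e8_57
  have h59 : ∀ u < 138046, (fun u => chkE tab 8 u) u = true := ext_range (a := 135466) (len := 2580) h58 e8_58
  have h60 : ∀ u < 142032, (fun u => chkE tab 8 u) u = true := ext_range (a := 138046) (len := 3986) h59 e8_59
  have h61 : ∀ u < 145589, (fun u => chkE tab 8 u) u = true := ext_range (a := 142032) (len := 3557) h60 e8_60
  have h62 : ∀ u < 150191, (fun u => chkE tab 8 u) u = true := ext_range (a := 145589) (len := 4602) h61 e8_61
  have h63 : ∀ u < 154780, (fun u => chkE tab 8 u) u = true := ext_range (a := 150191) (len := 4589) h62 e8_62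
  have h64 : ∀ u < 159427, (fun u => chkE tab 8 u) u = true := ext_range (a := 154780) (len := 4647) h63 e8_63
  have h65 : ∀ u < 163326, (fun u => chkE tab 8 u) u = true := ext_range (a := 159427) (len := 3899) h64 e8_64
  have h66 : ∀ u < 165629, (fun u => chkE tab 8 u) u = true := ext_range (a := 163326) (len := 2303) h65 e8_65
  have h67 : ∀ u < 168056, (fun u => chkE tab 8 u) u = true := ext_range (a := 165629) (len := 2427) h66 e8_66
  have h68 : ∀ u < 170670, (fun u => chkE tab 8 u) u = true := ext_range (a := 168056) (len := 2614) h67 e8_67
  have h69 : ∀ u < 172740, (fun u => chkE tab 8 u) u = true := ext_range (a := 170670) (len := 2070) h68 e8_68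
  have h70 : ∀ u < 174806, (fun u => chkE tab 8 u) u = true := ext_range (a := 172740) (len := 2066) h69 e8_69
  have h71 : ∀ u < 177007, (fun u => chkE tab 8 u) u = true := ext_range (a := 174806) (len := 2201) h70 e8_70
  have h72 : ∀ u < 179476, (fun u => chkE tab 8 u) u = true := ext_range (a := 177007) (len := 2469) h71 e8_71
  have h73 : ∀ u < 182035, (fun u => chkE tab 8 u) u = true := ext_range (a := 179476) (len := 2559) h72 e8_72
  have h74 : ∀ u < 184265, (fun u => chkE tab 8 u) u = true := ext_range (a := 182035) (len := 2230) h73 e8_73
  have h75 : ∀ u < 186700, (fun u => chkE tab 8 u) u = true := ext_range (a := 184265) (len := 2435) h74 e8_74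
  have h76 : ∀ u < 189207, (fun u => chkE tab 8 u) u = true := ext_range (a := 186700) (len := 2507) h75 e8_75
  have h77 : ∀ u < 191242, (fun u => chkE tab 8 u) u = true := ext_range (a := 189207) (len := 2035) h76 e8_76
  have h78 : ∀ u < 193230, (fun u => chkE tab 8 u) u = true := ext_range (a := 191242) (len := 1988) h77 e8_77
  have h79 : ∀ u < 195533, (fun u => chkE tab 8 u) u = true := ext_range (a := 193230) (len := 2303) h78 e8_78
  have h80 : ∀ u < 198116, (fun u => chkE tab 8 u) u = true := ext_range (a := 195533) (len := 2583) h79 e8_79
  have h81 : ∀ u < 200725, (fun u => chkE tab 8 u) u = true := ext_range (a := 198116) (len := 2609) h80 e8_80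
  have h82 : ∀ u < 202784, (fun u => chkE tab 8 u) u = true := ext_range (a := 200725) (len := 2059) h81 e8_81
  have h83 : ∀ u < 205196, (fun u => chkE tab 8 u) u = true := ext_range (a := 202784) (len := 2412) h82 e8_82
  have h84 : ∀ u < 207907, (fun u => chkE tab 8 u) u = true := ext_range (a := 205196) (len := 2711) h83 e8_83
  have h85 : ∀ u < 209949, (fun u => chkE tab 8 u) u = true := ext_range (a := 207907) (len := 2042) h84 e8_84
  have h86 : ∀ u < 211944, (fun u => chkE tab 8 u) u = true := ext_range (a := 209949) (len := 1995) h85 e8_85
  have h87 : ∀ u < 213857, (fun u => chkE tab 8 u) u = true := ext_range (a := 211944) (len := 1913) h86 e8_86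
  have h88 : ∀ u < 216329, (fun u => chkE tab 8 u) u = true := ext_range (a := 213857) (len := 2472) h87 e8_87
  have h89 : ∀ u < 219297, (fun u => chkE tab 8 u) u = true := ext_range (a := 216329) (len := 2968) h88 e8_88
  have h90 : ∀ u < 221660, (fun u => chkE tab 8 u) u = true := ext_range (a := 219297) (len := 2363) h89 e8_89
  have h91 : ∀ u < 223997, (fun u => chkE tab 8 u) u = true := ext_range (a := 221660) (len := 2337) h90 e8_90
  have h92 : ∀ u < 226191, (fun u => chkE tab 8 u) u = true := ext_range (a := 223997) (len := 2194) h91 e8_91
  have h93 : ∀ u < 228917, (fun u => chkE tab 8 u) u = true := ext_range (a := 226191) (len := 2726) h92 e8_92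
  have h94 : ∀ u < 230946, (fun u => chkE tab 8 u) u = true := ext_range (a := 228917) (len := 2029) h93 e8_93
  have h95 : ∀ u < 232889, (fun u => chkE tab 8 u) u = true := ext_range (a := 230946) (len := 1943) h94 e8_94
  have h96 : ∀ u < 234722, (fun u => chkE tab 8 u) u = true := ext_range (a := 232889) (len := 1833) h95 e8_95
  have h97 : ∀ u < 237112, (fun u => chkE tab 8 u) u = true := ext_range (a := 234722) (len := 2390) h96 e8_96
  have h98 : ∀ u < 240261, (fun u => chkE tab 8 u) u = true := ext_range (a := 237112) (len := 3149) h97 e8_97
  have h99 : ∀ u < 242915, (fun u => chkE tab 8 u) u = true := ext_range (a := 240261) (len := 2654) h98 e8_98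
  have h100 : ∀ u < 244997, (fun u => chkE tab 8 u) u = true := ext_range (a := 242915) (len := 2082) h99 e8_99
  have h101 : ∀ u < 247233, (fun u => chkE tab 8 u) u = true := ext_range (a := 244997) (len := 2236) h100 e8_100
  have h102 : ∀ u < 249955, (fun u => chkE tab 8 u) u = true := ext_range (a := 247233) (len := 2722) h101 e8_101
  have h103 : ∀ u < 252350, (fun u => chkE tab 8 u) u = true := ext_range (a := 249955) (len := 2395) h102 e8_102
  have h104 : ∀ u < 254251, (fun u => chkE tab 8 u) u = true := ext_range (a := 252350) (len := 1901) h103 e8_103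
  have h105 : ∀ u < 256126, (fun u => chkE tab 8 u) u = true := ext_range (a := 254251) (len := 1875) h104 e8_104
  have h106 : ∀ u < 257955, (fun u => chkE tab 8 u) u = true := ext_range (a := 256126) (len := 1829) h105 e8_105
  have h107 : ∀ u < 260833, (fun u => chkE tab 8 u) u = true := ext_range (a := 257955) (len := 2878) h106 e8_106
  have h108 : ∀ u < 264050, (fun u => chkE tab 8 u) u = true := ext_range (a := 260833) (len := 3217) h107 e8_107
  have h109 : ∀ u < 266520, (fun u => chkE tab 8 u) u = true := ext_range (a := 264050) (len := 2470) h108 e8_108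
  have h110 : ∀ u < 268612, (fun u => chkE tab 8 u) u = true := ext_range (a := 266520) (len := 2092) h109 e8_109
  have h111 : ∀ u < 270851, (fun u => chkE tab 8 u) u = true := ext_range (a := 268612) (len := 2239) h110 e8_110
  have h112 : ∀ u < 273596, (fun u => chkE tab 8 u) u = true := ext_range (a := 270851) (len := 2745) h111 e8_111
  have h113 : ∀ u < 275996, (fun u => chkE tab 8 u) u = true := ext_range (a := 273596) (len := 2400) h112 e8_112
  have h114 : ∀ u < 277907, (fun u => chkE tab 8 u) u = true := ext_range (a := 275996) (len := 1911) h113 e8_113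
  have h115 : ∀ u < 279758, (fun u => chkE tab 8 u) u = true := ext_range (a := 277907) (len := 1851) h114 e8_114
  have h116 : ∀ u < 281595, (fun u => chkE tab 8 u) u = true := ext_range (a := 279758) (len := 1837) h115 e8_115
  have h117 : ∀ u < 284152, (fun u => chkE tab 8 u) u = true := ext_range (a := 281595) (len := 2557) h116 e8_116
  have h118 : ∀ u < 287671, (fun u => chkE tab 8 u) u = true := ext_range (a := 284152) (len := 3519) h117 e8_117
  have h119 : ∀ u < 290373, (fun u => chkE tab 8 u) u = true := ext_range (a := 287671) (len := 2702) h118 e8_118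
  have h120 : ∀ u < 292561, (fun u => chkE tab 8 u) u = true := ext_range (a := 290373) (len := 2188) h119 e8_119
  have h121 : ∀ u < 294861, (fun u => chkE tab 8 u) u = true := ext_range (a := 292561) (len := 2300) h120 e8_120
  have h122 : ∀ u < 297438, (fun u => chkE tab 8 u) u = true := ext_range (a := 294861) (len := 2577) h121 e8_121
  have h123 : ∀ u < 300131, (fun u => chkE tab 8 u) u = true := ext_range (a := 297438) (len := 2693) h122 e8_122
  have h124 : ∀ u < 302143, (fun u => chkE tab 8 u) u = true := ext_range (a := 300131) (len := 2012) h123 e8_123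
  have h125 : ∀ u < 303981, (fun u => chkE tab 8 u) u = true := ext_range (a := 302143) (len := 1838) h124 e8_124
  have h126 : ∀ u < 305814, (fun u => chkE tab 8 u) u = true := ext_range (a := 303981) (len := 1833) h125 e8_125
  have h127 : ∀ u < 307777, (fun u => chkE tab 8 u) u = true := ext_range (a := 305814) (len := 1963) h126 e8_126
  have h128 : ∀ u < 311146, (fun u => chkE tab 8 u) u = true := ext_range (a := 307777) (len := 3369) h127 e8_127
  have h129 : ∀ u < 314428, (fun u => chkE tab 8 u) u = true := ext_range (a := 311146) (len := 3282) h128 e8_128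
  have h130 : ∀ u < 316897, (fun u => chkE tab 8 u) u = true := ext_range (a := 314428) (len := 2469) h129 e8_129
  have h131 : ∀ u < 319092, (fun u => chkE tab 8 u) u = true := ext_range (a := 316897) (len := 2195) h130 e8_130
  have h132 : ∀ u < 321450, (fun u => chkE tab 8 u) u = true := ext_range (a := 319092) (len := 2358) h131 e8_131
  have h133 : ∀ u < 324096, (fun u => chkE tab 8 u) u = true := ext_range (a := 321450) (len := 2646) h132 e8_132
  have h134 : ∀ u < 326649, (fun u => chkE tab 8 u) u = true := ext_range (a := 324096) (len := 2553) h133 e8_133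
  have h135 : ∀ u < 328522, (fun u => chkE tab 8 u) u = true := ext_range (a := 326649) (len := 1873) h134 e8_134
  have h136 : ∀ u < 330423, (fun u => chkE tab 8 u) u = true := ext_range (a := 328522) (len := 1901) h135 e8_135
  have h137 : ∀ u < 332245, (fun u => chkE tab 8 u) u = true := ext_range (a := 330423) (len := 1822) h136 e8_136
  have h138 : ∀ u < 335456, (fun u => chkE tab 8 u) u = true := ext_range (a := 332245) (len := 3211) h137 e8_137
  have h139 : ∀ u < 338865, (fun u => chkE tab 8 u) u = true := ext_range (a := 335456) (len := 3409) h138 e8_138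
  have h140 : ∀ u < 341629, (fun u => chkE tab 8 u) u = true := ext_range (a := 338865) (len := 2764) h139 e8_139
  have h141 : ∀ u < 343894, (fun u => chkE tab 8 u) u = true := ext_range (a := 341629) (len := 2265) h140 e8_140
  have h142 : ∀ u < 346408, (fun u => chkE tab 8 u) u = true := ext_range (a := 343894) (len := 2514) h141 e8_141
  have h143 : ∀ u < 348966, (fun u => chkE tab 8 u) u = true := ext_range (a := 346408) (len := 2558) h142 e8_142
  have h144 : ∀ u < 351351, (fun u => chkE tab 8 u) u = true := ext_range (a := 348966) (len := 2385) h143 e8_143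
  have h145 : ∀ u < 353227, (fun u => chkE tab 8 u) u = true := ext_range (a := 351351) (len := 1876) h144 e8_144
  have h146 : ∀ u < 355209, (fun u => chkE tab 8 u) u = true := ext_range (a := 353227) (len := 1982) h145 e8_145
  have h147 : ∀ u < 358845, (fun u => chkE tab 8 u) u = true := ext_range (a := 355209) (len := 3636) h146 e8_146
  have h148 : ∀ u < 362167, (fun u => chkE tab 8 u) u = true := ext_range (a := 358845) (len := 3322) h147 e8_147
  have h149 : ∀ u < 364813, (fun u => chkE tab 8 u) u = true := ext_range (a := 362167) (len := 2646) h148 e8_148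
  have h150 : ∀ u < 367189, (fun u => chkE tab 8 u) u = true := ext_range (a := 364813) (len := 2376) h149 e8_149
  have h151 : ∀ u < 369703, (fun u => chkE tab 8 u) u = true := ext_range (a := 367189) (len := 2514) h150 e8_150
  have h152 : ∀ u < 371527, (fun u => chkE tab 8 u) u = true := ext_range (a := 369703) (len := 1824) h151 e8_151
  have h153 : ∀ u < 374630, (fun u => chkE tab 8 u) u = true := ext_range (a := 371527) (len := 3103) h152 e8_152
  have h154 : ∀ u < 377718, (fun u => chkE tab 8 u) u = true := ext_range (a := 374630) (len := 3088) h153 e8_153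
  have h155 : ∀ u < 380282, (fun u => chkE tab 8 u) u = true := ext_range (a := 377718) (len := 2564) h154 e8_154
  have h156 : ∀ u < 382547, (fun u => chkE tab 8 u) u = true := ext_range (a := 380282) (len := 2265) h155 e8_155
  have h157 : ∀ u < 385413, (fun u => chkE tab 8 u) u = true := ext_range (a := 382547) (len := 2866) h156 e8_156
  have h158 : ∀ u < 387847, (fun u => chkE tab 8 u) u = true := ext_range (a := 385413) (len := 2434) h157 e8_157
  have h159 : ∀ u < 390079, (fun u => chkE tab 8 u) u = true := ext_range (a := 387847) (len := 2232) h158 e8_158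
  have h160 : ∀ u < 392751, (fun u => chkE tab 8 u) u = true := ext_range (a := 390079) (len := 2672) h159 e8_159
  have h161 : ∀ u < 394454, (fun u => chkE tab 8 u) u = true := ext_range (a := 392751) (len := 1703) h160 e8_160
  exact h161

theorem hE9 : ∀ u < 394454, chkE tab 9 u = true := by
  have h0 : ∀ u < 0, (fun u => chkE tab 9 u) u = true := range_zero
  have h1 : ∀ u < 1878, (fun u => chkE tab 9 u) u = true := ext_range (a := 0) (len := 1878) h0 e9_0
  have h2 : ∀ u < 3952, (fun u => chkE tab 9 u) u = true := ext_range (a := 1878) (len := 2074) h1 e9_1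
  have h3 : ∀ u < 6207, (fun u => chkE tab 9 u) u = true := ext_range (a := 3952) (len := 2255) h2 e9_2
  have h4 : ∀ u < 8409, (fun u => chkE tab 9 u) u = true := ext_range (a := 6207) (len := 2202) h3 e9_3
  have h5 : ∀ u < 11139, (fun u => chkE tab 9 u) u = true := ext_range (a := 8409) (len := 2730) h4 e9_4
  have h6 : ∀ u < 13627, (fun u => chkE tab 9 u) u = true := ext_range (a := 11139) (len := 2488) h5 e9_5
  have h7 : ∀ u < 15884, (fun u => chkE tab 9 u) u = true := ext_range (a := 13627) (len := 2257) h6 e9_6
  have h8 : ∀ u < 18041, (fun u => chkE tab 9 u) u = true := ext_range (a := 15884) (len := 2157) h7 e9_7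
  have h9 : ∀ u < 20389, (fun u => chkE tab 9 u) u = true := ext_range (a := 18041) (len := 2348) h8 e9_8
  have h10 : ∀ u < 22589, (fun u => chkE tab 9 u) u = true := ext_range (a := 20389) (len := 2200) h9 e9_9
  have h11 : ∀ u < 24708, (fun u => chkE tab 9 u) u = true := ext_range (a := 22589) (len := 2119) h10 e9_10
  have h12 : ∀ u < 26952, (fun u => chkE tab 9 u) u = true := ext_range (a := 24708) (len := 2244) h11 e9_11
  have h13 : ∀ u < 29325, (fun u => chkE tab 9 u) u = true := ext_range (a := 26952) (len := 2373) h12 e9_12
  have h14 : ∀ u < 31153, (fun u => chkE tab 9 u) u = true := ext_range (a := 29325) (len := 1828) h13 e9_13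
  have h15 : ∀ u < 33372, (fun u => chkE tab 9 u) u = true := ext_range (a := 31153) (len := 2219) h14 e9_14
  have h16 : ∀ u < 35693, (fun u => chkE tab 9 u) u = true := ext_range (a := 33372) (len := 2321) h15 e9_15
  have h17 : ∀ u < 37876, (fun u => chkE tab 9 u) u = true := ext_range (a := 35693) (len := 2183) h16 e9_16
  have h18 : ∀ u < 39995, (fun u => chkE tab 9 u) u = true := ext_range (a := 37876) (len := 2119) h17 e9_17
  have h19 : ∀ u < 41857, (fun u => chkE tab 9 u) u = true := ext_range (a := 39995) (len := 1862) h18 e9_18
  have h20 : ∀ u < 44170, (fun u => chkE tab 9 u) u = true := ext_range (a := 41857) (len := 2313) h19 e9_19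
  have h21 : ∀ u < 46554, (fun u => chkE tab 9 u) u = true := ext_range (a := 44170) (len := 2384) h20 e9_20
  have h22 : ∀ u < 48568, (fun u => chkE tab 9 u) u = true := ext_range (a := 46554) (len := 2014) h21 e9_21
  have h23 : ∀ u < 50577, (fun u => chkE tab 9 u) u = true := ext_range (a := 48568) (len := 2009) h22 e9_22
  have h24 : ∀ u < 53015, (fun u => chkE tab 9 u) u = true := ext_range (a := 50577) (len := 2438) h23 e9_23
  have h25 : ∀ u < 54916, (fun u => chkE tab 9 u) u = true := ext_range (a := 53015) (len := 1901) h24 e9_24
  have h26 : ∀ u < 56679, (fun u => chkE tab 9 u) u = true := ext_range (a := 54916) (len := 1763) h25 e9_25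
  have h27 : ∀ u < 59078, (fun u => chkE tab 9 u) u = true := ext_range (a := 56679) (len := 2399) h26 e9_26
  have h28 : ∀ u < 61063, (fun u => chkE tab 9 u) u = true := ext_range (a := 59078) (len := 1985) h27 e9_27
  have h29 : ∀ u < 63675, (fun u => chkE tab 9 u) u = true := ext_range (a := 61063) (len := 2612) h28 e9_28
  have h30 : ∀ u < 65926, (fun u => chkE tab 9 u) u = true := ext_range (a := 63675) (len := 2251) h29 e9_29
  have h31 : ∀ u < 67613, (fun u => chkE tab 9 u) u = true := ext_range (a := 65926) (len := 1687) h30 e9_30
  have h32 : ∀ u < 69718, (fun u => chkE tab 9 u) u = true := ext_range (a := 67613) (len := 2105) h31 e9_31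
  have h33 : ∀ u < 72052, (fun u => chkE tab 9 u) u = true := ext_range (a := 69718) (len := 2334) h32 e9_32
  have h34 : ∀ u < 74349, (fun u => chkE tab 9 u) u = true := ext_range (a := 72052) (len := 2297) h33 e9_33
  have h35 : ∀ u < 76073, (fun u => chkE tab 9 u) u = true := ext_range (a := 74349) (len := 1724) h34 e9_34
  have h36 : ∀ u < 77849, (fun u => chkE tab 9 u) u = true := ext_range (a := 76073) (len := 1776) h35 e9_35
  have h37 : ∀ u < 79886, (fun u => chkE tab 9 u) u = true := ext_range (a := 77849) (len := 2037) h36 e9_36
  have h38 : ∀ u < 82471, (fun u => chkE tab 9 u) u = true := ext_range (a := 79886) (len := 2585) h37 e9_37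
  have h39 : ∀ u < 84343, (fun u => chkE tab 9 u) u = true := ext_range (a := 82471) (len := 1872) h38 e9_38
  have h40 : ∀ u < 86719, (fun u => chkE tab 9 u) u = true := ext_range (a := 84343) (len := 2376) h39 e9_39
  have h41 : ∀ u < 89338, (fun u => chkE tab 9 u) u = true := ext_range (a := 86719) (len := 2619) h40 e9_40
  have h42 : ∀ u < 91467, (fun u => chkE tab 9 u) u = true := ext_range (a := 89338) (len := 2129) h41 e9_41
  have h43 : ∀ u < 93152, (fun u => chkE tab 9 u) u = true := ext_range (a := 91467) (len := 1685) h42 e9_42
  have h44 : ∀ u < 94976, (fun u => chkE tab 9 u) u = true := ext_range (a := 93152) (len := 1824) h43 e9_43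
  have h45 : ∀ u < 97166, (fun u => chkE tab 9 u) u = true := ext_range (a := 94976) (len := 2190) h44 e9_44
  have h46 : ∀ u < 99605, (fun u => chkE tab 9 u) u = true := ext_range (a := 97166) (len := 2439) h45 e9_45
  have h47 : ∀ u < 101860, (fun u => chkE tab 9 u) u = true := ext_range (a := 99605) (len := 2255) h46 e9_46
  have h48 : ∀ u < 103941, (fun u => chkE tab 9 u) u = true := ext_range (a := 101860) (len := 2081) h47 e9_47
  have h49 : ∀ u < 105599, (fun u => chkE tab 9 u) u = true := ext_range (a := 103941) (len := 1658) h48 e9_48
  have h50 : ∀ u < 107387, (fun u => chkE tab 9 u) u = true := ext_range (a := 105599) (len := 1788) h49 e9_49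
  have h51 : ∀ u < 109421, (fun u => chkE tab 9 u) u = true := ext_range (a := 107387) (len := 2034) h50 e9_50
  have h52 : ∀ u < 111561, (fun u => chkE tab 9 u) u = true := ext_range (a := 109421) (len := 2140) h51 e9_51
  have h53 : ∀ u < 114200, (fun u => chkE tab 9 u) u = true := ext_range (a := 111561) (len := 2639) h52 e9_52
  have h54 : ∀ u < 116123, (fun u => chkE tab 9 u) u = true := ext_range (a := 114200) (len := 1923) h53 e9_53
  have h55 : ∀ u < 118387, (fun u => chkE tab 9 u) u = true := ext_range (a := 116123) (len := 2264) h54 e9_54
  have h56 : ∀ u < 120975, (fun u => chkE tab 9 u) u = true := ext_range (a := 118387) (len := 2588) h55 e9_55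
  have h57 : ∀ u < 124411, (fun u => chkE tab 9 u) u = true := ext_range (a := 120975) (len := 3436) h56 e9_56
  have h58 : ∀ u < 127199, (fun u => chkE tab 9 u) u = true := ext_range (a := 124411) (len := 2788) h57 e9_57
  have h59 : ∀ u < 131189, (fun u => chkE tab 9 u) u = true := ext_range (a := 127199) (len := 3990) h58 e9_58
  have h60 : ∀ u < 133569, (fun u => chkE tab 9 u) u = true := ext_range (a := 131189) (len := 2380) h59 e9_59
  have h61 : ∀ u < 136080, (fun u => chkE tab 9 u) u = true := ext_range (a := 133569) (len := 2511) h60 e9_60
  have h62 : ∀ u < 138647, (fun u => chkE tab 9 u) u = true := ext_range (a := 136080) (len := 2567) h61 e9_61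
  have h63 : ∀ u < 142082, (fun u => chkE tab 9 u) u = true := ext_range (a := 138647) (len := 3435) h62 e9_62
  have h64 : ∀ u < 145241, (fun u => chkE tab 9 u) u = true := ext_range (a := 142082) (len := 3159) h63 e9_63
  have h65 : ∀ u < 150051, (fun u => chkE tab 9 u) u = true := ext_range (a := 145241) (len := 4810) h64 e9_64
  have h66 : ∀ u < 153396, (fun u => chkE tab 9 u) u = true := ext_range (a := 150051) (len := 3345) h65 e9_65
  have h67 : ∀ u < 156540, (fun u => chkE tab 9 u) u = true := ext_range (a := 153396) (len := 3144) h66 e9_66
  have h68 : ∀ u < 159897, (fun u => chkE tab 9 u) u = true := ext_range (a := 156540) (len := 3357) h67 e9_67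
  have h69 : ∀ u < 164084, (fun u => chkE tab 9 u) u = true := ext_range (a := 159897) (len := 4187) h68 e9_68
  have h70 : ∀ u < 166687, (fun u => chkE tab 9 u) u = true := ext_range (a := 164084) (len := 2603) h69 e9_69
  have h71 : ∀ u < 168325, (fun u => chkE tab 9 u) u = true := ext_range (a := 166687) (len := 1638) h70 e9_70
  have h72 : ∀ u < 170611, (fun u => chkE tab 9 u) u = true := ext_range (a := 168325) (len := 2286) h71 e9_71
  have h73 : ∀ u < 172844, (fun u => chkE tab 9 u) u = true := ext_range (a := 170611) (len := 2233) h72 e9_72
  have h74 : ∀ u < 174991, (fun u => chkE tab 9 u) u = true := ext_range (a := 172844) (len := 2147) h73 e9_73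
  have h75 : ∀ u < 176876, (fun u => chkE tab 9 u) u = true := ext_range (a := 174991) (len := 1885) h74 e9_74
  have h76 : ∀ u < 179720, (fun u => chkE tab 9 u) u = true := ext_range (a := 176876) (len := 2844) h75 e9_75
  have h77 : ∀ u < 182196, (fun u => chkE tab 9 u) u = true := ext_range (a := 179720) (len := 2476) h76 e9_76
  have h78 : ∀ u < 184575, (fun u => chkE tab 9 u) u = true := ext_range (a := 182196) (len := 2379) h77 e9_77
  have h79 : ∀ u < 186320, (fun u => chkE tab 9 u) u = true := ext_range (a := 184575) (len := 1745) h78 e9_78
  have h80 : ∀ u < 188734, (fun u => chkE tab 9 u) u = true := ext_range (a := 186320) (len := 2414) h79 e9_79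
  have h81 : ∀ u < 190970, (fun u => chkE tab 9 u) u = true := ext_range (a := 188734) (len := 2236) h80 e9_80
  have h82 : ∀ u < 193067, (fun u => chkE tab 9 u) u = true := ext_range (a := 190970) (len := 2097) h81 e9_81
  have h83 : ∀ u < 194937, (fun u => chkE tab 9 u) u = true := ext_range (a := 193067) (len := 1870) h82 e9_82
  have h84 : ∀ u < 198015, (fun u => chkE tab 9 u) u = true := ext_range (a := 194937) (len := 3078) h83 e9_83
  have h85 : ∀ u < 200643, (fun u => chkE tab 9 u) u = true := ext_range (a := 198015) (len := 2628) h84 e9_84
  have h86 : ∀ u < 203203, (fun u => chkE tab 9 u) u = true := ext_range (a := 200643) (len := 2560) h85 e9_85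
  have h87 : ∀ u < 204809, (fun u => chkE tab 9 u) u = true := ext_range (a := 203203) (len := 1606) h86 e9_86
  have h88 : ∀ u < 207205, (fun u => chkE tab 9 u) u = true := ext_range (a := 204809) (len := 2396) h87 e9_87
  have h89 : ∀ u < 209605, (fun u => chkE tab 9 u) u = true := ext_range (a := 207205) (len := 2400) h88 e9_88
  have h90 : ∀ u < 211649, (fun u => chkE tab 9 u) u = true := ext_range (a := 209605) (len := 2044) h89 e9_89
  have h91 : ∀ u < 213482, (fun u => chkE tab 9 u) u = true := ext_range (a := 211649) (len := 1833) h90 e9_90
  have h92 : ∀ u < 215759, (fun u => chkE tab 9 u) u = true := ext_range (a := 213482) (len := 2277) h91 e9_91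
  have h93 : ∀ u < 218959, (fun u => chkE tab 9 u) u = true := ext_range (a := 215759) (len := 3200) h92 e9_92
  have h94 : ∀ u < 221509, (fun u => chkE tab 9 u) u = true := ext_range (a := 218959) (len := 2550) h93 e9_93
  have h95 : ∀ u < 224016, (fun u => chkE tab 9 u) u = true := ext_range (a := 221509) (len := 2507) h94 e9_94
  have h96 : ∀ u < 225734, (fun u => chkE tab 9 u) u = true := ext_range (a := 224016) (len := 1718) h95 e9_95
  have h97 : ∀ u < 228199, (fun u => chkE tab 9 u) u = true := ext_range (a := 225734) (len := 2465) h96 e9_96
  have h98 : ∀ u < 230554, (fun u => chkE tab 9 u) u = true := ext_range (a := 228199) (len := 2355) h97 e9_97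
  have h99 : ∀ u < 232572, (fun u => chkE tab 9 u) u = true := ext_range (a := 230554) (len := 2018) h98 e9_98
  have h100 : ∀ u < 234443, (fun u => chkE tab 9 u) u = true := ext_range (a := 232572) (len := 1871) h99 e9_99
  have h101 : ∀ u < 236407, (fun u => chkE tab 9 u) u = true := ext_range (a := 234443) (len := 1964) h100 e9_100
  have h102 : ∀ u < 239953, (fun u => chkE tab 9 u) u = true := ext_range (a := 236407) (len := 3546) h101 e9_101
  have h103 : ∀ u < 242620, (fun u => chkE tab 9 u) u = true := ext_range (a := 239953) (len := 2667) h102 e9_102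
  have h104 : ∀ u < 245430, (fun u => chkE tab 9 u) u = true := ext_range (a := 242620) (len := 2810) h103 e9_103
  have h105 : ∀ u < 247009, (fun u => chkE tab 9 u) u = true := ext_range (a := 245430) (len := 1579) h104 e9_104
  have h106 : ∀ u < 249207, (fun u => chkE tab 9 u) u = true := ext_range (a := 247009) (len := 2198) h105 e9_105
  have h107 : ∀ u < 251659, (fun u => chkE tab 9 u) u = true := ext_range (a := 249207) (len := 2452) h106 e9_106
  have h108 : ∀ u < 253854, (fun u => chkE tab 9 u) u = true := ext_range (a := 251659) (len := 2195) h107 e9_107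
  have h109 : ∀ u < 255876, (fun u => chkE tab 9 u) u = true := ext_range (a := 253854) (len := 2022) h108 e9_108
  have h110 : ∀ u < 257606, (fun u => chkE tab 9 u) u = true := ext_range (a := 255876) (len := 1730) h109 e9_109
  have h111 : ∀ u < 259830, (fun u => chkE tab 9 u) u = true := ext_range (a := 257606) (len := 2224) h110 e9_110
  have h112 : ∀ u < 263420, (fun u => chkE tab 9 u) u = true := ext_range (a := 259830) (len := 3590) h111 e9_111
  have h113 : ∀ u < 266145, (fun u => chkE tab 9 u) u = true := ext_range (a := 263420) (len := 2725) h112 e9_112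
  have h114 : ∀ u < 269025, (fun u => chkE tab 9 u) u = true := ext_range (a := 266145) (len := 2880) h113 e9_113
  have h115 : ∀ u < 270606, (fun u => chkE tab 9 u) u = true := ext_range (a := 269025) (len := 1581) h114 e9_114
  have h116 : ∀ u < 272854, (fun u => chkE tab 9 u) u = true := ext_range (a := 270606) (len := 2248) h115 e9_115
  have h117 : ∀ u < 275327, (fun u => chkE tab 9 u) u = true := ext_range (a := 272854) (len := 2473) h116 e9_116
  have h118 : ∀ u < 277573, (fun u => chkE tab 9 u) u = true := ext_range (a := 275327) (len := 2246) h117 e9_117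
  have h119 : ∀ u < 279566, (fun u => chkE tab 9 u) u = true := ext_range (a := 277573) (len := 1993) h118 e9_118
  have h120 : ∀ u < 281367, (fun u => chkE tab 9 u) u = true := ext_range (a := 279566) (len := 1801) h119 e9_119
  have h121 : ∀ u < 283014, (fun u => chkE tab 9 u) u = true := ext_range (a := 281367) (len := 1647) h120 e9_120
  have h122 : ∀ u < 287014, (fun u => chkE tab 9 u) u = true := ext_range (a := 283014) (len := 4000) h121 e9_121
  have h123 : ∀ u < 289708, (fun u => chkE tab 9 u) u = true := ext_range (a := 287014) (len := 2694) h122 e9_122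
  have h124 : ∀ u < 292522, (fun u => chkE tab 9 u) u = true := ext_range (a := 289708) (len := 2814) h123 e9_123
  have h125 : ∀ u < 294713, (fun u => chkE tab 9 u) u = true := ext_range (a := 292522) (len := 2191) h124 e9_124
  have h126 : ∀ u < 296585, (fun u => chkE tab 9 u) u = true := ext_range (a := 294713) (len := 1872) h125 e9_125
  have h127 : ∀ u < 299029, (fun u => chkE tab 9 u) u = true := ext_range (a := 296585) (len := 2444) h126 e9_126
  have h128 : ∀ u < 301505, (fun u => chkE tab 9 u) u = true := ext_range (a := 299029) (len := 2476) h127 e9_127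
  have h129 : ∀ u < 303538, (fun u => chkE tab 9 u) u = true := ext_range (a := 301505) (len := 2033) h128 e9_128
  have h130 : ∀ u < 305553, (fun u => chkE tab 9 u) u = true := ext_range (a := 303538) (len := 2015) h129 e9_129
  have h131 : ∀ u < 307206, (fun u => chkE tab 9 u) u = true := ext_range (a := 305553) (len := 1653) h130 e9_130
  have h132 : ∀ u < 309160, (fun u => chkE tab 9 u) u = true := ext_range (a := 307206) (len := 1954) h131 e9_131
  have h133 : ∀ u < 313313, (fun u => chkE tab 9 u) u = true := ext_range (a := 309160) (len := 4153) h132 e9_132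
  have h134 : ∀ u < 316220, (fun u => chkE tab 9 u) u = true := ext_range (a := 313313) (len := 2907) h133 e9_133
  have h135 : ∀ u < 319284, (fun u => chkE tab 9 u) u = true := ext_range (a := 316220) (len := 3064) h134 e9_134
  have h136 : ∀ u < 320812, (fun u => chkE tab 9 u) u = true := ext_range (a := 319284) (len := 1528) h135 e9_135
  have h137 : ∀ u < 323070, (fun u => chkE tab 9 u) u = true := ext_range (a := 320812) (len := 2258) h136 e9_136
  have h138 : ∀ u < 325458, (fun u => chkE tab 9 u) u = true := ext_range (a := 323070) (len := 2388) h137 e9_137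
  have h139 : ∀ u < 327825, (fun u => chkE tab 9 u) u = true := ext_range (a := 325458) (len := 2367) h138 e9_138
  have h140 : ∀ u < 329829, (fun u => chkE tab 9 u) u = true := ext_range (a := 327825) (len := 2004) h139 e9_139
  have h141 : ∀ u < 331668, (fun u => chkE tab 9 u) u = true := ext_range (a := 329829) (len := 1839) h140 e9_140
  have h142 : ∀ u < 333104, (fun u => chkE tab 9 u) u = true := ext_range (a := 331668) (len := 1436) h141 e9_141
  have h143 : ∀ u < 337377, (fun u => chkE tab 9 u) u = true := ext_range (a := 333104) (len := 4273) h142 e9_142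
  have h144 : ∀ u < 340353, (fun u => chkE tab 9 u) u = true := ext_range (a := 337377) (len := 2976) h143 e9_143
  have h145 : ∀ u < 343669, (fun u => chkE tab 9 u) u = true := ext_range (a := 340353) (len := 3316) h144 e9_144
  have h146 : ∀ u < 345320, (fun u => chkE tab 9 u) u = true := ext_range (a := 343669) (len := 1651) h145 e9_145
  have h147 : ∀ u < 347558, (fun u => chkE tab 9 u) u = true := ext_range (a := 345320) (len := 2238) h146 e9_146
  have h148 : ∀ u < 350116, (fun u => chkE tab 9 u) u = true := ext_range (a := 347558) (len := 2558) h147 e9_147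
  have h149 : ∀ u < 352281, (fun u => chkE tab 9 u) u = true := ext_range (a := 350116) (len := 2165) h148 e9_148
  have h150 : ∀ u < 354153, (fun u => chkE tab 9 u) u = true := ext_range (a := 352281) (len := 1872) h149 e9_149
  have h151 : ∀ u < 355793, (fun u => chkE tab 9 u) u = true := ext_range (a := 354153) (len := 1640) h150 e9_150
  have h152 : ∀ u < 360123, (fun u => chkE tab 9 u) u = true := ext_range (a := 355793) (len := 4330) h151 e9_151
  have h153 : ∀ u < 363391, (fun u => chkE tab 9 u) u = true := ext_range (a := 360123) (len := 3268) h152 e9_152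
  have h154 : ∀ u < 365651, (fun u => chkE tab 9 u) u = true := ext_range (a := 363391) (len := 2260) h153 e9_153
  have h155 : ∀ u < 368043, (fun u => chkE tab 9 u) u = true := ext_range (a := 365651) (len := 2392) h154 e9_154
  have h156 : ∀ u < 370274, (fun u => chkE tab 9 u) u = true := ext_range (a := 368043) (len := 2231) h155 e9_155
  have h157 : ∀ u < 372045, (fun u => chkE tab 9 u) u = true := ext_range (a := 370274) (len := 1771) h156 e9_156
  have h158 : ∀ u < 375608, (fun u => chkE tab 9 u) u = true := ext_range (a := 372045) (len := 3563) h157 e9_157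
  have h159 : ∀ u < 378955, (fun u => chkE tab 9 u) u = true := ext_range (a := 375608) (len := 3347) h158 e9_158
  have h160 : ∀ u < 380801, (fun u => chkE tab 9 u) u = true := ext_range (a := 378955) (len := 1846) h159 e9_159
  have h161 : ∀ u < 382893, (fun u => chkE tab 9 u) u = true := ext_range (a := 380801) (len := 2092) h160 e9_160
  have h162 : ∀ u < 385947, (fun u => chkE tab 9 u) u = true := ext_range (a := 382893) (len := 3054) h161 e9_161
  have h163 : ∀ u < 388193, (fun u => chkE tab 9 u) u = true := ext_range (a := 385947) (len := 2246) h162 e9_162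
  have h164 : ∀ u < 390148, (fun u => chkE tab 9 u) u = true := ext_range (a := 388193) (len := 1955) h163 e9_163
  have h165 : ∀ u < 392648, (fun u => chkE tab 9 u) u = true := ext_range (a := 390148) (len := 2500) h164 e9_164
  have h166 : ∀ u < 394454, (fun u => chkE tab 9 u) u = true := ext_range (a := 392648) (len := 1806) h165 e9_165
  exact h166

theorem hE10 : ∀ u < 394454, chkE tab 10 u = true := by
  have h0 : ∀ u < 0, (fun u => chkE tab 10 u) u = true := range_zero
  have h1 : ∀ u < 2288, (fun u => chkE tab 10 u) u = true := ext_range (a := 0) (len := 2288) h0 e10_0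
  have h2 : ∀ u < 4535, (fun u => chkE tab 10 u) u = true := ext_range (a := 2288) (len := 2247) h1 e10_1
  have h3 : ∀ u < 7000, (fun u => chkE tab 10 u) u = true := ext_range (a := 4535) (len := 2465) h2 e10_2
  have h4 : ∀ u < 9725, (fun u => chkE tab 10 u) u = true := ext_range (a := 7000) (len := 2725) h3 e10_3
  have h5 : ∀ u < 12620, (fun u => chkE tab 10 u) u = true := ext_range (a := 9725) (len := 2895) h4 e10_4
  have h6 : ∀ u < 15418, (fun u => chkE tab 10 u) u = true := ext_range (a := 12620) (len := 2798) h5 e10_5
  have h7 : ∀ u < 18312, (fun u => chkE tab 10 u) u = true := ext_range (a := 15418) (len := 2894) h6 e10_6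
  have h8 : ∀ u < 21397, (fun u => chkE tab 10 u) u = true := ext_range (a := 18312) (len := 3085) h7 e10_7
  have h9 : ∀ u < 24261, (fun u => chkE tab 10 u) u = true := ext_range (a := 21397) (len := 2864) h8 e10_8
  have h10 : ∀ u < 27279, (fun u => chkE tab 10 u) u = true := ext_range (a := 24261) (len := 3018) h9 e10_9
  have h11 : ∀ u < 30187, (fun u => chkE tab 10 u) u = true := ext_range (a := 27279) (len := 2908) h10 e10_10
  have h12 : ∀ u < 33029, (fun u => chkE tab 10 u) u = true := ext_range (a := 30187) (len := 2842) h11 e10_11
  have h13 : ∀ u < 36085, (fun u => chkE tab 10 u) u = true := ext_range (a := 33029) (len := 3056) h12 e10_12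
  have h14 : ∀ u < 38995, (fun u => chkE tab 10 u) u = true := ext_range (a := 36085) (len := 2910) h13 e10_13
  have h15 : ∀ u < 41644, (fun u => chkE tab 10 u) u = true := ext_range (a := 38995) (len := 2649) h14 e10_14
  have h16 : ∀ u < 44556, (fun u => chkE tab 10 u) u = true := ext_range (a := 41644) (len := 2912) h15 e10_15
  have h17 : ∀ u < 47557, (fun u => chkE tab 10 u) u = true := ext_range (a := 44556) (len := 3001) h16 e10_16
  have h18 : ∀ u < 50262, (fun u => chkE tab 10 u) u = true := ext_range (a := 47557) (len := 2705) h17 e10_17
  have h19 : ∀ u < 53236, (fun u => chkE tab 10 u) u = true := ext_range (a := 50262) (len := 2974) h18 e10_18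
  have h20 : ∀ u < 55901, (fun u => chkE tab 10 u) u = true := ext_range (a := 53236) (len := 2665) h19 e10_19
  have h21 : ∀ u < 58779, (fun u => chkE tab 10 u) u = true := ext_range (a := 55901) (len := 2878) h20 e10_20
  have h22 : ∀ u < 61595, (fun u => chkE tab 10 u) u = true := ext_range (a := 58779) (len := 2816) h21 e10_21
  have h23 : ∀ u < 64690, (fun u => chkE tab 10 u) u = true := ext_range (a := 61595) (len := 3095) h22 e10_22
  have h24 : ∀ u < 67421, (fun u => chkE tab 10 u) u = true := ext_range (a := 64690) (len := 2731) h23 e10_23
  have h25 : ∀ u < 70049, (fun u => chkE tab 10 u) u = true := ext_range (a := 67421) (len := 2628) h24 e10_24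
  have h26 : ∀ u < 73019, (fun u => chkE tab 10 u) u = true := ext_range (a := 70049) (len := 2970) h25 e10_25
  have h27 : ∀ u < 75520, (fun u => chkE tab 10 u) u = true := ext_range (a := 73019) (len := 2501) h26 e10_26
  have h28 : ∀ u < 78290, (fun u => chkE tab 10 u) u = true := ext_range (a := 75520) (len := 2770) h27 e10_27
  have h29 : ∀ u < 81272, (fun u => chkE tab 10 u) u = true := ext_range (a := 78290) (len := 2982) h28 e10_28
  have h30 : ∀ u < 84091, (fun u => chkE tab 10 u) u = true := ext_range (a := 81272) (len := 2819) h29 e10_29
  have h31 : ∀ u < 87162, (fun u => chkE tab 10 u) u = true := ext_range (a := 84091) (len := 3071) h30 e10_30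
  have h32 : ∀ u < 89950, (fun u => chkE tab 10 u) u = true := ext_range (a := 87162) (len := 2788) h31 e10_31
  have h33 : ∀ u < 92860, (fun u => chkE tab 10 u) u = true := ext_range (a := 89950) (len := 2910) h32 e10_32
  have h34 : ∀ u < 95309, (fun u => chkE tab 10 u) u = true := ext_range (a := 92860) (len := 2449) h33 e10_33
  have h35 : ∀ u < 98340, (fun u => chkE tab 10 u) u = true := ext_range (a := 95309) (len := 3031) h34 e10_34
  have h36 : ∀ u < 101101, (fun u => chkE tab 10 u) u = true := ext_range (a := 98340) (len := 2761) h35 e10_35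
  have h37 : ∀ u < 103772, (fun u => chkE tab 10 u) u = true := ext_range (a := 101101) (len := 2671) h36 e10_36
  have h38 : ∀ u < 106569, (fun u => chkE tab 10 u) u = true := ext_range (a := 103772) (len := 2797) h37 e10_37
  have h39 : ∀ u < 109174, (fun u => chkE tab 10 u) u = true := ext_range (a := 106569) (len := 2605) h38 e10_38
  have h40 : ∀ u < 112175, (fun u => chkE tab 10 u) u = true := ext_range (a := 109174) (len := 3001) h39 e10_39
  have h41 : ∀ u < 114927, (fun u => chkE tab 10 u) u = true := ext_range (a := 112175) (len := 2752) h40 e10_40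
  have h42 : ∀ u < 117915, (fun u => chkE tab 10 u) u = true := ext_range (a := 114927) (len := 2988) h41 e10_41
  have h43 : ∀ u < 121354, (fun u => chkE tab 10 u) u = true := ext_range (a := 117915) (len := 3439) h42 e10_42
  have h44 : ∀ u < 125767, (fun u => chkE tab 10 u) u = true := ext_range (a := 121354) (len := 4413) h43 e10_43
  have h45 : ∀ u < 130291, (fun u => chkE tab 10 u) u = true := ext_range (a := 125767) (len := 4524) h44 e10_44
  have h46 : ∀ u < 133118, (fun u => chkE tab 10 u) u = true := ext_range (a := 130291) (len := 2827) h45 e10_45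
  have h47 : ∀ u < 136439, (fun u => chkE tab 10 u) u = true := ext_range (a := 133118) (len := 3321) h46 e10_46
  have h48 : ∀ u < 140474, (fun u => chkE tab 10 u) u = true := ext_range (a := 136439) (len := 4035) h47 e10_47
  have h49 : ∀ u < 145144, (fun u => chkE tab 10 u) u = true := ext_range (a := 140474) (len := 4670) h48 e10_48
  have h50 : ∀ u < 149707, (fun u => chkE tab 10 u) u = true := ext_range (a := 145144) (len := 4563) h49 e10_49
  have h51 : ∀ u < 153461, (fun u => chkE tab 10 u) u = true := ext_range (a := 149707) (len := 3754) h50 e10_50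
  have h52 : ∀ u < 158660, (fun u => chkE tab 10 u) u = true := ext_range (a := 153461) (len := 5199) h51 e10_51
  have h53 : ∀ u < 163234, (fun u => chkE tab 10 u) u = true := ext_range (a := 158660) (len := 4574) h52 e10_52
  have h54 : ∀ u < 166245, (fun u => chkE tab 10 u) u = true := ext_range (a := 163234) (len := 3011) h53 e10_53
  have h55 : ∀ u < 169134, (fun u => chkE tab 10 u) u = true := ext_range (a := 166245) (len := 2889) h54 e10_54
  have h56 : ∀ u < 172204, (fun u => chkE tab 10 u) u = true := ext_range (a := 169134) (len := 3070) h55 e10_55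
  have h57 : ∀ u < 174922, (fun u => chkE tab 10 u) u = true := ext_range (a := 172204) (len := 2718) h56 e10_56
  have h58 : ∀ u < 178173, (fun u => chkE tab 10 u) u = true := ext_range (a := 174922) (len := 3251) h57 e10_57
  have h59 : ∀ u < 181548, (fun u => chkE tab 10 u) u = true := ext_range (a := 178173) (len := 3375) h58 e10_58
  have h60 : ∀ u < 184820, (fun u => chkE tab 10 u) u = true := ext_range (a := 181548) (len := 3272) h59 e10_59
  have h61 : ∀ u < 187830, (fun u => chkE tab 10 u) u = true := ext_range (a := 184820) (len := 3010) h60 e10_60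
  have h62 : ∀ u < 190959, (fun u => chkE tab 10 u) u = true := ext_range (a := 187830) (len := 3129) h61 e10_61
  have h63 : ∀ u < 193814, (fun u => chkE tab 10 u) u = true := ext_range (a := 190959) (len := 2855) h62 e10_62
  have h64 : ∀ u < 197326, (fun u => chkE tab 10 u) u = true := ext_range (a := 193814) (len := 3512) h63 e10_63
  have h65 : ∀ u < 200862, (fun u => chkE tab 10 u) u = true := ext_range (a := 197326) (len := 3536) h64 e10_64
  have h66 : ∀ u < 204228, (fun u => chkE tab 10 u) u = true := ext_range (a := 200862) (len := 3366) h65 e10_65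
  have h67 : ∀ u < 207433, (fun u => chkE tab 10 u) u = true := ext_range (a := 204228) (len := 3205) h66 e10_66
  have h68 : ∀ u < 210640, (fun u => chkE tab 10 u) u = true := ext_range (a := 207433) (len := 3207) h67 e10_67
  have h69 : ∀ u < 213564, (fun u => chkE tab 10 u) u = true := ext_range (a := 210640) (len := 2924) h68 e10_68
  have h70 : ∀ u < 217066, (fun u => chkE tab 10 u) u = true := ext_range (a := 213564) (len := 3502) h69 e10_69
  have h71 : ∀ u < 220730, (fun u => chkE tab 10 u) u = true := ext_range (a := 217066) (len := 3664) h70 e10_70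
  have h72 : ∀ u < 224165, (fun u => chkE tab 10 u) u = true := ext_range (a := 220730) (len := 3435) h71 e10_71
  have h73 : ∀ u < 227431, (fun u => chkE tab 10 u) u = true := ext_range (a := 224165) (len := 3266) h72 e10_72
  have h74 : ∀ u < 230719, (fun u => chkE tab 10 u) u = true := ext_range (a := 227431) (len := 3288) h73 e10_73
  have h75 : ∀ u < 233848, (fun u => chkE tab 10 u) u = true := ext_range (a := 230719) (len := 3129) h74 e10_74
  have h76 : ∀ u < 236652, (fun u => chkE tab 10 u) u = true := ext_range (a := 233848) (len := 2804) h75 e10_75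
  have h77 : ∀ u < 240375, (fun u => chkE tab 10 u) u = true := ext_range (a := 236652) (len := 3723) h76 e10_76
  have h78 : ∀ u < 243828, (fun u => chkE tab 10 u) u = true := ext_range (a := 240375) (len := 3453) h77 e10_77
  have h79 : ∀ u < 247109, (fun u => chkE tab 10 u) u = true := ext_range (a := 243828) (len := 3281) h78 e10_78
  have h80 : ∀ u < 250278, (fun u => chkE tab 10 u) u = true := ext_range (a := 247109) (len := 3169) h79 e10_79
  have h81 : ∀ u < 253471, (fun u => chkE tab 10 u) u = true := ext_range (a := 250278) (len := 3193) h80 e10_80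
  have h82 : ∀ u < 256421, (fun u => chkE tab 10 u) u = true := ext_range (a := 253471) (len := 2950) h81 e10_81
  have h83 : ∀ u < 258967, (fun u => chkE tab 10 u) u = true := ext_range (a := 256421) (len := 2546) h82 e10_82
  have h84 : ∀ u < 262472, (fun u => chkE tab 10 u) u = true := ext_range (a := 258967) (len := 3505) h83 e10_83
  have h85 : ∀ u < 265795, (fun u => chkE tab 10 u) u = true := ext_range (a := 262472) (len := 3323) h84 e10_84
  have h86 : ∀ u < 269059, (fun u => chkE tab 10 u) u = true := ext_range (a := 265795) (len := 3264) h85 e10_85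
  have h87 : ∀ u < 272000, (fun u => chkE tab 10 u) u = true := ext_range (a := 269059) (len := 2941) h86 e10_86
  have h88 : ∀ u < 274967, (fun u => chkE tab 10 u) u = true := ext_range (a := 272000) (len := 2967) h87 e10_87
  have h89 : ∀ u < 277962, (fun u => chkE tab 10 u) u = true := ext_range (a := 274967) (len := 2995) h88 e10_88
  have h90 : ∀ u < 280669, (fun u => chkE tab 10 u) u = true := ext_range (a := 277962) (len := 2707) h89 e10_89
  have h91 : ∀ u < 283173, (fun u => chkE tab 10 u) u = true := ext_range (a := 280669) (len := 2504) h90 e10_90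
  have h92 : ∀ u < 286306, (fun u => chkE tab 10 u) u = true := ext_range (a := 283173) (len := 3133) h91 e10_91
  have h93 : ∀ u < 289557, (fun u => chkE tab 10 u) u = true := ext_range (a := 286306) (len := 3251) h92 e10_92
  have h94 : ∀ u < 292608, (fun u => chkE tab 10 u) u = true := ext_range (a := 289557) (len := 3051) h93 e10_93
  have h95 : ∀ u < 295468, (fun u => chkE tab 10 u) u = true := ext_range (a := 292608) (len := 2860) h94 e10_94
  have h96 : ∀ u < 298166, (fun u => chkE tab 10 u) u = true := ext_range (a := 295468) (len := 2698) h95 e10_95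
  have h97 : ∀ u < 301049, (fun u => chkE tab 10 u) u = true := ext_range (a := 298166) (len := 2883) h96 e10_96
  have h98 : ∀ u < 303686, (fun u => chkE tab 10 u) u = true := ext_range (a := 301049) (len := 2637) h97 e10_97
  have h99 : ∀ u < 306175, (fun u => chkE tab 10 u) u = true := ext_range (a := 303686) (len := 2489) h98 e10_98
  have h100 : ∀ u < 308562, (fun u => chkE tab 10 u) u = true := ext_range (a := 306175) (len := 2387) h99 e10_99
  have h101 : ∀ u < 311570, (fun u => chkE tab 10 u) u = true := ext_range (a := 308562) (len := 3008) h100 e10_100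
  have h102 : ∀ u < 314539, (fun u => chkE tab 10 u) u = true := ext_range (a := 311570) (len := 2969) h101 e10_101
  have h103 : ∀ u < 317483, (fun u => chkE tab 10 u) u = true := ext_range (a := 314539) (len := 2944) h102 e10_102
  have h104 : ∀ u < 320238, (fun u => chkE tab 10 u) u = true := ext_range (a := 317483) (len := 2755) h103 e10_103
  have h105 : ∀ u < 322791, (fun u => chkE tab 10 u) u = true := ext_range (a := 320238) (len := 2553) h104 e10_104
  have h106 : ∀ u < 325380, (fun u => chkE tab 10 u) u = true := ext_range (a := 322791) (len := 2589) h105 e10_105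
  have h107 : ∀ u < 328031, (fun u => chkE tab 10 u) u = true := ext_range (a := 325380) (len := 2651) h106 e10_106
  have h108 : ∀ u < 330470, (fun u => chkE tab 10 u) u = true := ext_range (a := 328031) (len := 2439) h107 e10_107
  have h109 : ∀ u < 332768, (fun u => chkE tab 10 u) u = true := ext_range (a := 330470) (len := 2298) h108 e10_108
  have h110 : ∀ u < 335428, (fun u => chkE tab 10 u) u = true := ext_range (a := 332768) (len := 2660) h109 e10_109
  have h111 : ∀ u < 338540, (fun u => chkE tab 10 u) u = true := ext_range (a := 335428) (len := 3112) h110 e10_110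
  have h112 : ∀ u < 341303, (fun u => chkE tab 10 u) u = true := ext_range (a := 338540) (len := 2763) h111 e10_111
  have h113 : ∀ u < 343987, (fun u => chkE tab 10 u) u = true := ext_range (a := 341303) (len := 2684) h112 e10_112
  have h114 : ∀ u < 346526, (fun u => chkE tab 10 u) u = true := ext_range (a := 343987) (len := 2539) h113 e10_113
  have h115 : ∀ u < 349091, (fun u => chkE tab 10 u) u = true := ext_range (a := 346526) (len := 2565) h114 e10_114
  have h116 : ∀ u < 351632, (fun u => chkE tab 10 u) u = true := ext_range (a := 349091) (len := 2541) h115 e10_115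
  have h117 : ∀ u < 353917, (fun u => chkE tab 10 u) u = true := ext_range (a := 351632) (len := 2285) h116 e10_116
  have h118 : ∀ u < 356204, (fun u => chkE tab 10 u) u = true := ext_range (a := 353917) (len := 2287) h117 e10_117
  have h119 : ∀ u < 359315, (fun u => chkE tab 10 u) u = true := ext_range (a := 356204) (len := 3111) h118 e10_118
  have h120 : ∀ u < 362224, (fun u => chkE tab 10 u) u = true := ext_range (a := 359315) (len := 2909) h119 e10_119
  have h121 : ∀ u < 364913, (fun u => chkE tab 10 u) u = true := ext_range (a := 362224) (len := 2689) h120 e10_120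
  have h122 : ∀ u < 367316, (fun u => chkE tab 10 u) u = true := ext_range (a := 364913) (len := 2403) h121 e10_121
  have h123 : ∀ u < 369816, (fun u => chkE tab 10 u) u = true := ext_range (a := 367316) (len := 2500) h122 e10_122
  have h124 : ∀ u < 371908, (fun u => chkE tab 10 u) u = true := ext_range (a := 369816) (len := 2092) h123 e10_123
  have h125 : ∀ u < 374811, (fun u => chkE tab 10 u) u = true := ext_range (a := 371908) (len := 2903) h124 e10_124
  have h126 : ∀ u < 377793, (fun u => chkE tab 10 u) u = true := ext_range (a := 374811) (len := 2982) h125 e10_125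
  have h127 : ∀ u < 380202, (fun u => chkE tab 10 u) u = true := ext_range (a := 377793) (len := 2409) h126 e10_126
  have h128 : ∀ u < 382521, (fun u => chkE tab 10 u) u = true := ext_range (a := 380202) (len := 2319) h127 e10_127
  have h129 : ∀ u < 385238, (fun u => chkE tab 10 u) u = true := ext_range (a := 382521) (len := 2717) h128 e10_128
  have h130 : ∀ u < 387941, (fun u => chkE tab 10 u) u = true := ext_range (a := 385238) (len := 2703) h129 e10_129
  have h131 : ∀ u < 390355, (fun u => chkE tab 10 u) u = true := ext_range (a := 387941) (len := 2414) h130 e10_130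
  have h132 : ∀ u < 393378, (fun u => chkE tab 10 u) u = true := ext_range (a := 390355) (len := 3023) h131 e10_131
  have h133 : ∀ u < 394454, (fun u => chkE tab 10 u) u = true := ext_range (a := 393378) (len := 1076) h132 e10_132
  exact h133

theorem hE11 : ∀ u < 394454, chkE tab 11 u = true := by
  have h0 : ∀ u < 0, (fun u => chkE tab 11 u) u = true := range_zero
  have h1 : ∀ u < 2153, (fun u => chkE tab 11 u) u = true := ext_range (a := 0) (len := 2153) h0 e11_0
  have h2 : ∀ u < 4091, (fun u => chkE tab 11 u) u = true := ext_range (a := 2153) (len := 1938) h1 e11_1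
  have h3 : ∀ u < 6213, (fun u => chkE tab 11 u) u = true := ext_range (a := 4091) (len := 2122) h2 e11_2
  have h4 : ∀ u < 8528, (fun u => chkE tab 11 u) u = true := ext_range (a := 6213) (len := 2315) h3 e11_3
  have h5 : ∀ u < 11257, (fun u => chkE tab 11 u) u = true := ext_range (a := 8528) (len := 2729) h4 e11_4
  have h6 : ∀ u < 13773, (fun u => chkE tab 11 u) u = true := ext_range (a := 11257) (len := 2516) h5 e11_5
  have h7 : ∀ u < 16410, (fun u => chkE tab 11 u) u = true := ext_range (a := 13773) (len := 2637) h6 e11_6
  have h8 : ∀ u < 19352, (fun u => chkE tab 11 u) u = true := ext_range (a := 16410) (len := 2942) h7 e11_7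
  have h9 : ∀ u < 22261, (fun u => chkE tab 11 u) u = true := ext_range (a := 19352) (len := 2909) h8 e11_8
  have h10 : ∀ u < 25578, (fun u => chkE tab 11 u) u = true := ext_range (a := 22261) (len := 3317) h9 e11_9
  have h11 : ∀ u < 28778, (fun u => chkE tab 11 u) u = true := ext_range (a := 25578) (len := 3200) h10 e11_10
  have h12 : ∀ u < 32291, (fun u => chkE tab 11 u) u = true := ext_range (a := 28778) (len := 3513) h11 e11_11
  have h13 : ∀ u < 36172, (fun u => chkE tab 11 u) u = true := ext_range (a := 32291) (len := 3881) h12 e11_12
  have h14 : ∀ u < 39540, (fun u => chkE tab 11 u) u = true := ext_range (a := 36172) (len := 3368) h13 e11_13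
  have h15 : ∀ u < 43162, (fun u => chkE tab 11 u) u = true := ext_range (a := 39540) (len := 3622) h14 e11_14
  have h16 : ∀ u < 47073, (fun u => chkE tab 11 u) u = true := ext_range (a := 43162) (len := 3911) h15 e11_15
  have h17 : ∀ u < 50747, (fun u => chkE tab 11 u) u = true := ext_range (a := 47073) (len := 3674) h16 e11_16
  have h18 : ∀ u < 54471, (fun u => chkE tab 11 u) u = true := ext_range (a := 50747) (len := 3724) h17 e11_17
  have h19 : ∀ u < 58159, (fun u => chkE tab 11 u) u = true := ext_range (a := 54471) (len := 3688) h18 e11_18
  have h20 : ∀ u < 62163, (fun u => chkE tab 11 u) u = true := ext_range (a := 58159) (len := 4004) h19 e11_19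
  have h21 : ∀ u < 65998, (fun u => chkE tab 11 u) u = true := ext_range (a := 62163) (len := 3835) h20 e11_20
  have h22 : ∀ u < 69646, (fun u => chkE tab 11 u) u = true := ext_range (a := 65998) (len := 3648) h21 e11_21
  have h23 : ∀ u < 73708, (fun u => chkE tab 11 u) u = true := ext_range (a := 69646) (len := 4062) h22 e11_22
  have h24 : ∀ u < 77410, (fun u => chkE tab 11 u) u = true := ext_range (a := 73708) (len := 3702) h23 e11_23
  have h25 : ∀ u < 80530, (fun u => chkE tab 11 u) u = true := ext_range (a := 77410) (len := 3120) h24 e11_24
  have h26 : ∀ u < 84508, (fun u => chkE tab 11 u) u = true := ext_range (a := 80530) (len := 3978) h25 e11_25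
  have h27 : ∀ u < 88639, (fun u => chkE tab 11 u) u = true := ext_range (a := 84508) (len := 4131) h26 e11_26
  have h28 : ∀ u < 92281, (fun u => chkE tab 11 u) u = true := ext_range (a := 88639) (len := 3642) h27 e11_27
  have h29 : ∀ u < 95524, (fun u => chkE tab 11 u) u = true := ext_range (a := 92281) (len := 3243) h28 e11_28
  have h30 : ∀ u < 99811, (fun u => chkE tab 11 u) u = true := ext_range (a := 95524) (len := 4287) h29 e11_29
  have h31 : ∀ u < 103420, (fun u => chkE tab 11 u) u = true := ext_range (a := 99811) (len := 3609) h30 e11_30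
  have h32 : ∀ u < 106792, (fun u => chkE tab 11 u) u = true := ext_range (a := 103420) (len := 3372) h31 e11_31
  have h33 : ∀ u < 109631, (fun u => chkE tab 11 u) u = true := ext_range (a := 106792) (len := 2839) h32 e11_32
  have h34 : ∀ u < 113491, (fun u => chkE tab 11 u) u = true := ext_range (a := 109631) (len := 3860) h33 e11_33
  have h35 : ∀ u < 117030, (fun u => chkE tab 11 u) u = true := ext_range (a := 113491) (len := 3539) h34 e11_34
  have h36 : ∀ u < 121517, (fun u => chkE tab 11 u) u = true := ext_range (a := 117030) (len := 4487) h35 e11_35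
  have h37 : ∀ u < 126641, (fun u => chkE tab 11 u) u = true := ext_range (a := 121517) (len := 5124) h36 e11_36
  have h38 : ∀ u < 131423, (fun u => chkE tab 11 u) u = true := ext_range (a := 126641) (len := 4782) h37 e11_37
  have h39 : ∀ u < 135707, (fun u => chkE tab 11 u) u = true := ext_range (a := 131423) (len := 4284) h38 e11_38
  have h40 : ∀ u < 141095, (fun u => chkE tab 11 u) u = true := ext_range (a := 135707) (len := 5388) h39 e11_39
  have h41 : ∀ u < 145409, (fun u => chkE tab 11 u) u = true := ext_range (a := 141095) (len := 4314) h40 e11_40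
  have h42 : ∀ u < 150837, (fun u => chkE tab 11 u) u = true := ext_range (a := 145409) (len := 5428) h41 e11_41
  have h43 : ∀ u < 155709, (fun u => chkE tab 11 u) u = true := ext_range (a := 150837) (len := 4872) h42 e11_42
  have h44 : ∀ u < 161709, (fun u => chkE tab 11 u) u = true := ext_range (a := 155709) (len := 6000) h43 e11_43
  have h45 : ∀ u < 165744, (fun u => chkE tab 11 u) u = true := ext_range (a := 161709) (len := 4035) h44 e11_44
  have h46 : ∀ u < 168693, (fun u => chkE tab 11 u) u = true := ext_range (a := 165744) (len := 2949) h45 e11_45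
  have h47 : ∀ u < 172486, (fun u => chkE tab 11 u) u = true := ext_range (a := 168693) (len := 3793) h46 e11_46
  have h48 : ∀ u < 175505, (fun u => chkE tab 11 u) u = true := ext_range (a := 172486) (len := 3019) h47 e11_47
  have h49 : ∀ u < 178928, (fun u => chkE tab 11 u) u = true := ext_range (a := 175505) (len := 3423) h48 e11_48
  have h50 : ∀ u < 182725, (fun u => chkE tab 11 u) u = true := ext_range (a := 178928) (len := 3797) h49 e11_49
  have h51 : ∀ u < 185632, (fun u => chkE tab 11 u) u = true := ext_range (a := 182725) (len := 2907) h50 e11_50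
  have h52 : ∀ u < 189083, (fun u => chkE tab 11 u) u = true := ext_range (a := 185632) (len := 3451) h51 e11_51
  have h53 : ∀ u < 192468, (fun u => chkE tab 11 u) u = true := ext_range (a := 189083) (len := 3385) h52 e11_52
  have h54 : ∀ u < 195362, (fun u => chkE tab 11 u) u = true := ext_range (a := 192468) (len := 2894) h53 e11_53
  have h55 : ∀ u < 198704, (fun u => chkE tab 11 u) u = true := ext_range (a := 195362) (len := 3342) h54 e11_54
  have h56 : ∀ u < 202251, (fun u => chkE tab 11 u) u = true := ext_range (a := 198704) (len := 3547) h55 e11_55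
  have h57 : ∀ u < 205034, (fun u => chkE tab 11 u) u = true := ext_range (a := 202251) (len := 2783) h56 e11_56
  have h58 : ∀ u < 208484, (fun u => chkE tab 11 u) u = true := ext_range (a := 205034) (len := 3450) h57 e11_57
  have h59 : ∀ u < 211766, (fun u => chkE tab 11 u) u = true := ext_range (a := 208484) (len := 3282) h58 e11_58
  have h60 : ∀ u < 214252, (fun u => chkE tab 11 u) u = true := ext_range (a := 211766) (len := 2486) h59 e11_59
  have h61 : ∀ u < 217504, (fun u => chkE tab 11 u) u = true := ext_range (a := 214252) (len := 3252) h60 e11_60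
  have h62 : ∀ u < 220911, (fun u => chkE tab 11 u) u = true := ext_range (a := 217504) (len := 3407) h61 e11_61
  have h63 : ∀ u < 223927, (fun u => chkE tab 11 u) u = true := ext_range (a := 220911) (len := 3016) h62 e11_62
  have h64 : ∀ u < 226802, (fun u => chkE tab 11 u) u = true := ext_range (a := 223927) (len := 2875) h63 e11_63
  have h65 : ∀ u < 230136, (fun u => chkE tab 11 u) u = true := ext_range (a := 226802) (len := 3334) h64 e11_64
  have h66 : ∀ u < 233053, (fun u => chkE tab 11 u) u = true := ext_range (a := 230136) (len := 2917) h65 e11_65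
  have h67 : ∀ u < 235408, (fun u => chkE tab 11 u) u = true := ext_range (a := 233053) (len := 2355) h66 e11_66
  have h68 : ∀ u < 238503, (fun u => chkE tab 11 u) u = true := ext_range (a := 235408) (len := 3095) h67 e11_67
  have h69 : ∀ u < 241726, (fun u => chkE tab 11 u) u = true := ext_range (a := 238503) (len := 3223) h68 e11_68
  have h70 : ∀ u < 244721, (fun u => chkE tab 11 u) u = true := ext_range (a := 241726) (len := 2995) h69 e11_69
  have h71 : ∀ u < 247358, (fun u => chkE tab 11 u) u = true := ext_range (a := 244721) (len := 2637) h70 e11_70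
  have h72 : ∀ u < 250271, (fun u => chkE tab 11 u) u = true := ext_range (a := 247358) (len := 2913) h71 e11_71
  have h73 : ∀ u < 253256, (fun u => chkE tab 11 u) u = true := ext_range (a := 250271) (len := 2985) h72 e11_72
  have h74 : ∀ u < 255895, (fun u => chkE tab 11 u) u = true := ext_range (a := 253256) (len := 2639) h73 e11_73
  have h75 : ∀ u < 258220, (fun u => chkE tab 11 u) u = true := ext_range (a := 255895) (len := 2325) h74 e11_74
  have h76 : ∀ u < 261123, (fun u => chkE tab 11 u) u = true := ext_range (a := 258220) (len := 2903) h75 e11_75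
  have h77 : ∀ u < 264165, (fun u => chkE tab 11 u) u = true := ext_range (a := 261123) (len := 3042) h76 e11_76
  have h78 : ∀ u < 267006, (fun u => chkE tab 11 u) u = true := ext_range (a := 264165) (len := 2841) h77 e11_77
  have h79 : ∀ u < 269659, (fun u => chkE tab 11 u) u = true := ext_range (a := 267006) (len := 2653) h78 e11_78
  have h80 : ∀ u < 272436, (fun u => chkE tab 11 u) u = true := ext_range (a := 269659) (len := 2777) h79 e11_79
  have h81 : ∀ u < 275210, (fun u => chkE tab 11 u) u = true := ext_range (a := 272436) (len := 2774) h80 e11_80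
  have h82 : ∀ u < 277888, (fun u => chkE tab 11 u) u = true := ext_range (a := 275210) (len := 2678) h81 e11_81
  have h83 : ∀ u < 280277, (fun u => chkE tab 11 u) u = true := ext_range (a := 277888) (len := 2389) h82 e11_82
  have h84 : ∀ u < 282520, (fun u => chkE tab 11 u) u = true := ext_range (a := 280277) (len := 2243) h83 e11_83
  have h85 : ∀ u < 285346, (fun u => chkE tab 11 u) u = true := ext_range (a := 282520) (len := 2826) h84 e11_84
  have h86 : ∀ u < 288322, (fun u => chkE tab 11 u) u = true := ext_range (a := 285346) (len := 2976) h85 e11_85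
  have h87 : ∀ u < 291022, (fun u => chkE tab 11 u) u = true := ext_range (a := 288322) (len := 2700) h86 e11_86
  have h88 : ∀ u < 293668, (fun u => chkE tab 11 u) u = true := ext_range (a := 291022) (len := 2646) h87 e11_87
  have h89 : ∀ u < 296252, (fun u => chkE tab 11 u) u = true := ext_range (a := 293668) (len := 2584) h88 e11_88
  have h90 : ∀ u < 299034, (fun u => chkE tab 11 u) u = true := ext_range (a := 296252) (len := 2782) h89 e11_89
  have h91 : ∀ u < 301647, (fun u => chkE tab 11 u) u = true := ext_range (a := 299034) (len := 2613) h90 e11_90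
  have h92 : ∀ u < 304088, (fun u => chkE tab 11 u) u = true := ext_range (a := 301647) (len := 2441) h91 e11_91
  have h93 : ∀ u < 306339, (fun u => chkE tab 11 u) u = true := ext_range (a := 304088) (len := 2251) h92 e11_92
  have h94 : ∀ u < 308587, (fun u => chkE tab 11 u) u = true := ext_range (a := 306339) (len := 2248) h93 e11_93
  have h95 : ∀ u < 311510, (fun u => chkE tab 11 u) u = true := ext_range (a := 308587) (len := 2923) h94 e11_94
  have h96 : ∀ u < 314498, (fun u => chkE tab 11 u) u = true := ext_range (a := 311510) (len := 2988) h95 e11_95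
  have h97 : ∀ u < 317138, (fun u => chkE tab 11 u) u = true := ext_range (a := 314498) (len := 2640) h96 e11_96
  have h98 : ∀ u < 319810, (fun u => chkE tab 11 u) u = true := ext_range (a := 317138) (len := 2672) h97 e11_97
  have h99 : ∀ u < 322576, (fun u => chkE tab 11 u) u = true := ext_range (a := 319810) (len := 2766) h98 e11_98
  have h100 : ∀ u < 325199, (fun u => chkE tab 11 u) u = true := ext_range (a := 322576) (len := 2623) h99 e11_99
  have h101 : ∀ u < 327681, (fun u => chkE tab 11 u) u = true := ext_range (a := 325199) (len := 2482) h100 e11_100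
  have h102 : ∀ u < 330048, (fun u => chkE tab 11 u) u = true := ext_range (a := 327681) (len := 2367) h101 e11_101
  have h103 : ∀ u < 332172, (fun u => chkE tab 11 u) u = true := ext_range (a := 330048) (len := 2124) h102 e11_102
  have h104 : ∀ u < 334764, (fun u => chkE tab 11 u) u = true := ext_range (a := 332172) (len := 2592) h103 e11_103
  have h105 : ∀ u < 338047, (fun u => chkE tab 11 u) u = true := ext_range (a := 334764) (len := 3283) h104 e11_104
  have h106 : ∀ u < 340838, (fun u => chkE tab 11 u) u = true := ext_range (a := 338047) (len := 2791) h105 e11_105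
  have h107 : ∀ u < 343540, (fun u => chkE tab 11 u) u = true := ext_range (a := 340838) (len := 2702) h106 e11_106
  have h108 : ∀ u < 346293, (fun u => chkE tab 11 u) u = true := ext_range (a := 343540) (len := 2753) h107 e11_107
  have h109 : ∀ u < 349065, (fun u => chkE tab 11 u) u = true := ext_range (a := 346293) (len := 2772) h108 e11_108
  have h110 : ∀ u < 351419, (fun u => chkE tab 11 u) u = true := ext_range (a := 349065) (len := 2354) h109 e11_109
  have h111 : ∀ u < 353694, (fun u => chkE tab 11 u) u = true := ext_range (a := 351419) (len := 2275) h110 e11_110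
  have h112 : ∀ u < 356022, (fun u => chkE tab 11 u) u = true := ext_range (a := 353694) (len := 2328) h111 e11_111
  have h113 : ∀ u < 359271, (fun u => chkE tab 11 u) u = true := ext_range (a := 356022) (len := 3249) h112 e11_112
  have h114 : ∀ u < 362253, (fun u => chkE tab 11 u) u = true := ext_range (a := 359271) (len := 2982) h113 e11_113
  have h115 : ∀ u < 364991, (fun u => chkE tab 11 u) u = true := ext_range (a := 362253) (len := 2738) h114 e11_114
  have h116 : ∀ u < 367425, (fun u => chkE tab 11 u) u = true := ext_range (a := 364991) (len := 2434) h115 e11_115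
  have h117 : ∀ u < 369807, (fun u => chkE tab 11 u) u = true := ext_range (a := 367425) (len := 2382) h116 e11_116
  have h118 : ∀ u < 371987, (fun u => chkE tab 11 u) u = true := ext_range (a := 369807) (len := 2180) h117 e11_117
  have h119 : ∀ u < 374721, (fun u => chkE tab 11 u) u = true := ext_range (a := 371987) (len := 2734) h118 e11_118
  have h120 : ∀ u < 377333, (fun u => chkE tab 11 u) u = true := ext_range (a := 374721) (len := 2612) h119 e11_119
  have h121 : ∀ u < 379833, (fun u => chkE tab 11 u) u = true := ext_range (a := 377333) (len := 2500) h120 e11_120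
  have h122 : ∀ u < 381798, (fun u => chkE tab 11 u) u = true := ext_range (a := 379833) (len := 1965) h121 e11_121
  have h123 : ∀ u < 384170, (fun u => chkE tab 11 u) u = true := ext_range (a := 381798) (len := 2372) h122 e11_122
  have h124 : ∀ u < 387083, (fun u => chkE tab 11 u) u = true := ext_range (a := 384170) (len := 2913) h123 e11_123
  have h125 : ∀ u < 389195, (fun u => chkE tab 11 u) u = true := ext_range (a := 387083) (len := 2112) h124 e11_124
  have h126 : ∀ u < 391774, (fun u => chkE tab 11 u) u = true := ext_range (a := 389195) (len := 2579) h125 e11_125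
  have h127 : ∀ u < 394454, (fun u => chkE tab 11 u) u = true := ext_range (a := 391774) (len := 2680) h126 e11_126
  exact h127

theorem hL : ∀ u < 394454, chkL tab u = true := by
  have h0 : ∀ u < 0, (fun u => chkL tab u) u = true := range_zero
  have h1 : ∀ u < 7402, (fun u => chkL tab u) u = true := ext_range (a := 0) (len := 7402) h0 l_0
  have h2 : ∀ u < 10993, (fun u => chkL tab u) u = true := ext_range (a := 7402) (len := 3591) h1 l_1
  have h3 : ∀ u < 18198, (fun u => chkL tab u) u = true := ext_range (a := 10993) (len := 7205) h2 l_2
  have h4 : ∀ u < 23638, (fun u => chkL tab u) u = true := ext_range (a := 18198) (len := 5440) h3 l_3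
  have h5 : ∀ u < 29204, (fun u => chkL tab u) u = true := ext_range (a := 23638) (len := 5566) h4 l_4
  have h6 : ∀ u < 32372, (fun u => chkL tab u) u = true := ext_range (a := 29204) (len := 3168) h5 l_5
  have h7 : ∀ u < 36216, (fun u => chkL tab u) u = true := ext_range (a := 32372) (len := 3844) h6 l_6
  have h8 : ∀ u < 40957, (fun u => chkL tab u) u = true := ext_range (a := 36216) (len := 4741) h7 l_7
  have h9 : ∀ u < 43437, (fun u => chkL tab u) u = true := ext_range (a := 40957) (len := 2480) h8 l_8
  have h10 : ∀ u < 46891, (fun u => chkL tab u) u = true := ext_range (a := 43437) (len := 3454) h9 l_9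
  have h11 : ∀ u < 50157, (fun u => chkL tab u) u = true := ext_range (a := 46891) (len := 3266) h10 l_10
  have h12 : ∀ u < 54143, (fun u => chkL tab u) u = true := ext_range (a := 50157) (len := 3986) h11 l_11
  have h13 : ∀ u < 56870, (fun u => chkL tab u) u = true := ext_range (a := 54143) (len := 2727) h12 l_12
  have h14 : ∀ u < 59370, (fun u => chkL tab u) u = true := ext_range (a := 56870) (len := 2500) h13 l_13
  have h15 : ∀ u < 61309, (fun u => chkL tab u) u = true := ext_range (a := 59370) (len := 1939) h14 l_14
  have h16 : ∀ u < 65206, (fun u => chkL tab u) u = true := ext_range (a := 61309) (len := 3897) h15 l_15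
  have h17 : ∀ u < 67664, (fun u => chkL tab u) u = true := ext_range (a := 65206) (len := 2458) h16 l_16
  have h18 : ∀ u < 72488, (fun u => chkL tab u) u = true := ext_range (a := 67664) (len := 4824) h17 l_17
  have h19 : ∀ u < 74811, (fun u => chkL tab u) u = true := ext_range (a := 72488) (len := 2323) h18 l_18
  have h20 : ∀ u < 77555, (fun u => chkL tab u) u = true := ext_range (a := 74811) (len := 2744) h19 l_19
  have h21 : ∀ u < 79252, (fun u => chkL tab u) u = true := ext_range (a := 77555) (len := 1697) h20 l_20
  have h22 : ∀ u < 81913, (fun u => chkL tab u) u = true := ext_range (a := 79252) (len := 2661) h21 l_21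
  have h23 : ∀ u < 83770, (fun u => chkL tab u) u = true := ext_range (a := 81913) (len := 1857) h22 l_22
  have h24 : ∀ u < 87175, (fun u => chkL tab u) u = true := ext_range (a := 83770) (len := 3405) h23 l_23
  have h25 : ∀ u < 89850, (fun u => chkL tab u) u = true := ext_range (a := 87175) (len := 2675) h24 l_24
  have h26 : ∀ u < 92316, (fun u => chkL tab u) u = true := ext_range (a := 89850) (len := 2466) h25 l_25
  have h27 : ∀ u < 94344, (fun u => chkL tab u) u = true := ext_range (a := 92316) (len := 2028) h26 l_26
  have h28 : ∀ u < 99873, (fun u => chkL tab u) u = true := ext_range (a := 94344) (len := 5529) h27 l_27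
  have h29 : ∀ u < 101807, (fun u => chkL tab u) u = true := ext_range (a := 99873) (len := 1934) h28 l_28
  have h30 : ∀ u < 103969, (fun u => chkL tab u) u = true := ext_range (a := 101807) (len := 2162) h29 l_29
  have h31 : ∀ u < 106740, (fun u => chkL tab u) u = true := ext_range (a := 103969) (len := 2771) h30 l_30
  have h32 : ∀ u < 108422, (fun u => chkL tab u) u = true := ext_range (a := 106740) (len := 1682) h31 l_31
  have h33 : ∀ u < 110032, (fun u => chkL tab u) u = true := ext_range (a := 108422) (len := 1610) h32 l_32
  have h34 : ∀ u < 112808, (fun u => chkL tab u) u = true := ext_range (a := 110032) (len := 2776) h33 l_33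
  have h35 : ∀ u < 114581, (fun u => chkL tab u) u = true := ext_range (a := 112808) (len := 1773) h34 l_34
  have h36 : ∀ u < 116393, (fun u => chkL tab u) u = true := ext_range (a := 114581) (len := 1812) h35 l_35
  have h37 : ∀ u < 119580, (fun u => chkL tab u) u = true := ext_range (a := 116393) (len := 3187) h36 l_36
  have h38 : ∀ u < 123003, (fun u => chkL tab u) u = true := ext_range (a := 119580) (len := 3423) h37 l_37
  have h39 : ∀ u < 124836, (fun u => chkL tab u) u = true := ext_range (a := 123003) (len := 1833) h38 l_38
  have h40 : ∀ u < 126681, (fun u => chkL tab u) u = true := ext_range (a := 124836) (len := 1845) h39 l_39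
  have h41 : ∀ u < 129130, (fun u => chkL tab u) u = true := ext_range (a := 126681) (len := 2449) h40 l_40
  have h42 : ∀ u < 131351, (fun u => chkL tab u) u = true := ext_range (a := 129130) (len := 2221) h41 l_41
  have h43 : ∀ u < 136453, (fun u => chkL tab u) u = true := ext_range (a := 131351) (len := 5102) h42 l_42
  have h44 : ∀ u < 139339, (fun u => chkL tab u) u = true := ext_range (a := 136453) (len := 2886) h43 l_43
  have h45 : ∀ u < 141136, (fun u => chkL tab u) u = true := ext_range (a := 139339) (len := 1797) h44 l_44
  have h46 : ∀ u < 143349, (fun u => chkL tab u) u = true := ext_range (a := 141136) (len := 2213) h45 l_45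
  have h47 : ∀ u < 145050, (fun u => chkL tab u) u = true := ext_range (a := 143349) (len := 1701) h46 l_46
  have h48 : ∀ u < 147740, (fun u => chkL tab u) u = true := ext_range (a := 145050) (len := 2690) h47 l_47
  have h49 : ∀ u < 149373, (fun u => chkL tab u) u = true := ext_range (a := 147740) (len := 1633) h48 l_48
  have h50 : ∀ u < 150964, (fun u => chkL tab u) u = true := ext_range (a := 149373) (len := 1591) h49 l_49
  have h51 : ∀ u < 152566, (fun u => chkL tab u) u = true := ext_range (a := 150964) (len := 1602) h50 l_50
  have h52 : ∀ u < 155407, (fun u => chkL tab u) u = true := ext_range (a := 152566) (len := 2841) h51 l_51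
  have h53 : ∀ u < 157302, (fun u => chkL tab u) u = true := ext_range (a := 155407) (len := 1895) h52 l_52
  have h54 : ∀ u < 158949, (fun u => chkL tab u) u = true := ext_range (a := 157302) (len := 1647) h53 l_53
  have h55 : ∀ u < 160698, (fun u => chkL tab u) u = true := ext_range (a := 158949) (len := 1749) h54 l_54
  have h56 : ∀ u < 190731, (fun u => chkL tab u) u = true := ext_range (a := 160698) (len := 30033) h55 l_55
  have h57 : ∀ u < 269170, (fun u => chkL tab u) u = true := ext_range (a := 190731) (len := 78439) h56 l_56
  have h58 : ∀ u < 349170, (fun u => chkL tab u) u = true := ext_range (a := 269170) (len := 80000) h57 l_57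
  have h59 : ∀ u < 394454, (fun u => chkL tab u) u = true := ext_range (a := 349170) (len := 45284) h58 l_58
  exact h59

theorem hF : ∀ u < 306936, chkFin tab u = true := by
  have h0 : ∀ u < 0, (fun u => chkFin tab u) u = true := range_zero
  have h1 : ∀ u < 211, (fun u => chkFin tab u) u = true := ext_range (a := 0) (len := 211) h0 f_0
  have h2 : ∀ u < 422, (fun u => chkFin tab u) u = true := ext_range (a := 211) (len := 211) h1 f_1
  have h3 : ∀ u < 633, (fun u => chkFin tab u) u = true := ext_range (a := 422) (len := 211) h2 f_2
  have h4 : ∀ u < 844, (fun u => chkFin tab u) u = true := ext_range (a := 633) (len := 211) h3 f_3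
  have h5 : ∀ u < 1055, (fun u => chkFin tab u) u = true := ext_range (a := 844) (len := 211) h4 f_4
  have h6 : ∀ u < 1266, (fun u => chkFin tab u) u = true := ext_range (a := 1055) (len := 211) h5 f_5
  have h7 : ∀ u < 1477, (fun u => chkFin tab u) u = true := ext_range (a := 1266) (len := 211) h6 f_6
  have h8 : ∀ u < 1688, (fun u => chkFin tab u) u = true := ext_range (a := 1477) (len := 211) h7 f_7
  have h9 : ∀ u < 1899, (fun u => chkFin tab u) u = true := ext_range (a := 1688) (len := 211) h8 f_8
  have h10 : ∀ u < 2110, (fun u => chkFin tab u) u = true := ext_range (a := 1899) (len := 211) h9 f_9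
  have h11 : ∀ u < 2321, (fun u => chkFin tab u) u = true := ext_range (a := 2110) (len := 211) h10 f_10
  have h12 : ∀ u < 2532, (fun u => chkFin tab u) u = true := ext_range (a := 2321) (len := 211) h11 f_11
  have h13 : ∀ u < 2743, (fun u => chkFin tab u) u = true := ext_range (a := 2532) (len := 211) h12 f_12
  have h14 : ∀ u < 2954, (fun u => chkFin tab u) u = true := ext_range (a := 2743) (len := 211) h13 f_13
  have h15 : ∀ u < 3165, (fun u => chkFin tab u) u = true := ext_range (a := 2954) (len := 211) h14 f_14
  have h16 : ∀ u < 3376, (fun u => chkFin tab u) u = true := ext_range (a := 3165) (len := 211) h15 f_15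
  have h17 : ∀ u < 3587, (fun u => chkFin tab u) u = true := ext_range (a := 3376) (len := 211) h16 f_16
  have h18 : ∀ u < 3798, (fun u => chkFin tab u) u = true := ext_range (a := 3587) (len := 211) h17 f_17
  have h19 : ∀ u < 4009, (fun u => chkFin tab u) u = true := ext_range (a := 3798) (len := 211) h18 f_18
  have h20 : ∀ u < 4220, (fun u => chkFin tab u) u = true := ext_range (a := 4009) (len := 211) h19 f_19
  have h21 : ∀ u < 4431, (fun u => chkFin tab u) u = true := ext_range (a := 4220) (len := 211) h20 f_20
  have h22 : ∀ u < 4642, (fun u => chkFin tab u) u = true := ext_range (a := 4431) (len := 211) h21 f_21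
  have h23 : ∀ u < 4853, (fun u => chkFin tab u) u = true := ext_range (a := 4642) (len := 211) h22 f_22
  have h24 : ∀ u < 5064, (fun u => chkFin tab u) u = true := ext_range (a := 4853) (len := 211) h23 f_23
  have h25 : ∀ u < 5275, (fun u => chkFin tab u) u = true := ext_range (a := 5064) (len := 211) h24 f_24
  have h26 : ∀ u < 5486, (fun u => chkFin tab u) u = true := ext_range (a := 5275) (len := 211) h25 f_25
  have h27 : ∀ u < 5697, (fun u => chkFin tab u) u = true := ext_range (a := 5486) (len := 211) h26 f_26
  have h28 : ∀ u < 5908, (fun u => chkFin tab u) u = true := ext_range (a := 5697) (len := 211) h27 f_27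
  have h29 : ∀ u < 6119, (fun u => chkFin tab u) u = true := ext_range (a := 5908) (len := 211) h28 f_28
  have h30 : ∀ u < 6330, (fun u => chkFin tab u) u = true := ext_range (a := 6119) (len := 211) h29 f_29
  have h31 : ∀ u < 6541, (fun u => chkFin tab u) u = true := ext_range (a := 6330) (len := 211) h30 f_30
  have h32 : ∀ u < 6752, (fun u => chkFin tab u) u = true := ext_range (a := 6541) (len := 211) h31 f_31
  have h33 : ∀ u < 6963, (fun u => chkFin tab u) u = true := ext_range (a := 6752) (len := 211) h32 f_32
  have h34 : ∀ u < 7174, (fun u => chkFin tab u) u = true := ext_range (a := 6963) (len := 211) h33 f_33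
  have h35 : ∀ u < 7385, (fun u => chkFin tab u) u = true := ext_range (a := 7174) (len := 211) h34 f_34
  have h36 : ∀ u < 7596, (fun u => chkFin tab u) u = true := ext_range (a := 7385) (len := 211) h35 f_35
  have h37 : ∀ u < 7807, (fun u => chkFin tab u) u = true := ext_range (a := 7596) (len := 211) h36 f_36
  have h38 : ∀ u < 8018, (fun u => chkFin tab u) u = true := ext_range (a := 7807) (len := 211) h37 f_37
  have h39 : ∀ u < 8229, (fun u => chkFin tab u) u = true := ext_range (a := 8018) (len := 211) h38 f_38
  have h40 : ∀ u < 8440, (fun u => chkFin tab u) u = true := ext_range (a := 8229) (len := 211) h39 f_39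
  have h41 : ∀ u < 8651, (fun u => chkFin tab u) u = true := ext_range (a := 8440) (len := 211) h40 f_40
  have h42 : ∀ u < 8862, (fun u => chkFin tab u) u = true := ext_range (a := 8651) (len := 211) h41 f_41
  have h43 : ∀ u < 9073, (fun u => chkFin tab u) u = true := ext_range (a := 8862) (len := 211) h42 f_42
  have h44 : ∀ u < 9284, (fun u => chkFin tab u) u = true := ext_range (a := 9073) (len := 211) h43 f_43
  have h45 : ∀ u < 9495, (fun u => chkFin tab u) u = true := ext_range (a := 9284) (len := 211) h44 f_44
  have h46 : ∀ u < 9706, (fun u => chkFin tab u) u = true := ext_range (a := 9495) (len := 211) h45 f_45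
  have h47 : ∀ u < 9917, (fun u => chkFin tab u) u = true := ext_range (a := 9706) (len := 211) h46 f_46
  have h48 : ∀ u < 10128, (fun u => chkFin tab u) u = true := ext_range (a := 9917) (len := 211) h47 f_47
  have h49 : ∀ u < 10339, (fun u => chkFin tab u) u = true := ext_range (a := 10128) (len := 211) h48 f_48
  have h50 : ∀ u < 10550, (fun u => chkFin tab u) u = true := ext_range (a := 10339) (len := 211) h49 f_49
  have h51 : ∀ u < 10761, (fun u => chkFin tab u) u = true := ext_range (a := 10550) (len := 211) h50 f_50
  have h52 : ∀ u < 10972, (fun u => chkFin tab u) u = true := ext_range (a := 10761) (len := 211) h51 f_51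
  have h53 : ∀ u < 11183, (fun u => chkFin tab u) u = true := ext_range (a := 10972) (len := 211) h52 f_52
  have h54 : ∀ u < 11394, (fun u => chkFin tab u) u = true := ext_range (a := 11183) (len := 211) h53 f_53
  have h55 : ∀ u < 11605, (fun u => chkFin tab u) u = true := ext_range (a := 11394) (len := 211) h54 f_54
  have h56 : ∀ u < 11816, (fun u => chkFin tab u) u = true := ext_range (a := 11605) (len := 211) h55 f_55
  have h57 : ∀ u < 12027, (fun u => chkFin tab u) u = true := ext_range (a := 11816) (len := 211) h56 f_56
  have h58 : ∀ u < 12238, (fun u => chkFin tab u) u = true := ext_range (a := 12027) (len := 211) h57 f_57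
  have h59 : ∀ u < 12449, (fun u => chkFin tab u) u = true := ext_range (a := 12238) (len := 211) h58 f_58
  have h60 : ∀ u < 12660, (fun u => chkFin tab u) u = true := ext_range (a := 12449) (len := 211) h59 f_59
  have h61 : ∀ u < 12871, (fun u => chkFin tab u) u = true := ext_range (a := 12660) (len := 211) h60 f_60
  have h62 : ∀ u < 13082, (fun u => chkFin tab u) u = true := ext_range (a := 12871) (len := 211) h61 f_61
  have h63 : ∀ u < 13293, (fun u => chkFin tab u) u = true := ext_range (a := 13082) (len := 211) h62 f_62
  have h64 : ∀ u < 13504, (fun u => chkFin tab u) u = true := ext_range (a := 13293) (len := 211) h63 f_63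
  have h65 : ∀ u < 13715, (fun u => chkFin tab u) u = true := ext_range (a := 13504) (len := 211) h64 f_64
  have h66 : ∀ u < 13926, (fun u => chkFin tab u) u = true := ext_range (a := 13715) (len := 211) h65 f_65
  have h67 : ∀ u < 14137, (fun u => chkFin tab u) u = true := ext_range (a := 13926) (len := 211) h66 f_66
  have h68 : ∀ u < 14348, (fun u => chkFin tab u) u = true := ext_range (a := 14137) (len := 211) h67 f_67
  have h69 : ∀ u < 14559, (fun u => chkFin tab u) u = true := ext_range (a := 14348) (len := 211) h68 f_68
  have h70 : ∀ u < 14770, (fun u => chkFin tab u) u = true := ext_range (a := 14559) (len := 211) h69 f_69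
  have h71 : ∀ u < 14981, (fun u => chkFin tab u) u = true := ext_range (a := 14770) (len := 211) h70 f_70
  have h72 : ∀ u < 15192, (fun u => chkFin tab u) u = true := ext_range (a := 14981) (len := 211) h71 f_71
  have h73 : ∀ u < 15403, (fun u => chkFin tab u) u = true := ext_range (a := 15192) (len := 211) h72 f_72
  have h74 : ∀ u < 15614, (fun u => chkFin tab u) u = true := ext_range (a := 15403) (len := 211) h73 f_73
  have h75 : ∀ u < 15825, (fun u => chkFin tab u) u = true := ext_range (a := 15614) (len := 211) h74 f_74
  have h76 : ∀ u < 16036, (fun u => chkFin tab u) u = true := ext_range (a := 15825) (len := 211) h75 f_75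
  have h77 : ∀ u < 16247, (fun u => chkFin tab u) u = true := ext_range (a := 16036) (len := 211) h76 f_76
  have h78 : ∀ u < 16458, (fun u => chkFin tab u) u = true := ext_range (a := 16247) (len := 211) h77 f_77
  have h79 : ∀ u < 16669, (fun u => chkFin tab u) u = true := ext_range (a := 16458) (len := 211) h78 f_78
  have h80 : ∀ u < 16880, (fun u => chkFin tab u) u = true := ext_range (a := 16669) (len := 211) h79 f_79
  have h81 : ∀ u < 17091, (fun u => chkFin tab u) u = true := ext_range (a := 16880) (len := 211) h80 f_80
  have h82 : ∀ u < 17302, (fun u => chkFin tab u) u = true := ext_range (a := 17091) (len := 211) h81 f_81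
  have h83 : ∀ u < 17513, (fun u => chkFin tab u) u = true := ext_range (a := 17302) (len := 211) h82 f_82
  have h84 : ∀ u < 17724, (fun u => chkFin tab u) u = true := ext_range (a := 17513) (len := 211) h83 f_83
  have h85 : ∀ u < 17935, (fun u => chkFin tab u) u = true := ext_range (a := 17724) (len := 211) h84 f_84
  have h86 : ∀ u < 18146, (fun u => chkFin tab u) u = true := ext_range (a := 17935) (len := 211) h85 f_85
  have h87 : ∀ u < 18357, (fun u => chkFin tab u) u = true := ext_range (a := 18146) (len := 211) h86 f_86
  have h88 : ∀ u < 18568, (fun u => chkFin tab u) u = true := ext_range (a := 18357) (len := 211) h87 f_87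
  have h89 : ∀ u < 18779, (fun u => chkFin tab u) u = true := ext_range (a := 18568) (len := 211) h88 f_88
  have h90 : ∀ u < 18990, (fun u => chkFin tab u) u = true := ext_range (a := 18779) (len := 211) h89 f_89
  have h91 : ∀ u < 19201, (fun u => chkFin tab u) u = true := ext_range (a := 18990) (len := 211) h90 f_90
  have h92 : ∀ u < 19412, (fun u => chkFin tab u) u = true := ext_range (a := 19201) (len := 211) h91 f_91
  have h93 : ∀ u < 19623, (fun u => chkFin tab u) u = true := ext_range (a := 19412) (len := 211) h92 f_92
  have h94 : ∀ u < 19834, (fun u => chkFin tab u) u = true := ext_range (a := 19623) (len := 211) h93 f_93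
  have h95 : ∀ u < 20045, (fun u => chkFin tab u) u = true := ext_range (a := 19834) (len := 211) h94 f_94
  have h96 : ∀ u < 20256, (fun u => chkFin tab u) u = true := ext_range (a := 20045) (len := 211) h95 f_95
  have h97 : ∀ u < 20467, (fun u => chkFin tab u) u = true := ext_range (a := 20256) (len := 211) h96 f_96
  have h98 : ∀ u < 20678, (fun u => chkFin tab u) u = true := ext_range (a := 20467) (len := 211) h97 f_97
  have h99 : ∀ u < 20889, (fun u => chkFin tab u) u = true := ext_range (a := 20678) (len := 211) h98 f_98
  have h100 : ∀ u < 21100, (fun u => chkFin tab u) u = true := ext_range (a := 20889) (len := 211) h99 f_99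
  have h101 : ∀ u < 21311, (fun u => chkFin tab u) u = true := ext_range (a := 21100) (len := 211) h100 f_100
  have h102 : ∀ u < 21522, (fun u => chkFin tab u) u = true := ext_range (a := 21311) (len := 211) h101 f_101
  have h103 : ∀ u < 21733, (fun u => chkFin tab u) u = true := ext_range (a := 21522) (len := 211) h102 f_102
  have h104 : ∀ u < 21944, (fun u => chkFin tab u) u = true := ext_range (a := 21733) (len := 211) h103 f_103
  have h105 : ∀ u < 22155, (fun u => chkFin tab u) u = true := ext_range (a := 21944) (len := 211) h104 f_104
  have h106 : ∀ u < 22366, (fun u => chkFin tab u) u = true := ext_range (a := 22155) (len := 211) h105 f_105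
  have h107 : ∀ u < 22577, (fun u => chkFin tab u) u = true := ext_range (a := 22366) (len := 211) h106 f_106
  have h108 : ∀ u < 22788, (fun u => chkFin tab u) u = true := ext_range (a := 22577) (len := 211) h107 f_107
  have h109 : ∀ u < 22999, (fun u => chkFin tab u) u = true := ext_range (a := 22788) (len := 211) h108 f_108
  have h110 : ∀ u < 23210, (fun u => chkFin tab u) u = true := ext_range (a := 22999) (len := 211) h109 f_109
  have h111 : ∀ u < 23421, (fun u => chkFin tab u) u = true := ext_range (a := 23210) (len := 211) h110 f_110
  have h112 : ∀ u < 23632, (fun u => chkFin tab u) u = true := ext_range (a := 23421) (len := 211) h111 f_111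
  have h113 : ∀ u < 23843, (fun u => chkFin tab u) u = true := ext_range (a := 23632) (len := 211) h112 f_112
  have h114 : ∀ u < 24054, (fun u => chkFin tab u) u = true := ext_range (a := 23843) (len := 211) h113 f_113
  have h115 : ∀ u < 24265, (fun u => chkFin tab u) u = true := ext_range (a := 24054) (len := 211) h114 f_114
  have h116 : ∀ u < 24476, (fun u => chkFin tab u) u = true := ext_range (a := 24265) (len := 211) h115 f_115
  have h117 : ∀ u < 24687, (fun u => chkFin tab u) u = true := ext_range (a := 24476) (len := 211) h116 f_116
  have h118 : ∀ u < 24898, (fun u => chkFin tab u) u = true := ext_range (a := 24687) (len := 211) h117 f_117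
  have h119 : ∀ u < 25109, (fun u => chkFin tab u) u = true := ext_range (a := 24898) (len := 211) h118 f_118
  have h120 : ∀ u < 25320, (fun u => chkFin tab u) u = true := ext_range (a := 25109) (len := 211) h119 f_119
  have h121 : ∀ u < 25531, (fun u => chkFin tab u) u = true := ext_range (a := 25320) (len := 211) h120 f_120
  have h122 : ∀ u < 25742, (fun u => chkFin tab u) u = true := ext_range (a := 25531) (len := 211) h121 f_121
  have h123 : ∀ u < 25953, (fun u => chkFin tab u) u = true := ext_range (a := 25742) (len := 211) h122 f_122
  have h124 : ∀ u < 26164, (fun u => chkFin tab u) u = true := ext_range (a := 25953) (len := 211) h123 f_123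
  have h125 : ∀ u < 26375, (fun u => chkFin tab u) u = true := ext_range (a := 26164) (len := 211) h124 f_124
  have h126 : ∀ u < 26586, (fun u => chkFin tab u) u = true := ext_range (a := 26375) (len := 211) h125 f_125
  have h127 : ∀ u < 26797, (fun u => chkFin tab u) u = true := ext_range (a := 26586) (len := 211) h126 f_126
  have h128 : ∀ u < 27008, (fun u => chkFin tab u) u = true := ext_range (a := 26797) (len := 211) h127 f_127
  have h129 : ∀ u < 27219, (fun u => chkFin tab u) u = true := ext_range (a := 27008) (len := 211) h128 f_128
  have h130 : ∀ u < 27430, (fun u => chkFin tab u) u = true := ext_range (a := 27219) (len := 211) h129 f_129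
  have h131 : ∀ u < 27641, (fun u => chkFin tab u) u = true := ext_range (a := 27430) (len := 211) h130 f_130
  have h132 : ∀ u < 27852, (fun u => chkFin tab u) u = true := ext_range (a := 27641) (len := 211) h131 f_131
  have h133 : ∀ u < 28063, (fun u => chkFin tab u) u = true := ext_range (a := 27852) (len := 211) h132 f_132
  have h134 : ∀ u < 28274, (fun u => chkFin tab u) u = true := ext_range (a := 28063) (len := 211) h133 f_133
  have h135 : ∀ u < 28485, (fun u => chkFin tab u) u = true := ext_range (a := 28274) (len := 211) h134 f_134
  have h136 : ∀ u < 28696, (fun u => chkFin tab u) u = true := ext_range (a := 28485) (len := 211) h135 f_135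
  have h137 : ∀ u < 28907, (fun u => chkFin tab u) u = true := ext_range (a := 28696) (len := 211) h136 f_136
  have h138 : ∀ u < 29118, (fun u => chkFin tab u) u = true := ext_range (a := 28907) (len := 211) h137 f_137
  have h139 : ∀ u < 29329, (fun u => chkFin tab u) u = true := ext_range (a := 29118) (len := 211) h138 f_138
  have h140 : ∀ u < 29540, (fun u => chkFin tab u) u = true := ext_range (a := 29329) (len := 211) h139 f_139
  have h141 : ∀ u < 29751, (fun u => chkFin tab u) u = true := ext_range (a := 29540) (len := 211) h140 f_140
  have h142 : ∀ u < 29962, (fun u => chkFin tab u) u = true := ext_range (a := 29751) (len := 211) h141 f_141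
  have h143 : ∀ u < 30173, (fun u => chkFin tab u) u = true := ext_range (a := 29962) (len := 211) h142 f_142
  have h144 : ∀ u < 30384, (fun u => chkFin tab u) u = true := ext_range (a := 30173) (len := 211) h143 f_143
  have h145 : ∀ u < 30595, (fun u => chkFin tab u) u = true := ext_range (a := 30384) (len := 211) h144 f_144
  have h146 : ∀ u < 30806, (fun u => chkFin tab u) u = true := ext_range (a := 30595) (len := 211) h145 f_145
  have h147 : ∀ u < 31017, (fun u => chkFin tab u) u = true := ext_range (a := 30806) (len := 211) h146 f_146
  have h148 : ∀ u < 31228, (fun u => chkFin tab u) u = true := ext_range (a := 31017) (len := 211) h147 f_147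
  have h149 : ∀ u < 31439, (fun u => chkFin tab u) u = true := ext_range (a := 31228) (len := 211) h148 f_148
  have h150 : ∀ u < 31650, (fun u => chkFin tab u) u = true := ext_range (a := 31439) (len := 211) h149 f_149
  have h151 : ∀ u < 31861, (fun u => chkFin tab u) u = true := ext_range (a := 31650) (len := 211) h150 f_150
  have h152 : ∀ u < 32072, (fun u => chkFin tab u) u = true := ext_range (a := 31861) (len := 211) h151 f_151
  have h153 : ∀ u < 32283, (fun u => chkFin tab u) u = true := ext_range (a := 32072) (len := 211) h152 f_152
  have h154 : ∀ u < 32494, (fun u => chkFin tab u) u = true := ext_range (a := 32283) (len := 211) h153 f_153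
  have h155 : ∀ u < 32705, (fun u => chkFin tab u) u = true := ext_range (a := 32494) (len := 211) h154 f_154
  have h156 : ∀ u < 32916, (fun u => chkFin tab u) u = true := ext_range (a := 32705) (len := 211) h155 f_155
  have h157 : ∀ u < 33127, (fun u => chkFin tab u) u = true := ext_range (a := 32916) (len := 211) h156 f_156
  have h158 : ∀ u < 33338, (fun u => chkFin tab u) u = true := ext_range (a := 33127) (len := 211) h157 f_157
  have h159 : ∀ u < 33549, (fun u => chkFin tab u) u = true := ext_range (a := 33338) (len := 211) h158 f_158
  have h160 : ∀ u < 33760, (fun u => chkFin tab u) u = true := ext_range (a := 33549) (len := 211) h159 f_159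
  have h161 : ∀ u < 33971, (fun u => chkFin tab u) u = true := ext_range (a := 33760) (len := 211) h160 f_160
  have h162 : ∀ u < 34182, (fun u => chkFin tab u) u = true := ext_range (a := 33971) (len := 211) h161 f_161
  have h163 : ∀ u < 34393, (fun u => chkFin tab u) u = true := ext_range (a := 34182) (len := 211) h162 f_162
  have h164 : ∀ u < 34604, (fun u => chkFin tab u) u = true := ext_range (a := 34393) (len := 211) h163 f_163
  have h165 : ∀ u < 34815, (fun u => chkFin tab u) u = true := ext_range (a := 34604) (len := 211) h164 f_164
  have h166 : ∀ u < 35026, (fun u => chkFin tab u) u = true := ext_range (a := 34815) (len := 211) h165 f_165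
  have h167 : ∀ u < 35237, (fun u => chkFin tab u) u = true := ext_range (a := 35026) (len := 211) h166 f_166
  have h168 : ∀ u < 35448, (fun u => chkFin tab u) u = true := ext_range (a := 35237) (len := 211) h167 f_167
  have h169 : ∀ u < 35659, (fun u => chkFin tab u) u = true := ext_range (a := 35448) (len := 211) h168 f_168
  have h170 : ∀ u < 35870, (fun u => chkFin tab u) u = true := ext_range (a := 35659) (len := 211) h169 f_169
  have h171 : ∀ u < 36081, (fun u => chkFin tab u) u = true := ext_range (a := 35870) (len := 211) h170 f_170
  have h172 : ∀ u < 36292, (fun u => chkFin tab u) u = true := ext_range (a := 36081) (len := 211) h171 f_171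
  have h173 : ∀ u < 36503, (fun u => chkFin tab u) u = true := ext_range (a := 36292) (len := 211) h172 f_172
  have h174 : ∀ u < 36714, (fun u => chkFin tab u) u = true := ext_range (a := 36503) (len := 211) h173 f_173
  have h175 : ∀ u < 36925, (fun u => chkFin tab u) u = true := ext_range (a := 36714) (len := 211) h174 f_174
  have h176 : ∀ u < 37136, (fun u => chkFin tab u) u = true := ext_range (a := 36925) (len := 211) h175 f_175
  have h177 : ∀ u < 37347, (fun u => chkFin tab u) u = true := ext_range (a := 37136) (len := 211) h176 f_176
  have h178 : ∀ u < 37558, (fun u => chkFin tab u) u = true := ext_range (a := 37347) (len := 211) h177 f_177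
  have h179 : ∀ u < 37769, (fun u => chkFin tab u) u = true := ext_range (a := 37558) (len := 211) h178 f_178
  have h180 : ∀ u < 37980, (fun u => chkFin tab u) u = true := ext_range (a := 37769) (len := 211) h179 f_179
  have h181 : ∀ u < 38191, (fun u => chkFin tab u) u = true := ext_range (a := 37980) (len := 211) h180 f_180
  have h182 : ∀ u < 38402, (fun u => chkFin tab u) u = true := ext_range (a := 38191) (len := 211) h181 f_181
  have h183 : ∀ u < 38613, (fun u => chkFin tab u) u = true := ext_range (a := 38402) (len := 211) h182 f_182
  have h184 : ∀ u < 38824, (fun u => chkFin tab u) u = true := ext_range (a := 38613) (len := 211) h183 f_183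
  have h185 : ∀ u < 39035, (fun u => chkFin tab u) u = true := ext_range (a := 38824) (len := 211) h184 f_184
  have h186 : ∀ u < 39246, (fun u => chkFin tab u) u = true := ext_range (a := 39035) (len := 211) h185 f_185
  have h187 : ∀ u < 39457, (fun u => chkFin tab u) u = true := ext_range (a := 39246) (len := 211) h186 f_186
  have h188 : ∀ u < 39668, (fun u => chkFin tab u) u = true := ext_range (a := 39457) (len := 211) h187 f_187
  have h189 : ∀ u < 39879, (fun u => chkFin tab u) u = true := ext_range (a := 39668) (len := 211) h188 f_188
  have h190 : ∀ u < 40090, (fun u => chkFin tab u) u = true := ext_range (a := 39879) (len := 211) h189 f_189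
  have h191 : ∀ u < 40301, (fun u => chkFin tab u) u = true := ext_range (a := 40090) (len := 211) h190 f_190
  have h192 : ∀ u < 40512, (fun u => chkFin tab u) u = true := ext_range (a := 40301) (len := 211) h191 f_191
  have h193 : ∀ u < 40723, (fun u => chkFin tab u) u = true := ext_range (a := 40512) (len := 211) h192 f_192
  have h194 : ∀ u < 40934, (fun u => chkFin tab u) u = true := ext_range (a := 40723) (len := 211) h193 f_193
  have h195 : ∀ u < 41145, (fun u => chkFin tab u) u = true := ext_range (a := 40934) (len := 211) h194 f_194
  have h196 : ∀ u < 41356, (fun u => chkFin tab u) u = true := ext_range (a := 41145) (len := 211) h195 f_195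
  have h197 : ∀ u < 41567, (fun u => chkFin tab u) u = true := ext_range (a := 41356) (len := 211) h196 f_196
  have h198 : ∀ u < 41778, (fun u => chkFin tab u) u = true := ext_range (a := 41567) (len := 211) h197 f_197
  have h199 : ∀ u < 41989, (fun u => chkFin tab u) u = true := ext_range (a := 41778) (len := 211) h198 f_198
  have h200 : ∀ u < 42200, (fun u => chkFin tab u) u = true := ext_range (a := 41989) (len := 211) h199 f_199
  have h201 : ∀ u < 42411, (fun u => chkFin tab u) u = true := ext_range (a := 42200) (len := 211) h200 f_200
  have h202 : ∀ u < 42622, (fun u => chkFin tab u) u = true := ext_range (a := 42411) (len := 211) h201 f_201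
  have h203 : ∀ u < 42833, (fun u => chkFin tab u) u = true := ext_range (a := 42622) (len := 211) h202 f_202
  have h204 : ∀ u < 43044, (fun u => chkFin tab u) u = true := ext_range (a := 42833) (len := 211) h203 f_203
  have h205 : ∀ u < 43255, (fun u => chkFin tab u) u = true := ext_range (a := 43044) (len := 211) h204 f_204
  have h206 : ∀ u < 43466, (fun u => chkFin tab u) u = true := ext_range (a := 43255) (len := 211) h205 f_205
  have h207 : ∀ u < 43677, (fun u => chkFin tab u) u = true := ext_range (a := 43466) (len := 211) h206 f_206
  have h208 : ∀ u < 43888, (fun u => chkFin tab u) u = true := ext_range (a := 43677) (len := 211) h207 f_207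
  have h209 : ∀ u < 44099, (fun u => chkFin tab u) u = true := ext_range (a := 43888) (len := 211) h208 f_208
  have h210 : ∀ u < 44310, (fun u => chkFin tab u) u = true := ext_range (a := 44099) (len := 211) h209 f_209
  have h211 : ∀ u < 44521, (fun u => chkFin tab u) u = true := ext_range (a := 44310) (len := 211) h210 f_210
  have h212 : ∀ u < 44732, (fun u => chkFin tab u) u = true := ext_range (a := 44521) (len := 211) h211 f_211
  have h213 : ∀ u < 44943, (fun u => chkFin tab u) u = true := ext_range (a := 44732) (len := 211) h212 f_212
  have h214 : ∀ u < 45154, (fun u => chkFin tab u) u = true := ext_range (a := 44943) (len := 211) h213 f_213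
  have h215 : ∀ u < 45365, (fun u => chkFin tab u) u = true := ext_range (a := 45154) (len := 211) h214 f_214
  have h216 : ∀ u < 45576, (fun u => chkFin tab u) u = true := ext_range (a := 45365) (len := 211) h215 f_215
  have h217 : ∀ u < 45787, (fun u => chkFin tab u) u = true := ext_range (a := 45576) (len := 211) h216 f_216
  have h218 : ∀ u < 45998, (fun u => chkFin tab u) u = true := ext_range (a := 45787) (len := 211) h217 f_217
  have h219 : ∀ u < 46209, (fun u => chkFin tab u) u = true := ext_range (a := 45998) (len := 211) h218 f_218
  have h220 : ∀ u < 46420, (fun u => chkFin tab u) u = true := ext_range (a := 46209) (len := 211) h219 f_219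
  have h221 : ∀ u < 46631, (fun u => chkFin tab u) u = true := ext_range (a := 46420) (len := 211) h220 f_220
  have h222 : ∀ u < 46842, (fun u => chkFin tab u) u = true := ext_range (a := 46631) (len := 211) h221 f_221
  have h223 : ∀ u < 47053, (fun u => chkFin tab u) u = true := ext_range (a := 46842) (len := 211) h222 f_222
  have h224 : ∀ u < 47264, (fun u => chkFin tab u) u = true := ext_range (a := 47053) (len := 211) h223 f_223
  have h225 : ∀ u < 47475, (fun u => chkFin tab u) u = true := ext_range (a := 47264) (len := 211) h224 f_224
  have h226 : ∀ u < 47686, (fun u => chkFin tab u) u = true := ext_range (a := 47475) (len := 211) h225 f_225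
  have h227 : ∀ u < 47897, (fun u => chkFin tab u) u = true := ext_range (a := 47686) (len := 211) h226 f_226
  have h228 : ∀ u < 48108, (fun u => chkFin tab u) u = true := ext_range (a := 47897) (len := 211) h227 f_227
  have h229 : ∀ u < 48319, (fun u => chkFin tab u) u = true := ext_range (a := 48108) (len := 211) h228 f_228
  have h230 : ∀ u < 48530, (fun u => chkFin tab u) u = true := ext_range (a := 48319) (len := 211) h229 f_229
  have h231 : ∀ u < 48741, (fun u => chkFin tab u) u = true := ext_range (a := 48530) (len := 211) h230 f_230
  have h232 : ∀ u < 48952, (fun u => chkFin tab u) u = true := ext_range (a := 48741) (len := 211) h231 f_231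
  have h233 : ∀ u < 49163, (fun u => chkFin tab u) u = true := ext_range (a := 48952) (len := 211) h232 f_232
  have h234 : ∀ u < 49374, (fun u => chkFin tab u) u = true := ext_range (a := 49163) (len := 211) h233 f_233
  have h235 : ∀ u < 49585, (fun u => chkFin tab u) u = true := ext_range (a := 49374) (len := 211) h234 f_234
  have h236 : ∀ u < 49796, (fun u => chkFin tab u) u = true := ext_range (a := 49585) (len := 211) h235 f_235
  have h237 : ∀ u < 50007, (fun u => chkFin tab u) u = true := ext_range (a := 49796) (len := 211) h236 f_236
  have h238 : ∀ u < 50218, (fun u => chkFin tab u) u = true := ext_range (a := 50007) (len := 211) h237 f_237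
  have h239 : ∀ u < 50429, (fun u => chkFin tab u) u = true := ext_range (a := 50218) (len := 211) h238 f_238
  have h240 : ∀ u < 50640, (fun u => chkFin tab u) u = true := ext_range (a := 50429) (len := 211) h239 f_239
  have h241 : ∀ u < 50851, (fun u => chkFin tab u) u = true := ext_range (a := 50640) (len := 211) h240 f_240
  have h242 : ∀ u < 51062, (fun u => chkFin tab u) u = true := ext_range (a := 50851) (len := 211) h241 f_241
  have h243 : ∀ u < 51273, (fun u => chkFin tab u) u = true := ext_range (a := 51062) (len := 211) h242 f_242
  have h244 : ∀ u < 51484, (fun u => chkFin tab u) u = true := ext_range (a := 51273) (len := 211) h243 f_243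
  have h245 : ∀ u < 51695, (fun u => chkFin tab u) u = true := ext_range (a := 51484) (len := 211) h244 f_244
  have h246 : ∀ u < 51906, (fun u => chkFin tab u) u = true := ext_range (a := 51695) (len := 211) h245 f_245
  have h247 : ∀ u < 52117, (fun u => chkFin tab u) u = true := ext_range (a := 51906) (len := 211) h246 f_246
  have h248 : ∀ u < 52328, (fun u => chkFin tab u) u = true := ext_range (a := 52117) (len := 211) h247 f_247
  have h249 : ∀ u < 52539, (fun u => chkFin tab u) u = true := ext_range (a := 52328) (len := 211) h248 f_248
  have h250 : ∀ u < 52750, (fun u => chkFin tab u) u = true := ext_range (a := 52539) (len := 211) h249 f_249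
  have h251 : ∀ u < 52961, (fun u => chkFin tab u) u = true := ext_range (a := 52750) (len := 211) h250 f_250
  have h252 : ∀ u < 53172, (fun u => chkFin tab u) u = true := ext_range (a := 52961) (len := 211) h251 f_251
  have h253 : ∀ u < 53383, (fun u => chkFin tab u) u = true := ext_range (a := 53172) (len := 211) h252 f_252
  have h254 : ∀ u < 53594, (fun u => chkFin tab u) u = true := ext_range (a := 53383) (len := 211) h253 f_253
  have h255 : ∀ u < 53805, (fun u => chkFin tab u) u = true := ext_range (a := 53594) (len := 211) h254 f_254
  have h256 : ∀ u < 54016, (fun u => chkFin tab u) u = true := ext_range (a := 53805) (len := 211) h255 f_255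
  have h257 : ∀ u < 54227, (fun u => chkFin tab u) u = true := ext_range (a := 54016) (len := 211) h256 f_256
  have h258 : ∀ u < 54438, (fun u => chkFin tab u) u = true := ext_range (a := 54227) (len := 211) h257 f_257
  have h259 : ∀ u < 54649, (fun u => chkFin tab u) u = true := ext_range (a := 54438) (len := 211) h258 f_258
  have h260 : ∀ u < 54860, (fun u => chkFin tab u) u = true := ext_range (a := 54649) (len := 211) h259 f_259
  have h261 : ∀ u < 55071, (fun u => chkFin tab u) u = true := ext_range (a := 54860) (len := 211) h260 f_260
  have h262 : ∀ u < 55282, (fun u => chkFin tab u) u = true := ext_range (a := 55071) (len := 211) h261 f_261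
  have h263 : ∀ u < 55493, (fun u => chkFin tab u) u = true := ext_range (a := 55282) (len := 211) h262 f_262
  have h264 : ∀ u < 55704, (fun u => chkFin tab u) u = true := ext_range (a := 55493) (len := 211) h263 f_263
  have h265 : ∀ u < 55915, (fun u => chkFin tab u) u = true := ext_range (a := 55704) (len := 211) h264 f_264
  have h266 : ∀ u < 56126, (fun u => chkFin tab u) u = true := ext_range (a := 55915) (len := 211) h265 f_265
  have h267 : ∀ u < 56337, (fun u => chkFin tab u) u = true := ext_range (a := 56126) (len := 211) h266 f_266
  have h268 : ∀ u < 56548, (fun u => chkFin tab u) u = true := ext_range (a := 56337) (len := 211) h267 f_267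
  have h269 : ∀ u < 56759, (fun u => chkFin tab u) u = true := ext_range (a := 56548) (len := 211) h268 f_268
  have h270 : ∀ u < 56970, (fun u => chkFin tab u) u = true := ext_range (a := 56759) (len := 211) h269 f_269
  have h271 : ∀ u < 57181, (fun u => chkFin tab u) u = true := ext_range (a := 56970) (len := 211) h270 f_270
  have h272 : ∀ u < 57392, (fun u => chkFin tab u) u = true := ext_range (a := 57181) (len := 211) h271 f_271
  have h273 : ∀ u < 57603, (fun u => chkFin tab u) u = true := ext_range (a := 57392) (len := 211) h272 f_272
  have h274 : ∀ u < 57814, (fun u => chkFin tab u) u = true := ext_range (a := 57603) (len := 211) h273 f_273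
  have h275 : ∀ u < 58025, (fun u => chkFin tab u) u = true := ext_range (a := 57814) (len := 211) h274 f_274
  have h276 : ∀ u < 58236, (fun u => chkFin tab u) u = true := ext_range (a := 58025) (len := 211) h275 f_275
  have h277 : ∀ u < 58447, (fun u => chkFin tab u) u = true := ext_range (a := 58236) (len := 211) h276 f_276
  have h278 : ∀ u < 58658, (fun u => chkFin tab u) u = true := ext_range (a := 58447) (len := 211) h277 f_277
  have h279 : ∀ u < 58869, (fun u => chkFin tab u) u = true := ext_range (a := 58658) (len := 211) h278 f_278
  have h280 : ∀ u < 59080, (fun u => chkFin tab u) u = true := ext_range (a := 58869) (len := 211) h279 f_279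
  have h281 : ∀ u < 59291, (fun u => chkFin tab u) u = true := ext_range (a := 59080) (len := 211) h280 f_280
  have h282 : ∀ u < 59502, (fun u => chkFin tab u) u = true := ext_range (a := 59291) (len := 211) h281 f_281
  have h283 : ∀ u < 59713, (fun u => chkFin tab u) u = true := ext_range (a := 59502) (len := 211) h282 f_282
  have h284 : ∀ u < 59924, (fun u => chkFin tab u) u = true := ext_range (a := 59713) (len := 211) h283 f_283
  have h285 : ∀ u < 60135, (fun u => chkFin tab u) u = true := ext_range (a := 59924) (len := 211) h284 f_284
  have h286 : ∀ u < 60346, (fun u => chkFin tab u) u = true := ext_range (a := 60135) (len := 211) h285 f_285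
  have h287 : ∀ u < 60557, (fun u => chkFin tab u) u = true := ext_range (a := 60346) (len := 211) h286 f_286
  have h288 : ∀ u < 60768, (fun u => chkFin tab u) u = true := ext_range (a := 60557) (len := 211) h287 f_287
  have h289 : ∀ u < 60979, (fun u => chkFin tab u) u = true := ext_range (a := 60768) (len := 211) h288 f_288
  have h290 : ∀ u < 61190, (fun u => chkFin tab u) u = true := ext_range (a := 60979) (len := 211) h289 f_289
  have h291 : ∀ u < 61401, (fun u => chkFin tab u) u = true := ext_range (a := 61190) (len := 211) h290 f_290
  have h292 : ∀ u < 61612, (fun u => chkFin tab u) u = true := ext_range (a := 61401) (len := 211) h291 f_291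
  have h293 : ∀ u < 61823, (fun u => chkFin tab u) u = true := ext_range (a := 61612) (len := 211) h292 f_292
  have h294 : ∀ u < 62034, (fun u => chkFin tab u) u = true := ext_range (a := 61823) (len := 211) h293 f_293
  have h295 : ∀ u < 62245, (fun u => chkFin tab u) u = true := ext_range (a := 62034) (len := 211) h294 f_294
  have h296 : ∀ u < 62456, (fun u => chkFin tab u) u = true := ext_range (a := 62245) (len := 211) h295 f_295
  have h297 : ∀ u < 62667, (fun u => chkFin tab u) u = true := ext_range (a := 62456) (len := 211) h296 f_296
  have h298 : ∀ u < 62878, (fun u => chkFin tab u) u = true := ext_range (a := 62667) (len := 211) h297 f_297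
  have h299 : ∀ u < 63089, (fun u => chkFin tab u) u = true := ext_range (a := 62878) (len := 211) h298 f_298
  have h300 : ∀ u < 63300, (fun u => chkFin tab u) u = true := ext_range (a := 63089) (len := 211) h299 f_299
  have h301 : ∀ u < 63511, (fun u => chkFin tab u) u = true := ext_range (a := 63300) (len := 211) h300 f_300
  have h302 : ∀ u < 63722, (fun u => chkFin tab u) u = true := ext_range (a := 63511) (len := 211) h301 f_301
  have h303 : ∀ u < 63933, (fun u => chkFin tab u) u = true := ext_range (a := 63722) (len := 211) h302 f_302
  have h304 : ∀ u < 64144, (fun u => chkFin tab u) u = true := ext_range (a := 63933) (len := 211) h303 f_303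
  have h305 : ∀ u < 64355, (fun u => chkFin tab u) u = true := ext_range (a := 64144) (len := 211) h304 f_304
  have h306 : ∀ u < 64566, (fun u => chkFin tab u) u = true := ext_range (a := 64355) (len := 211) h305 f_305
  have h307 : ∀ u < 64777, (fun u => chkFin tab u) u = true := ext_range (a := 64566) (len := 211) h306 f_306
  have h308 : ∀ u < 64988, (fun u => chkFin tab u) u = true := ext_range (a := 64777) (len := 211) h307 f_307
  have h309 : ∀ u < 65199, (fun u => chkFin tab u) u = true := ext_range (a := 64988) (len := 211) h308 f_308
  have h310 : ∀ u < 65410, (fun u => chkFin tab u) u = true := ext_range (a := 65199) (len := 211) h309 f_309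
  have h311 : ∀ u < 65621, (fun u => chkFin tab u) u = true := ext_range (a := 65410) (len := 211) h310 f_310
  have h312 : ∀ u < 65832, (fun u => chkFin tab u) u = true := ext_range (a := 65621) (len := 211) h311 f_311
  have h313 : ∀ u < 66043, (fun u => chkFin tab u) u = true := ext_range (a := 65832) (len := 211) h312 f_312
  have h314 : ∀ u < 66254, (fun u => chkFin tab u) u = true := ext_range (a := 66043) (len := 211) h313 f_313
  have h315 : ∀ u < 66465, (fun u => chkFin tab u) u = true := ext_range (a := 66254) (len := 211) h314 f_314
  have h316 : ∀ u < 66676, (fun u => chkFin tab u) u = true := ext_range (a := 66465) (len := 211) h315 f_315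
  have h317 : ∀ u < 66887, (fun u => chkFin tab u) u = true := ext_range (a := 66676) (len := 211) h316 f_316
  have h318 : ∀ u < 67098, (fun u => chkFin tab u) u = true := ext_range (a := 66887) (len := 211) h317 f_317
  have h319 : ∀ u < 67309, (fun u => chkFin tab u) u = true := ext_range (a := 67098) (len := 211) h318 f_318
  have h320 : ∀ u < 67520, (fun u => chkFin tab u) u = true := ext_range (a := 67309) (len := 211) h319 f_319
  have h321 : ∀ u < 67731, (fun u => chkFin tab u) u = true := ext_range (a := 67520) (len := 211) h320 f_320
  have h322 : ∀ u < 67942, (fun u => chkFin tab u) u = true := ext_range (a := 67731) (len := 211) h321 f_321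
  have h323 : ∀ u < 68153, (fun u => chkFin tab u) u = true := ext_range (a := 67942) (len := 211) h322 f_322
  have h324 : ∀ u < 68364, (fun u => chkFin tab u) u = true := ext_range (a := 68153) (len := 211) h323 f_323
  have h325 : ∀ u < 68575, (fun u => chkFin tab u) u = true := ext_range (a := 68364) (len := 211) h324 f_324
  have h326 : ∀ u < 68786, (fun u => chkFin tab u) u = true := ext_range (a := 68575) (len := 211) h325 f_325
  have h327 : ∀ u < 68997, (fun u => chkFin tab u) u = true := ext_range (a := 68786) (len := 211) h326 f_326
  have h328 : ∀ u < 69208, (fun u => chkFin tab u) u = true := ext_range (a := 68997) (len := 211) h327 f_327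
  have h329 : ∀ u < 69419, (fun u => chkFin tab u) u = true := ext_range (a := 69208) (len := 211) h328 f_328
  have h330 : ∀ u < 69630, (fun u => chkFin tab u) u = true := ext_range (a := 69419) (len := 211) h329 f_329
  have h331 : ∀ u < 69841, (fun u => chkFin tab u) u = true := ext_range (a := 69630) (len := 211) h330 f_330
  have h332 : ∀ u < 70052, (fun u => chkFin tab u) u = true := ext_range (a := 69841) (len := 211) h331 f_331
  have h333 : ∀ u < 70263, (fun u => chkFin tab u) u = true := ext_range (a := 70052) (len := 211) h332 f_332
  have h334 : ∀ u < 70474, (fun u => chkFin tab u) u = true := ext_range (a := 70263) (len := 211) h333 f_333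
  have h335 : ∀ u < 70685, (fun u => chkFin tab u) u = true := ext_range (a := 70474) (len := 211) h334 f_334
  have h336 : ∀ u < 70896, (fun u => chkFin tab u) u = true := ext_range (a := 70685) (len := 211) h335 f_335
  have h337 : ∀ u < 71107, (fun u => chkFin tab u) u = true := ext_range (a := 70896) (len := 211) h336 f_336
  have h338 : ∀ u < 71318, (fun u => chkFin tab u) u = true := ext_range (a := 71107) (len := 211) h337 f_337
  have h339 : ∀ u < 71529, (fun u => chkFin tab u) u = true := ext_range (a := 71318) (len := 211) h338 f_338
  have h340 : ∀ u < 71740, (fun u => chkFin tab u) u = true := ext_range (a := 71529) (len := 211) h339 f_339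
  have h341 : ∀ u < 71951, (fun u => chkFin tab u) u = true := ext_range (a := 71740) (len := 211) h340 f_340
  have h342 : ∀ u < 72162, (fun u => chkFin tab u) u = true := ext_range (a := 71951) (len := 211) h341 f_341
  have h343 : ∀ u < 72373, (fun u => chkFin tab u) u = true := ext_range (a := 72162) (len := 211) h342 f_342
  have h344 : ∀ u < 72584, (fun u => chkFin tab u) u = true := ext_range (a := 72373) (len := 211) h343 f_343
  have h345 : ∀ u < 72795, (fun u => chkFin tab u) u = true := ext_range (a := 72584) (len := 211) h344 f_344
  have h346 : ∀ u < 73006, (fun u => chkFin tab u) u = true := ext_range (a := 72795) (len := 211) h345 f_345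
  have h347 : ∀ u < 73217, (fun u => chkFin tab u) u = true := ext_range (a := 73006) (len := 211) h346 f_346
  have h348 : ∀ u < 73428, (fun u => chkFin tab u) u = true := ext_range (a := 73217) (len := 211) h347 f_347
  have h349 : ∀ u < 73639, (fun u => chkFin tab u) u = true := ext_range (a := 73428) (len := 211) h348 f_348
  have h350 : ∀ u < 73850, (fun u => chkFin tab u) u = true := ext_range (a := 73639) (len := 211) h349 f_349
  have h351 : ∀ u < 74061, (fun u => chkFin tab u) u = true := ext_range (a := 73850) (len := 211) h350 f_350
  have h352 : ∀ u < 74272, (fun u => chkFin tab u) u = true := ext_range (a := 74061) (len := 211) h351 f_351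
  have h353 : ∀ u < 74483, (fun u => chkFin tab u) u = true := ext_range (a := 74272) (len := 211) h352 f_352
  have h354 : ∀ u < 74694, (fun u => chkFin tab u) u = true := ext_range (a := 74483) (len := 211) h353 f_353
  have h355 : ∀ u < 74905, (fun u => chkFin tab u) u = true := ext_range (a := 74694) (len := 211) h354 f_354
  have h356 : ∀ u < 75116, (fun u => chkFin tab u) u = true := ext_range (a := 74905) (len := 211) h355 f_355
  have h357 : ∀ u < 75327, (fun u => chkFin tab u) u = true := ext_range (a := 75116) (len := 211) h356 f_356
  have h358 : ∀ u < 75538, (fun u => chkFin tab u) u = true := ext_range (a := 75327) (len := 211) h357 f_357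
  have h359 : ∀ u < 75749, (fun u => chkFin tab u) u = true := ext_range (a := 75538) (len := 211) h358 f_358
  have h360 : ∀ u < 75960, (fun u => chkFin tab u) u = true := ext_range (a := 75749) (len := 211) h359 f_359
  have h361 : ∀ u < 76171, (fun u => chkFin tab u) u = true := ext_range (a := 75960) (len := 211) h360 f_360
  have h362 : ∀ u < 76382, (fun u => chkFin tab u) u = true := ext_range (a := 76171) (len := 211) h361 f_361
  have h363 : ∀ u < 76593, (fun u => chkFin tab u) u = true := ext_range (a := 76382) (len := 211) h362 f_362
  have h364 : ∀ u < 76804, (fun u => chkFin tab u) u = true := ext_range (a := 76593) (len := 211) h363 f_363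
  have h365 : ∀ u < 77015, (fun u => chkFin tab u) u = true := ext_range (a := 76804) (len := 211) h364 f_364
  have h366 : ∀ u < 77226, (fun u => chkFin tab u) u = true := ext_range (a := 77015) (len := 211) h365 f_365
  have h367 : ∀ u < 77437, (fun u => chkFin tab u) u = true := ext_range (a := 77226) (len := 211) h366 f_366
  have h368 : ∀ u < 77648, (fun u => chkFin tab u) u = true := ext_range (a := 77437) (len := 211) h367 f_367
  have h369 : ∀ u < 77859, (fun u => chkFin tab u) u = true := ext_range (a := 77648) (len := 211) h368 f_368
  have h370 : ∀ u < 78070, (fun u => chkFin tab u) u = true := ext_range (a := 77859) (len := 211) h369 f_369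
  have h371 : ∀ u < 78281, (fun u => chkFin tab u) u = true := ext_range (a := 78070) (len := 211) h370 f_370
  have h372 : ∀ u < 78492, (fun u => chkFin tab u) u = true := ext_range (a := 78281) (len := 211) h371 f_371
  have h373 : ∀ u < 78703, (fun u => chkFin tab u) u = true := ext_range (a := 78492) (len := 211) h372 f_372
  have h374 : ∀ u < 78914, (fun u => chkFin tab u) u = true := ext_range (a := 78703) (len := 211) h373 f_373
  have h375 : ∀ u < 79125, (fun u => chkFin tab u) u = true := ext_range (a := 78914) (len := 211) h374 f_374
  have h376 : ∀ u < 79336, (fun u => chkFin tab u) u = true := ext_range (a := 79125) (len := 211) h375 f_375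
  have h377 : ∀ u < 79547, (fun u => chkFin tab u) u = true := ext_range (a := 79336) (len := 211) h376 f_376
  have h378 : ∀ u < 79758, (fun u => chkFin tab u) u = true := ext_range (a := 79547) (len := 211) h377 f_377
  have h379 : ∀ u < 79969, (fun u => chkFin tab u) u = true := ext_range (a := 79758) (len := 211) h378 f_378
  have h380 : ∀ u < 80180, (fun u => chkFin tab u) u = true := ext_range (a := 79969) (len := 211) h379 f_379
  have h381 : ∀ u < 80391, (fun u => chkFin tab u) u = true := ext_range (a := 80180) (len := 211) h380 f_380
  have h382 : ∀ u < 80602, (fun u => chkFin tab u) u = true := ext_range (a := 80391) (len := 211) h381 f_381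
  have h383 : ∀ u < 80813, (fun u => chkFin tab u) u = true := ext_range (a := 80602) (len := 211) h382 f_382
  have h384 : ∀ u < 81024, (fun u => chkFin tab u) u = true := ext_range (a := 80813) (len := 211) h383 f_383
  have h385 : ∀ u < 81235, (fun u => chkFin tab u) u = true := ext_range (a := 81024) (len := 211) h384 f_384
  have h386 : ∀ u < 81446, (fun u => chkFin tab u) u = true := ext_range (a := 81235) (len := 211) h385 f_385
  have h387 : ∀ u < 81657, (fun u => chkFin tab u) u = true := ext_range (a := 81446) (len := 211) h386 f_386
  have h388 : ∀ u < 81868, (fun u => chkFin tab u) u = true := ext_range (a := 81657) (len := 211) h387 f_387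
  have h389 : ∀ u < 82079, (fun u => chkFin tab u) u = true := ext_range (a := 81868) (len := 211) h388 f_388
  have h390 : ∀ u < 82290, (fun u => chkFin tab u) u = true := ext_range (a := 82079) (len := 211) h389 f_389
  have h391 : ∀ u < 82501, (fun u => chkFin tab u) u = true := ext_range (a := 82290) (len := 211) h390 f_390
  have h392 : ∀ u < 82712, (fun u => chkFin tab u) u = true := ext_range (a := 82501) (len := 211) h391 f_391
  have h393 : ∀ u < 82923, (fun u => chkFin tab u) u = true := ext_range (a := 82712) (len := 211) h392 f_392
  have h394 : ∀ u < 83134, (fun u => chkFin tab u) u = true := ext_range (a := 82923) (len := 211) h393 f_393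
  have h395 : ∀ u < 83345, (fun u => chkFin tab u) u = true := ext_range (a := 83134) (len := 211) h394 f_394
  have h396 : ∀ u < 83556, (fun u => chkFin tab u) u = true := ext_range (a := 83345) (len := 211) h395 f_395
  have h397 : ∀ u < 83767, (fun u => chkFin tab u) u = true := ext_range (a := 83556) (len := 211) h396 f_396
  have h398 : ∀ u < 83978, (fun u => chkFin tab u) u = true := ext_range (a := 83767) (len := 211) h397 f_397
  have h399 : ∀ u < 84189, (fun u => chkFin tab u) u = true := ext_range (a := 83978) (len := 211) h398 f_398
  have h400 : ∀ u < 84400, (fun u => chkFin tab u) u = true := ext_range (a := 84189) (len := 211) h399 f_399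
  have h401 : ∀ u < 84611, (fun u => chkFin tab u) u = true := ext_range (a := 84400) (len := 211) h400 f_400
  have h402 : ∀ u < 84822, (fun u => chkFin tab u) u = true := ext_range (a := 84611) (len := 211) h401 f_401
  have h403 : ∀ u < 85033, (fun u => chkFin tab u) u = true := ext_range (a := 84822) (len := 211) h402 f_402
  have h404 : ∀ u < 85244, (fun u => chkFin tab u) u = true := ext_range (a := 85033) (len := 211) h403 f_403
  have h405 : ∀ u < 85455, (fun u => chkFin tab u) u = true := ext_range (a := 85244) (len := 211) h404 f_404
  have h406 : ∀ u < 85666, (fun u => chkFin tab u) u = true := ext_range (a := 85455) (len := 211) h405 f_405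
  have h407 : ∀ u < 85877, (fun u => chkFin tab u) u = true := ext_range (a := 85666) (len := 211) h406 f_406
  have h408 : ∀ u < 86088, (fun u => chkFin tab u) u = true := ext_range (a := 85877) (len := 211) h407 f_407
  have h409 : ∀ u < 86299, (fun u => chkFin tab u) u = true := ext_range (a := 86088) (len := 211) h408 f_408
  have h410 : ∀ u < 86510, (fun u => chkFin tab u) u = true := ext_range (a := 86299) (len := 211) h409 f_409
  have h411 : ∀ u < 86721, (fun u => chkFin tab u) u = true := ext_range (a := 86510) (len := 211) h410 f_410
  have h412 : ∀ u < 86932, (fun u => chkFin tab u) u = true := ext_range (a := 86721) (len := 211) h411 f_411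
  have h413 : ∀ u < 87143, (fun u => chkFin tab u) u = true := ext_range (a := 86932) (len := 211) h412 f_412
  have h414 : ∀ u < 87354, (fun u => chkFin tab u) u = true := ext_range (a := 87143) (len := 211) h413 f_413
  have h415 : ∀ u < 87565, (fun u => chkFin tab u) u = true := ext_range (a := 87354) (len := 211) h414 f_414
  have h416 : ∀ u < 87776, (fun u => chkFin tab u) u = true := ext_range (a := 87565) (len := 211) h415 f_415
  have h417 : ∀ u < 87987, (fun u => chkFin tab u) u = true := ext_range (a := 87776) (len := 211) h416 f_416
  have h418 : ∀ u < 88198, (fun u => chkFin tab u) u = true := ext_range (a := 87987) (len := 211) h417 f_417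
  have h419 : ∀ u < 88409, (fun u => chkFin tab u) u = true := ext_range (a := 88198) (len := 211) h418 f_418
  have h420 : ∀ u < 88620, (fun u => chkFin tab u) u = true := ext_range (a := 88409) (len := 211) h419 f_419
  have h421 : ∀ u < 88831, (fun u => chkFin tab u) u = true := ext_range (a := 88620) (len := 211) h420 f_420
  have h422 : ∀ u < 89042, (fun u => chkFin tab u) u = true := ext_range (a := 88831) (len := 211) h421 f_421
  have h423 : ∀ u < 89253, (fun u => chkFin tab u) u = true := ext_range (a := 89042) (len := 211) h422 f_422
  have h424 : ∀ u < 89464, (fun u => chkFin tab u) u = true := ext_range (a := 89253) (len := 211) h423 f_423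
  have h425 : ∀ u < 89675, (fun u => chkFin tab u) u = true := ext_range (a := 89464) (len := 211) h424 f_424
  have h426 : ∀ u < 89886, (fun u => chkFin tab u) u = true := ext_range (a := 89675) (len := 211) h425 f_425
  have h427 : ∀ u < 90097, (fun u => chkFin tab u) u = true := ext_range (a := 89886) (len := 211) h426 f_426
  have h428 : ∀ u < 90308, (fun u => chkFin tab u) u = true := ext_range (a := 90097) (len := 211) h427 f_427
  have h429 : ∀ u < 90519, (fun u => chkFin tab u) u = true := ext_range (a := 90308) (len := 211) h428 f_428
  have h430 : ∀ u < 90730, (fun u => chkFin tab u) u = true := ext_range (a := 90519) (len := 211) h429 f_429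
  have h431 : ∀ u < 90941, (fun u => chkFin tab u) u = true := ext_range (a := 90730) (len := 211) h430 f_430
  have h432 : ∀ u < 91152, (fun u => chkFin tab u) u = true := ext_range (a := 90941) (len := 211) h431 f_431
  have h433 : ∀ u < 91363, (fun u => chkFin tab u) u = true := ext_range (a := 91152) (len := 211) h432 f_432
  have h434 : ∀ u < 91574, (fun u => chkFin tab u) u = true := ext_range (a := 91363) (len := 211) h433 f_433
  have h435 : ∀ u < 91785, (fun u => chkFin tab u) u = true := ext_range (a := 91574) (len := 211) h434 f_434
  have h436 : ∀ u < 91996, (fun u => chkFin tab u) u = true := ext_range (a := 91785) (len := 211) h435 f_435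
  have h437 : ∀ u < 92207, (fun u => chkFin tab u) u = true := ext_range (a := 91996) (len := 211) h436 f_436
  have h438 : ∀ u < 92418, (fun u => chkFin tab u) u = true := ext_range (a := 92207) (len := 211) h437 f_437
  have h439 : ∀ u < 92629, (fun u => chkFin tab u) u = true := ext_range (a := 92418) (len := 211) h438 f_438
  have h440 : ∀ u < 92840, (fun u => chkFin tab u) u = true := ext_range (a := 92629) (len := 211) h439 f_439
  have h441 : ∀ u < 93051, (fun u => chkFin tab u) u = true := ext_range (a := 92840) (len := 211) h440 f_440
  have h442 : ∀ u < 93262, (fun u => chkFin tab u) u = true := ext_range (a := 93051) (len := 211) h441 f_441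
  have h443 : ∀ u < 93473, (fun u => chkFin tab u) u = true := ext_range (a := 93262) (len := 211) h442 f_442
  have h444 : ∀ u < 93684, (fun u => chkFin tab u) u = true := ext_range (a := 93473) (len := 211) h443 f_443
  have h445 : ∀ u < 93895, (fun u => chkFin tab u) u = true := ext_range (a := 93684) (len := 211) h444 f_444
  have h446 : ∀ u < 94106, (fun u => chkFin tab u) u = true := ext_range (a := 93895) (len := 211) h445 f_445
  have h447 : ∀ u < 94317, (fun u => chkFin tab u) u = true := ext_range (a := 94106) (len := 211) h446 f_446
  have h448 : ∀ u < 94528, (fun u => chkFin tab u) u = true := ext_range (a := 94317) (len := 211) h447 f_447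
  have h449 : ∀ u < 94739, (fun u => chkFin tab u) u = true := ext_range (a := 94528) (len := 211) h448 f_448
  have h450 : ∀ u < 94950, (fun u => chkFin tab u) u = true := ext_range (a := 94739) (len := 211) h449 f_449
  have h451 : ∀ u < 95161, (fun u => chkFin tab u) u = true := ext_range (a := 94950) (len := 211) h450 f_450
  have h452 : ∀ u < 95372, (fun u => chkFin tab u) u = true := ext_range (a := 95161) (len := 211) h451 f_451
  have h453 : ∀ u < 95583, (fun u => chkFin tab u) u = true := ext_range (a := 95372) (len := 211) h452 f_452
  have h454 : ∀ u < 95794, (fun u => chkFin tab u) u = true := ext_range (a := 95583) (len := 211) h453 f_453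
  have h455 : ∀ u < 96005, (fun u => chkFin tab u) u = true := ext_range (a := 95794) (len := 211) h454 f_454
  have h456 : ∀ u < 96216, (fun u => chkFin tab u) u = true := ext_range (a := 96005) (len := 211) h455 f_455
  have h457 : ∀ u < 96427, (fun u => chkFin tab u) u = true := ext_range (a := 96216) (len := 211) h456 f_456
  have h458 : ∀ u < 96638, (fun u => chkFin tab u) u = true := ext_range (a := 96427) (len := 211) h457 f_457
  have h459 : ∀ u < 96849, (fun u => chkFin tab u) u = true := ext_range (a := 96638) (len := 211) h458 f_458
  have h460 : ∀ u < 97060, (fun u => chkFin tab u) u = true := ext_range (a := 96849) (len := 211) h459 f_459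
  have h461 : ∀ u < 97271, (fun u => chkFin tab u) u = true := ext_range (a := 97060) (len := 211) h460 f_460
  have h462 : ∀ u < 97482, (fun u => chkFin tab u) u = true := ext_range (a := 97271) (len := 211) h461 f_461
  have h463 : ∀ u < 97693, (fun u => chkFin tab u) u = true := ext_range (a := 97482) (len := 211) h462 f_462
  have h464 : ∀ u < 97904, (fun u => chkFin tab u) u = true := ext_range (a := 97693) (len := 211) h463 f_463
  have h465 : ∀ u < 98115, (fun u => chkFin tab u) u = true := ext_range (a := 97904) (len := 211) h464 f_464
  have h466 : ∀ u < 98326, (fun u => chkFin tab u) u = true := ext_range (a := 98115) (len := 211) h465 f_465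
  have h467 : ∀ u < 98537, (fun u => chkFin tab u) u = true := ext_range (a := 98326) (len := 211) h466 f_466
  have h468 : ∀ u < 98748, (fun u => chkFin tab u) u = true := ext_range (a := 98537) (len := 211) h467 f_467
  have h469 : ∀ u < 98959, (fun u => chkFin tab u) u = true := ext_range (a := 98748) (len := 211) h468 f_468
  have h470 : ∀ u < 99170, (fun u => chkFin tab u) u = true := ext_range (a := 98959) (len := 211) h469 f_469
  have h471 : ∀ u < 99381, (fun u => chkFin tab u) u = true := ext_range (a := 99170) (len := 211) h470 f_470
  have h472 : ∀ u < 99592, (fun u => chkFin tab u) u = true := ext_range (a := 99381) (len := 211) h471 f_471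
  have h473 : ∀ u < 99803, (fun u => chkFin tab u) u = true := ext_range (a := 99592) (len := 211) h472 f_472
  have h474 : ∀ u < 100014, (fun u => chkFin tab u) u = true := ext_range (a := 99803) (len := 211) h473 f_473
  have h475 : ∀ u < 100225, (fun u => chkFin tab u) u = true := ext_range (a := 100014) (len := 211) h474 f_474
  have h476 : ∀ u < 100436, (fun u => chkFin tab u) u = true := ext_range (a := 100225) (len := 211) h475 f_475
  have h477 : ∀ u < 100647, (fun u => chkFin tab u) u = true := ext_range (a := 100436) (len := 211) h476 f_476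
  have h478 : ∀ u < 100858, (fun u => chkFin tab u) u = true := ext_range (a := 100647) (len := 211) h477 f_477
  have h479 : ∀ u < 101069, (fun u => chkFin tab u) u = true := ext_range (a := 100858) (len := 211) h478 f_478
  have h480 : ∀ u < 101280, (fun u => chkFin tab u) u = true := ext_range (a := 101069) (len := 211) h479 f_479
  have h481 : ∀ u < 101491, (fun u => chkFin tab u) u = true := ext_range (a := 101280) (len := 211) h480 f_480
  have h482 : ∀ u < 101702, (fun u => chkFin tab u) u = true := ext_range (a := 101491) (len := 211) h481 f_481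
  have h483 : ∀ u < 101913, (fun u => chkFin tab u) u = true := ext_range (a := 101702) (len := 211) h482 f_482
  have h484 : ∀ u < 102124, (fun u => chkFin tab u) u = true := ext_range (a := 101913) (len := 211) h483 f_483
  have h485 : ∀ u < 102335, (fun u => chkFin tab u) u = true := ext_range (a := 102124) (len := 211) h484 f_484
  have h486 : ∀ u < 102546, (fun u => chkFin tab u) u = true := ext_range (a := 102335) (len := 211) h485 f_485
  have h487 : ∀ u < 102757, (fun u => chkFin tab u) u = true := ext_range (a := 102546) (len := 211) h486 f_486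
  have h488 : ∀ u < 102968, (fun u => chkFin tab u) u = true := ext_range (a := 102757) (len := 211) h487 f_487
  have h489 : ∀ u < 103179, (fun u => chkFin tab u) u = true := ext_range (a := 102968) (len := 211) h488 f_488
  have h490 : ∀ u < 103390, (fun u => chkFin tab u) u = true := ext_range (a := 103179) (len := 211) h489 f_489
  have h491 : ∀ u < 103601, (fun u => chkFin tab u) u = true := ext_range (a := 103390) (len := 211) h490 f_490
  have h492 : ∀ u < 103812, (fun u => chkFin tab u) u = true := ext_range (a := 103601) (len := 211) h491 f_491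
  have h493 : ∀ u < 104023, (fun u => chkFin tab u) u = true := ext_range (a := 103812) (len := 211) h492 f_492
  have h494 : ∀ u < 104234, (fun u => chkFin tab u) u = true := ext_range (a := 104023) (len := 211) h493 f_493
  have h495 : ∀ u < 104445, (fun u => chkFin tab u) u = true := ext_range (a := 104234) (len := 211) h494 f_494
  have h496 : ∀ u < 104656, (fun u => chkFin tab u) u = true := ext_range (a := 104445) (len := 211) h495 f_495
  have h497 : ∀ u < 104867, (fun u => chkFin tab u) u = true := ext_range (a := 104656) (len := 211) h496 f_496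
  have h498 : ∀ u < 105078, (fun u => chkFin tab u) u = true := ext_range (a := 104867) (len := 211) h497 f_497
  have h499 : ∀ u < 105289, (fun u => chkFin tab u) u = true := ext_range (a := 105078) (len := 211) h498 f_498
  have h500 : ∀ u < 105500, (fun u => chkFin tab u) u = true := ext_range (a := 105289) (len := 211) h499 f_499
  have h501 : ∀ u < 105711, (fun u => chkFin tab u) u = true := ext_range (a := 105500) (len := 211) h500 f_500
  have h502 : ∀ u < 105922, (fun u => chkFin tab u) u = true := ext_range (a := 105711) (len := 211) h501 f_501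
  have h503 : ∀ u < 106133, (fun u => chkFin tab u) u = true := ext_range (a := 105922) (len := 211) h502 f_502
  have h504 : ∀ u < 106344, (fun u => chkFin tab u) u = true := ext_range (a := 106133) (len := 211) h503 f_503
  have h505 : ∀ u < 106555, (fun u => chkFin tab u) u = true := ext_range (a := 106344) (len := 211) h504 f_504
  have h506 : ∀ u < 106766, (fun u => chkFin tab u) u = true := ext_range (a := 106555) (len := 211) h505 f_505
  have h507 : ∀ u < 106977, (fun u => chkFin tab u) u = true := ext_range (a := 106766) (len := 211) h506 f_506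
  have h508 : ∀ u < 107188, (fun u => chkFin tab u) u = true := ext_range (a := 106977) (len := 211) h507 f_507
  have h509 : ∀ u < 107399, (fun u => chkFin tab u) u = true := ext_range (a := 107188) (len := 211) h508 f_508
  have h510 : ∀ u < 107610, (fun u => chkFin tab u) u = true := ext_range (a := 107399) (len := 211) h509 f_509
  have h511 : ∀ u < 107821, (fun u => chkFin tab u) u = true := ext_range (a := 107610) (len := 211) h510 f_510
  have h512 : ∀ u < 108032, (fun u => chkFin tab u) u = true := ext_range (a := 107821) (len := 211) h511 f_511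
  have h513 : ∀ u < 108243, (fun u => chkFin tab u) u = true := ext_range (a := 108032) (len := 211) h512 f_512
  have h514 : ∀ u < 108454, (fun u => chkFin tab u) u = true := ext_range (a := 108243) (len := 211) h513 f_513
  have h515 : ∀ u < 108665, (fun u => chkFin tab u) u = true := ext_range (a := 108454) (len := 211) h514 f_514
  have h516 : ∀ u < 108876, (fun u => chkFin tab u) u = true := ext_range (a := 108665) (len := 211) h515 f_515
  have h517 : ∀ u < 109087, (fun u => chkFin tab u) u = true := ext_range (a := 108876) (len := 211) h516 f_516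
  have h518 : ∀ u < 109298, (fun u => chkFin tab u) u = true := ext_range (a := 109087) (len := 211) h517 f_517
  have h519 : ∀ u < 109509, (fun u => chkFin tab u) u = true := ext_range (a := 109298) (len := 211) h518 f_518
  have h520 : ∀ u < 109720, (fun u => chkFin tab u) u = true := ext_range (a := 109509) (len := 211) h519 f_519
  have h521 : ∀ u < 109931, (fun u => chkFin tab u) u = true := ext_range (a := 109720) (len := 211) h520 f_520
  have h522 : ∀ u < 110142, (fun u => chkFin tab u) u = true := ext_range (a := 109931) (len := 211) h521 f_521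
  have h523 : ∀ u < 110353, (fun u => chkFin tab u) u = true := ext_range (a := 110142) (len := 211) h522 f_522
  have h524 : ∀ u < 110564, (fun u => chkFin tab u) u = true := ext_range (a := 110353) (len := 211) h523 f_523
  have h525 : ∀ u < 110775, (fun u => chkFin tab u) u = true := ext_range (a := 110564) (len := 211) h524 f_524
  have h526 : ∀ u < 110986, (fun u => chkFin tab u) u = true := ext_range (a := 110775) (len := 211) h525 f_525
  have h527 : ∀ u < 111197, (fun u => chkFin tab u) u = true := ext_range (a := 110986) (len := 211) h526 f_526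
  have h528 : ∀ u < 111408, (fun u => chkFin tab u) u = true := ext_range (a := 111197) (len := 211) h527 f_527
  have h529 : ∀ u < 111619, (fun u => chkFin tab u) u = true := ext_range (a := 111408) (len := 211) h528 f_528
  have h530 : ∀ u < 111830, (fun u => chkFin tab u) u = true := ext_range (a := 111619) (len := 211) h529 f_529
  have h531 : ∀ u < 112041, (fun u => chkFin tab u) u = true := ext_range (a := 111830) (len := 211) h530 f_530
  have h532 : ∀ u < 112252, (fun u => chkFin tab u) u = true := ext_range (a := 112041) (len := 211) h531 f_531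
  have h533 : ∀ u < 112463, (fun u => chkFin tab u) u = true := ext_range (a := 112252) (len := 211) h532 f_532
  have h534 : ∀ u < 112674, (fun u => chkFin tab u) u = true := ext_range (a := 112463) (len := 211) h533 f_533
  have h535 : ∀ u < 112885, (fun u => chkFin tab u) u = true := ext_range (a := 112674) (len := 211) h534 f_534
  have h536 : ∀ u < 113096, (fun u => chkFin tab u) u = true := ext_range (a := 112885) (len := 211) h535 f_535
  have h537 : ∀ u < 113307, (fun u => chkFin tab u) u = true := ext_range (a := 113096) (len := 211) h536 f_536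
  have h538 : ∀ u < 113518, (fun u => chkFin tab u) u = true := ext_range (a := 113307) (len := 211) h537 f_537
  have h539 : ∀ u < 113729, (fun u => chkFin tab u) u = true := ext_range (a := 113518) (len := 211) h538 f_538
  have h540 : ∀ u < 113940, (fun u => chkFin tab u) u = true := ext_range (a := 113729) (len := 211) h539 f_539
  have h541 : ∀ u < 114151, (fun u => chkFin tab u) u = true := ext_range (a := 113940) (len := 211) h540 f_540
  have h542 : ∀ u < 114362, (fun u => chkFin tab u) u = true := ext_range (a := 114151) (len := 211) h541 f_541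
  have h543 : ∀ u < 114573, (fun u => chkFin tab u) u = true := ext_range (a := 114362) (len := 211) h542 f_542
  have h544 : ∀ u < 114784, (fun u => chkFin tab u) u = true := ext_range (a := 114573) (len := 211) h543 f_543
  have h545 : ∀ u < 114995, (fun u => chkFin tab u) u = true := ext_range (a := 114784) (len := 211) h544 f_544
  have h546 : ∀ u < 115206, (fun u => chkFin tab u) u = true := ext_range (a := 114995) (len := 211) h545 f_545
  have h547 : ∀ u < 115417, (fun u => chkFin tab u) u = true := ext_range (a := 115206) (len := 211) h546 f_546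
  have h548 : ∀ u < 115628, (fun u => chkFin tab u) u = true := ext_range (a := 115417) (len := 211) h547 f_547
  have h549 : ∀ u < 115839, (fun u => chkFin tab u) u = true := ext_range (a := 115628) (len := 211) h548 f_548
  have h550 : ∀ u < 116050, (fun u => chkFin tab u) u = true := ext_range (a := 115839) (len := 211) h549 f_549
  have h551 : ∀ u < 116261, (fun u => chkFin tab u) u = true := ext_range (a := 116050) (len := 211) h550 f_550
  have h552 : ∀ u < 116472, (fun u => chkFin tab u) u = true := ext_range (a := 116261) (len := 211) h551 f_551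
  have h553 : ∀ u < 116683, (fun u => chkFin tab u) u = true := ext_range (a := 116472) (len := 211) h552 f_552
  have h554 : ∀ u < 116894, (fun u => chkFin tab u) u = true := ext_range (a := 116683) (len := 211) h553 f_553
  have h555 : ∀ u < 117105, (fun u => chkFin tab u) u = true := ext_range (a := 116894) (len := 211) h554 f_554
  have h556 : ∀ u < 117316, (fun u => chkFin tab u) u = true := ext_range (a := 117105) (len := 211) h555 f_555
  have h557 : ∀ u < 117527, (fun u => chkFin tab u) u = true := ext_range (a := 117316) (len := 211) h556 f_556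
  have h558 : ∀ u < 117738, (fun u => chkFin tab u) u = true := ext_range (a := 117527) (len := 211) h557 f_557
  have h559 : ∀ u < 117949, (fun u => chkFin tab u) u = true := ext_range (a := 117738) (len := 211) h558 f_558
  have h560 : ∀ u < 118160, (fun u => chkFin tab u) u = true := ext_range (a := 117949) (len := 211) h559 f_559
  have h561 : ∀ u < 118371, (fun u => chkFin tab u) u = true := ext_range (a := 118160) (len := 211) h560 f_560
  have h562 : ∀ u < 118582, (fun u => chkFin tab u) u = true := ext_range (a := 118371) (len := 211) h561 f_561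
  have h563 : ∀ u < 118793, (fun u => chkFin tab u) u = true := ext_range (a := 118582) (len := 211) h562 f_562
  have h564 : ∀ u < 119004, (fun u => chkFin tab u) u = true := ext_range (a := 118793) (len := 211) h563 f_563
  have h565 : ∀ u < 119215, (fun u => chkFin tab u) u = true := ext_range (a := 119004) (len := 211) h564 f_564
  have h566 : ∀ u < 119426, (fun u => chkFin tab u) u = true := ext_range (a := 119215) (len := 211) h565 f_565
  have h567 : ∀ u < 119637, (fun u => chkFin tab u) u = true := ext_range (a := 119426) (len := 211) h566 f_566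
  have h568 : ∀ u < 119848, (fun u => chkFin tab u) u = true := ext_range (a := 119637) (len := 211) h567 f_567
  have h569 : ∀ u < 120059, (fun u => chkFin tab u) u = true := ext_range (a := 119848) (len := 211) h568 f_568
  have h570 : ∀ u < 120270, (fun u => chkFin tab u) u = true := ext_range (a := 120059) (len := 211) h569 f_569
  have h571 : ∀ u < 120481, (fun u => chkFin tab u) u = true := ext_range (a := 120270) (len := 211) h570 f_570
  have h572 : ∀ u < 120692, (fun u => chkFin tab u) u = true := ext_range (a := 120481) (len := 211) h571 f_571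
  have h573 : ∀ u < 120903, (fun u => chkFin tab u) u = true := ext_range (a := 120692) (len := 211) h572 f_572
  have h574 : ∀ u < 121114, (fun u => chkFin tab u) u = true := ext_range (a := 120903) (len := 211) h573 f_573
  have h575 : ∀ u < 121325, (fun u => chkFin tab u) u = true := ext_range (a := 121114) (len := 211) h574 f_574
  have h576 : ∀ u < 121536, (fun u => chkFin tab u) u = true := ext_range (a := 121325) (len := 211) h575 f_575
  have h577 : ∀ u < 121747, (fun u => chkFin tab u) u = true := ext_range (a := 121536) (len := 211) h576 f_576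
  have h578 : ∀ u < 121958, (fun u => chkFin tab u) u = true := ext_range (a := 121747) (len := 211) h577 f_577
  have h579 : ∀ u < 122169, (fun u => chkFin tab u) u = true := ext_range (a := 121958) (len := 211) h578 f_578
  have h580 : ∀ u < 122380, (fun u => chkFin tab u) u = true := ext_range (a := 122169) (len := 211) h579 f_579
  have h581 : ∀ u < 122591, (fun u => chkFin tab u) u = true := ext_range (a := 122380) (len := 211) h580 f_580
  have h582 : ∀ u < 122802, (fun u => chkFin tab u) u = true := ext_range (a := 122591) (len := 211) h581 f_581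
  have h583 : ∀ u < 123013, (fun u => chkFin tab u) u = true := ext_range (a := 122802) (len := 211) h582 f_582
  have h584 : ∀ u < 123224, (fun u => chkFin tab u) u = true := ext_range (a := 123013) (len := 211) h583 f_583
  have h585 : ∀ u < 123435, (fun u => chkFin tab u) u = true := ext_range (a := 123224) (len := 211) h584 f_584
  have h586 : ∀ u < 123646, (fun u => chkFin tab u) u = true := ext_range (a := 123435) (len := 211) h585 f_585
  have h587 : ∀ u < 123857, (fun u => chkFin tab u) u = true := ext_range (a := 123646) (len := 211) h586 f_586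
  have h588 : ∀ u < 124068, (fun u => chkFin tab u) u = true := ext_range (a := 123857) (len := 211) h587 f_587
  have h589 : ∀ u < 124279, (fun u => chkFin tab u) u = true := ext_range (a := 124068) (len := 211) h588 f_588
  have h590 : ∀ u < 124490, (fun u => chkFin tab u) u = true := ext_range (a := 124279) (len := 211) h589 f_589
  have h591 : ∀ u < 124701, (fun u => chkFin tab u) u = true := ext_range (a := 124490) (len := 211) h590 f_590
  have h592 : ∀ u < 124912, (fun u => chkFin tab u) u = true := ext_range (a := 124701) (len := 211) h591 f_591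
  have h593 : ∀ u < 125123, (fun u => chkFin tab u) u = true := ext_range (a := 124912) (len := 211) h592 f_592
  have h594 : ∀ u < 125334, (fun u => chkFin tab u) u = true := ext_range (a := 125123) (len := 211) h593 f_593
  have h595 : ∀ u < 125545, (fun u => chkFin tab u) u = true := ext_range (a := 125334) (len := 211) h594 f_594
  have h596 : ∀ u < 125756, (fun u => chkFin tab u) u = true := ext_range (a := 125545) (len := 211) h595 f_595
  have h597 : ∀ u < 125967, (fun u => chkFin tab u) u = true := ext_range (a := 125756) (len := 211) h596 f_596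
  have h598 : ∀ u < 126178, (fun u => chkFin tab u) u = true := ext_range (a := 125967) (len := 211) h597 f_597
  have h599 : ∀ u < 126389, (fun u => chkFin tab u) u = true := ext_range (a := 126178) (len := 211) h598 f_598
  have h600 : ∀ u < 126600, (fun u => chkFin tab u) u = true := ext_range (a := 126389) (len := 211) h599 f_599
  have h601 : ∀ u < 126811, (fun u => chkFin tab u) u = true := ext_range (a := 126600) (len := 211) h600 f_600
  have h602 : ∀ u < 127022, (fun u => chkFin tab u) u = true := ext_range (a := 126811) (len := 211) h601 f_601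
  have h603 : ∀ u < 127233, (fun u => chkFin tab u) u = true := ext_range (a := 127022) (len := 211) h602 f_602
  have h604 : ∀ u < 127444, (fun u => chkFin tab u) u = true := ext_range (a := 127233) (len := 211) h603 f_603
  have h605 : ∀ u < 127655, (fun u => chkFin tab u) u = true := ext_range (a := 127444) (len := 211) h604 f_604
  have h606 : ∀ u < 127866, (fun u => chkFin tab u) u = true := ext_range (a := 127655) (len := 211) h605 f_605
  have h607 : ∀ u < 128077, (fun u => chkFin tab u) u = true := ext_range (a := 127866) (len := 211) h606 f_606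
  have h608 : ∀ u < 128288, (fun u => chkFin tab u) u = true := ext_range (a := 128077) (len := 211) h607 f_607
  have h609 : ∀ u < 128499, (fun u => chkFin tab u) u = true := ext_range (a := 128288) (len := 211) h608 f_608
  have h610 : ∀ u < 128710, (fun u => chkFin tab u) u = true := ext_range (a := 128499) (len := 211) h609 f_609
  have h611 : ∀ u < 128921, (fun u => chkFin tab u) u = true := ext_range (a := 128710) (len := 211) h610 f_610
  have h612 : ∀ u < 129132, (fun u => chkFin tab u) u = true := ext_range (a := 128921) (len := 211) h611 f_611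
  have h613 : ∀ u < 129343, (fun u => chkFin tab u) u = true := ext_range (a := 129132) (len := 211) h612 f_612
  have h614 : ∀ u < 129554, (fun u => chkFin tab u) u = true := ext_range (a := 129343) (len := 211) h613 f_613
  have h615 : ∀ u < 129765, (fun u => chkFin tab u) u = true := ext_range (a := 129554) (len := 211) h614 f_614
  have h616 : ∀ u < 129976, (fun u => chkFin tab u) u = true := ext_range (a := 129765) (len := 211) h615 f_615
  have h617 : ∀ u < 130187, (fun u => chkFin tab u) u = true := ext_range (a := 129976) (len := 211) h616 f_616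
  have h618 : ∀ u < 130398, (fun u => chkFin tab u) u = true := ext_range (a := 130187) (len := 211) h617 f_617
  have h619 : ∀ u < 130609, (fun u => chkFin tab u) u = true := ext_range (a := 130398) (len := 211) h618 f_618
  have h620 : ∀ u < 130820, (fun u => chkFin tab u) u = true := ext_range (a := 130609) (len := 211) h619 f_619
  have h621 : ∀ u < 131031, (fun u => chkFin tab u) u = true := ext_range (a := 130820) (len := 211) h620 f_620
  have h622 : ∀ u < 131242, (fun u => chkFin tab u) u = true := ext_range (a := 131031) (len := 211) h621 f_621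
  have h623 : ∀ u < 131453, (fun u => chkFin tab u) u = true := ext_range (a := 131242) (len := 211) h622 f_622
  have h624 : ∀ u < 131664, (fun u => chkFin tab u) u = true := ext_range (a := 131453) (len := 211) h623 f_623
  have h625 : ∀ u < 131875, (fun u => chkFin tab u) u = true := ext_range (a := 131664) (len := 211) h624 f_624
  have h626 : ∀ u < 132086, (fun u => chkFin tab u) u = true := ext_range (a := 131875) (len := 211) h625 f_625
  have h627 : ∀ u < 132297, (fun u => chkFin tab u) u = true := ext_range (a := 132086) (len := 211) h626 f_626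
  have h628 : ∀ u < 132508, (fun u => chkFin tab u) u = true := ext_range (a := 132297) (len := 211) h627 f_627
  have h629 : ∀ u < 132719, (fun u => chkFin tab u) u = true := ext_range (a := 132508) (len := 211) h628 f_628
  have h630 : ∀ u < 132930, (fun u => chkFin tab u) u = true := ext_range (a := 132719) (len := 211) h629 f_629
  have h631 : ∀ u < 133141, (fun u => chkFin tab u) u = true := ext_range (a := 132930) (len := 211) h630 f_630
  have h632 : ∀ u < 133352, (fun u => chkFin tab u) u = true := ext_range (a := 133141) (len := 211) h631 f_631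
  have h633 : ∀ u < 133563, (fun u => chkFin tab u) u = true := ext_range (a := 133352) (len := 211) h632 f_632
  have h634 : ∀ u < 133774, (fun u => chkFin tab u) u = true := ext_range (a := 133563) (len := 211) h633 f_633
  have h635 : ∀ u < 133985, (fun u => chkFin tab u) u = true := ext_range (a := 133774) (len := 211) h634 f_634
  have h636 : ∀ u < 134196, (fun u => chkFin tab u) u = true := ext_range (a := 133985) (len := 211) h635 f_635
  have h637 : ∀ u < 134407, (fun u => chkFin tab u) u = true := ext_range (a := 134196) (len := 211) h636 f_636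
  have h638 : ∀ u < 134618, (fun u => chkFin tab u) u = true := ext_range (a := 134407) (len := 211) h637 f_637
  have h639 : ∀ u < 134829, (fun u => chkFin tab u) u = true := ext_range (a := 134618) (len := 211) h638 f_638
  have h640 : ∀ u < 135040, (fun u => chkFin tab u) u = true := ext_range (a := 134829) (len := 211) h639 f_639
  have h641 : ∀ u < 135251, (fun u => chkFin tab u) u = true := ext_range (a := 135040) (len := 211) h640 f_640
  have h642 : ∀ u < 135462, (fun u => chkFin tab u) u = true := ext_range (a := 135251) (len := 211) h641 f_641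
  have h643 : ∀ u < 135673, (fun u => chkFin tab u) u = true := ext_range (a := 135462) (len := 211) h642 f_642
  have h644 : ∀ u < 135884, (fun u => chkFin tab u) u = true := ext_range (a := 135673) (len := 211) h643 f_643
  have h645 : ∀ u < 136095, (fun u => chkFin tab u) u = true := ext_range (a := 135884) (len := 211) h644 f_644
  have h646 : ∀ u < 136306, (fun u => chkFin tab u) u = true := ext_range (a := 136095) (len := 211) h645 f_645
  have h647 : ∀ u < 136517, (fun u => chkFin tab u) u = true := ext_range (a := 136306) (len := 211) h646 f_646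
  have h648 : ∀ u < 136728, (fun u => chkFin tab u) u = true := ext_range (a := 136517) (len := 211) h647 f_647
  have h649 : ∀ u < 136939, (fun u => chkFin tab u) u = true := ext_range (a := 136728) (len := 211) h648 f_648
  have h650 : ∀ u < 137150, (fun u => chkFin tab u) u = true := ext_range (a := 136939) (len := 211) h649 f_649
  have h651 : ∀ u < 137361, (fun u => chkFin tab u) u = true := ext_range (a := 137150) (len := 211) h650 f_650
  have h652 : ∀ u < 137572, (fun u => chkFin tab u) u = true := ext_range (a := 137361) (len := 211) h651 f_651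
  have h653 : ∀ u < 137783, (fun u => chkFin tab u) u = true := ext_range (a := 137572) (len := 211) h652 f_652
  have h654 : ∀ u < 137994, (fun u => chkFin tab u) u = true := ext_range (a := 137783) (len := 211) h653 f_653
  have h655 : ∀ u < 138205, (fun u => chkFin tab u) u = true := ext_range (a := 137994) (len := 211) h654 f_654
  have h656 : ∀ u < 138416, (fun u => chkFin tab u) u = true := ext_range (a := 138205) (len := 211) h655 f_655
  have h657 : ∀ u < 138627, (fun u => chkFin tab u) u = true := ext_range (a := 138416) (len := 211) h656 f_656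
  have h658 : ∀ u < 138838, (fun u => chkFin tab u) u = true := ext_range (a := 138627) (len := 211) h657 f_657
  have h659 : ∀ u < 139049, (fun u => chkFin tab u) u = true := ext_range (a := 138838) (len := 211) h658 f_658
  have h660 : ∀ u < 139260, (fun u => chkFin tab u) u = true := ext_range (a := 139049) (len := 211) h659 f_659
  have h661 : ∀ u < 139471, (fun u => chkFin tab u) u = true := ext_range (a := 139260) (len := 211) h660 f_660
  have h662 : ∀ u < 139682, (fun u => chkFin tab u) u = true := ext_range (a := 139471) (len := 211) h661 f_661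
  have h663 : ∀ u < 139893, (fun u => chkFin tab u) u = true := ext_range (a := 139682) (len := 211) h662 f_662
  have h664 : ∀ u < 140104, (fun u => chkFin tab u) u = true := ext_range (a := 139893) (len := 211) h663 f_663
  have h665 : ∀ u < 140315, (fun u => chkFin tab u) u = true := ext_range (a := 140104) (len := 211) h664 f_664
  have h666 : ∀ u < 140526, (fun u => chkFin tab u) u = true := ext_range (a := 140315) (len := 211) h665 f_665
  have h667 : ∀ u < 140737, (fun u => chkFin tab u) u = true := ext_range (a := 140526) (len := 211) h666 f_666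
  have h668 : ∀ u < 140948, (fun u => chkFin tab u) u = true := ext_range (a := 140737) (len := 211) h667 f_667
  have h669 : ∀ u < 141159, (fun u => chkFin tab u) u = true := ext_range (a := 140948) (len := 211) h668 f_668
  have h670 : ∀ u < 141370, (fun u => chkFin tab u) u = true := ext_range (a := 141159) (len := 211) h669 f_669
  have h671 : ∀ u < 141581, (fun u => chkFin tab u) u = true := ext_range (a := 141370) (len := 211) h670 f_670
  have h672 : ∀ u < 141792, (fun u => chkFin tab u) u = true := ext_range (a := 141581) (len := 211) h671 f_671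
  have h673 : ∀ u < 142003, (fun u => chkFin tab u) u = true := ext_range (a := 141792) (len := 211) h672 f_672
  have h674 : ∀ u < 142214, (fun u => chkFin tab u) u = true := ext_range (a := 142003) (len := 211) h673 f_673
  have h675 : ∀ u < 142425, (fun u => chkFin tab u) u = true := ext_range (a := 142214) (len := 211) h674 f_674
  have h676 : ∀ u < 142636, (fun u => chkFin tab u) u = true := ext_range (a := 142425) (len := 211) h675 f_675
  have h677 : ∀ u < 142847, (fun u => chkFin tab u) u = true := ext_range (a := 142636) (len := 211) h676 f_676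
  have h678 : ∀ u < 143058, (fun u => chkFin tab u) u = true := ext_range (a := 142847) (len := 211) h677 f_677
  have h679 : ∀ u < 143269, (fun u => chkFin tab u) u = true := ext_range (a := 143058) (len := 211) h678 f_678
  have h680 : ∀ u < 143480, (fun u => chkFin tab u) u = true := ext_range (a := 143269) (len := 211) h679 f_679
  have h681 : ∀ u < 143691, (fun u => chkFin tab u) u = true := ext_range (a := 143480) (len := 211) h680 f_680
  have h682 : ∀ u < 143902, (fun u => chkFin tab u) u = true := ext_range (a := 143691) (len := 211) h681 f_681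
  have h683 : ∀ u < 144113, (fun u => chkFin tab u) u = true := ext_range (a := 143902) (len := 211) h682 f_682
  have h684 : ∀ u < 144324, (fun u => chkFin tab u) u = true := ext_range (a := 144113) (len := 211) h683 f_683
  have h685 : ∀ u < 144535, (fun u => chkFin tab u) u = true := ext_range (a := 144324) (len := 211) h684 f_684
  have h686 : ∀ u < 144746, (fun u => chkFin tab u) u = true := ext_range (a := 144535) (len := 211) h685 f_685
  have h687 : ∀ u < 144957, (fun u => chkFin tab u) u = true := ext_range (a := 144746) (len := 211) h686 f_686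
  have h688 : ∀ u < 145168, (fun u => chkFin tab u) u = true := ext_range (a := 144957) (len := 211) h687 f_687
  have h689 : ∀ u < 145379, (fun u => chkFin tab u) u = true := ext_range (a := 145168) (len := 211) h688 f_688
  have h690 : ∀ u < 145590, (fun u => chkFin tab u) u = true := ext_range (a := 145379) (len := 211) h689 f_689
  have h691 : ∀ u < 145801, (fun u => chkFin tab u) u = true := ext_range (a := 145590) (len := 211) h690 f_690
  have h692 : ∀ u < 146012, (fun u => chkFin tab u) u = true := ext_range (a := 145801) (len := 211) h691 f_691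
  have h693 : ∀ u < 146223, (fun u => chkFin tab u) u = true := ext_range (a := 146012) (len := 211) h692 f_692
  have h694 : ∀ u < 146434, (fun u => chkFin tab u) u = true := ext_range (a := 146223) (len := 211) h693 f_693
  have h695 : ∀ u < 146645, (fun u => chkFin tab u) u = true := ext_range (a := 146434) (len := 211) h694 f_694
  have h696 : ∀ u < 146856, (fun u => chkFin tab u) u = true := ext_range (a := 146645) (len := 211) h695 f_695
  have h697 : ∀ u < 147067, (fun u => chkFin tab u) u = true := ext_range (a := 146856) (len := 211) h696 f_696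
  have h698 : ∀ u < 147278, (fun u => chkFin tab u) u = true := ext_range (a := 147067) (len := 211) h697 f_697
  have h699 : ∀ u < 147489, (fun u => chkFin tab u) u = true := ext_range (a := 147278) (len := 211) h698 f_698
  have h700 : ∀ u < 147700, (fun u => chkFin tab u) u = true := ext_range (a := 147489) (len := 211) h699 f_699
  have h701 : ∀ u < 147911, (fun u => chkFin tab u) u = true := ext_range (a := 147700) (len := 211) h700 f_700
  have h702 : ∀ u < 148122, (fun u => chkFin tab u) u = true := ext_range (a := 147911) (len := 211) h701 f_701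
  have h703 : ∀ u < 148333, (fun u => chkFin tab u) u = true := ext_range (a := 148122) (len := 211) h702 f_702
  have h704 : ∀ u < 148544, (fun u => chkFin tab u) u = true := ext_range (a := 148333) (len := 211) h703 f_703
  have h705 : ∀ u < 148755, (fun u => chkFin tab u) u = true := ext_range (a := 148544) (len := 211) h704 f_704
  have h706 : ∀ u < 148966, (fun u => chkFin tab u) u = true := ext_range (a := 148755) (len := 211) h705 f_705
  have h707 : ∀ u < 149177, (fun u => chkFin tab u) u = true := ext_range (a := 148966) (len := 211) h706 f_706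
  have h708 : ∀ u < 149388, (fun u => chkFin tab u) u = true := ext_range (a := 149177) (len := 211) h707 f_707
  have h709 : ∀ u < 149599, (fun u => chkFin tab u) u = true := ext_range (a := 149388) (len := 211) h708 f_708
  have h710 : ∀ u < 149810, (fun u => chkFin tab u) u = true := ext_range (a := 149599) (len := 211) h709 f_709
  have h711 : ∀ u < 150021, (fun u => chkFin tab u) u = true := ext_range (a := 149810) (len := 211) h710 f_710
  have h712 : ∀ u < 150232, (fun u => chkFin tab u) u = true := ext_range (a := 150021) (len := 211) h711 f_711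
  have h713 : ∀ u < 150443, (fun u => chkFin tab u) u = true := ext_range (a := 150232) (len := 211) h712 f_712
  have h714 : ∀ u < 150654, (fun u => chkFin tab u) u = true := ext_range (a := 150443) (len := 211) h713 f_713
  have h715 : ∀ u < 150865, (fun u => chkFin tab u) u = true := ext_range (a := 150654) (len := 211) h714 f_714
  have h716 : ∀ u < 151076, (fun u => chkFin tab u) u = true := ext_range (a := 150865) (len := 211) h715 f_715
  have h717 : ∀ u < 151287, (fun u => chkFin tab u) u = true := ext_range (a := 151076) (len := 211) h716 f_716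
  have h718 : ∀ u < 151498, (fun u => chkFin tab u) u = true := ext_range (a := 151287) (len := 211) h717 f_717
  have h719 : ∀ u < 151709, (fun u => chkFin tab u) u = true := ext_range (a := 151498) (len := 211) h718 f_718
  have h720 : ∀ u < 151920, (fun u => chkFin tab u) u = true := ext_range (a := 151709) (len := 211) h719 f_719
  have h721 : ∀ u < 152131, (fun u => chkFin tab u) u = true := ext_range (a := 151920) (len := 211) h720 f_720
  have h722 : ∀ u < 152342, (fun u => chkFin tab u) u = true := ext_range (a := 152131) (len := 211) h721 f_721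
  have h723 : ∀ u < 152553, (fun u => chkFin tab u) u = true := ext_range (a := 152342) (len := 211) h722 f_722
  have h724 : ∀ u < 152764, (fun u => chkFin tab u) u = true := ext_range (a := 152553) (len := 211) h723 f_723
  have h725 : ∀ u < 152975, (fun u => chkFin tab u) u = true := ext_range (a := 152764) (len := 211) h724 f_724
  have h726 : ∀ u < 153186, (fun u => chkFin tab u) u = true := ext_range (a := 152975) (len := 211) h725 f_725
  have h727 : ∀ u < 153397, (fun u => chkFin tab u) u = true := ext_range (a := 153186) (len := 211) h726 f_726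
  have h728 : ∀ u < 153608, (fun u => chkFin tab u) u = true := ext_range (a := 153397) (len := 211) h727 f_727
  have h729 : ∀ u < 153819, (fun u => chkFin tab u) u = true := ext_range (a := 153608) (len := 211) h728 f_728
  have h730 : ∀ u < 154030, (fun u => chkFin tab u) u = true := ext_range (a := 153819) (len := 211) h729 f_729
  have h731 : ∀ u < 154241, (fun u => chkFin tab u) u = true := ext_range (a := 154030) (len := 211) h730 f_730
  have h732 : ∀ u < 154452, (fun u => chkFin tab u) u = true := ext_range (a := 154241) (len := 211) h731 f_731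
  have h733 : ∀ u < 154663, (fun u => chkFin tab u) u = true := ext_range (a := 154452) (len := 211) h732 f_732
  have h734 : ∀ u < 154874, (fun u => chkFin tab u) u = true := ext_range (a := 154663) (len := 211) h733 f_733
  have h735 : ∀ u < 155085, (fun u => chkFin tab u) u = true := ext_range (a := 154874) (len := 211) h734 f_734
  have h736 : ∀ u < 155296, (fun u => chkFin tab u) u = true := ext_range (a := 155085) (len := 211) h735 f_735
  have h737 : ∀ u < 155507, (fun u => chkFin tab u) u = true := ext_range (a := 155296) (len := 211) h736 f_736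
  have h738 : ∀ u < 155718, (fun u => chkFin tab u) u = true := ext_range (a := 155507) (len := 211) h737 f_737
  have h739 : ∀ u < 155929, (fun u => chkFin tab u) u = true := ext_range (a := 155718) (len := 211) h738 f_738
  have h740 : ∀ u < 156140, (fun u => chkFin tab u) u = true := ext_range (a := 155929) (len := 211) h739 f_739
  have h741 : ∀ u < 156351, (fun u => chkFin tab u) u = true := ext_range (a := 156140) (len := 211) h740 f_740
  have h742 : ∀ u < 156562, (fun u => chkFin tab u) u = true := ext_range (a := 156351) (len := 211) h741 f_741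
  have h743 : ∀ u < 156773, (fun u => chkFin tab u) u = true := ext_range (a := 156562) (len := 211) h742 f_742
  have h744 : ∀ u < 156984, (fun u => chkFin tab u) u = true := ext_range (a := 156773) (len := 211) h743 f_743
  have h745 : ∀ u < 157195, (fun u => chkFin tab u) u = true := ext_range (a := 156984) (len := 211) h744 f_744
  have h746 : ∀ u < 157406, (fun u => chkFin tab u) u = true := ext_range (a := 157195) (len := 211) h745 f_745
  have h747 : ∀ u < 157617, (fun u => chkFin tab u) u = true := ext_range (a := 157406) (len := 211) h746 f_746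
  have h748 : ∀ u < 157828, (fun u => chkFin tab u) u = true := ext_range (a := 157617) (len := 211) h747 f_747
  have h749 : ∀ u < 158039, (fun u => chkFin tab u) u = true := ext_range (a := 157828) (len := 211) h748 f_748
  have h750 : ∀ u < 158250, (fun u => chkFin tab u) u = true := ext_range (a := 158039) (len := 211) h749 f_749
  have h751 : ∀ u < 158461, (fun u => chkFin tab u) u = true := ext_range (a := 158250) (len := 211) h750 f_750
  have h752 : ∀ u < 158672, (fun u => chkFin tab u) u = true := ext_range (a := 158461) (len := 211) h751 f_751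
  have h753 : ∀ u < 158883, (fun u => chkFin tab u) u = true := ext_range (a := 158672) (len := 211) h752 f_752
  have h754 : ∀ u < 159094, (fun u => chkFin tab u) u = true := ext_range (a := 158883) (len := 211) h753 f_753
  have h755 : ∀ u < 159305, (fun u => chkFin tab u) u = true := ext_range (a := 159094) (len := 211) h754 f_754
  have h756 : ∀ u < 159516, (fun u => chkFin tab u) u = true := ext_range (a := 159305) (len := 211) h755 f_755
  have h757 : ∀ u < 159727, (fun u => chkFin tab u) u = true := ext_range (a := 159516) (len := 211) h756 f_756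
  have h758 : ∀ u < 159938, (fun u => chkFin tab u) u = true := ext_range (a := 159727) (len := 211) h757 f_757
  have h759 : ∀ u < 160149, (fun u => chkFin tab u) u = true := ext_range (a := 159938) (len := 211) h758 f_758
  have h760 : ∀ u < 160360, (fun u => chkFin tab u) u = true := ext_range (a := 160149) (len := 211) h759 f_759
  have h761 : ∀ u < 160571, (fun u => chkFin tab u) u = true := ext_range (a := 160360) (len := 211) h760 f_760
  have h762 : ∀ u < 160782, (fun u => chkFin tab u) u = true := ext_range (a := 160571) (len := 211) h761 f_761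
  have h763 : ∀ u < 160993, (fun u => chkFin tab u) u = true := ext_range (a := 160782) (len := 211) h762 f_762
  have h764 : ∀ u < 161204, (fun u => chkFin tab u) u = true := ext_range (a := 160993) (len := 211) h763 f_763
  have h765 : ∀ u < 161415, (fun u => chkFin tab u) u = true := ext_range (a := 161204) (len := 211) h764 f_764
  have h766 : ∀ u < 161626, (fun u => chkFin tab u) u = true := ext_range (a := 161415) (len := 211) h765 f_765
  have h767 : ∀ u < 161837, (fun u => chkFin tab u) u = true := ext_range (a := 161626) (len := 211) h766 f_766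
  have h768 : ∀ u < 162048, (fun u => chkFin tab u) u = true := ext_range (a := 161837) (len := 211) h767 f_767
  have h769 : ∀ u < 162259, (fun u => chkFin tab u) u = true := ext_range (a := 162048) (len := 211) h768 f_768
  have h770 : ∀ u < 162470, (fun u => chkFin tab u) u = true := ext_range (a := 162259) (len := 211) h769 f_769
  have h771 : ∀ u < 162681, (fun u => chkFin tab u) u = true := ext_range (a := 162470) (len := 211) h770 f_770
  have h772 : ∀ u < 162892, (fun u => chkFin tab u) u = true := ext_range (a := 162681) (len := 211) h771 f_771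
  have h773 : ∀ u < 163103, (fun u => chkFin tab u) u = true := ext_range (a := 162892) (len := 211) h772 f_772
  have h774 : ∀ u < 163314, (fun u => chkFin tab u) u = true := ext_range (a := 163103) (len := 211) h773 f_773
  have h775 : ∀ u < 163525, (fun u => chkFin tab u) u = true := ext_range (a := 163314) (len := 211) h774 f_774
  have h776 : ∀ u < 163736, (fun u => chkFin tab u) u = true := ext_range (a := 163525) (len := 211) h775 f_775
  have h777 : ∀ u < 163947, (fun u => chkFin tab u) u = true := ext_range (a := 163736) (len := 211) h776 f_776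
  have h778 : ∀ u < 164158, (fun u => chkFin tab u) u = true := ext_range (a := 163947) (len := 211) h777 f_777
  have h779 : ∀ u < 164369, (fun u => chkFin tab u) u = true := ext_range (a := 164158) (len := 211) h778 f_778
  have h780 : ∀ u < 164580, (fun u => chkFin tab u) u = true := ext_range (a := 164369) (len := 211) h779 f_779
  have h781 : ∀ u < 164791, (fun u => chkFin tab u) u = true := ext_range (a := 164580) (len := 211) h780 f_780
  have h782 : ∀ u < 165002, (fun u => chkFin tab u) u = true := ext_range (a := 164791) (len := 211) h781 f_781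
  have h783 : ∀ u < 165213, (fun u => chkFin tab u) u = true := ext_range (a := 165002) (len := 211) h782 f_782
  have h784 : ∀ u < 165424, (fun u => chkFin tab u) u = true := ext_range (a := 165213) (len := 211) h783 f_783
  have h785 : ∀ u < 165635, (fun u => chkFin tab u) u = true := ext_range (a := 165424) (len := 211) h784 f_784
  have h786 : ∀ u < 165846, (fun u => chkFin tab u) u = true := ext_range (a := 165635) (len := 211) h785 f_785
  have h787 : ∀ u < 166057, (fun u => chkFin tab u) u = true := ext_range (a := 165846) (len := 211) h786 f_786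
  have h788 : ∀ u < 166268, (fun u => chkFin tab u) u = true := ext_range (a := 166057) (len := 211) h787 f_787
  have h789 : ∀ u < 166479, (fun u => chkFin tab u) u = true := ext_range (a := 166268) (len := 211) h788 f_788
  have h790 : ∀ u < 166690, (fun u => chkFin tab u) u = true := ext_range (a := 166479) (len := 211) h789 f_789
  have h791 : ∀ u < 166901, (fun u => chkFin tab u) u = true := ext_range (a := 166690) (len := 211) h790 f_790
  have h792 : ∀ u < 167112, (fun u => chkFin tab u) u = true := ext_range (a := 166901) (len := 211) h791 f_791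
  have h793 : ∀ u < 167323, (fun u => chkFin tab u) u = true := ext_range (a := 167112) (len := 211) h792 f_792
  have h794 : ∀ u < 167534, (fun u => chkFin tab u) u = true := ext_range (a := 167323) (len := 211) h793 f_793
  have h795 : ∀ u < 167745, (fun u => chkFin tab u) u = true := ext_range (a := 167534) (len := 211) h794 f_794
  have h796 : ∀ u < 167956, (fun u => chkFin tab u) u = true := ext_range (a := 167745) (len := 211) h795 f_795
  have h797 : ∀ u < 168167, (fun u => chkFin tab u) u = true := ext_range (a := 167956) (len := 211) h796 f_796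
  have h798 : ∀ u < 168378, (fun u => chkFin tab u) u = true := ext_range (a := 168167) (len := 211) h797 f_797
  have h799 : ∀ u < 168589, (fun u => chkFin tab u) u = true := ext_range (a := 168378) (len := 211) h798 f_798
  have h800 : ∀ u < 168800, (fun u => chkFin tab u) u = true := ext_range (a := 168589) (len := 211) h799 f_799
  have h801 : ∀ u < 169011, (fun u => chkFin tab u) u = true := ext_range (a := 168800) (len := 211) h800 f_800
  have h802 : ∀ u < 169222, (fun u => chkFin tab u) u = true := ext_range (a := 169011) (len := 211) h801 f_801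
  have h803 : ∀ u < 169433, (fun u => chkFin tab u) u = true := ext_range (a := 169222) (len := 211) h802 f_802
  have h804 : ∀ u < 169644, (fun u => chkFin tab u) u = true := ext_range (a := 169433) (len := 211) h803 f_803
  have h805 : ∀ u < 169855, (fun u => chkFin tab u) u = true := ext_range (a := 169644) (len := 211) h804 f_804
  have h806 : ∀ u < 170066, (fun u => chkFin tab u) u = true := ext_range (a := 169855) (len := 211) h805 f_805
  have h807 : ∀ u < 170277, (fun u => chkFin tab u) u = true := ext_range (a := 170066) (len := 211) h806 f_806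
  have h808 : ∀ u < 170488, (fun u => chkFin tab u) u = true := ext_range (a := 170277) (len := 211) h807 f_807
  have h809 : ∀ u < 170699, (fun u => chkFin tab u) u = true := ext_range (a := 170488) (len := 211) h808 f_808
  have h810 : ∀ u < 170910, (fun u => chkFin tab u) u = true := ext_range (a := 170699) (len := 211) h809 f_809
  have h811 : ∀ u < 171121, (fun u => chkFin tab u) u = true := ext_range (a := 170910) (len := 211) h810 f_810
  have h812 : ∀ u < 171332, (fun u => chkFin tab u) u = true := ext_range (a := 171121) (len := 211) h811 f_811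
  have h813 : ∀ u < 171543, (fun u => chkFin tab u) u = true := ext_range (a := 171332) (len := 211) h812 f_812
  have h814 : ∀ u < 171754, (fun u => chkFin tab u) u = true := ext_range (a := 171543) (len := 211) h813 f_813
  have h815 : ∀ u < 171965, (fun u => chkFin tab u) u = true := ext_range (a := 171754) (len := 211) h814 f_814
  have h816 : ∀ u < 172176, (fun u => chkFin tab u) u = true := ext_range (a := 171965) (len := 211) h815 f_815
  have h817 : ∀ u < 172387, (fun u => chkFin tab u) u = true := ext_range (a := 172176) (len := 211) h816 f_816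
  have h818 : ∀ u < 172598, (fun u => chkFin tab u) u = true := ext_range (a := 172387) (len := 211) h817 f_817
  have h819 : ∀ u < 172809, (fun u => chkFin tab u) u = true := ext_range (a := 172598) (len := 211) h818 f_818
  have h820 : ∀ u < 173020, (fun u => chkFin tab u) u = true := ext_range (a := 172809) (len := 211) h819 f_819
  have h821 : ∀ u < 173231, (fun u => chkFin tab u) u = true := ext_range (a := 173020) (len := 211) h820 f_820
  have h822 : ∀ u < 173442, (fun u => chkFin tab u) u = true := ext_range (a := 173231) (len := 211) h821 f_821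
  have h823 : ∀ u < 173653, (fun u => chkFin tab u) u = true := ext_range (a := 173442) (len := 211) h822 f_822
  have h824 : ∀ u < 173864, (fun u => chkFin tab u) u = true := ext_range (a := 173653) (len := 211) h823 f_823
  have h825 : ∀ u < 174075, (fun u => chkFin tab u) u = true := ext_range (a := 173864) (len := 211) h824 f_824
  have h826 : ∀ u < 174286, (fun u => chkFin tab u) u = true := ext_range (a := 174075) (len := 211) h825 f_825
  have h827 : ∀ u < 174497, (fun u => chkFin tab u) u = true := ext_range (a := 174286) (len := 211) h826 f_826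
  have h828 : ∀ u < 174708, (fun u => chkFin tab u) u = true := ext_range (a := 174497) (len := 211) h827 f_827
  have h829 : ∀ u < 174919, (fun u => chkFin tab u) u = true := ext_range (a := 174708) (len := 211) h828 f_828
  have h830 : ∀ u < 175130, (fun u => chkFin tab u) u = true := ext_range (a := 174919) (len := 211) h829 f_829
  have h831 : ∀ u < 175341, (fun u => chkFin tab u) u = true := ext_range (a := 175130) (len := 211) h830 f_830
  have h832 : ∀ u < 175552, (fun u => chkFin tab u) u = true := ext_range (a := 175341) (len := 211) h831 f_831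
  have h833 : ∀ u < 175763, (fun u => chkFin tab u) u = true := ext_range (a := 175552) (len := 211) h832 f_832
  have h834 : ∀ u < 175974, (fun u => chkFin tab u) u = true := ext_range (a := 175763) (len := 211) h833 f_833
  have h835 : ∀ u < 176185, (fun u => chkFin tab u) u = true := ext_range (a := 175974) (len := 211) h834 f_834
  have h836 : ∀ u < 176396, (fun u => chkFin tab u) u = true := ext_range (a := 176185) (len := 211) h835 f_835
  have h837 : ∀ u < 176607, (fun u => chkFin tab u) u = true := ext_range (a := 176396) (len := 211) h836 f_836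
  have h838 : ∀ u < 176818, (fun u => chkFin tab u) u = true := ext_range (a := 176607) (len := 211) h837 f_837
  have h839 : ∀ u < 177029, (fun u => chkFin tab u) u = true := ext_range (a := 176818) (len := 211) h838 f_838
  have h840 : ∀ u < 177240, (fun u => chkFin tab u) u = true := ext_range (a := 177029) (len := 211) h839 f_839
  have h841 : ∀ u < 177451, (fun u => chkFin tab u) u = true := ext_range (a := 177240) (len := 211) h840 f_840
  have h842 : ∀ u < 177662, (fun u => chkFin tab u) u = true := ext_range (a := 177451) (len := 211) h841 f_841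
  have h843 : ∀ u < 177873, (fun u => chkFin tab u) u = true := ext_range (a := 177662) (len := 211) h842 f_842
  have h844 : ∀ u < 178084, (fun u => chkFin tab u) u = true := ext_range (a := 177873) (len := 211) h843 f_843
  have h845 : ∀ u < 178295, (fun u => chkFin tab u) u = true := ext_range (a := 178084) (len := 211) h844 f_844
  have h846 : ∀ u < 178506, (fun u => chkFin tab u) u = true := ext_range (a := 178295) (len := 211) h845 f_845
  have h847 : ∀ u < 178717, (fun u => chkFin tab u) u = true := ext_range (a := 178506) (len := 211) h846 f_846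
  have h848 : ∀ u < 178928, (fun u => chkFin tab u) u = true := ext_range (a := 178717) (len := 211) h847 f_847
  have h849 : ∀ u < 179139, (fun u => chkFin tab u) u = true := ext_range (a := 178928) (len := 211) h848 f_848
  have h850 : ∀ u < 179350, (fun u => chkFin tab u) u = true := ext_range (a := 179139) (len := 211) h849 f_849
  have h851 : ∀ u < 179561, (fun u => chkFin tab u) u = true := ext_range (a := 179350) (len := 211) h850 f_850
  have h852 : ∀ u < 179772, (fun u => chkFin tab u) u = true := ext_range (a := 179561) (len := 211) h851 f_851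
  have h853 : ∀ u < 179983, (fun u => chkFin tab u) u = true := ext_range (a := 179772) (len := 211) h852 f_852
  have h854 : ∀ u < 180194, (fun u => chkFin tab u) u = true := ext_range (a := 179983) (len := 211) h853 f_853
  have h855 : ∀ u < 180405, (fun u => chkFin tab u) u = true := ext_range (a := 180194) (len := 211) h854 f_854
  have h856 : ∀ u < 180616, (fun u => chkFin tab u) u = true := ext_range (a := 180405) (len := 211) h855 f_855
  have h857 : ∀ u < 180827, (fun u => chkFin tab u) u = true := ext_range (a := 180616) (len := 211) h856 f_856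
  have h858 : ∀ u < 181038, (fun u => chkFin tab u) u = true := ext_range (a := 180827) (len := 211) h857 f_857
  have h859 : ∀ u < 181249, (fun u => chkFin tab u) u = true := ext_range (a := 181038) (len := 211) h858 f_858
  have h860 : ∀ u < 181460, (fun u => chkFin tab u) u = true := ext_range (a := 181249) (len := 211) h859 f_859
  have h861 : ∀ u < 181671, (fun u => chkFin tab u) u = true := ext_range (a := 181460) (len := 211) h860 f_860
  have h862 : ∀ u < 181882, (fun u => chkFin tab u) u = true := ext_range (a := 181671) (len := 211) h861 f_861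
  have h863 : ∀ u < 182093, (fun u => chkFin tab u) u = true := ext_range (a := 181882) (len := 211) h862 f_862
  have h864 : ∀ u < 182304, (fun u => chkFin tab u) u = true := ext_range (a := 182093) (len := 211) h863 f_863
  have h865 : ∀ u < 182515, (fun u => chkFin tab u) u = true := ext_range (a := 182304) (len := 211) h864 f_864
  have h866 : ∀ u < 182726, (fun u => chkFin tab u) u = true := ext_range (a := 182515) (len := 211) h865 f_865
  have h867 : ∀ u < 182937, (fun u => chkFin tab u) u = true := ext_range (a := 182726) (len := 211) h866 f_866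
  have h868 : ∀ u < 183148, (fun u => chkFin tab u) u = true := ext_range (a := 182937) (len := 211) h867 f_867
  have h869 : ∀ u < 183359, (fun u => chkFin tab u) u = true := ext_range (a := 183148) (len := 211) h868 f_868
  have h870 : ∀ u < 183570, (fun u => chkFin tab u) u = true := ext_range (a := 183359) (len := 211) h869 f_869
  have h871 : ∀ u < 183781, (fun u => chkFin tab u) u = true := ext_range (a := 183570) (len := 211) h870 f_870
  have h872 : ∀ u < 183992, (fun u => chkFin tab u) u = true := ext_range (a := 183781) (len := 211) h871 f_871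
  have h873 : ∀ u < 184203, (fun u => chkFin tab u) u = true := ext_range (a := 183992) (len := 211) h872 f_872
  have h874 : ∀ u < 184414, (fun u => chkFin tab u) u = true := ext_range (a := 184203) (len := 211) h873 f_873
  have h875 : ∀ u < 184625, (fun u => chkFin tab u) u = true := ext_range (a := 184414) (len := 211) h874 f_874
  have h876 : ∀ u < 184836, (fun u => chkFin tab u) u = true := ext_range (a := 184625) (len := 211) h875 f_875
  have h877 : ∀ u < 185047, (fun u => chkFin tab u) u = true := ext_range (a := 184836) (len := 211) h876 f_876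
  have h878 : ∀ u < 185258, (fun u => chkFin tab u) u = true := ext_range (a := 185047) (len := 211) h877 f_877
  have h879 : ∀ u < 185469, (fun u => chkFin tab u) u = true := ext_range (a := 185258) (len := 211) h878 f_878
  have h880 : ∀ u < 185680, (fun u => chkFin tab u) u = true := ext_range (a := 185469) (len := 211) h879 f_879
  have h881 : ∀ u < 185891, (fun u => chkFin tab u) u = true := ext_range (a := 185680) (len := 211) h880 f_880
  have h882 : ∀ u < 186102, (fun u => chkFin tab u) u = true := ext_range (a := 185891) (len := 211) h881 f_881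
  have h883 : ∀ u < 186313, (fun u => chkFin tab u) u = true := ext_range (a := 186102) (len := 211) h882 f_882
  have h884 : ∀ u < 186524, (fun u => chkFin tab u) u = true := ext_range (a := 186313) (len := 211) h883 f_883
  have h885 : ∀ u < 186735, (fun u => chkFin tab u) u = true := ext_range (a := 186524) (len := 211) h884 f_884
  have h886 : ∀ u < 186946, (fun u => chkFin tab u) u = true := ext_range (a := 186735) (len := 211) h885 f_885
  have h887 : ∀ u < 187157, (fun u => chkFin tab u) u = true := ext_range (a := 186946) (len := 211) h886 f_886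
  have h888 : ∀ u < 187368, (fun u => chkFin tab u) u = true := ext_range (a := 187157) (len := 211) h887 f_887
  have h889 : ∀ u < 187579, (fun u => chkFin tab u) u = true := ext_range (a := 187368) (len := 211) h888 f_888
  have h890 : ∀ u < 187790, (fun u => chkFin tab u) u = true := ext_range (a := 187579) (len := 211) h889 f_889
  have h891 : ∀ u < 188001, (fun u => chkFin tab u) u = true := ext_range (a := 187790) (len := 211) h890 f_890
  have h892 : ∀ u < 188212, (fun u => chkFin tab u) u = true := ext_range (a := 188001) (len := 211) h891 f_891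
  have h893 : ∀ u < 188423, (fun u => chkFin tab u) u = true := ext_range (a := 188212) (len := 211) h892 f_892
  have h894 : ∀ u < 188634, (fun u => chkFin tab u) u = true := ext_range (a := 188423) (len := 211) h893 f_893
  have h895 : ∀ u < 188845, (fun u => chkFin tab u) u = true := ext_range (a := 188634) (len := 211) h894 f_894
  have h896 : ∀ u < 189056, (fun u => chkFin tab u) u = true := ext_range (a := 188845) (len := 211) h895 f_895
  have h897 : ∀ u < 189267, (fun u => chkFin tab u) u = true := ext_range (a := 189056) (len := 211) h896 f_896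
  have h898 : ∀ u < 189478, (fun u => chkFin tab u) u = true := ext_range (a := 189267) (len := 211) h897 f_897
  have h899 : ∀ u < 189689, (fun u => chkFin tab u) u = true := ext_range (a := 189478) (len := 211) h898 f_898
  have h900 : ∀ u < 189900, (fun u => chkFin tab u) u = true := ext_range (a := 189689) (len := 211) h899 f_899
  have h901 : ∀ u < 190111, (fun u => chkFin tab u) u = true := ext_range (a := 189900) (len := 211) h900 f_900
  have h902 : ∀ u < 190322, (fun u => chkFin tab u) u = true := ext_range (a := 190111) (len := 211) h901 f_901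
  have h903 : ∀ u < 190533, (fun u => chkFin tab u) u = true := ext_range (a := 190322) (len := 211) h902 f_902
  have h904 : ∀ u < 190744, (fun u => chkFin tab u) u = true := ext_range (a := 190533) (len := 211) h903 f_903
  have h905 : ∀ u < 190955, (fun u => chkFin tab u) u = true := ext_range (a := 190744) (len := 211) h904 f_904
  have h906 : ∀ u < 191166, (fun u => chkFin tab u) u = true := ext_range (a := 190955) (len := 211) h905 f_905
  have h907 : ∀ u < 191377, (fun u => chkFin tab u) u = true := ext_range (a := 191166) (len := 211) h906 f_906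
  have h908 : ∀ u < 191588, (fun u => chkFin tab u) u = true := ext_range (a := 191377) (len := 211) h907 f_907
  have h909 : ∀ u < 191799, (fun u => chkFin tab u) u = true := ext_range (a := 191588) (len := 211) h908 f_908
  have h910 : ∀ u < 192010, (fun u => chkFin tab u) u = true := ext_range (a := 191799) (len := 211) h909 f_909
  have h911 : ∀ u < 192221, (fun u => chkFin tab u) u = true := ext_range (a := 192010) (len := 211) h910 f_910
  have h912 : ∀ u < 192432, (fun u => chkFin tab u) u = true := ext_range (a := 192221) (len := 211) h911 f_911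
  have h913 : ∀ u < 192643, (fun u => chkFin tab u) u = true := ext_range (a := 192432) (len := 211) h912 f_912
  have h914 : ∀ u < 192854, (fun u => chkFin tab u) u = true := ext_range (a := 192643) (len := 211) h913 f_913
  have h915 : ∀ u < 193065, (fun u => chkFin tab u) u = true := ext_range (a := 192854) (len := 211) h914 f_914
  have h916 : ∀ u < 193276, (fun u => chkFin tab u) u = true := ext_range (a := 193065) (len := 211) h915 f_915
  have h917 : ∀ u < 193487, (fun u => chkFin tab u) u = true := ext_range (a := 193276) (len := 211) h916 f_916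
  have h918 : ∀ u < 193698, (fun u => chkFin tab u) u = true := ext_range (a := 193487) (len := 211) h917 f_917
  have h919 : ∀ u < 193909, (fun u => chkFin tab u) u = true := ext_range (a := 193698) (len := 211) h918 f_918
  have h920 : ∀ u < 194120, (fun u => chkFin tab u) u = true := ext_range (a := 193909) (len := 211) h919 f_919
  have h921 : ∀ u < 194331, (fun u => chkFin tab u) u = true := ext_range (a := 194120) (len := 211) h920 f_920
  have h922 : ∀ u < 194542, (fun u => chkFin tab u) u = true := ext_range (a := 194331) (len := 211) h921 f_921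
  have h923 : ∀ u < 194753, (fun u => chkFin tab u) u = true := ext_range (a := 194542) (len := 211) h922 f_922
  have h924 : ∀ u < 194964, (fun u => chkFin tab u) u = true := ext_range (a := 194753) (len := 211) h923 f_923
  have h925 : ∀ u < 195175, (fun u => chkFin tab u) u = true := ext_range (a := 194964) (len := 211) h924 f_924
  have h926 : ∀ u < 195386, (fun u => chkFin tab u) u = true := ext_range (a := 195175) (len := 211) h925 f_925
  have h927 : ∀ u < 195597, (fun u => chkFin tab u) u = true := ext_range (a := 195386) (len := 211) h926 f_926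
  have h928 : ∀ u < 195808, (fun u => chkFin tab u) u = true := ext_range (a := 195597) (len := 211) h927 f_927
  have h929 : ∀ u < 196019, (fun u => chkFin tab u) u = true := ext_range (a := 195808) (len := 211) h928 f_928
  have h930 : ∀ u < 196230, (fun u => chkFin tab u) u = true := ext_range (a := 196019) (len := 211) h929 f_929
  have h931 : ∀ u < 196441, (fun u => chkFin tab u) u = true := ext_range (a := 196230) (len := 211) h930 f_930
  have h932 : ∀ u < 196652, (fun u => chkFin tab u) u = true := ext_range (a := 196441) (len := 211) h931 f_931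
  have h933 : ∀ u < 196863, (fun u => chkFin tab u) u = true := ext_range (a := 196652) (len := 211) h932 f_932
  have h934 : ∀ u < 197074, (fun u => chkFin tab u) u = true := ext_range (a := 196863) (len := 211) h933 f_933
  have h935 : ∀ u < 197285, (fun u => chkFin tab u) u = true := ext_range (a := 197074) (len := 211) h934 f_934
  have h936 : ∀ u < 197496, (fun u => chkFin tab u) u = true := ext_range (a := 197285) (len := 211) h935 f_935
  have h937 : ∀ u < 197707, (fun u => chkFin tab u) u = true := ext_range (a := 197496) (len := 211) h936 f_936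
  have h938 : ∀ u < 197918, (fun u => chkFin tab u) u = true := ext_range (a := 197707) (len := 211) h937 f_937
  have h939 : ∀ u < 198129, (fun u => chkFin tab u) u = true := ext_range (a := 197918) (len := 211) h938 f_938
  have h940 : ∀ u < 198340, (fun u => chkFin tab u) u = true := ext_range (a := 198129) (len := 211) h939 f_939
  have h941 : ∀ u < 198551, (fun u => chkFin tab u) u = true := ext_range (a := 198340) (len := 211) h940 f_940
  have h942 : ∀ u < 198762, (fun u => chkFin tab u) u = true := ext_range (a := 198551) (len := 211) h941 f_941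
  have h943 : ∀ u < 198973, (fun u => chkFin tab u) u = true := ext_range (a := 198762) (len := 211) h942 f_942
  have h944 : ∀ u < 199184, (fun u => chkFin tab u) u = true := ext_range (a := 198973) (len := 211) h943 f_943
  have h945 : ∀ u < 199395, (fun u => chkFin tab u) u = true := ext_range (a := 199184) (len := 211) h944 f_944
  have h946 : ∀ u < 199606, (fun u => chkFin tab u) u = true := ext_range (a := 199395) (len := 211) h945 f_945
  have h947 : ∀ u < 199817, (fun u => chkFin tab u) u = true := ext_range (a := 199606) (len := 211) h946 f_946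
  have h948 : ∀ u < 200028, (fun u => chkFin tab u) u = true := ext_range (a := 199817) (len := 211) h947 f_947
  have h949 : ∀ u < 200239, (fun u => chkFin tab u) u = true := ext_range (a := 200028) (len := 211) h948 f_948
  have h950 : ∀ u < 200450, (fun u => chkFin tab u) u = true := ext_range (a := 200239) (len := 211) h949 f_949
  have h951 : ∀ u < 200661, (fun u => chkFin tab u) u = true := ext_range (a := 200450) (len := 211) h950 f_950
  have h952 : ∀ u < 200872, (fun u => chkFin tab u) u = true := ext_range (a := 200661) (len := 211) h951 f_951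
  have h953 : ∀ u < 201083, (fun u => chkFin tab u) u = true := ext_range (a := 200872) (len := 211) h952 f_952
  have h954 : ∀ u < 201294, (fun u => chkFin tab u) u = true := ext_range (a := 201083) (len := 211) h953 f_953
  have h955 : ∀ u < 201505, (fun u => chkFin tab u) u = true := ext_range (a := 201294) (len := 211) h954 f_954
  have h956 : ∀ u < 201716, (fun u => chkFin tab u) u = true := ext_range (a := 201505) (len := 211) h955 f_955
  have h957 : ∀ u < 201927, (fun u => chkFin tab u) u = true := ext_range (a := 201716) (len := 211) h956 f_956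
  have h958 : ∀ u < 202138, (fun u => chkFin tab u) u = true := ext_range (a := 201927) (len := 211) h957 f_957
  have h959 : ∀ u < 202349, (fun u => chkFin tab u) u = true := ext_range (a := 202138) (len := 211) h958 f_958
  have h960 : ∀ u < 202560, (fun u => chkFin tab u) u = true := ext_range (a := 202349) (len := 211) h959 f_959
  have h961 : ∀ u < 202771, (fun u => chkFin tab u) u = true := ext_range (a := 202560) (len := 211) h960 f_960
  have h962 : ∀ u < 202982, (fun u => chkFin tab u) u = true := ext_range (a := 202771) (len := 211) h961 f_961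
  have h963 : ∀ u < 203193, (fun u => chkFin tab u) u = true := ext_range (a := 202982) (len := 211) h962 f_962
  have h964 : ∀ u < 203404, (fun u => chkFin tab u) u = true := ext_range (a := 203193) (len := 211) h963 f_963
  have h965 : ∀ u < 203615, (fun u => chkFin tab u) u = true := ext_range (a := 203404) (len := 211) h964 f_964
  have h966 : ∀ u < 203826, (fun u => chkFin tab u) u = true := ext_range (a := 203615) (len := 211) h965 f_965
  have h967 : ∀ u < 204037, (fun u => chkFin tab u) u = true := ext_range (a := 203826) (len := 211) h966 f_966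
  have h968 : ∀ u < 204248, (fun u => chkFin tab u) u = true := ext_range (a := 204037) (len := 211) h967 f_967
  have h969 : ∀ u < 204459, (fun u => chkFin tab u) u = true := ext_range (a := 204248) (len := 211) h968 f_968
  have h970 : ∀ u < 204670, (fun u => chkFin tab u) u = true := ext_range (a := 204459) (len := 211) h969 f_969
  have h971 : ∀ u < 204881, (fun u => chkFin tab u) u = true := ext_range (a := 204670) (len := 211) h970 f_970
  have h972 : ∀ u < 205092, (fun u => chkFin tab u) u = true := ext_range (a := 204881) (len := 211) h971 f_971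
  have h973 : ∀ u < 205303, (fun u => chkFin tab u) u = true := ext_range (a := 205092) (len := 211) h972 f_972
  have h974 : ∀ u < 205514, (fun u => chkFin tab u) u = true := ext_range (a := 205303) (len := 211) h973 f_973
  have h975 : ∀ u < 205725, (fun u => chkFin tab u) u = true := ext_range (a := 205514) (len := 211) h974 f_974
  have h976 : ∀ u < 205936, (fun u => chkFin tab u) u = true := ext_range (a := 205725) (len := 211) h975 f_975
  have h977 : ∀ u < 206147, (fun u => chkFin tab u) u = true := ext_range (a := 205936) (len := 211) h976 f_976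
  have h978 : ∀ u < 206358, (fun u => chkFin tab u) u = true := ext_range (a := 206147) (len := 211) h977 f_977
  have h979 : ∀ u < 206569, (fun u => chkFin tab u) u = true := ext_range (a := 206358) (len := 211) h978 f_978
  have h980 : ∀ u < 206780, (fun u => chkFin tab u) u = true := ext_range (a := 206569) (len := 211) h979 f_979
  have h981 : ∀ u < 206991, (fun u => chkFin tab u) u = true := ext_range (a := 206780) (len := 211) h980 f_980
  have h982 : ∀ u < 207202, (fun u => chkFin tab u) u = true := ext_range (a := 206991) (len := 211) h981 f_981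
  have h983 : ∀ u < 207413, (fun u => chkFin tab u) u = true := ext_range (a := 207202) (len := 211) h982 f_982
  have h984 : ∀ u < 207624, (fun u => chkFin tab u) u = true := ext_range (a := 207413) (len := 211) h983 f_983
  have h985 : ∀ u < 207835, (fun u => chkFin tab u) u = true := ext_range (a := 207624) (len := 211) h984 f_984
  have h986 : ∀ u < 208046, (fun u => chkFin tab u) u = true := ext_range (a := 207835) (len := 211) h985 f_985
  have h987 : ∀ u < 208257, (fun u => chkFin tab u) u = true := ext_range (a := 208046) (len := 211) h986 f_986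
  have h988 : ∀ u < 208468, (fun u => chkFin tab u) u = true := ext_range (a := 208257) (len := 211) h987 f_987
  have h989 : ∀ u < 208679, (fun u => chkFin tab u) u = true := ext_range (a := 208468) (len := 211) h988 f_988
  have h990 : ∀ u < 208890, (fun u => chkFin tab u) u = true := ext_range (a := 208679) (len := 211) h989 f_989
  have h991 : ∀ u < 209101, (fun u => chkFin tab u) u = true := ext_range (a := 208890) (len := 211) h990 f_990
  have h992 : ∀ u < 209312, (fun u => chkFin tab u) u = true := ext_range (a := 209101) (len := 211) h991 f_991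
  have h993 : ∀ u < 209523, (fun u => chkFin tab u) u = true := ext_range (a := 209312) (len := 211) h992 f_992
  have h994 : ∀ u < 209734, (fun u => chkFin tab u) u = true := ext_range (a := 209523) (len := 211) h993 f_993
  have h995 : ∀ u < 209945, (fun u => chkFin tab u) u = true := ext_range (a := 209734) (len := 211) h994 f_994
  have h996 : ∀ u < 210156, (fun u => chkFin tab u) u = true := ext_range (a := 209945) (len := 211) h995 f_995
  have h997 : ∀ u < 210367, (fun u => chkFin tab u) u = true := ext_range (a := 210156) (len := 211) h996 f_996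
  have h998 : ∀ u < 210578, (fun u => chkFin tab u) u = true := ext_range (a := 210367) (len := 211) h997 f_997
  have h999 : ∀ u < 210789, (fun u => chkFin tab u) u = true := ext_range (a := 210578) (len := 211) h998 f_998
  have h1000 : ∀ u < 211000, (fun u => chkFin tab u) u = true := ext_range (a := 210789) (len := 211) h999 f_999
  have h1001 : ∀ u < 211211, (fun u => chkFin tab u) u = true := ext_range (a := 211000) (len := 211) h1000 f_1000
  have h1002 : ∀ u < 211422, (fun u => chkFin tab u) u = true := ext_range (a := 211211) (len := 211) h1001 f_1001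
  have h1003 : ∀ u < 211633, (fun u => chkFin tab u) u = true := ext_range (a := 211422) (len := 211) h1002 f_1002
  have h1004 : ∀ u < 211844, (fun u => chkFin tab u) u = true := ext_range (a := 211633) (len := 211) h1003 f_1003
  have h1005 : ∀ u < 212055, (fun u => chkFin tab u) u = true := ext_range (a := 211844) (len := 211) h1004 f_1004
  have h1006 : ∀ u < 212266, (fun u => chkFin tab u) u = true := ext_range (a := 212055) (len := 211) h1005 f_1005
  have h1007 : ∀ u < 212477, (fun u => chkFin tab u) u = true := ext_range (a := 212266) (len := 211) h1006 f_1006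
  have h1008 : ∀ u < 212688, (fun u => chkFin tab u) u = true := ext_range (a := 212477) (len := 211) h1007 f_1007
  have h1009 : ∀ u < 212899, (fun u => chkFin tab u) u = true := ext_range (a := 212688) (len := 211) h1008 f_1008
  have h1010 : ∀ u < 213110, (fun u => chkFin tab u) u = true := ext_range (a := 212899) (len := 211) h1009 f_1009
  have h1011 : ∀ u < 213321, (fun u => chkFin tab u) u = true := ext_range (a := 213110) (len := 211) h1010 f_1010
  have h1012 : ∀ u < 213532, (fun u => chkFin tab u) u = true := ext_range (a := 213321) (len := 211) h1011 f_1011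
  have h1013 : ∀ u < 213743, (fun u => chkFin tab u) u = true := ext_range (a := 213532) (len := 211) h1012 f_1012
  have h1014 : ∀ u < 213954, (fun u => chkFin tab u) u = true := ext_range (a := 213743) (len := 211) h1013 f_1013
  have h1015 : ∀ u < 214165, (fun u => chkFin tab u) u = true := ext_range (a := 213954) (len := 211) h1014 f_1014
  have h1016 : ∀ u < 214376, (fun u => chkFin tab u) u = true := ext_range (a := 214165) (len := 211) h1015 f_1015
  have h1017 : ∀ u < 214587, (fun u => chkFin tab u) u = true := ext_range (a := 214376) (len := 211) h1016 f_1016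
  have h1018 : ∀ u < 214798, (fun u => chkFin tab u) u = true := ext_range (a := 214587) (len := 211) h1017 f_1017
  have h1019 : ∀ u < 215009, (fun u => chkFin tab u) u = true := ext_range (a := 214798) (len := 211) h1018 f_1018
  have h1020 : ∀ u < 215220, (fun u => chkFin tab u) u = true := ext_range (a := 215009) (len := 211) h1019 f_1019
  have h1021 : ∀ u < 215431, (fun u => chkFin tab u) u = true := ext_range (a := 215220) (len := 211) h1020 f_1020
  have h1022 : ∀ u < 215642, (fun u => chkFin tab u) u = true := ext_range (a := 215431) (len := 211) h1021 f_1021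
  have h1023 : ∀ u < 215853, (fun u => chkFin tab u) u = true := ext_range (a := 215642) (len := 211) h1022 f_1022
  have h1024 : ∀ u < 216064, (fun u => chkFin tab u) u = true := ext_range (a := 215853) (len := 211) h1023 f_1023
  have h1025 : ∀ u < 216275, (fun u => chkFin tab u) u = true := ext_range (a := 216064) (len := 211) h1024 f_1024
  have h1026 : ∀ u < 216486, (fun u => chkFin tab u) u = true := ext_range (a := 216275) (len := 211) h1025 f_1025
  have h1027 : ∀ u < 216697, (fun u => chkFin tab u) u = true := ext_range (a := 216486) (len := 211) h1026 f_1026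
  have h1028 : ∀ u < 216908, (fun u => chkFin tab u) u = true := ext_range (a := 216697) (len := 211) h1027 f_1027
  have h1029 : ∀ u < 217119, (fun u => chkFin tab u) u = true := ext_range (a := 216908) (len := 211) h1028 f_1028
  have h1030 : ∀ u < 217330, (fun u => chkFin tab u) u = true := ext_range (a := 217119) (len := 211) h1029 f_1029
  have h1031 : ∀ u < 217541, (fun u => chkFin tab u) u = true := ext_range (a := 217330) (len := 211) h1030 f_1030
  have h1032 : ∀ u < 217752, (fun u => chkFin tab u) u = true := ext_range (a := 217541) (len := 211) h1031 f_1031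
  have h1033 : ∀ u < 217963, (fun u => chkFin tab u) u = true := ext_range (a := 217752) (len := 211) h1032 f_1032
  have h1034 : ∀ u < 218174, (fun u => chkFin tab u) u = true := ext_range (a := 217963) (len := 211) h1033 f_1033
  have h1035 : ∀ u < 218385, (fun u => chkFin tab u) u = true := ext_range (a := 218174) (len := 211) h1034 f_1034
  have h1036 : ∀ u < 218596, (fun u => chkFin tab u) u = true := ext_range (a := 218385) (len := 211) h1035 f_1035
  have h1037 : ∀ u < 218807, (fun u => chkFin tab u) u = true := ext_range (a := 218596) (len := 211) h1036 f_1036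
  have h1038 : ∀ u < 219018, (fun u => chkFin tab u) u = true := ext_range (a := 218807) (len := 211) h1037 f_1037
  have h1039 : ∀ u < 219229, (fun u => chkFin tab u) u = true := ext_range (a := 219018) (len := 211) h1038 f_1038
  have h1040 : ∀ u < 219440, (fun u => chkFin tab u) u = true := ext_range (a := 219229) (len := 211) h1039 f_1039
  have h1041 : ∀ u < 219651, (fun u => chkFin tab u) u = true := ext_range (a := 219440) (len := 211) h1040 f_1040
  have h1042 : ∀ u < 219862, (fun u => chkFin tab u) u = true := ext_range (a := 219651) (len := 211) h1041 f_1041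
  have h1043 : ∀ u < 220073, (fun u => chkFin tab u) u = true := ext_range (a := 219862) (len := 211) h1042 f_1042
  have h1044 : ∀ u < 220284, (fun u => chkFin tab u) u = true := ext_range (a := 220073) (len := 211) h1043 f_1043
  have h1045 : ∀ u < 220495, (fun u => chkFin tab u) u = true := ext_range (a := 220284) (len := 211) h1044 f_1044
  have h1046 : ∀ u < 220706, (fun u => chkFin tab u) u = true := ext_range (a := 220495) (len := 211) h1045 f_1045
  have h1047 : ∀ u < 220917, (fun u => chkFin tab u) u = true := ext_range (a := 220706) (len := 211) h1046 f_1046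
  have h1048 : ∀ u < 221128, (fun u => chkFin tab u) u = true := ext_range (a := 220917) (len := 211) h1047 f_1047
  have h1049 : ∀ u < 221339, (fun u => chkFin tab u) u = true := ext_range (a := 221128) (len := 211) h1048 f_1048
  have h1050 : ∀ u < 221550, (fun u => chkFin tab u) u = true := ext_range (a := 221339) (len := 211) h1049 f_1049
  have h1051 : ∀ u < 221761, (fun u => chkFin tab u) u = true := ext_range (a := 221550) (len := 211) h1050 f_1050
  have h1052 : ∀ u < 221972, (fun u => chkFin tab u) u = true := ext_range (a := 221761) (len := 211) h1051 f_1051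
  have h1053 : ∀ u < 222183, (fun u => chkFin tab u) u = true := ext_range (a := 221972) (len := 211) h1052 f_1052
  have h1054 : ∀ u < 222394, (fun u => chkFin tab u) u = true := ext_range (a := 222183) (len := 211) h1053 f_1053
  have h1055 : ∀ u < 222605, (fun u => chkFin tab u) u = true := ext_range (a := 222394) (len := 211) h1054 f_1054
  have h1056 : ∀ u < 222816, (fun u => chkFin tab u) u = true := ext_range (a := 222605) (len := 211) h1055 f_1055
  have h1057 : ∀ u < 223027, (fun u => chkFin tab u) u = true := ext_range (a := 222816) (len := 211) h1056 f_1056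
  have h1058 : ∀ u < 223238, (fun u => chkFin tab u) u = true := ext_range (a := 223027) (len := 211) h1057 f_1057
  have h1059 : ∀ u < 223449, (fun u => chkFin tab u) u = true := ext_range (a := 223238) (len := 211) h1058 f_1058
  have h1060 : ∀ u < 223660, (fun u => chkFin tab u) u = true := ext_range (a := 223449) (len := 211) h1059 f_1059
  have h1061 : ∀ u < 223871, (fun u => chkFin tab u) u = true := ext_range (a := 223660) (len := 211) h1060 f_1060
  have h1062 : ∀ u < 224082, (fun u => chkFin tab u) u = true := ext_range (a := 223871) (len := 211) h1061 f_1061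
  have h1063 : ∀ u < 224293, (fun u => chkFin tab u) u = true := ext_range (a := 224082) (len := 211) h1062 f_1062
  have h1064 : ∀ u < 224504, (fun u => chkFin tab u) u = true := ext_range (a := 224293) (len := 211) h1063 f_1063
  have h1065 : ∀ u < 224715, (fun u => chkFin tab u) u = true := ext_range (a := 224504) (len := 211) h1064 f_1064
  have h1066 : ∀ u < 224926, (fun u => chkFin tab u) u = true := ext_range (a := 224715) (len := 211) h1065 f_1065
  have h1067 : ∀ u < 225137, (fun u => chkFin tab u) u = true := ext_range (a := 224926) (len := 211) h1066 f_1066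
  have h1068 : ∀ u < 225348, (fun u => chkFin tab u) u = true := ext_range (a := 225137) (len := 211) h1067 f_1067
  have h1069 : ∀ u < 225559, (fun u => chkFin tab u) u = true := ext_range (a := 225348) (len := 211) h1068 f_1068
  have h1070 : ∀ u < 225770, (fun u => chkFin tab u) u = true := ext_range (a := 225559) (len := 211) h1069 f_1069
  have h1071 : ∀ u < 225981, (fun u => chkFin tab u) u = true := ext_range (a := 225770) (len := 211) h1070 f_1070
  have h1072 : ∀ u < 226192, (fun u => chkFin tab u) u = true := ext_range (a := 225981) (len := 211) h1071 f_1071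
  have h1073 : ∀ u < 226403, (fun u => chkFin tab u) u = true := ext_range (a := 226192) (len := 211) h1072 f_1072
  have h1074 : ∀ u < 226614, (fun u => chkFin tab u) u = true := ext_range (a := 226403) (len := 211) h1073 f_1073
  have h1075 : ∀ u < 226825, (fun u => chkFin tab u) u = true := ext_range (a := 226614) (len := 211) h1074 f_1074
  have h1076 : ∀ u < 227036, (fun u => chkFin tab u) u = true := ext_range (a := 226825) (len := 211) h1075 f_1075
  have h1077 : ∀ u < 227247, (fun u => chkFin tab u) u = true := ext_range (a := 227036) (len := 211) h1076 f_1076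
  have h1078 : ∀ u < 227458, (fun u => chkFin tab u) u = true := ext_range (a := 227247) (len := 211) h1077 f_1077
  have h1079 : ∀ u < 227669, (fun u => chkFin tab u) u = true := ext_range (a := 227458) (len := 211) h1078 f_1078
  have h1080 : ∀ u < 227880, (fun u => chkFin tab u) u = true := ext_range (a := 227669) (len := 211) h1079 f_1079
  have h1081 : ∀ u < 228091, (fun u => chkFin tab u) u = true := ext_range (a := 227880) (len := 211) h1080 f_1080
  have h1082 : ∀ u < 228302, (fun u => chkFin tab u) u = true := ext_range (a := 228091) (len := 211) h1081 f_1081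
  have h1083 : ∀ u < 228513, (fun u => chkFin tab u) u = true := ext_range (a := 228302) (len := 211) h1082 f_1082
  have h1084 : ∀ u < 228724, (fun u => chkFin tab u) u = true := ext_range (a := 228513) (len := 211) h1083 f_1083
  have h1085 : ∀ u < 228935, (fun u => chkFin tab u) u = true := ext_range (a := 228724) (len := 211) h1084 f_1084
  have h1086 : ∀ u < 229146, (fun u => chkFin tab u) u = true := ext_range (a := 228935) (len := 211) h1085 f_1085
  have h1087 : ∀ u < 229357, (fun u => chkFin tab u) u = true := ext_range (a := 229146) (len := 211) h1086 f_1086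
  have h1088 : ∀ u < 229568, (fun u => chkFin tab u) u = true := ext_range (a := 229357) (len := 211) h1087 f_1087
  have h1089 : ∀ u < 229779, (fun u => chkFin tab u) u = true := ext_range (a := 229568) (len := 211) h1088 f_1088
  have h1090 : ∀ u < 229990, (fun u => chkFin tab u) u = true := ext_range (a := 229779) (len := 211) h1089 f_1089
  have h1091 : ∀ u < 230201, (fun u => chkFin tab u) u = true := ext_range (a := 229990) (len := 211) h1090 f_1090
  have h1092 : ∀ u < 230412, (fun u => chkFin tab u) u = true := ext_range (a := 230201) (len := 211) h1091 f_1091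
  have h1093 : ∀ u < 230623, (fun u => chkFin tab u) u = true := ext_range (a := 230412) (len := 211) h1092 f_1092
  have h1094 : ∀ u < 230834, (fun u => chkFin tab u) u = true := ext_range (a := 230623) (len := 211) h1093 f_1093
  have h1095 : ∀ u < 231045, (fun u => chkFin tab u) u = true := ext_range (a := 230834) (len := 211) h1094 f_1094
  have h1096 : ∀ u < 231256, (fun u => chkFin tab u) u = true := ext_range (a := 231045) (len := 211) h1095 f_1095
  have h1097 : ∀ u < 231467, (fun u => chkFin tab u) u = true := ext_range (a := 231256) (len := 211) h1096 f_1096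
  have h1098 : ∀ u < 231678, (fun u => chkFin tab u) u = true := ext_range (a := 231467) (len := 211) h1097 f_1097
  have h1099 : ∀ u < 231889, (fun u => chkFin tab u) u = true := ext_range (a := 231678) (len := 211) h1098 f_1098
  have h1100 : ∀ u < 232100, (fun u => chkFin tab u) u = true := ext_range (a := 231889) (len := 211) h1099 f_1099
  have h1101 : ∀ u < 232311, (fun u => chkFin tab u) u = true := ext_range (a := 232100) (len := 211) h1100 f_1100
  have h1102 : ∀ u < 232522, (fun u => chkFin tab u) u = true := ext_range (a := 232311) (len := 211) h1101 f_1101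
  have h1103 : ∀ u < 232733, (fun u => chkFin tab u) u = true := ext_range (a := 232522) (len := 211) h1102 f_1102
  have h1104 : ∀ u < 232944, (fun u => chkFin tab u) u = true := ext_range (a := 232733) (len := 211) h1103 f_1103
  have h1105 : ∀ u < 233155, (fun u => chkFin tab u) u = true := ext_range (a := 232944) (len := 211) h1104 f_1104
  have h1106 : ∀ u < 233366, (fun u => chkFin tab u) u = true := ext_range (a := 233155) (len := 211) h1105 f_1105
  have h1107 : ∀ u < 233577, (fun u => chkFin tab u) u = true := ext_range (a := 233366) (len := 211) h1106 f_1106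
  have h1108 : ∀ u < 233788, (fun u => chkFin tab u) u = true := ext_range (a := 233577) (len := 211) h1107 f_1107
  have h1109 : ∀ u < 233999, (fun u => chkFin tab u) u = true := ext_range (a := 233788) (len := 211) h1108 f_1108
  have h1110 : ∀ u < 234210, (fun u => chkFin tab u) u = true := ext_range (a := 233999) (len := 211) h1109 f_1109
  have h1111 : ∀ u < 234421, (fun u => chkFin tab u) u = true := ext_range (a := 234210) (len := 211) h1110 f_1110
  have h1112 : ∀ u < 234632, (fun u => chkFin tab u) u = true := ext_range (a := 234421) (len := 211) h1111 f_1111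
  have h1113 : ∀ u < 234843, (fun u => chkFin tab u) u = true := ext_range (a := 234632) (len := 211) h1112 f_1112
  have h1114 : ∀ u < 235054, (fun u => chkFin tab u) u = true := ext_range (a := 234843) (len := 211) h1113 f_1113
  have h1115 : ∀ u < 235265, (fun u => chkFin tab u) u = true := ext_range (a := 235054) (len := 211) h1114 f_1114
  have h1116 : ∀ u < 235476, (fun u => chkFin tab u) u = true := ext_range (a := 235265) (len := 211) h1115 f_1115
  have h1117 : ∀ u < 235687, (fun u => chkFin tab u) u = true := ext_range (a := 235476) (len := 211) h1116 f_1116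
  have h1118 : ∀ u < 235898, (fun u => chkFin tab u) u = true := ext_range (a := 235687) (len := 211) h1117 f_1117
  have h1119 : ∀ u < 236109, (fun u => chkFin tab u) u = true := ext_range (a := 235898) (len := 211) h1118 f_1118
  have h1120 : ∀ u < 236320, (fun u => chkFin tab u) u = true := ext_range (a := 236109) (len := 211) h1119 f_1119
  have h1121 : ∀ u < 236531, (fun u => chkFin tab u) u = true := ext_range (a := 236320) (len := 211) h1120 f_1120
  have h1122 : ∀ u < 236742, (fun u => chkFin tab u) u = true := ext_range (a := 236531) (len := 211) h1121 f_1121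
  have h1123 : ∀ u < 236953, (fun u => chkFin tab u) u = true := ext_range (a := 236742) (len := 211) h1122 f_1122
  have h1124 : ∀ u < 237164, (fun u => chkFin tab u) u = true := ext_range (a := 236953) (len := 211) h1123 f_1123
  have h1125 : ∀ u < 237375, (fun u => chkFin tab u) u = true := ext_range (a := 237164) (len := 211) h1124 f_1124
  have h1126 : ∀ u < 237586, (fun u => chkFin tab u) u = true := ext_range (a := 237375) (len := 211) h1125 f_1125
  have h1127 : ∀ u < 237797, (fun u => chkFin tab u) u = true := ext_range (a := 237586) (len := 211) h1126 f_1126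
  have h1128 : ∀ u < 238008, (fun u => chkFin tab u) u = true := ext_range (a := 237797) (len := 211) h1127 f_1127
  have h1129 : ∀ u < 238219, (fun u => chkFin tab u) u = true := ext_range (a := 238008) (len := 211) h1128 f_1128
  have h1130 : ∀ u < 238430, (fun u => chkFin tab u) u = true := ext_range (a := 238219) (len := 211) h1129 f_1129
  have h1131 : ∀ u < 238641, (fun u => chkFin tab u) u = true := ext_range (a := 238430) (len := 211) h1130 f_1130
  have h1132 : ∀ u < 238852, (fun u => chkFin tab u) u = true := ext_range (a := 238641) (len := 211) h1131 f_1131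
  have h1133 : ∀ u < 239063, (fun u => chkFin tab u) u = true := ext_range (a := 238852) (len := 211) h1132 f_1132
  have h1134 : ∀ u < 239274, (fun u => chkFin tab u) u = true := ext_range (a := 239063) (len := 211) h1133 f_1133
  have h1135 : ∀ u < 239485, (fun u => chkFin tab u) u = true := ext_range (a := 239274) (len := 211) h1134 f_1134
  have h1136 : ∀ u < 239696, (fun u => chkFin tab u) u = true := ext_range (a := 239485) (len := 211) h1135 f_1135
  have h1137 : ∀ u < 239907, (fun u => chkFin tab u) u = true := ext_range (a := 239696) (len := 211) h1136 f_1136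
  have h1138 : ∀ u < 240118, (fun u => chkFin tab u) u = true := ext_range (a := 239907) (len := 211) h1137 f_1137
  have h1139 : ∀ u < 240329, (fun u => chkFin tab u) u = true := ext_range (a := 240118) (len := 211) h1138 f_1138
  have h1140 : ∀ u < 240540, (fun u => chkFin tab u) u = true := ext_range (a := 240329) (len := 211) h1139 f_1139
  have h1141 : ∀ u < 240751, (fun u => chkFin tab u) u = true := ext_range (a := 240540) (len := 211) h1140 f_1140
  have h1142 : ∀ u < 240962, (fun u => chkFin tab u) u = true := ext_range (a := 240751) (len := 211) h1141 f_1141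
  have h1143 : ∀ u < 241173, (fun u => chkFin tab u) u = true := ext_range (a := 240962) (len := 211) h1142 f_1142
  have h1144 : ∀ u < 241384, (fun u => chkFin tab u) u = true := ext_range (a := 241173) (len := 211) h1143 f_1143
  have h1145 : ∀ u < 241595, (fun u => chkFin tab u) u = true := ext_range (a := 241384) (len := 211) h1144 f_1144
  have h1146 : ∀ u < 241806, (fun u => chkFin tab u) u = true := ext_range (a := 241595) (len := 211) h1145 f_1145
  have h1147 : ∀ u < 242017, (fun u => chkFin tab u) u = true := ext_range (a := 241806) (len := 211) h1146 f_1146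
  have h1148 : ∀ u < 242228, (fun u => chkFin tab u) u = true := ext_range (a := 242017) (len := 211) h1147 f_1147
  have h1149 : ∀ u < 242439, (fun u => chkFin tab u) u = true := ext_range (a := 242228) (len := 211) h1148 f_1148
  have h1150 : ∀ u < 242650, (fun u => chkFin tab u) u = true := ext_range (a := 242439) (len := 211) h1149 f_1149
  have h1151 : ∀ u < 242861, (fun u => chkFin tab u) u = true := ext_range (a := 242650) (len := 211) h1150 f_1150
  have h1152 : ∀ u < 243072, (fun u => chkFin tab u) u = true := ext_range (a := 242861) (len := 211) h1151 f_1151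
  have h1153 : ∀ u < 243283, (fun u => chkFin tab u) u = true := ext_range (a := 243072) (len := 211) h1152 f_1152
  have h1154 : ∀ u < 243494, (fun u => chkFin tab u) u = true := ext_range (a := 243283) (len := 211) h1153 f_1153
  have h1155 : ∀ u < 243705, (fun u => chkFin tab u) u = true := ext_range (a := 243494) (len := 211) h1154 f_1154
  have h1156 : ∀ u < 243916, (fun u => chkFin tab u) u = true := ext_range (a := 243705) (len := 211) h1155 f_1155
  have h1157 : ∀ u < 244127, (fun u => chkFin tab u) u = true := ext_range (a := 243916) (len := 211) h1156 f_1156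
  have h1158 : ∀ u < 244338, (fun u => chkFin tab u) u = true := ext_range (a := 244127) (len := 211) h1157 f_1157
  have h1159 : ∀ u < 244549, (fun u => chkFin tab u) u = true := ext_range (a := 244338) (len := 211) h1158 f_1158
  have h1160 : ∀ u < 244760, (fun u => chkFin tab u) u = true := ext_range (a := 244549) (len := 211) h1159 f_1159
  have h1161 : ∀ u < 244971, (fun u => chkFin tab u) u = true := ext_range (a := 244760) (len := 211) h1160 f_1160
  have h1162 : ∀ u < 245182, (fun u => chkFin tab u) u = true := ext_range (a := 244971) (len := 211) h1161 f_1161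
  have h1163 : ∀ u < 245393, (fun u => chkFin tab u) u = true := ext_range (a := 245182) (len := 211) h1162 f_1162
  have h1164 : ∀ u < 245604, (fun u => chkFin tab u) u = true := ext_range (a := 245393) (len := 211) h1163 f_1163
  have h1165 : ∀ u < 245815, (fun u => chkFin tab u) u = true := ext_range (a := 245604) (len := 211) h1164 f_1164
  have h1166 : ∀ u < 246026, (fun u => chkFin tab u) u = true := ext_range (a := 245815) (len := 211) h1165 f_1165
  have h1167 : ∀ u < 246237, (fun u => chkFin tab u) u = true := ext_range (a := 246026) (len := 211) h1166 f_1166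
  have h1168 : ∀ u < 246448, (fun u => chkFin tab u) u = true := ext_range (a := 246237) (len := 211) h1167 f_1167
  have h1169 : ∀ u < 246659, (fun u => chkFin tab u) u = true := ext_range (a := 246448) (len := 211) h1168 f_1168
  have h1170 : ∀ u < 246870, (fun u => chkFin tab u) u = true := ext_range (a := 246659) (len := 211) h1169 f_1169
  have h1171 : ∀ u < 247081, (fun u => chkFin tab u) u = true := ext_range (a := 246870) (len := 211) h1170 f_1170
  have h1172 : ∀ u < 247292, (fun u => chkFin tab u) u = true := ext_range (a := 247081) (len := 211) h1171 f_1171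
  have h1173 : ∀ u < 247503, (fun u => chkFin tab u) u = true := ext_range (a := 247292) (len := 211) h1172 f_1172
  have h1174 : ∀ u < 247714, (fun u => chkFin tab u) u = true := ext_range (a := 247503) (len := 211) h1173 f_1173
  have h1175 : ∀ u < 247925, (fun u => chkFin tab u) u = true := ext_range (a := 247714) (len := 211) h1174 f_1174
  have h1176 : ∀ u < 248136, (fun u => chkFin tab u) u = true := ext_range (a := 247925) (len := 211) h1175 f_1175
  have h1177 : ∀ u < 248347, (fun u => chkFin tab u) u = true := ext_range (a := 248136) (len := 211) h1176 f_1176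
  have h1178 : ∀ u < 248558, (fun u => chkFin tab u) u = true := ext_range (a := 248347) (len := 211) h1177 f_1177
  have h1179 : ∀ u < 248769, (fun u => chkFin tab u) u = true := ext_range (a := 248558) (len := 211) h1178 f_1178
  have h1180 : ∀ u < 248980, (fun u => chkFin tab u) u = true := ext_range (a := 248769) (len := 211) h1179 f_1179
  have h1181 : ∀ u < 249191, (fun u => chkFin tab u) u = true := ext_range (a := 248980) (len := 211) h1180 f_1180
  have h1182 : ∀ u < 249402, (fun u => chkFin tab u) u = true := ext_range (a := 249191) (len := 211) h1181 f_1181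
  have h1183 : ∀ u < 249613, (fun u => chkFin tab u) u = true := ext_range (a := 249402) (len := 211) h1182 f_1182
  have h1184 : ∀ u < 249824, (fun u => chkFin tab u) u = true := ext_range (a := 249613) (len := 211) h1183 f_1183
  have h1185 : ∀ u < 250035, (fun u => chkFin tab u) u = true := ext_range (a := 249824) (len := 211) h1184 f_1184
  have h1186 : ∀ u < 250246, (fun u => chkFin tab u) u = true := ext_range (a := 250035) (len := 211) h1185 f_1185
  have h1187 : ∀ u < 250457, (fun u => chkFin tab u) u = true := ext_range (a := 250246) (len := 211) h1186 f_1186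
  have h1188 : ∀ u < 250668, (fun u => chkFin tab u) u = true := ext_range (a := 250457) (len := 211) h1187 f_1187
  have h1189 : ∀ u < 250879, (fun u => chkFin tab u) u = true := ext_range (a := 250668) (len := 211) h1188 f_1188
  have h1190 : ∀ u < 251090, (fun u => chkFin tab u) u = true := ext_range (a := 250879) (len := 211) h1189 f_1189
  have h1191 : ∀ u < 251301, (fun u => chkFin tab u) u = true := ext_range (a := 251090) (len := 211) h1190 f_1190
  have h1192 : ∀ u < 251512, (fun u => chkFin tab u) u = true := ext_range (a := 251301) (len := 211) h1191 f_1191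
  have h1193 : ∀ u < 251723, (fun u => chkFin tab u) u = true := ext_range (a := 251512) (len := 211) h1192 f_1192
  have h1194 : ∀ u < 251934, (fun u => chkFin tab u) u = true := ext_range (a := 251723) (len := 211) h1193 f_1193
  have h1195 : ∀ u < 252145, (fun u => chkFin tab u) u = true := ext_range (a := 251934) (len := 211) h1194 f_1194
  have h1196 : ∀ u < 252356, (fun u => chkFin tab u) u = true := ext_range (a := 252145) (len := 211) h1195 f_1195
  have h1197 : ∀ u < 252567, (fun u => chkFin tab u) u = true := ext_range (a := 252356) (len := 211) h1196 f_1196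
  have h1198 : ∀ u < 252778, (fun u => chkFin tab u) u = true := ext_range (a := 252567) (len := 211) h1197 f_1197
  have h1199 : ∀ u < 252989, (fun u => chkFin tab u) u = true := ext_range (a := 252778) (len := 211) h1198 f_1198
  have h1200 : ∀ u < 253200, (fun u => chkFin tab u) u = true := ext_range (a := 252989) (len := 211) h1199 f_1199
  have h1201 : ∀ u < 253411, (fun u => chkFin tab u) u = true := ext_range (a := 253200) (len := 211) h1200 f_1200
  have h1202 : ∀ u < 253622, (fun u => chkFin tab u) u = true := ext_range (a := 253411) (len := 211) h1201 f_1201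
  have h1203 : ∀ u < 253833, (fun u => chkFin tab u) u = true := ext_range (a := 253622) (len := 211) h1202 f_1202
  have h1204 : ∀ u < 254044, (fun u => chkFin tab u) u = true := ext_range (a := 253833) (len := 211) h1203 f_1203
  have h1205 : ∀ u < 254255, (fun u => chkFin tab u) u = true := ext_range (a := 254044) (len := 211) h1204 f_1204
  have h1206 : ∀ u < 254466, (fun u => chkFin tab u) u = true := ext_range (a := 254255) (len := 211) h1205 f_1205
  have h1207 : ∀ u < 254677, (fun u => chkFin tab u) u = true := ext_range (a := 254466) (len := 211) h1206 f_1206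
  have h1208 : ∀ u < 254888, (fun u => chkFin tab u) u = true := ext_range (a := 254677) (len := 211) h1207 f_1207
  have h1209 : ∀ u < 255099, (fun u => chkFin tab u) u = true := ext_range (a := 254888) (len := 211) h1208 f_1208
  have h1210 : ∀ u < 255310, (fun u => chkFin tab u) u = true := ext_range (a := 255099) (len := 211) h1209 f_1209
  have h1211 : ∀ u < 255521, (fun u => chkFin tab u) u = true := ext_range (a := 255310) (len := 211) h1210 f_1210
  have h1212 : ∀ u < 255732, (fun u => chkFin tab u) u = true := ext_range (a := 255521) (len := 211) h1211 f_1211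
  have h1213 : ∀ u < 255943, (fun u => chkFin tab u) u = true := ext_range (a := 255732) (len := 211) h1212 f_1212
  have h1214 : ∀ u < 256154, (fun u => chkFin tab u) u = true := ext_range (a := 255943) (len := 211) h1213 f_1213
  have h1215 : ∀ u < 256365, (fun u => chkFin tab u) u = true := ext_range (a := 256154) (len := 211) h1214 f_1214
  have h1216 : ∀ u < 256576, (fun u => chkFin tab u) u = true := ext_range (a := 256365) (len := 211) h1215 f_1215
  have h1217 : ∀ u < 256787, (fun u => chkFin tab u) u = true := ext_range (a := 256576) (len := 211) h1216 f_1216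
  have h1218 : ∀ u < 256998, (fun u => chkFin tab u) u = true := ext_range (a := 256787) (len := 211) h1217 f_1217
  have h1219 : ∀ u < 257209, (fun u => chkFin tab u) u = true := ext_range (a := 256998) (len := 211) h1218 f_1218
  have h1220 : ∀ u < 257420, (fun u => chkFin tab u) u = true := ext_range (a := 257209) (len := 211) h1219 f_1219
  have h1221 : ∀ u < 257631, (fun u => chkFin tab u) u = true := ext_range (a := 257420) (len := 211) h1220 f_1220
  have h1222 : ∀ u < 257842, (fun u => chkFin tab u) u = true := ext_range (a := 257631) (len := 211) h1221 f_1221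
  have h1223 : ∀ u < 258053, (fun u => chkFin tab u) u = true := ext_range (a := 257842) (len := 211) h1222 f_1222
  have h1224 : ∀ u < 258264, (fun u => chkFin tab u) u = true := ext_range (a := 258053) (len := 211) h1223 f_1223
  have h1225 : ∀ u < 258475, (fun u => chkFin tab u) u = true := ext_range (a := 258264) (len := 211) h1224 f_1224
  have h1226 : ∀ u < 258686, (fun u => chkFin tab u) u = true := ext_range (a := 258475) (len := 211) h1225 f_1225
  have h1227 : ∀ u < 258897, (fun u => chkFin tab u) u = true := ext_range (a := 258686) (len := 211) h1226 f_1226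
  have h1228 : ∀ u < 259108, (fun u => chkFin tab u) u = true := ext_range (a := 258897) (len := 211) h1227 f_1227
  have h1229 : ∀ u < 259319, (fun u => chkFin tab u) u = true := ext_range (a := 259108) (len := 211) h1228 f_1228
  have h1230 : ∀ u < 259530, (fun u => chkFin tab u) u = true := ext_range (a := 259319) (len := 211) h1229 f_1229
  have h1231 : ∀ u < 259741, (fun u => chkFin tab u) u = true := ext_range (a := 259530) (len := 211) h1230 f_1230
  have h1232 : ∀ u < 259952, (fun u => chkFin tab u) u = true := ext_range (a := 259741) (len := 211) h1231 f_1231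
  have h1233 : ∀ u < 260163, (fun u => chkFin tab u) u = true := ext_range (a := 259952) (len := 211) h1232 f_1232
  have h1234 : ∀ u < 260374, (fun u => chkFin tab u) u = true := ext_range (a := 260163) (len := 211) h1233 f_1233
  have h1235 : ∀ u < 260585, (fun u => chkFin tab u) u = true := ext_range (a := 260374) (len := 211) h1234 f_1234
  have h1236 : ∀ u < 260796, (fun u => chkFin tab u) u = true := ext_range (a := 260585) (len := 211) h1235 f_1235
  have h1237 : ∀ u < 261007, (fun u => chkFin tab u) u = true := ext_range (a := 260796) (len := 211) h1236 f_1236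
  have h1238 : ∀ u < 261218, (fun u => chkFin tab u) u = true := ext_range (a := 261007) (len := 211) h1237 f_1237
  have h1239 : ∀ u < 261429, (fun u => chkFin tab u) u = true := ext_range (a := 261218) (len := 211) h1238 f_1238
  have h1240 : ∀ u < 261640, (fun u => chkFin tab u) u = true := ext_range (a := 261429) (len := 211) h1239 f_1239
  have h1241 : ∀ u < 261851, (fun u => chkFin tab u) u = true := ext_range (a := 261640) (len := 211) h1240 f_1240
  have h1242 : ∀ u < 262062, (fun u => chkFin tab u) u = true := ext_range (a := 261851) (len := 211) h1241 f_1241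
  have h1243 : ∀ u < 262273, (fun u => chkFin tab u) u = true := ext_range (a := 262062) (len := 211) h1242 f_1242
  have h1244 : ∀ u < 262484, (fun u => chkFin tab u) u = true := ext_range (a := 262273) (len := 211) h1243 f_1243
  have h1245 : ∀ u < 262695, (fun u => chkFin tab u) u = true := ext_range (a := 262484) (len := 211) h1244 f_1244
  have h1246 : ∀ u < 262906, (fun u => chkFin tab u) u = true := ext_range (a := 262695) (len := 211) h1245 f_1245
  have h1247 : ∀ u < 263117, (fun u => chkFin tab u) u = true := ext_range (a := 262906) (len := 211) h1246 f_1246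
  have h1248 : ∀ u < 263328, (fun u => chkFin tab u) u = true := ext_range (a := 263117) (len := 211) h1247 f_1247
  have h1249 : ∀ u < 263539, (fun u => chkFin tab u) u = true := ext_range (a := 263328) (len := 211) h1248 f_1248
  have h1250 : ∀ u < 263750, (fun u => chkFin tab u) u = true := ext_range (a := 263539) (len := 211) h1249 f_1249
  have h1251 : ∀ u < 263961, (fun u => chkFin tab u) u = true := ext_range (a := 263750) (len := 211) h1250 f_1250
  have h1252 : ∀ u < 264172, (fun u => chkFin tab u) u = true := ext_range (a := 263961) (len := 211) h1251 f_1251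
  have h1253 : ∀ u < 264383, (fun u => chkFin tab u) u = true := ext_range (a := 264172) (len := 211) h1252 f_1252
  have h1254 : ∀ u < 264594, (fun u => chkFin tab u) u = true := ext_range (a := 264383) (len := 211) h1253 f_1253
  have h1255 : ∀ u < 264805, (fun u => chkFin tab u) u = true := ext_range (a := 264594) (len := 211) h1254 f_1254
  have h1256 : ∀ u < 265016, (fun u => chkFin tab u) u = true := ext_range (a := 264805) (len := 211) h1255 f_1255
  have h1257 : ∀ u < 265227, (fun u => chkFin tab u) u = true := ext_range (a := 265016) (len := 211) h1256 f_1256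
  have h1258 : ∀ u < 265438, (fun u => chkFin tab u) u = true := ext_range (a := 265227) (len := 211) h1257 f_1257
  have h1259 : ∀ u < 265649, (fun u => chkFin tab u) u = true := ext_range (a := 265438) (len := 211) h1258 f_1258
  have h1260 : ∀ u < 265860, (fun u => chkFin tab u) u = true := ext_range (a := 265649) (len := 211) h1259 f_1259
  have h1261 : ∀ u < 266071, (fun u => chkFin tab u) u = true := ext_range (a := 265860) (len := 211) h1260 f_1260
  have h1262 : ∀ u < 266282, (fun u => chkFin tab u) u = true := ext_range (a := 266071) (len := 211) h1261 f_1261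
  have h1263 : ∀ u < 266493, (fun u => chkFin tab u) u = true := ext_range (a := 266282) (len := 211) h1262 f_1262
  have h1264 : ∀ u < 266704, (fun u => chkFin tab u) u = true := ext_range (a := 266493) (len := 211) h1263 f_1263
  have h1265 : ∀ u < 266915, (fun u => chkFin tab u) u = true := ext_range (a := 266704) (len := 211) h1264 f_1264
  have h1266 : ∀ u < 267126, (fun u => chkFin tab u) u = true := ext_range (a := 266915) (len := 211) h1265 f_1265
  have h1267 : ∀ u < 267337, (fun u => chkFin tab u) u = true := ext_range (a := 267126) (len := 211) h1266 f_1266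
  have h1268 : ∀ u < 267548, (fun u => chkFin tab u) u = true := ext_range (a := 267337) (len := 211) h1267 f_1267
  have h1269 : ∀ u < 267759, (fun u => chkFin tab u) u = true := ext_range (a := 267548) (len := 211) h1268 f_1268
  have h1270 : ∀ u < 267970, (fun u => chkFin tab u) u = true := ext_range (a := 267759) (len := 211) h1269 f_1269
  have h1271 : ∀ u < 268181, (fun u => chkFin tab u) u = true := ext_range (a := 267970) (len := 211) h1270 f_1270
  have h1272 : ∀ u < 268392, (fun u => chkFin tab u) u = true := ext_range (a := 268181) (len := 211) h1271 f_1271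
  have h1273 : ∀ u < 268603, (fun u => chkFin tab u) u = true := ext_range (a := 268392) (len := 211) h1272 f_1272
  have h1274 : ∀ u < 268814, (fun u => chkFin tab u) u = true := ext_range (a := 268603) (len := 211) h1273 f_1273
  have h1275 : ∀ u < 269025, (fun u => chkFin tab u) u = true := ext_range (a := 268814) (len := 211) h1274 f_1274
  have h1276 : ∀ u < 269236, (fun u => chkFin tab u) u = true := ext_range (a := 269025) (len := 211) h1275 f_1275
  have h1277 : ∀ u < 269447, (fun u => chkFin tab u) u = true := ext_range (a := 269236) (len := 211) h1276 f_1276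
  have h1278 : ∀ u < 269658, (fun u => chkFin tab u) u = true := ext_range (a := 269447) (len := 211) h1277 f_1277
  have h1279 : ∀ u < 269869, (fun u => chkFin tab u) u = true := ext_range (a := 269658) (len := 211) h1278 f_1278
  have h1280 : ∀ u < 270080, (fun u => chkFin tab u) u = true := ext_range (a := 269869) (len := 211) h1279 f_1279
  have h1281 : ∀ u < 270291, (fun u => chkFin tab u) u = true := ext_range (a := 270080) (len := 211) h1280 f_1280
  have h1282 : ∀ u < 270502, (fun u => chkFin tab u) u = true := ext_range (a := 270291) (len := 211) h1281 f_1281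
  have h1283 : ∀ u < 270713, (fun u => chkFin tab u) u = true := ext_range (a := 270502) (len := 211) h1282 f_1282
  have h1284 : ∀ u < 270924, (fun u => chkFin tab u) u = true := ext_range (a := 270713) (len := 211) h1283 f_1283
  have h1285 : ∀ u < 271135, (fun u => chkFin tab u) u = true := ext_range (a := 270924) (len := 211) h1284 f_1284
  have h1286 : ∀ u < 271346, (fun u => chkFin tab u) u = true := ext_range (a := 271135) (len := 211) h1285 f_1285
  have h1287 : ∀ u < 271557, (fun u => chkFin tab u) u = true := ext_range (a := 271346) (len := 211) h1286 f_1286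
  have h1288 : ∀ u < 271768, (fun u => chkFin tab u) u = true := ext_range (a := 271557) (len := 211) h1287 f_1287
  have h1289 : ∀ u < 271979, (fun u => chkFin tab u) u = true := ext_range (a := 271768) (len := 211) h1288 f_1288
  have h1290 : ∀ u < 272190, (fun u => chkFin tab u) u = true := ext_range (a := 271979) (len := 211) h1289 f_1289
  have h1291 : ∀ u < 272401, (fun u => chkFin tab u) u = true := ext_range (a := 272190) (len := 211) h1290 f_1290
  have h1292 : ∀ u < 272612, (fun u => chkFin tab u) u = true := ext_range (a := 272401) (len := 211) h1291 f_1291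
  have h1293 : ∀ u < 272823, (fun u => chkFin tab u) u = true := ext_range (a := 272612) (len := 211) h1292 f_1292
  have h1294 : ∀ u < 273034, (fun u => chkFin tab u) u = true := ext_range (a := 272823) (len := 211) h1293 f_1293
  have h1295 : ∀ u < 273245, (fun u => chkFin tab u) u = true := ext_range (a := 273034) (len := 211) h1294 f_1294
  have h1296 : ∀ u < 273456, (fun u => chkFin tab u) u = true := ext_range (a := 273245) (len := 211) h1295 f_1295
  have h1297 : ∀ u < 273667, (fun u => chkFin tab u) u = true := ext_range (a := 273456) (len := 211) h1296 f_1296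
  have h1298 : ∀ u < 273878, (fun u => chkFin tab u) u = true := ext_range (a := 273667) (len := 211) h1297 f_1297
  have h1299 : ∀ u < 274089, (fun u => chkFin tab u) u = true := ext_range (a := 273878) (len := 211) h1298 f_1298
  have h1300 : ∀ u < 274300, (fun u => chkFin tab u) u = true := ext_range (a := 274089) (len := 211) h1299 f_1299
  have h1301 : ∀ u < 274511, (fun u => chkFin tab u) u = true := ext_range (a := 274300) (len := 211) h1300 f_1300
  have h1302 : ∀ u < 274722, (fun u => chkFin tab u) u = true := ext_range (a := 274511) (len := 211) h1301 f_1301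
  have h1303 : ∀ u < 274933, (fun u => chkFin tab u) u = true := ext_range (a := 274722) (len := 211) h1302 f_1302
  have h1304 : ∀ u < 275144, (fun u => chkFin tab u) u = true := ext_range (a := 274933) (len := 211) h1303 f_1303
  have h1305 : ∀ u < 275355, (fun u => chkFin tab u) u = true := ext_range (a := 275144) (len := 211) h1304 f_1304
  have h1306 : ∀ u < 275566, (fun u => chkFin tab u) u = true := ext_range (a := 275355) (len := 211) h1305 f_1305
  have h1307 : ∀ u < 275777, (fun u => chkFin tab u) u = true := ext_range (a := 275566) (len := 211) h1306 f_1306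
  have h1308 : ∀ u < 275988, (fun u => chkFin tab u) u = true := ext_range (a := 275777) (len := 211) h1307 f_1307
  have h1309 : ∀ u < 276199, (fun u => chkFin tab u) u = true := ext_range (a := 275988) (len := 211) h1308 f_1308
  have h1310 : ∀ u < 276410, (fun u => chkFin tab u) u = true := ext_range (a := 276199) (len := 211) h1309 f_1309
  have h1311 : ∀ u < 276621, (fun u => chkFin tab u) u = true := ext_range (a := 276410) (len := 211) h1310 f_1310
  have h1312 : ∀ u < 276832, (fun u => chkFin tab u) u = true := ext_range (a := 276621) (len := 211) h1311 f_1311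
  have h1313 : ∀ u < 277043, (fun u => chkFin tab u) u = true := ext_range (a := 276832) (len := 211) h1312 f_1312
  have h1314 : ∀ u < 277254, (fun u => chkFin tab u) u = true := ext_range (a := 277043) (len := 211) h1313 f_1313
  have h1315 : ∀ u < 277465, (fun u => chkFin tab u) u = true := ext_range (a := 277254) (len := 211) h1314 f_1314
  have h1316 : ∀ u < 277676, (fun u => chkFin tab u) u = true := ext_range (a := 277465) (len := 211) h1315 f_1315
  have h1317 : ∀ u < 277887, (fun u => chkFin tab u) u = true := ext_range (a := 277676) (len := 211) h1316 f_1316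
  have h1318 : ∀ u < 278098, (fun u => chkFin tab u) u = true := ext_range (a := 277887) (len := 211) h1317 f_1317
  have h1319 : ∀ u < 278309, (fun u => chkFin tab u) u = true := ext_range (a := 278098) (len := 211) h1318 f_1318
  have h1320 : ∀ u < 278520, (fun u => chkFin tab u) u = true := ext_range (a := 278309) (len := 211) h1319 f_1319
  have h1321 : ∀ u < 278731, (fun u => chkFin tab u) u = true := ext_range (a := 278520) (len := 211) h1320 f_1320
  have h1322 : ∀ u < 278942, (fun u => chkFin tab u) u = true := ext_range (a := 278731) (len := 211) h1321 f_1321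
  have h1323 : ∀ u < 279153, (fun u => chkFin tab u) u = true := ext_range (a := 278942) (len := 211) h1322 f_1322
  have h1324 : ∀ u < 279364, (fun u => chkFin tab u) u = true := ext_range (a := 279153) (len := 211) h1323 f_1323
  have h1325 : ∀ u < 279575, (fun u => chkFin tab u) u = true := ext_range (a := 279364) (len := 211) h1324 f_1324
  have h1326 : ∀ u < 279786, (fun u => chkFin tab u) u = true := ext_range (a := 279575) (len := 211) h1325 f_1325
  have h1327 : ∀ u < 279997, (fun u => chkFin tab u) u = true := ext_range (a := 279786) (len := 211) h1326 f_1326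
  have h1328 : ∀ u < 280208, (fun u => chkFin tab u) u = true := ext_range (a := 279997) (len := 211) h1327 f_1327
  have h1329 : ∀ u < 280419, (fun u => chkFin tab u) u = true := ext_range (a := 280208) (len := 211) h1328 f_1328
  have h1330 : ∀ u < 280630, (fun u => chkFin tab u) u = true := ext_range (a := 280419) (len := 211) h1329 f_1329
  have h1331 : ∀ u < 280841, (fun u => chkFin tab u) u = true := ext_range (a := 280630) (len := 211) h1330 f_1330
  have h1332 : ∀ u < 281052, (fun u => chkFin tab u) u = true := ext_range (a := 280841) (len := 211) h1331 f_1331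
  have h1333 : ∀ u < 281263, (fun u => chkFin tab u) u = true := ext_range (a := 281052) (len := 211) h1332 f_1332
  have h1334 : ∀ u < 281474, (fun u => chkFin tab u) u = true := ext_range (a := 281263) (len := 211) h1333 f_1333
  have h1335 : ∀ u < 281685, (fun u => chkFin tab u) u = true := ext_range (a := 281474) (len := 211) h1334 f_1334
  have h1336 : ∀ u < 281896, (fun u => chkFin tab u) u = true := ext_range (a := 281685) (len := 211) h1335 f_1335
  have h1337 : ∀ u < 282107, (fun u => chkFin tab u) u = true := ext_range (a := 281896) (len := 211) h1336 f_1336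
  have h1338 : ∀ u < 282318, (fun u => chkFin tab u) u = true := ext_range (a := 282107) (len := 211) h1337 f_1337
  have h1339 : ∀ u < 282529, (fun u => chkFin tab u) u = true := ext_range (a := 282318) (len := 211) h1338 f_1338
  have h1340 : ∀ u < 282740, (fun u => chkFin tab u) u = true := ext_range (a := 282529) (len := 211) h1339 f_1339
  have h1341 : ∀ u < 282951, (fun u => chkFin tab u) u = true := ext_range (a := 282740) (len := 211) h1340 f_1340
  have h1342 : ∀ u < 283162, (fun u => chkFin tab u) u = true := ext_range (a := 282951) (len := 211) h1341 f_1341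
  have h1343 : ∀ u < 283373, (fun u => chkFin tab u) u = true := ext_range (a := 283162) (len := 211) h1342 f_1342
  have h1344 : ∀ u < 283584, (fun u => chkFin tab u) u = true := ext_range (a := 283373) (len := 211) h1343 f_1343
  have h1345 : ∀ u < 283795, (fun u => chkFin tab u) u = true := ext_range (a := 283584) (len := 211) h1344 f_1344
  have h1346 : ∀ u < 284006, (fun u => chkFin tab u) u = true := ext_range (a := 283795) (len := 211) h1345 f_1345
  have h1347 : ∀ u < 284217, (fun u => chkFin tab u) u = true := ext_range (a := 284006) (len := 211) h1346 f_1346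
  have h1348 : ∀ u < 284428, (fun u => chkFin tab u) u = true := ext_range (a := 284217) (len := 211) h1347 f_1347
  have h1349 : ∀ u < 284639, (fun u => chkFin tab u) u = true := ext_range (a := 284428) (len := 211) h1348 f_1348
  have h1350 : ∀ u < 284850, (fun u => chkFin tab u) u = true := ext_range (a := 284639) (len := 211) h1349 f_1349
  have h1351 : ∀ u < 285061, (fun u => chkFin tab u) u = true := ext_range (a := 284850) (len := 211) h1350 f_1350
  have h1352 : ∀ u < 285272, (fun u => chkFin tab u) u = true := ext_range (a := 285061) (len := 211) h1351 f_1351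
  have h1353 : ∀ u < 285483, (fun u => chkFin tab u) u = true := ext_range (a := 285272) (len := 211) h1352 f_1352
  have h1354 : ∀ u < 285694, (fun u => chkFin tab u) u = true := ext_range (a := 285483) (len := 211) h1353 f_1353
  have h1355 : ∀ u < 285905, (fun u => chkFin tab u) u = true := ext_range (a := 285694) (len := 211) h1354 f_1354
  have h1356 : ∀ u < 286116, (fun u => chkFin tab u) u = true := ext_range (a := 285905) (len := 211) h1355 f_1355
  have h1357 : ∀ u < 286327, (fun u => chkFin tab u) u = true := ext_range (a := 286116) (len := 211) h1356 f_1356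
  have h1358 : ∀ u < 286538, (fun u => chkFin tab u) u = true := ext_range (a := 286327) (len := 211) h1357 f_1357
  have h1359 : ∀ u < 286749, (fun u => chkFin tab u) u = true := ext_range (a := 286538) (len := 211) h1358 f_1358
  have h1360 : ∀ u < 286960, (fun u => chkFin tab u) u = true := ext_range (a := 286749) (len := 211) h1359 f_1359
  have h1361 : ∀ u < 287171, (fun u => chkFin tab u) u = true := ext_range (a := 286960) (len := 211) h1360 f_1360
  have h1362 : ∀ u < 287382, (fun u => chkFin tab u) u = true := ext_range (a := 287171) (len := 211) h1361 f_1361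
  have h1363 : ∀ u < 287593, (fun u => chkFin tab u) u = true := ext_range (a := 287382) (len := 211) h1362 f_1362
  have h1364 : ∀ u < 287804, (fun u => chkFin tab u) u = true := ext_range (a := 287593) (len := 211) h1363 f_1363
  have h1365 : ∀ u < 288015, (fun u => chkFin tab u) u = true := ext_range (a := 287804) (len := 211) h1364 f_1364
  have h1366 : ∀ u < 288226, (fun u => chkFin tab u) u = true := ext_range (a := 288015) (len := 211) h1365 f_1365
  have h1367 : ∀ u < 288437, (fun u => chkFin tab u) u = true := ext_range (a := 288226) (len := 211) h1366 f_1366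
  have h1368 : ∀ u < 288648, (fun u => chkFin tab u) u = true := ext_range (a := 288437) (len := 211) h1367 f_1367
  have h1369 : ∀ u < 288859, (fun u => chkFin tab u) u = true := ext_range (a := 288648) (len := 211) h1368 f_1368
  have h1370 : ∀ u < 289070, (fun u => chkFin tab u) u = true := ext_range (a := 288859) (len := 211) h1369 f_1369
  have h1371 : ∀ u < 289281, (fun u => chkFin tab u) u = true := ext_range (a := 289070) (len := 211) h1370 f_1370
  have h1372 : ∀ u < 289492, (fun u => chkFin tab u) u = true := ext_range (a := 289281) (len := 211) h1371 f_1371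
  have h1373 : ∀ u < 289703, (fun u => chkFin tab u) u = true := ext_range (a := 289492) (len := 211) h1372 f_1372
  have h1374 : ∀ u < 289914, (fun u => chkFin tab u) u = true := ext_range (a := 289703) (len := 211) h1373 f_1373
  have h1375 : ∀ u < 290125, (fun u => chkFin tab u) u = true := ext_range (a := 289914) (len := 211) h1374 f_1374
  have h1376 : ∀ u < 290336, (fun u => chkFin tab u) u = true := ext_range (a := 290125) (len := 211) h1375 f_1375
  have h1377 : ∀ u < 290547, (fun u => chkFin tab u) u = true := ext_range (a := 290336) (len := 211) h1376 f_1376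
  have h1378 : ∀ u < 290758, (fun u => chkFin tab u) u = true := ext_range (a := 290547) (len := 211) h1377 f_1377
  have h1379 : ∀ u < 290969, (fun u => chkFin tab u) u = true := ext_range (a := 290758) (len := 211) h1378 f_1378
  have h1380 : ∀ u < 291180, (fun u => chkFin tab u) u = true := ext_range (a := 290969) (len := 211) h1379 f_1379
  have h1381 : ∀ u < 291391, (fun u => chkFin tab u) u = true := ext_range (a := 291180) (len := 211) h1380 f_1380
  have h1382 : ∀ u < 291602, (fun u => chkFin tab u) u = true := ext_range (a := 291391) (len := 211) h1381 f_1381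
  have h1383 : ∀ u < 291813, (fun u => chkFin tab u) u = true := ext_range (a := 291602) (len := 211) h1382 f_1382
  have h1384 : ∀ u < 292024, (fun u => chkFin tab u) u = true := ext_range (a := 291813) (len := 211) h1383 f_1383
  have h1385 : ∀ u < 292235, (fun u => chkFin tab u) u = true := ext_range (a := 292024) (len := 211) h1384 f_1384
  have h1386 : ∀ u < 292446, (fun u => chkFin tab u) u = true := ext_range (a := 292235) (len := 211) h1385 f_1385
  have h1387 : ∀ u < 292657, (fun u => chkFin tab u) u = true := ext_range (a := 292446) (len := 211) h1386 f_1386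
  have h1388 : ∀ u < 292868, (fun u => chkFin tab u) u = true := ext_range (a := 292657) (len := 211) h1387 f_1387
  have h1389 : ∀ u < 293079, (fun u => chkFin tab u) u = true := ext_range (a := 292868) (len := 211) h1388 f_1388
  have h1390 : ∀ u < 293290, (fun u => chkFin tab u) u = true := ext_range (a := 293079) (len := 211) h1389 f_1389
  have h1391 : ∀ u < 293501, (fun u => chkFin tab u) u = true := ext_range (a := 293290) (len := 211) h1390 f_1390
  have h1392 : ∀ u < 293712, (fun u => chkFin tab u) u = true := ext_range (a := 293501) (len := 211) h1391 f_1391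
  have h1393 : ∀ u < 293923, (fun u => chkFin tab u) u = true := ext_range (a := 293712) (len := 211) h1392 f_1392
  have h1394 : ∀ u < 294134, (fun u => chkFin tab u) u = true := ext_range (a := 293923) (len := 211) h1393 f_1393
  have h1395 : ∀ u < 294345, (fun u => chkFin tab u) u = true := ext_range (a := 294134) (len := 211) h1394 f_1394
  have h1396 : ∀ u < 294556, (fun u => chkFin tab u) u = true := ext_range (a := 294345) (len := 211) h1395 f_1395
  have h1397 : ∀ u < 294767, (fun u => chkFin tab u) u = true := ext_range (a := 294556) (len := 211) h1396 f_1396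
  have h1398 : ∀ u < 294978, (fun u => chkFin tab u) u = true := ext_range (a := 294767) (len := 211) h1397 f_1397
  have h1399 : ∀ u < 295189, (fun u => chkFin tab u) u = true := ext_range (a := 294978) (len := 211) h1398 f_1398
  have h1400 : ∀ u < 295400, (fun u => chkFin tab u) u = true := ext_range (a := 295189) (len := 211) h1399 f_1399
  have h1401 : ∀ u < 295611, (fun u => chkFin tab u) u = true := ext_range (a := 295400) (len := 211) h1400 f_1400
  have h1402 : ∀ u < 295822, (fun u => chkFin tab u) u = true := ext_range (a := 295611) (len := 211) h1401 f_1401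
  have h1403 : ∀ u < 296033, (fun u => chkFin tab u) u = true := ext_range (a := 295822) (len := 211) h1402 f_1402
  have h1404 : ∀ u < 296244, (fun u => chkFin tab u) u = true := ext_range (a := 296033) (len := 211) h1403 f_1403
  have h1405 : ∀ u < 296455, (fun u => chkFin tab u) u = true := ext_range (a := 296244) (len := 211) h1404 f_1404
  have h1406 : ∀ u < 296666, (fun u => chkFin tab u) u = true := ext_range (a := 296455) (len := 211) h1405 f_1405
  have h1407 : ∀ u < 296877, (fun u => chkFin tab u) u = true := ext_range (a := 296666) (len := 211) h1406 f_1406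
  have h1408 : ∀ u < 297088, (fun u => chkFin tab u) u = true := ext_range (a := 296877) (len := 211) h1407 f_1407
  have h1409 : ∀ u < 297299, (fun u => chkFin tab u) u = true := ext_range (a := 297088) (len := 211) h1408 f_1408
  have h1410 : ∀ u < 297510, (fun u => chkFin tab u) u = true := ext_range (a := 297299) (len := 211) h1409 f_1409
  have h1411 : ∀ u < 297721, (fun u => chkFin tab u) u = true := ext_range (a := 297510) (len := 211) h1410 f_1410
  have h1412 : ∀ u < 297932, (fun u => chkFin tab u) u = true := ext_range (a := 297721) (len := 211) h1411 f_1411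
  have h1413 : ∀ u < 298143, (fun u => chkFin tab u) u = true := ext_range (a := 297932) (len := 211) h1412 f_1412
  have h1414 : ∀ u < 298354, (fun u => chkFin tab u) u = true := ext_range (a := 298143) (len := 211) h1413 f_1413
  have h1415 : ∀ u < 298565, (fun u => chkFin tab u) u = true := ext_range (a := 298354) (len := 211) h1414 f_1414
  have h1416 : ∀ u < 298776, (fun u => chkFin tab u) u = true := ext_range (a := 298565) (len := 211) h1415 f_1415
  have h1417 : ∀ u < 298987, (fun u => chkFin tab u) u = true := ext_range (a := 298776) (len := 211) h1416 f_1416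
  have h1418 : ∀ u < 299198, (fun u => chkFin tab u) u = true := ext_range (a := 298987) (len := 211) h1417 f_1417
  have h1419 : ∀ u < 299409, (fun u => chkFin tab u) u = true := ext_range (a := 299198) (len := 211) h1418 f_1418
  have h1420 : ∀ u < 299620, (fun u => chkFin tab u) u = true := ext_range (a := 299409) (len := 211) h1419 f_1419
  have h1421 : ∀ u < 299831, (fun u => chkFin tab u) u = true := ext_range (a := 299620) (len := 211) h1420 f_1420
  have h1422 : ∀ u < 300042, (fun u => chkFin tab u) u = true := ext_range (a := 299831) (len := 211) h1421 f_1421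
  have h1423 : ∀ u < 300253, (fun u => chkFin tab u) u = true := ext_range (a := 300042) (len := 211) h1422 f_1422
  have h1424 : ∀ u < 300464, (fun u => chkFin tab u) u = true := ext_range (a := 300253) (len := 211) h1423 f_1423
  have h1425 : ∀ u < 300675, (fun u => chkFin tab u) u = true := ext_range (a := 300464) (len := 211) h1424 f_1424
  have h1426 : ∀ u < 300886, (fun u => chkFin tab u) u = true := ext_range (a := 300675) (len := 211) h1425 f_1425
  have h1427 : ∀ u < 301097, (fun u => chkFin tab u) u = true := ext_range (a := 300886) (len := 211) h1426 f_1426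
  have h1428 : ∀ u < 301308, (fun u => chkFin tab u) u = true := ext_range (a := 301097) (len := 211) h1427 f_1427
  have h1429 : ∀ u < 301519, (fun u => chkFin tab u) u = true := ext_range (a := 301308) (len := 211) h1428 f_1428
  have h1430 : ∀ u < 301730, (fun u => chkFin tab u) u = true := ext_range (a := 301519) (len := 211) h1429 f_1429
  have h1431 : ∀ u < 301941, (fun u => chkFin tab u) u = true := ext_range (a := 301730) (len := 211) h1430 f_1430
  have h1432 : ∀ u < 302152, (fun u => chkFin tab u) u = true := ext_range (a := 301941) (len := 211) h1431 f_1431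
  have h1433 : ∀ u < 302363, (fun u => chkFin tab u) u = true := ext_range (a := 302152) (len := 211) h1432 f_1432
  have h1434 : ∀ u < 302574, (fun u => chkFin tab u) u = true := ext_range (a := 302363) (len := 211) h1433 f_1433
  have h1435 : ∀ u < 302785, (fun u => chkFin tab u) u = true := ext_range (a := 302574) (len := 211) h1434 f_1434
  have h1436 : ∀ u < 302996, (fun u => chkFin tab u) u = true := ext_range (a := 302785) (len := 211) h1435 f_1435
  have h1437 : ∀ u < 303207, (fun u => chkFin tab u) u = true := ext_range (a := 302996) (len := 211) h1436 f_1436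
  have h1438 : ∀ u < 303418, (fun u => chkFin tab u) u = true := ext_range (a := 303207) (len := 211) h1437 f_1437
  have h1439 : ∀ u < 303629, (fun u => chkFin tab u) u = true := ext_range (a := 303418) (len := 211) h1438 f_1438
  have h1440 : ∀ u < 303840, (fun u => chkFin tab u) u = true := ext_range (a := 303629) (len := 211) h1439 f_1439
  have h1441 : ∀ u < 304051, (fun u => chkFin tab u) u = true := ext_range (a := 303840) (len := 211) h1440 f_1440
  have h1442 : ∀ u < 304262, (fun u => chkFin tab u) u = true := ext_range (a := 304051) (len := 211) h1441 f_1441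
  have h1443 : ∀ u < 304473, (fun u => chkFin tab u) u = true := ext_range (a := 304262) (len := 211) h1442 f_1442
  have h1444 : ∀ u < 304684, (fun u => chkFin tab u) u = true := ext_range (a := 304473) (len := 211) h1443 f_1443
  have h1445 : ∀ u < 304895, (fun u => chkFin tab u) u = true := ext_range (a := 304684) (len := 211) h1444 f_1444
  have h1446 : ∀ u < 305106, (fun u => chkFin tab u) u = true := ext_range (a := 304895) (len := 211) h1445 f_1445
  have h1447 : ∀ u < 305317, (fun u => chkFin tab u) u = true := ext_range (a := 305106) (len := 211) h1446 f_1446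
  have h1448 : ∀ u < 305528, (fun u => chkFin tab u) u = true := ext_range (a := 305317) (len := 211) h1447 f_1447
  have h1449 : ∀ u < 305739, (fun u => chkFin tab u) u = true := ext_range (a := 305528) (len := 211) h1448 f_1448
  have h1450 : ∀ u < 305950, (fun u => chkFin tab u) u = true := ext_range (a := 305739) (len := 211) h1449 f_1449
  have h1451 : ∀ u < 306161, (fun u => chkFin tab u) u = true := ext_range (a := 305950) (len := 211) h1450 f_1450
  have h1452 : ∀ u < 306372, (fun u => chkFin tab u) u = true := ext_range (a := 306161) (len := 211) h1451 f_1451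
  have h1453 : ∀ u < 306583, (fun u => chkFin tab u) u = true := ext_range (a := 306372) (len := 211) h1452 f_1452
  have h1454 : ∀ u < 306794, (fun u => chkFin tab u) u = true := ext_range (a := 306583) (len := 211) h1453 f_1453
  have h1455 : ∀ u < 306936, (fun u => chkFin tab u) u = true := ext_range (a := 306794) (len := 142) h1454 f_1454
  exact h1455

theorem hC : ∀ u < 394454, chkCls tab u = true := by
  have h0 : ∀ u < 0, (fun u => chkCls tab u) u = true := range_zero
  have h1 : ∀ u < 2667, (fun u => chkCls tab u) u = true := ext_range (a := 0) (len := 2667) h0 c_0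
  have h2 : ∀ u < 5334, (fun u => chkCls tab u) u = true := ext_range (a := 2667) (len := 2667) h1 c_1
  have h3 : ∀ u < 8001, (fun u => chkCls tab u) u = true := ext_range (a := 5334) (len := 2667) h2 c_2
  have h4 : ∀ u < 10668, (fun u => chkCls tab u) u = true := ext_range (a := 8001) (len := 2667) h3 c_3
  have h5 : ∀ u < 13335, (fun u => chkCls tab u) u = true := ext_range (a := 10668) (len := 2667) h4 c_4
  have h6 : ∀ u < 16002, (fun u => chkCls tab u) u = true := ext_range (a := 13335) (len := 2667) h5 c_5
  have h7 : ∀ u < 18669, (fun u => chkCls tab u) u = true := ext_range (a := 16002) (len := 2667) h6 c_6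
  have h8 : ∀ u < 21336, (fun u => chkCls tab u) u = true := ext_range (a := 18669) (len := 2667) h7 c_7
  have h9 : ∀ u < 24003, (fun u => chkCls tab u) u = true := ext_range (a := 21336) (len := 2667) h8 c_8
  have h10 : ∀ u < 26670, (fun u => chkCls tab u) u = true := ext_range (a := 24003) (len := 2667) h9 c_9
  have h11 : ∀ u < 29337, (fun u => chkCls tab u) u = true := ext_range (a := 26670) (len := 2667) h10 c_10
  have h12 : ∀ u < 32004, (fun u => chkCls tab u) u = true := ext_range (a := 29337) (len := 2667) h11 c_11
  have h13 : ∀ u < 34671, (fun u => chkCls tab u) u = true := ext_range (a := 32004) (len := 2667) h12 c_12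
  have h14 : ∀ u < 37338, (fun u => chkCls tab u) u = true := ext_range (a := 34671) (len := 2667) h13 c_13
  have h15 : ∀ u < 40005, (fun u => chkCls tab u) u = true := ext_range (a := 37338) (len := 2667) h14 c_14
  have h16 : ∀ u < 42672, (fun u => chkCls tab u) u = true := ext_range (a := 40005) (len := 2667) h15 c_15
  have h17 : ∀ u < 45339, (fun u => chkCls tab u) u = true := ext_range (a := 42672) (len := 2667) h16 c_16
  have h18 : ∀ u < 48006, (fun u => chkCls tab u) u = true := ext_range (a := 45339) (len := 2667) h17 c_17
  have h19 : ∀ u < 50673, (fun u => chkCls tab u) u = true := ext_range (a := 48006) (len := 2667) h18 c_18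
  have h20 : ∀ u < 53340, (fun u => chkCls tab u) u = true := ext_range (a := 50673) (len := 2667) h19 c_19
  have h21 : ∀ u < 56007, (fun u => chkCls tab u) u = true := ext_range (a := 53340) (len := 2667) h20 c_20
  have h22 : ∀ u < 58674, (fun u => chkCls tab u) u = true := ext_range (a := 56007) (len := 2667) h21 c_21
  have h23 : ∀ u < 61341, (fun u => chkCls tab u) u = true := ext_range (a := 58674) (len := 2667) h22 c_22
  have h24 : ∀ u < 64008, (fun u => chkCls tab u) u = true := ext_range (a := 61341) (len := 2667) h23 c_23
  have h25 : ∀ u < 66675, (fun u => chkCls tab u) u = true := ext_range (a := 64008) (len := 2667) h24 c_24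
  have h26 : ∀ u < 69342, (fun u => chkCls tab u) u = true := ext_range (a := 66675) (len := 2667) h25 c_25
  have h27 : ∀ u < 72009, (fun u => chkCls tab u) u = true := ext_range (a := 69342) (len := 2667) h26 c_26
  have h28 : ∀ u < 74676, (fun u => chkCls tab u) u = true := ext_range (a := 72009) (len := 2667) h27 c_27
  have h29 : ∀ u < 77343, (fun u => chkCls tab u) u = true := ext_range (a := 74676) (len := 2667) h28 c_28
  have h30 : ∀ u < 80010, (fun u => chkCls tab u) u = true := ext_range (a := 77343) (len := 2667) h29 c_29
  have h31 : ∀ u < 82677, (fun u => chkCls tab u) u = true := ext_range (a := 80010) (len := 2667) h30 c_30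
  have h32 : ∀ u < 85344, (fun u => chkCls tab u) u = true := ext_range (a := 82677) (len := 2667) h31 c_31
  have h33 : ∀ u < 88011, (fun u => chkCls tab u) u = true := ext_range (a := 85344) (len := 2667) h32 c_32
  have h34 : ∀ u < 90678, (fun u => chkCls tab u) u = true := ext_range (a := 88011) (len := 2667) h33 c_33
  have h35 : ∀ u < 93345, (fun u => chkCls tab u) u = true := ext_range (a := 90678) (len := 2667) h34 c_34
  have h36 : ∀ u < 96012, (fun u => chkCls tab u) u = true := ext_range (a := 93345) (len := 2667) h35 c_35
  have h37 : ∀ u < 98679, (fun u => chkCls tab u) u = true := ext_range (a := 96012) (len := 2667) h36 c_36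
  have h38 : ∀ u < 101346, (fun u => chkCls tab u) u = true := ext_range (a := 98679) (len := 2667) h37 c_37
  have h39 : ∀ u < 104013, (fun u => chkCls tab u) u = true := ext_range (a := 101346) (len := 2667) h38 c_38
  have h40 : ∀ u < 106680, (fun u => chkCls tab u) u = true := ext_range (a := 104013) (len := 2667) h39 c_39
  have h41 : ∀ u < 109347, (fun u => chkCls tab u) u = true := ext_range (a := 106680) (len := 2667) h40 c_40
  have h42 : ∀ u < 112014, (fun u => chkCls tab u) u = true := ext_range (a := 109347) (len := 2667) h41 c_41
  have h43 : ∀ u < 114681, (fun u => chkCls tab u) u = true := ext_range (a := 112014) (len := 2667) h42 c_42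
  have h44 : ∀ u < 117348, (fun u => chkCls tab u) u = true := ext_range (a := 114681) (len := 2667) h43 c_43
  have h45 : ∀ u < 120015, (fun u => chkCls tab u) u = true := ext_range (a := 117348) (len := 2667) h44 c_44
  have h46 : ∀ u < 122682, (fun u => chkCls tab u) u = true := ext_range (a := 120015) (len := 2667) h45 c_45
  have h47 : ∀ u < 125349, (fun u => chkCls tab u) u = true := ext_range (a := 122682) (len := 2667) h46 c_46
  have h48 : ∀ u < 128016, (fun u => chkCls tab u) u = true := ext_range (a := 125349) (len := 2667) h47 c_47
  have h49 : ∀ u < 130683, (fun u => chkCls tab u) u = true := ext_range (a := 128016) (len := 2667) h48 c_48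
  have h50 : ∀ u < 133350, (fun u => chkCls tab u) u = true := ext_range (a := 130683) (len := 2667) h49 c_49
  have h51 : ∀ u < 136017, (fun u => chkCls tab u) u = true := ext_range (a := 133350) (len := 2667) h50 c_50
  have h52 : ∀ u < 138684, (fun u => chkCls tab u) u = true := ext_range (a := 136017) (len := 2667) h51 c_51
  have h53 : ∀ u < 141351, (fun u => chkCls tab u) u = true := ext_range (a := 138684) (len := 2667) h52 c_52
  have h54 : ∀ u < 144018, (fun u => chkCls tab u) u = true := ext_range (a := 141351) (len := 2667) h53 c_53
  have h55 : ∀ u < 146685, (fun u => chkCls tab u) u = true := ext_range (a := 144018) (len := 2667) h54 c_54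
  have h56 : ∀ u < 149352, (fun u => chkCls tab u) u = true := ext_range (a := 146685) (len := 2667) h55 c_55
  have h57 : ∀ u < 152019, (fun u => chkCls tab u) u = true := ext_range (a := 149352) (len := 2667) h56 c_56
  have h58 : ∀ u < 154686, (fun u => chkCls tab u) u = true := ext_range (a := 152019) (len := 2667) h57 c_57
  have h59 : ∀ u < 157353, (fun u => chkCls tab u) u = true := ext_range (a := 154686) (len := 2667) h58 c_58
  have h60 : ∀ u < 160020, (fun u => chkCls tab u) u = true := ext_range (a := 157353) (len := 2667) h59 c_59
  have h61 : ∀ u < 162687, (fun u => chkCls tab u) u = true := ext_range (a := 160020) (len := 2667) h60 c_60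
  have h62 : ∀ u < 165354, (fun u => chkCls tab u) u = true := ext_range (a := 162687) (len := 2667) h61 c_61
  have h63 : ∀ u < 168021, (fun u => chkCls tab u) u = true := ext_range (a := 165354) (len := 2667) h62 c_62
  have h64 : ∀ u < 170688, (fun u => chkCls tab u) u = true := ext_range (a := 168021) (len := 2667) h63 c_63
  have h65 : ∀ u < 173355, (fun u => chkCls tab u) u = true := ext_range (a := 170688) (len := 2667) h64 c_64
  have h66 : ∀ u < 176022, (fun u => chkCls tab u) u = true := ext_range (a := 173355) (len := 2667) h65 c_65
  have h67 : ∀ u < 178689, (fun u => chkCls tab u) u = true := ext_range (a := 176022) (len := 2667) h66 c_66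
  have h68 : ∀ u < 181356, (fun u => chkCls tab u) u = true := ext_range (a := 178689) (len := 2667) h67 c_67
  have h69 : ∀ u < 184023, (fun u => chkCls tab u) u = true := ext_range (a := 181356) (len := 2667) h68 c_68
  have h70 : ∀ u < 186690, (fun u => chkCls tab u) u = true := ext_range (a := 184023) (len := 2667) h69 c_69
  have h71 : ∀ u < 189357, (fun u => chkCls tab u) u = true := ext_range (a := 186690) (len := 2667) h70 c_70
  have h72 : ∀ u < 192024, (fun u => chkCls tab u) u = true := ext_range (a := 189357) (len := 2667) h71 c_71
  have h73 : ∀ u < 194691, (fun u => chkCls tab u) u = true := ext_range (a := 192024) (len := 2667) h72 c_72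
  have h74 : ∀ u < 197358, (fun u => chkCls tab u) u = true := ext_range (a := 194691) (len := 2667) h73 c_73
  have h75 : ∀ u < 200025, (fun u => chkCls tab u) u = true := ext_range (a := 197358) (len := 2667) h74 c_74
  have h76 : ∀ u < 202692, (fun u => chkCls tab u) u = true := ext_range (a := 200025) (len := 2667) h75 c_75
  have h77 : ∀ u < 205359, (fun u => chkCls tab u) u = true := ext_range (a := 202692) (len := 2667) h76 c_76
  have h78 : ∀ u < 208026, (fun u => chkCls tab u) u = true := ext_range (a := 205359) (len := 2667) h77 c_77
  have h79 : ∀ u < 210693, (fun u => chkCls tab u) u = true := ext_range (a := 208026) (len := 2667) h78 c_78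
  have h80 : ∀ u < 213360, (fun u => chkCls tab u) u = true := ext_range (a := 210693) (len := 2667) h79 c_79
  have h81 : ∀ u < 216027, (fun u => chkCls tab u) u = true := ext_range (a := 213360) (len := 2667) h80 c_80
  have h82 : ∀ u < 218694, (fun u => chkCls tab u) u = true := ext_range (a := 216027) (len := 2667) h81 c_81
  have h83 : ∀ u < 221361, (fun u => chkCls tab u) u = true := ext_range (a := 218694) (len := 2667) h82 c_82
  have h84 : ∀ u < 224028, (fun u => chkCls tab u) u = true := ext_range (a := 221361) (len := 2667) h83 c_83
  have h85 : ∀ u < 226695, (fun u => chkCls tab u) u = true := ext_range (a := 224028) (len := 2667) h84 c_84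
  have h86 : ∀ u < 229362, (fun u => chkCls tab u) u = true := ext_range (a := 226695) (len := 2667) h85 c_85
  have h87 : ∀ u < 232029, (fun u => chkCls tab u) u = true := ext_range (a := 229362) (len := 2667) h86 c_86
  have h88 : ∀ u < 234696, (fun u => chkCls tab u) u = true := ext_range (a := 232029) (len := 2667) h87 c_87
  have h89 : ∀ u < 237363, (fun u => chkCls tab u) u = true := ext_range (a := 234696) (len := 2667) h88 c_88
  have h90 : ∀ u < 240030, (fun u => chkCls tab u) u = true := ext_range (a := 237363) (len := 2667) h89 c_89
  have h91 : ∀ u < 242697, (fun u => chkCls tab u) u = true := ext_range (a := 240030) (len := 2667) h90 c_90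
  have h92 : ∀ u < 245364, (fun u => chkCls tab u) u = true := ext_range (a := 242697) (len := 2667) h91 c_91
  have h93 : ∀ u < 248031, (fun u => chkCls tab u) u = true := ext_range (a := 245364) (len := 2667) h92 c_92
  have h94 : ∀ u < 250698, (fun u => chkCls tab u) u = true := ext_range (a := 248031) (len := 2667) h93 c_93
  have h95 : ∀ u < 253365, (fun u => chkCls tab u) u = true := ext_range (a := 250698) (len := 2667) h94 c_94
  have h96 : ∀ u < 256032, (fun u => chkCls tab u) u = true := ext_range (a := 253365) (len := 2667) h95 c_95
  have h97 : ∀ u < 258699, (fun u => chkCls tab u) u = true := ext_range (a := 256032) (len := 2667) h96 c_96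
  have h98 : ∀ u < 261366, (fun u => chkCls tab u) u = true := ext_range (a := 258699) (len := 2667) h97 c_97
  have h99 : ∀ u < 264033, (fun u => chkCls tab u) u = true := ext_range (a := 261366) (len := 2667) h98 c_98
  have h100 : ∀ u < 266700, (fun u => chkCls tab u) u = true := ext_range (a := 264033) (len := 2667) h99 c_99
  have h101 : ∀ u < 269367, (fun u => chkCls tab u) u = true := ext_range (a := 266700) (len := 2667) h100 c_100
  have h102 : ∀ u < 272034, (fun u => chkCls tab u) u = true := ext_range (a := 269367) (len := 2667) h101 c_101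
  have h103 : ∀ u < 274701, (fun u => chkCls tab u) u = true := ext_range (a := 272034) (len := 2667) h102 c_102
  have h104 : ∀ u < 277368, (fun u => chkCls tab u) u = true := ext_range (a := 274701) (len := 2667) h103 c_103
  have h105 : ∀ u < 280035, (fun u => chkCls tab u) u = true := ext_range (a := 277368) (len := 2667) h104 c_104
  have h106 : ∀ u < 282702, (fun u => chkCls tab u) u = true := ext_range (a := 280035) (len := 2667) h105 c_105
  have h107 : ∀ u < 285369, (fun u => chkCls tab u) u = true := ext_range (a := 282702) (len := 2667) h106 c_106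
  have h108 : ∀ u < 288036, (fun u => chkCls tab u) u = true := ext_range (a := 285369) (len := 2667) h107 c_107
  have h109 : ∀ u < 290703, (fun u => chkCls tab u) u = true := ext_range (a := 288036) (len := 2667) h108 c_108
  have h110 : ∀ u < 293370, (fun u => chkCls tab u) u = true := ext_range (a := 290703) (len := 2667) h109 c_109
  have h111 : ∀ u < 296037, (fun u => chkCls tab u) u = true := ext_range (a := 293370) (len := 2667) h110 c_110
  have h112 : ∀ u < 298704, (fun u => chkCls tab u) u = true := ext_range (a := 296037) (len := 2667) h111 c_111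
  have h113 : ∀ u < 301371, (fun u => chkCls tab u) u = true := ext_range (a := 298704) (len := 2667) h112 c_112
  have h114 : ∀ u < 304038, (fun u => chkCls tab u) u = true := ext_range (a := 301371) (len := 2667) h113 c_113
  have h115 : ∀ u < 306705, (fun u => chkCls tab u) u = true := ext_range (a := 304038) (len := 2667) h114 c_114
  have h116 : ∀ u < 309372, (fun u => chkCls tab u) u = true := ext_range (a := 306705) (len := 2667) h115 c_115
  have h117 : ∀ u < 312039, (fun u => chkCls tab u) u = true := ext_range (a := 309372) (len := 2667) h116 c_116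
  have h118 : ∀ u < 314706, (fun u => chkCls tab u) u = true := ext_range (a := 312039) (len := 2667) h117 c_117
  have h119 : ∀ u < 317373, (fun u => chkCls tab u) u = true := ext_range (a := 314706) (len := 2667) h118 c_118
  have h120 : ∀ u < 320040, (fun u => chkCls tab u) u = true := ext_range (a := 317373) (len := 2667) h119 c_119
  have h121 : ∀ u < 322707, (fun u => chkCls tab u) u = true := ext_range (a := 320040) (len := 2667) h120 c_120
  have h122 : ∀ u < 325374, (fun u => chkCls tab u) u = true := ext_range (a := 322707) (len := 2667) h121 c_121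
  have h123 : ∀ u < 328041, (fun u => chkCls tab u) u = true := ext_range (a := 325374) (len := 2667) h122 c_122
  have h124 : ∀ u < 330708, (fun u => chkCls tab u) u = true := ext_range (a := 328041) (len := 2667) h123 c_123
  have h125 : ∀ u < 333375, (fun u => chkCls tab u) u = true := ext_range (a := 330708) (len := 2667) h124 c_124
  have h126 : ∀ u < 336042, (fun u => chkCls tab u) u = true := ext_range (a := 333375) (len := 2667) h125 c_125
  have h127 : ∀ u < 338709, (fun u => chkCls tab u) u = true := ext_range (a := 336042) (len := 2667) h126 c_126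
  have h128 : ∀ u < 341376, (fun u => chkCls tab u) u = true := ext_range (a := 338709) (len := 2667) h127 c_127
  have h129 : ∀ u < 344043, (fun u => chkCls tab u) u = true := ext_range (a := 341376) (len := 2667) h128 c_128
  have h130 : ∀ u < 346710, (fun u => chkCls tab u) u = true := ext_range (a := 344043) (len := 2667) h129 c_129
  have h131 : ∀ u < 349377, (fun u => chkCls tab u) u = true := ext_range (a := 346710) (len := 2667) h130 c_130
  have h132 : ∀ u < 352044, (fun u => chkCls tab u) u = true := ext_range (a := 349377) (len := 2667) h131 c_131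
  have h133 : ∀ u < 354711, (fun u => chkCls tab u) u = true := ext_range (a := 352044) (len := 2667) h132 c_132
  have h134 : ∀ u < 357378, (fun u => chkCls tab u) u = true := ext_range (a := 354711) (len := 2667) h133 c_133
  have h135 : ∀ u < 360045, (fun u => chkCls tab u) u = true := ext_range (a := 357378) (len := 2667) h134 c_134
  have h136 : ∀ u < 362712, (fun u => chkCls tab u) u = true := ext_range (a := 360045) (len := 2667) h135 c_135
  have h137 : ∀ u < 365379, (fun u => chkCls tab u) u = true := ext_range (a := 362712) (len := 2667) h136 c_136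
  have h138 : ∀ u < 368046, (fun u => chkCls tab u) u = true := ext_range (a := 365379) (len := 2667) h137 c_137
  have h139 : ∀ u < 370713, (fun u => chkCls tab u) u = true := ext_range (a := 368046) (len := 2667) h138 c_138
  have h140 : ∀ u < 373380, (fun u => chkCls tab u) u = true := ext_range (a := 370713) (len := 2667) h139 c_139
  have h141 : ∀ u < 376047, (fun u => chkCls tab u) u = true := ext_range (a := 373380) (len := 2667) h140 c_140
  have h142 : ∀ u < 378714, (fun u => chkCls tab u) u = true := ext_range (a := 376047) (len := 2667) h141 c_141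
  have h143 : ∀ u < 381381, (fun u => chkCls tab u) u = true := ext_range (a := 378714) (len := 2667) h142 c_142
  have h144 : ∀ u < 384048, (fun u => chkCls tab u) u = true := ext_range (a := 381381) (len := 2667) h143 c_143
  have h145 : ∀ u < 386715, (fun u => chkCls tab u) u = true := ext_range (a := 384048) (len := 2667) h144 c_144
  have h146 : ∀ u < 389382, (fun u => chkCls tab u) u = true := ext_range (a := 386715) (len := 2667) h145 c_145
  have h147 : ∀ u < 392049, (fun u => chkCls tab u) u = true := ext_range (a := 389382) (len := 2667) h146 c_146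
  have h148 : ∀ u < 394454, (fun u => chkCls tab u) u = true := ext_range (a := 392049) (len := 2405) h147 c_147
  exact h148

theorem hM1 : ∀ u < 306936, chkM1 tab u = true := by
  have h0 : ∀ u < 0, (fun u => chkM1 tab u) u = true := range_zero
  have h1 : ∀ u < 537, (fun u => chkM1 tab u) u = true := ext_range (a := 0) (len := 537) h0 m1_0
  have h2 : ∀ u < 1074, (fun u => chkM1 tab u) u = true := ext_range (a := 537) (len := 537) h1 m1_1
  have h3 : ∀ u < 1611, (fun u => chkM1 tab u) u = true := ext_range (a := 1074) (len := 537) h2 m1_2
  have h4 : ∀ u < 2148, (fun u => chkM1 tab u) u = true := ext_range (a := 1611) (len := 537) h3 m1_3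
  have h5 : ∀ u < 2685, (fun u => chkM1 tab u) u = true := ext_range (a := 2148) (len := 537) h4 m1_4
  have h6 : ∀ u < 3222, (fun u => chkM1 tab u) u = true := ext_range (a := 2685) (len := 537) h5 m1_5
  have h7 : ∀ u < 3759, (fun u => chkM1 tab u) u = true := ext_range (a := 3222) (len := 537) h6 m1_6
  have h8 : ∀ u < 4296, (fun u => chkM1 tab u) u = true := ext_range (a := 3759) (len := 537) h7 m1_7
  have h9 : ∀ u < 4833, (fun u => chkM1 tab u) u = true := ext_range (a := 4296) (len := 537) h8 m1_8
  have h10 : ∀ u < 5370, (fun u => chkM1 tab u) u = true := ext_range (a := 4833) (len := 537) h9 m1_9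
  have h11 : ∀ u < 5907, (fun u => chkM1 tab u) u = true := ext_range (a := 5370) (len := 537) h10 m1_10
  have h12 : ∀ u < 6444, (fun u => chkM1 tab u) u = true := ext_range (a := 5907) (len := 537) h11 m1_11
  have h13 : ∀ u < 6981, (fun u => chkM1 tab u) u = true := ext_range (a := 6444) (len := 537) h12 m1_12
  have h14 : ∀ u < 7518, (fun u => chkM1 tab u) u = true := ext_range (a := 6981) (len := 537) h13 m1_13
  have h15 : ∀ u < 8055, (fun u => chkM1 tab u) u = true := ext_range (a := 7518) (len := 537) h14 m1_14
  have h16 : ∀ u < 8592, (fun u => chkM1 tab u) u = true := ext_range (a := 8055) (len := 537) h15 m1_15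
  have h17 : ∀ u < 9129, (fun u => chkM1 tab u) u = true := ext_range (a := 8592) (len := 537) h16 m1_16
  have h18 : ∀ u < 9666, (fun u => chkM1 tab u) u = true := ext_range (a := 9129) (len := 537) h17 m1_17
  have h19 : ∀ u < 10203, (fun u => chkM1 tab u) u = true := ext_range (a := 9666) (len := 537) h18 m1_18
  have h20 : ∀ u < 10740, (fun u => chkM1 tab u) u = true := ext_range (a := 10203) (len := 537) h19 m1_19
  have h21 : ∀ u < 11277, (fun u => chkM1 tab u) u = true := ext_range (a := 10740) (len := 537) h20 m1_20
  have h22 : ∀ u < 11814, (fun u => chkM1 tab u) u = true := ext_range (a := 11277) (len := 537) h21 m1_21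
  have h23 : ∀ u < 12351, (fun u => chkM1 tab u) u = true := ext_range (a := 11814) (len := 537) h22 m1_22
  have h24 : ∀ u < 12888, (fun u => chkM1 tab u) u = true := ext_range (a := 12351) (len := 537) h23 m1_23
  have h25 : ∀ u < 13425, (fun u => chkM1 tab u) u = true := ext_range (a := 12888) (len := 537) h24 m1_24
  have h26 : ∀ u < 13962, (fun u => chkM1 tab u) u = true := ext_range (a := 13425) (len := 537) h25 m1_25
  have h27 : ∀ u < 14499, (fun u => chkM1 tab u) u = true := ext_range (a := 13962) (len := 537) h26 m1_26
  have h28 : ∀ u < 15036, (fun u => chkM1 tab u) u = true := ext_range (a := 14499) (len := 537) h27 m1_27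
  have h29 : ∀ u < 15573, (fun u => chkM1 tab u) u = true := ext_range (a := 15036) (len := 537) h28 m1_28
  have h30 : ∀ u < 16110, (fun u => chkM1 tab u) u = true := ext_range (a := 15573) (len := 537) h29 m1_29
  have h31 : ∀ u < 16647, (fun u => chkM1 tab u) u = true := ext_range (a := 16110) (len := 537) h30 m1_30
  have h32 : ∀ u < 17184, (fun u => chkM1 tab u) u = true := ext_range (a := 16647) (len := 537) h31 m1_31
  have h33 : ∀ u < 17721, (fun u => chkM1 tab u) u = true := ext_range (a := 17184) (len := 537) h32 m1_32
  have h34 : ∀ u < 18258, (fun u => chkM1 tab u) u = true := ext_range (a := 17721) (len := 537) h33 m1_33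
  have h35 : ∀ u < 18795, (fun u => chkM1 tab u) u = true := ext_range (a := 18258) (len := 537) h34 m1_34
  have h36 : ∀ u < 19332, (fun u => chkM1 tab u) u = true := ext_range (a := 18795) (len := 537) h35 m1_35
  have h37 : ∀ u < 19869, (fun u => chkM1 tab u) u = true := ext_range (a := 19332) (len := 537) h36 m1_36
  have h38 : ∀ u < 20406, (fun u => chkM1 tab u) u = true := ext_range (a := 19869) (len := 537) h37 m1_37
  have h39 : ∀ u < 20943, (fun u => chkM1 tab u) u = true := ext_range (a := 20406) (len := 537) h38 m1_38
  have h40 : ∀ u < 21480, (fun u => chkM1 tab u) u = true := ext_range (a := 20943) (len := 537) h39 m1_39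
  have h41 : ∀ u < 22017, (fun u => chkM1 tab u) u = true := ext_range (a := 21480) (len := 537) h40 m1_40
  have h42 : ∀ u < 22554, (fun u => chkM1 tab u) u = true := ext_range (a := 22017) (len := 537) h41 m1_41
  have h43 : ∀ u < 23091, (fun u => chkM1 tab u) u = true := ext_range (a := 22554) (len := 537) h42 m1_42
  have h44 : ∀ u < 23628, (fun u => chkM1 tab u) u = true := ext_range (a := 23091) (len := 537) h43 m1_43
  have h45 : ∀ u < 24165, (fun u => chkM1 tab u) u = true := ext_range (a := 23628) (len := 537) h44 m1_44
  have h46 : ∀ u < 24702, (fun u => chkM1 tab u) u = true := ext_range (a := 24165) (len := 537) h45 m1_45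
  have h47 : ∀ u < 25239, (fun u => chkM1 tab u) u = true := ext_range (a := 24702) (len := 537) h46 m1_46
  have h48 : ∀ u < 25776, (fun u => chkM1 tab u) u = true := ext_range (a := 25239) (len := 537) h47 m1_47
  have h49 : ∀ u < 26313, (fun u => chkM1 tab u) u = true := ext_range (a := 25776) (len := 537) h48 m1_48
  have h50 : ∀ u < 26850, (fun u => chkM1 tab u) u = true := ext_range (a := 26313) (len := 537) h49 m1_49
  have h51 : ∀ u < 27387, (fun u => chkM1 tab u) u = true := ext_range (a := 26850) (len := 537) h50 m1_50
  have h52 : ∀ u < 27924, (fun u => chkM1 tab u) u = true := ext_range (a := 27387) (len := 537) h51 m1_51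
  have h53 : ∀ u < 28461, (fun u => chkM1 tab u) u = true := ext_range (a := 27924) (len := 537) h52 m1_52
  have h54 : ∀ u < 28998, (fun u => chkM1 tab u) u = true := ext_range (a := 28461) (len := 537) h53 m1_53
  have h55 : ∀ u < 29535, (fun u => chkM1 tab u) u = true := ext_range (a := 28998) (len := 537) h54 m1_54
  have h56 : ∀ u < 30072, (fun u => chkM1 tab u) u = true := ext_range (a := 29535) (len := 537) h55 m1_55
  have h57 : ∀ u < 30609, (fun u => chkM1 tab u) u = true := ext_range (a := 30072) (len := 537) h56 m1_56
  have h58 : ∀ u < 31146, (fun u => chkM1 tab u) u = true := ext_range (a := 30609) (len := 537) h57 m1_57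
  have h59 : ∀ u < 31683, (fun u => chkM1 tab u) u = true := ext_range (a := 31146) (len := 537) h58 m1_58
  have h60 : ∀ u < 32220, (fun u => chkM1 tab u) u = true := ext_range (a := 31683) (len := 537) h59 m1_59
  have h61 : ∀ u < 32757, (fun u => chkM1 tab u) u = true := ext_range (a := 32220) (len := 537) h60 m1_60
  have h62 : ∀ u < 33294, (fun u => chkM1 tab u) u = true := ext_range (a := 32757) (len := 537) h61 m1_61
  have h63 : ∀ u < 33831, (fun u => chkM1 tab u) u = true := ext_range (a := 33294) (len := 537) h62 m1_62
  have h64 : ∀ u < 34368, (fun u => chkM1 tab u) u = true := ext_range (a := 33831) (len := 537) h63 m1_63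
  have h65 : ∀ u < 34905, (fun u => chkM1 tab u) u = true := ext_range (a := 34368) (len := 537) h64 m1_64
  have h66 : ∀ u < 35442, (fun u => chkM1 tab u) u = true := ext_range (a := 34905) (len := 537) h65 m1_65
  have h67 : ∀ u < 35979, (fun u => chkM1 tab u) u = true := ext_range (a := 35442) (len := 537) h66 m1_66
  have h68 : ∀ u < 36516, (fun u => chkM1 tab u) u = true := ext_range (a := 35979) (len := 537) h67 m1_67
  have h69 : ∀ u < 37053, (fun u => chkM1 tab u) u = true := ext_range (a := 36516) (len := 537) h68 m1_68
  have h70 : ∀ u < 37590, (fun u => chkM1 tab u) u = true := ext_range (a := 37053) (len := 537) h69 m1_69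
  have h71 : ∀ u < 38127, (fun u => chkM1 tab u) u = true := ext_range (a := 37590) (len := 537) h70 m1_70
  have h72 : ∀ u < 38664, (fun u => chkM1 tab u) u = true := ext_range (a := 38127) (len := 537) h71 m1_71
  have h73 : ∀ u < 39201, (fun u => chkM1 tab u) u = true := ext_range (a := 38664) (len := 537) h72 m1_72
  have h74 : ∀ u < 39738, (fun u => chkM1 tab u) u = true := ext_range (a := 39201) (len := 537) h73 m1_73
  have h75 : ∀ u < 40275, (fun u => chkM1 tab u) u = true := ext_range (a := 39738) (len := 537) h74 m1_74
  have h76 : ∀ u < 40812, (fun u => chkM1 tab u) u = true := ext_range (a := 40275) (len := 537) h75 m1_75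
  have h77 : ∀ u < 41349, (fun u => chkM1 tab u) u = true := ext_range (a := 40812) (len := 537) h76 m1_76
  have h78 : ∀ u < 41886, (fun u => chkM1 tab u) u = true := ext_range (a := 41349) (len := 537) h77 m1_77
  have h79 : ∀ u < 42423, (fun u => chkM1 tab u) u = true := ext_range (a := 41886) (len := 537) h78 m1_78
  have h80 : ∀ u < 42960, (fun u => chkM1 tab u) u = true := ext_range (a := 42423) (len := 537) h79 m1_79
  have h81 : ∀ u < 43497, (fun u => chkM1 tab u) u = true := ext_range (a := 42960) (len := 537) h80 m1_80
  have h82 : ∀ u < 44034, (fun u => chkM1 tab u) u = true := ext_range (a := 43497) (len := 537) h81 m1_81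
  have h83 : ∀ u < 44571, (fun u => chkM1 tab u) u = true := ext_range (a := 44034) (len := 537) h82 m1_82
  have h84 : ∀ u < 45108, (fun u => chkM1 tab u) u = true := ext_range (a := 44571) (len := 537) h83 m1_83
  have h85 : ∀ u < 45645, (fun u => chkM1 tab u) u = true := ext_range (a := 45108) (len := 537) h84 m1_84
  have h86 : ∀ u < 46182, (fun u => chkM1 tab u) u = true := ext_range (a := 45645) (len := 537) h85 m1_85
  have h87 : ∀ u < 46719, (fun u => chkM1 tab u) u = true := ext_range (a := 46182) (len := 537) h86 m1_86
  have h88 : ∀ u < 47256, (fun u => chkM1 tab u) u = true := ext_range (a := 46719) (len := 537) h87 m1_87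
  have h89 : ∀ u < 47793, (fun u => chkM1 tab u) u = true := ext_range (a := 47256) (len := 537) h88 m1_88
  have h90 : ∀ u < 48330, (fun u => chkM1 tab u) u = true := ext_range (a := 47793) (len := 537) h89 m1_89
  have h91 : ∀ u < 48867, (fun u => chkM1 tab u) u = true := ext_range (a := 48330) (len := 537) h90 m1_90
  have h92 : ∀ u < 49404, (fun u => chkM1 tab u) u = true := ext_range (a := 48867) (len := 537) h91 m1_91
  have h93 : ∀ u < 49941, (fun u => chkM1 tab u) u = true := ext_range (a := 49404) (len := 537) h92 m1_92
  have h94 : ∀ u < 50478, (fun u => chkM1 tab u) u = true := ext_range (a := 49941) (len := 537) h93 m1_93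
  have h95 : ∀ u < 51015, (fun u => chkM1 tab u) u = true := ext_range (a := 50478) (len := 537) h94 m1_94
  have h96 : ∀ u < 51552, (fun u => chkM1 tab u) u = true := ext_range (a := 51015) (len := 537) h95 m1_95
  have h97 : ∀ u < 52089, (fun u => chkM1 tab u) u = true := ext_range (a := 51552) (len := 537) h96 m1_96
  have h98 : ∀ u < 52626, (fun u => chkM1 tab u) u = true := ext_range (a := 52089) (len := 537) h97 m1_97
  have h99 : ∀ u < 53163, (fun u => chkM1 tab u) u = true := ext_range (a := 52626) (len := 537) h98 m1_98
  have h100 : ∀ u < 53700, (fun u => chkM1 tab u) u = true := ext_range (a := 53163) (len := 537) h99 m1_99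
  have h101 : ∀ u < 54237, (fun u => chkM1 tab u) u = true := ext_range (a := 53700) (len := 537) h100 m1_100
  have h102 : ∀ u < 54774, (fun u => chkM1 tab u) u = true := ext_range (a := 54237) (len := 537) h101 m1_101
  have h103 : ∀ u < 55311, (fun u => chkM1 tab u) u = true := ext_range (a := 54774) (len := 537) h102 m1_102
  have h104 : ∀ u < 55848, (fun u => chkM1 tab u) u = true := ext_range (a := 55311) (len := 537) h103 m1_103
  have h105 : ∀ u < 56385, (fun u => chkM1 tab u) u = true := ext_range (a := 55848) (len := 537) h104 m1_104
  have h106 : ∀ u < 56922, (fun u => chkM1 tab u) u = true := ext_range (a := 56385) (len := 537) h105 m1_105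
  have h107 : ∀ u < 57459, (fun u => chkM1 tab u) u = true := ext_range (a := 56922) (len := 537) h106 m1_106
  have h108 : ∀ u < 57996, (fun u => chkM1 tab u) u = true := ext_range (a := 57459) (len := 537) h107 m1_107
  have h109 : ∀ u < 58533, (fun u => chkM1 tab u) u = true := ext_range (a := 57996) (len := 537) h108 m1_108
  have h110 : ∀ u < 59070, (fun u => chkM1 tab u) u = true := ext_range (a := 58533) (len := 537) h109 m1_109
  have h111 : ∀ u < 59607, (fun u => chkM1 tab u) u = true := ext_range (a := 59070) (len := 537) h110 m1_110
  have h112 : ∀ u < 60144, (fun u => chkM1 tab u) u = true := ext_range (a := 59607) (len := 537) h111 m1_111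
  have h113 : ∀ u < 60681, (fun u => chkM1 tab u) u = true := ext_range (a := 60144) (len := 537) h112 m1_112
  have h114 : ∀ u < 61218, (fun u => chkM1 tab u) u = true := ext_range (a := 60681) (len := 537) h113 m1_113
  have h115 : ∀ u < 61755, (fun u => chkM1 tab u) u = true := ext_range (a := 61218) (len := 537) h114 m1_114
  have h116 : ∀ u < 62292, (fun u => chkM1 tab u) u = true := ext_range (a := 61755) (len := 537) h115 m1_115
  have h117 : ∀ u < 62829, (fun u => chkM1 tab u) u = true := ext_range (a := 62292) (len := 537) h116 m1_116
  have h118 : ∀ u < 63366, (fun u => chkM1 tab u) u = true := ext_range (a := 62829) (len := 537) h117 m1_117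
  have h119 : ∀ u < 63903, (fun u => chkM1 tab u) u = true := ext_range (a := 63366) (len := 537) h118 m1_118
  have h120 : ∀ u < 64440, (fun u => chkM1 tab u) u = true := ext_range (a := 63903) (len := 537) h119 m1_119
  have h121 : ∀ u < 64977, (fun u => chkM1 tab u) u = true := ext_range (a := 64440) (len := 537) h120 m1_120
  have h122 : ∀ u < 65514, (fun u => chkM1 tab u) u = true := ext_range (a := 64977) (len := 537) h121 m1_121
  have h123 : ∀ u < 66051, (fun u => chkM1 tab u) u = true := ext_range (a := 65514) (len := 537) h122 m1_122
  have h124 : ∀ u < 66588, (fun u => chkM1 tab u) u = true := ext_range (a := 66051) (len := 537) h123 m1_123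
  have h125 : ∀ u < 67125, (fun u => chkM1 tab u) u = true := ext_range (a := 66588) (len := 537) h124 m1_124
  have h126 : ∀ u < 67662, (fun u => chkM1 tab u) u = true := ext_range (a := 67125) (len := 537) h125 m1_125
  have h127 : ∀ u < 68199, (fun u => chkM1 tab u) u = true := ext_range (a := 67662) (len := 537) h126 m1_126
  have h128 : ∀ u < 68736, (fun u => chkM1 tab u) u = true := ext_range (a := 68199) (len := 537) h127 m1_127
  have h129 : ∀ u < 69273, (fun u => chkM1 tab u) u = true := ext_range (a := 68736) (len := 537) h128 m1_128
  have h130 : ∀ u < 69810, (fun u => chkM1 tab u) u = true := ext_range (a := 69273) (len := 537) h129 m1_129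
  have h131 : ∀ u < 70347, (fun u => chkM1 tab u) u = true := ext_range (a := 69810) (len := 537) h130 m1_130
  have h132 : ∀ u < 70884, (fun u => chkM1 tab u) u = true := ext_range (a := 70347) (len := 537) h131 m1_131
  have h133 : ∀ u < 71421, (fun u => chkM1 tab u) u = true := ext_range (a := 70884) (len := 537) h132 m1_132
  have h134 : ∀ u < 71958, (fun u => chkM1 tab u) u = true := ext_range (a := 71421) (len := 537) h133 m1_133
  have h135 : ∀ u < 72495, (fun u => chkM1 tab u) u = true := ext_range (a := 71958) (len := 537) h134 m1_134
  have h136 : ∀ u < 73032, (fun u => chkM1 tab u) u = true := ext_range (a := 72495) (len := 537) h135 m1_135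
  have h137 : ∀ u < 73569, (fun u => chkM1 tab u) u = true := ext_range (a := 73032) (len := 537) h136 m1_136
  have h138 : ∀ u < 74106, (fun u => chkM1 tab u) u = true := ext_range (a := 73569) (len := 537) h137 m1_137
  have h139 : ∀ u < 74643, (fun u => chkM1 tab u) u = true := ext_range (a := 74106) (len := 537) h138 m1_138
  have h140 : ∀ u < 75180, (fun u => chkM1 tab u) u = true := ext_range (a := 74643) (len := 537) h139 m1_139
  have h141 : ∀ u < 75717, (fun u => chkM1 tab u) u = true := ext_range (a := 75180) (len := 537) h140 m1_140
  have h142 : ∀ u < 76254, (fun u => chkM1 tab u) u = true := ext_range (a := 75717) (len := 537) h141 m1_141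
  have h143 : ∀ u < 76791, (fun u => chkM1 tab u) u = true := ext_range (a := 76254) (len := 537) h142 m1_142
  have h144 : ∀ u < 77328, (fun u => chkM1 tab u) u = true := ext_range (a := 76791) (len := 537) h143 m1_143
  have h145 : ∀ u < 77865, (fun u => chkM1 tab u) u = true := ext_range (a := 77328) (len := 537) h144 m1_144
  have h146 : ∀ u < 78402, (fun u => chkM1 tab u) u = true := ext_range (a := 77865) (len := 537) h145 m1_145
  have h147 : ∀ u < 78939, (fun u => chkM1 tab u) u = true := ext_range (a := 78402) (len := 537) h146 m1_146
  have h148 : ∀ u < 79476, (fun u => chkM1 tab u) u = true := ext_range (a := 78939) (len := 537) h147 m1_147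
  have h149 : ∀ u < 80013, (fun u => chkM1 tab u) u = true := ext_range (a := 79476) (len := 537) h148 m1_148
  have h150 : ∀ u < 80550, (fun u => chkM1 tab u) u = true := ext_range (a := 80013) (len := 537) h149 m1_149
  have h151 : ∀ u < 81087, (fun u => chkM1 tab u) u = true := ext_range (a := 80550) (len := 537) h150 m1_150
  have h152 : ∀ u < 81624, (fun u => chkM1 tab u) u = true := ext_range (a := 81087) (len := 537) h151 m1_151
  have h153 : ∀ u < 82161, (fun u => chkM1 tab u) u = true := ext_range (a := 81624) (len := 537) h152 m1_152
  have h154 : ∀ u < 82698, (fun u => chkM1 tab u) u = true := ext_range (a := 82161) (len := 537) h153 m1_153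
  have h155 : ∀ u < 83235, (fun u => chkM1 tab u) u = true := ext_range (a := 82698) (len := 537) h154 m1_154
  have h156 : ∀ u < 83772, (fun u => chkM1 tab u) u = true := ext_range (a := 83235) (len := 537) h155 m1_155
  have h157 : ∀ u < 84309, (fun u => chkM1 tab u) u = true := ext_range (a := 83772) (len := 537) h156 m1_156
  have h158 : ∀ u < 84846, (fun u => chkM1 tab u) u = true := ext_range (a := 84309) (len := 537) h157 m1_157
  have h159 : ∀ u < 85383, (fun u => chkM1 tab u) u = true := ext_range (a := 84846) (len := 537) h158 m1_158
  have h160 : ∀ u < 85920, (fun u => chkM1 tab u) u = true := ext_range (a := 85383) (len := 537) h159 m1_159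
  have h161 : ∀ u < 86457, (fun u => chkM1 tab u) u = true := ext_range (a := 85920) (len := 537) h160 m1_160
  have h162 : ∀ u < 86994, (fun u => chkM1 tab u) u = true := ext_range (a := 86457) (len := 537) h161 m1_161
  have h163 : ∀ u < 87531, (fun u => chkM1 tab u) u = true := ext_range (a := 86994) (len := 537) h162 m1_162
  have h164 : ∀ u < 88068, (fun u => chkM1 tab u) u = true := ext_range (a := 87531) (len := 537) h163 m1_163
  have h165 : ∀ u < 88605, (fun u => chkM1 tab u) u = true := ext_range (a := 88068) (len := 537) h164 m1_164
  have h166 : ∀ u < 89142, (fun u => chkM1 tab u) u = true := ext_range (a := 88605) (len := 537) h165 m1_165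
  have h167 : ∀ u < 89679, (fun u => chkM1 tab u) u = true := ext_range (a := 89142) (len := 537) h166 m1_166
  have h168 : ∀ u < 90216, (fun u => chkM1 tab u) u = true := ext_range (a := 89679) (len := 537) h167 m1_167
  have h169 : ∀ u < 90753, (fun u => chkM1 tab u) u = true := ext_range (a := 90216) (len := 537) h168 m1_168
  have h170 : ∀ u < 91290, (fun u => chkM1 tab u) u = true := ext_range (a := 90753) (len := 537) h169 m1_169
  have h171 : ∀ u < 91827, (fun u => chkM1 tab u) u = true := ext_range (a := 91290) (len := 537) h170 m1_170
  have h172 : ∀ u < 92364, (fun u => chkM1 tab u) u = true := ext_range (a := 91827) (len := 537) h171 m1_171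
  have h173 : ∀ u < 92901, (fun u => chkM1 tab u) u = true := ext_range (a := 92364) (len := 537) h172 m1_172
  have h174 : ∀ u < 93438, (fun u => chkM1 tab u) u = true := ext_range (a := 92901) (len := 537) h173 m1_173
  have h175 : ∀ u < 93975, (fun u => chkM1 tab u) u = true := ext_range (a := 93438) (len := 537) h174 m1_174
  have h176 : ∀ u < 94512, (fun u => chkM1 tab u) u = true := ext_range (a := 93975) (len := 537) h175 m1_175
  have h177 : ∀ u < 95049, (fun u => chkM1 tab u) u = true := ext_range (a := 94512) (len := 537) h176 m1_176
  have h178 : ∀ u < 95586, (fun u => chkM1 tab u) u = true := ext_range (a := 95049) (len := 537) h177 m1_177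
  have h179 : ∀ u < 96123, (fun u => chkM1 tab u) u = true := ext_range (a := 95586) (len := 537) h178 m1_178
  have h180 : ∀ u < 96660, (fun u => chkM1 tab u) u = true := ext_range (a := 96123) (len := 537) h179 m1_179
  have h181 : ∀ u < 97197, (fun u => chkM1 tab u) u = true := ext_range (a := 96660) (len := 537) h180 m1_180
  have h182 : ∀ u < 97734, (fun u => chkM1 tab u) u = true := ext_range (a := 97197) (len := 537) h181 m1_181
  have h183 : ∀ u < 98271, (fun u => chkM1 tab u) u = true := ext_range (a := 97734) (len := 537) h182 m1_182
  have h184 : ∀ u < 98808, (fun u => chkM1 tab u) u = true := ext_range (a := 98271) (len := 537) h183 m1_183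
  have h185 : ∀ u < 99345, (fun u => chkM1 tab u) u = true := ext_range (a := 98808) (len := 537) h184 m1_184
  have h186 : ∀ u < 99882, (fun u => chkM1 tab u) u = true := ext_range (a := 99345) (len := 537) h185 m1_185
  have h187 : ∀ u < 100419, (fun u => chkM1 tab u) u = true := ext_range (a := 99882) (len := 537) h186 m1_186
  have h188 : ∀ u < 100956, (fun u => chkM1 tab u) u = true := ext_range (a := 100419) (len := 537) h187 m1_187
  have h189 : ∀ u < 101493, (fun u => chkM1 tab u) u = true := ext_range (a := 100956) (len := 537) h188 m1_188
  have h190 : ∀ u < 102030, (fun u => chkM1 tab u) u = true := ext_range (a := 101493) (len := 537) h189 m1_189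
  have h191 : ∀ u < 102567, (fun u => chkM1 tab u) u = true := ext_range (a := 102030) (len := 537) h190 m1_190
  have h192 : ∀ u < 103104, (fun u => chkM1 tab u) u = true := ext_range (a := 102567) (len := 537) h191 m1_191
  have h193 : ∀ u < 103641, (fun u => chkM1 tab u) u = true := ext_range (a := 103104) (len := 537) h192 m1_192
  have h194 : ∀ u < 104178, (fun u => chkM1 tab u) u = true := ext_range (a := 103641) (len := 537) h193 m1_193
  have h195 : ∀ u < 104715, (fun u => chkM1 tab u) u = true := ext_range (a := 104178) (len := 537) h194 m1_194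
  have h196 : ∀ u < 105252, (fun u => chkM1 tab u) u = true := ext_range (a := 104715) (len := 537) h195 m1_195
  have h197 : ∀ u < 105789, (fun u => chkM1 tab u) u = true := ext_range (a := 105252) (len := 537) h196 m1_196
  have h198 : ∀ u < 106326, (fun u => chkM1 tab u) u = true := ext_range (a := 105789) (len := 537) h197 m1_197
  have h199 : ∀ u < 106863, (fun u => chkM1 tab u) u = true := ext_range (a := 106326) (len := 537) h198 m1_198
  have h200 : ∀ u < 107400, (fun u => chkM1 tab u) u = true := ext_range (a := 106863) (len := 537) h199 m1_199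
  have h201 : ∀ u < 107937, (fun u => chkM1 tab u) u = true := ext_range (a := 107400) (len := 537) h200 m1_200
  have h202 : ∀ u < 108474, (fun u => chkM1 tab u) u = true := ext_range (a := 107937) (len := 537) h201 m1_201
  have h203 : ∀ u < 109011, (fun u => chkM1 tab u) u = true := ext_range (a := 108474) (len := 537) h202 m1_202
  have h204 : ∀ u < 109548, (fun u => chkM1 tab u) u = true := ext_range (a := 109011) (len := 537) h203 m1_203
  have h205 : ∀ u < 110085, (fun u => chkM1 tab u) u = true := ext_range (a := 109548) (len := 537) h204 m1_204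
  have h206 : ∀ u < 110622, (fun u => chkM1 tab u) u = true := ext_range (a := 110085) (len := 537) h205 m1_205
  have h207 : ∀ u < 111159, (fun u => chkM1 tab u) u = true := ext_range (a := 110622) (len := 537) h206 m1_206
  have h208 : ∀ u < 111696, (fun u => chkM1 tab u) u = true := ext_range (a := 111159) (len := 537) h207 m1_207
  have h209 : ∀ u < 112233, (fun u => chkM1 tab u) u = true := ext_range (a := 111696) (len := 537) h208 m1_208
  have h210 : ∀ u < 112770, (fun u => chkM1 tab u) u = true := ext_range (a := 112233) (len := 537) h209 m1_209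
  have h211 : ∀ u < 113307, (fun u => chkM1 tab u) u = true := ext_range (a := 112770) (len := 537) h210 m1_210
  have h212 : ∀ u < 113844, (fun u => chkM1 tab u) u = true := ext_range (a := 113307) (len := 537) h211 m1_211
  have h213 : ∀ u < 114381, (fun u => chkM1 tab u) u = true := ext_range (a := 113844) (len := 537) h212 m1_212
  have h214 : ∀ u < 114918, (fun u => chkM1 tab u) u = true := ext_range (a := 114381) (len := 537) h213 m1_213
  have h215 : ∀ u < 115455, (fun u => chkM1 tab u) u = true := ext_range (a := 114918) (len := 537) h214 m1_214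
  have h216 : ∀ u < 115992, (fun u => chkM1 tab u) u = true := ext_range (a := 115455) (len := 537) h215 m1_215
  have h217 : ∀ u < 116529, (fun u => chkM1 tab u) u = true := ext_range (a := 115992) (len := 537) h216 m1_216
  have h218 : ∀ u < 117066, (fun u => chkM1 tab u) u = true := ext_range (a := 116529) (len := 537) h217 m1_217
  have h219 : ∀ u < 117603, (fun u => chkM1 tab u) u = true := ext_range (a := 117066) (len := 537) h218 m1_218
  have h220 : ∀ u < 118140, (fun u => chkM1 tab u) u = true := ext_range (a := 117603) (len := 537) h219 m1_219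
  have h221 : ∀ u < 118677, (fun u => chkM1 tab u) u = true := ext_range (a := 118140) (len := 537) h220 m1_220
  have h222 : ∀ u < 119214, (fun u => chkM1 tab u) u = true := ext_range (a := 118677) (len := 537) h221 m1_221
  have h223 : ∀ u < 119751, (fun u => chkM1 tab u) u = true := ext_range (a := 119214) (len := 537) h222 m1_222
  have h224 : ∀ u < 120288, (fun u => chkM1 tab u) u = true := ext_range (a := 119751) (len := 537) h223 m1_223
  have h225 : ∀ u < 120825, (fun u => chkM1 tab u) u = true := ext_range (a := 120288) (len := 537) h224 m1_224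
  have h226 : ∀ u < 121362, (fun u => chkM1 tab u) u = true := ext_range (a := 120825) (len := 537) h225 m1_225
  have h227 : ∀ u < 121899, (fun u => chkM1 tab u) u = true := ext_range (a := 121362) (len := 537) h226 m1_226
  have h228 : ∀ u < 122436, (fun u => chkM1 tab u) u = true := ext_range (a := 121899) (len := 537) h227 m1_227
  have h229 : ∀ u < 122973, (fun u => chkM1 tab u) u = true := ext_range (a := 122436) (len := 537) h228 m1_228
  have h230 : ∀ u < 123510, (fun u => chkM1 tab u) u = true := ext_range (a := 122973) (len := 537) h229 m1_229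
  have h231 : ∀ u < 124047, (fun u => chkM1 tab u) u = true := ext_range (a := 123510) (len := 537) h230 m1_230
  have h232 : ∀ u < 124584, (fun u => chkM1 tab u) u = true := ext_range (a := 124047) (len := 537) h231 m1_231
  have h233 : ∀ u < 125121, (fun u => chkM1 tab u) u = true := ext_range (a := 124584) (len := 537) h232 m1_232
  have h234 : ∀ u < 125658, (fun u => chkM1 tab u) u = true := ext_range (a := 125121) (len := 537) h233 m1_233
  have h235 : ∀ u < 126195, (fun u => chkM1 tab u) u = true := ext_range (a := 125658) (len := 537) h234 m1_234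
  have h236 : ∀ u < 126732, (fun u => chkM1 tab u) u = true := ext_range (a := 126195) (len := 537) h235 m1_235
  have h237 : ∀ u < 127269, (fun u => chkM1 tab u) u = true := ext_range (a := 126732) (len := 537) h236 m1_236
  have h238 : ∀ u < 127806, (fun u => chkM1 tab u) u = true := ext_range (a := 127269) (len := 537) h237 m1_237
  have h239 : ∀ u < 128343, (fun u => chkM1 tab u) u = true := ext_range (a := 127806) (len := 537) h238 m1_238
  have h240 : ∀ u < 128880, (fun u => chkM1 tab u) u = true := ext_range (a := 128343) (len := 537) h239 m1_239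
  have h241 : ∀ u < 129417, (fun u => chkM1 tab u) u = true := ext_range (a := 128880) (len := 537) h240 m1_240
  have h242 : ∀ u < 129954, (fun u => chkM1 tab u) u = true := ext_range (a := 129417) (len := 537) h241 m1_241
  have h243 : ∀ u < 130491, (fun u => chkM1 tab u) u = true := ext_range (a := 129954) (len := 537) h242 m1_242
  have h244 : ∀ u < 131028, (fun u => chkM1 tab u) u = true := ext_range (a := 130491) (len := 537) h243 m1_243
  have h245 : ∀ u < 131565, (fun u => chkM1 tab u) u = true := ext_range (a := 131028) (len := 537) h244 m1_244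
  have h246 : ∀ u < 132102, (fun u => chkM1 tab u) u = true := ext_range (a := 131565) (len := 537) h245 m1_245
  have h247 : ∀ u < 132639, (fun u => chkM1 tab u) u = true := ext_range (a := 132102) (len := 537) h246 m1_246
  have h248 : ∀ u < 133176, (fun u => chkM1 tab u) u = true := ext_range (a := 132639) (len := 537) h247 m1_247
  have h249 : ∀ u < 133713, (fun u => chkM1 tab u) u = true := ext_range (a := 133176) (len := 537) h248 m1_248
  have h250 : ∀ u < 134250, (fun u => chkM1 tab u) u = true := ext_range (a := 133713) (len := 537) h249 m1_249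
  have h251 : ∀ u < 134787, (fun u => chkM1 tab u) u = true := ext_range (a := 134250) (len := 537) h250 m1_250
  have h252 : ∀ u < 135324, (fun u => chkM1 tab u) u = true := ext_range (a := 134787) (len := 537) h251 m1_251
  have h253 : ∀ u < 135861, (fun u => chkM1 tab u) u = true := ext_range (a := 135324) (len := 537) h252 m1_252
  have h254 : ∀ u < 136398, (fun u => chkM1 tab u) u = true := ext_range (a := 135861) (len := 537) h253 m1_253
  have h255 : ∀ u < 136935, (fun u => chkM1 tab u) u = true := ext_range (a := 136398) (len := 537) h254 m1_254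
  have h256 : ∀ u < 137472, (fun u => chkM1 tab u) u = true := ext_range (a := 136935) (len := 537) h255 m1_255
  have h257 : ∀ u < 138009, (fun u => chkM1 tab u) u = true := ext_range (a := 137472) (len := 537) h256 m1_256
  have h258 : ∀ u < 138546, (fun u => chkM1 tab u) u = true := ext_range (a := 138009) (len := 537) h257 m1_257
  have h259 : ∀ u < 139083, (fun u => chkM1 tab u) u = true := ext_range (a := 138546) (len := 537) h258 m1_258
  have h260 : ∀ u < 139620, (fun u => chkM1 tab u) u = true := ext_range (a := 139083) (len := 537) h259 m1_259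
  have h261 : ∀ u < 140157, (fun u => chkM1 tab u) u = true := ext_range (a := 139620) (len := 537) h260 m1_260
  have h262 : ∀ u < 140694, (fun u => chkM1 tab u) u = true := ext_range (a := 140157) (len := 537) h261 m1_261
  have h263 : ∀ u < 141231, (fun u => chkM1 tab u) u = true := ext_range (a := 140694) (len := 537) h262 m1_262
  have h264 : ∀ u < 141768, (fun u => chkM1 tab u) u = true := ext_range (a := 141231) (len := 537) h263 m1_263
  have h265 : ∀ u < 142305, (fun u => chkM1 tab u) u = true := ext_range (a := 141768) (len := 537) h264 m1_264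
  have h266 : ∀ u < 142842, (fun u => chkM1 tab u) u = true := ext_range (a := 142305) (len := 537) h265 m1_265
  have h267 : ∀ u < 143379, (fun u => chkM1 tab u) u = true := ext_range (a := 142842) (len := 537) h266 m1_266
  have h268 : ∀ u < 143916, (fun u => chkM1 tab u) u = true := ext_range (a := 143379) (len := 537) h267 m1_267
  have h269 : ∀ u < 144453, (fun u => chkM1 tab u) u = true := ext_range (a := 143916) (len := 537) h268 m1_268
  have h270 : ∀ u < 144990, (fun u => chkM1 tab u) u = true := ext_range (a := 144453) (len := 537) h269 m1_269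
  have h271 : ∀ u < 145527, (fun u => chkM1 tab u) u = true := ext_range (a := 144990) (len := 537) h270 m1_270
  have h272 : ∀ u < 146064, (fun u => chkM1 tab u) u = true := ext_range (a := 145527) (len := 537) h271 m1_271
  have h273 : ∀ u < 146601, (fun u => chkM1 tab u) u = true := ext_range (a := 146064) (len := 537) h272 m1_272
  have h274 : ∀ u < 147138, (fun u => chkM1 tab u) u = true := ext_range (a := 146601) (len := 537) h273 m1_273
  have h275 : ∀ u < 147675, (fun u => chkM1 tab u) u = true := ext_range (a := 147138) (len := 537) h274 m1_274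
  have h276 : ∀ u < 148212, (fun u => chkM1 tab u) u = true := ext_range (a := 147675) (len := 537) h275 m1_275
  have h277 : ∀ u < 148749, (fun u => chkM1 tab u) u = true := ext_range (a := 148212) (len := 537) h276 m1_276
  have h278 : ∀ u < 149286, (fun u => chkM1 tab u) u = true := ext_range (a := 148749) (len := 537) h277 m1_277
  have h279 : ∀ u < 149823, (fun u => chkM1 tab u) u = true := ext_range (a := 149286) (len := 537) h278 m1_278
  have h280 : ∀ u < 150360, (fun u => chkM1 tab u) u = true := ext_range (a := 149823) (len := 537) h279 m1_279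
  have h281 : ∀ u < 150897, (fun u => chkM1 tab u) u = true := ext_range (a := 150360) (len := 537) h280 m1_280
  have h282 : ∀ u < 151434, (fun u => chkM1 tab u) u = true := ext_range (a := 150897) (len := 537) h281 m1_281
  have h283 : ∀ u < 151971, (fun u => chkM1 tab u) u = true := ext_range (a := 151434) (len := 537) h282 m1_282
  have h284 : ∀ u < 152508, (fun u => chkM1 tab u) u = true := ext_range (a := 151971) (len := 537) h283 m1_283
  have h285 : ∀ u < 153045, (fun u => chkM1 tab u) u = true := ext_range (a := 152508) (len := 537) h284 m1_284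
  have h286 : ∀ u < 153582, (fun u => chkM1 tab u) u = true := ext_range (a := 153045) (len := 537) h285 m1_285
  have h287 : ∀ u < 154119, (fun u => chkM1 tab u) u = true := ext_range (a := 153582) (len := 537) h286 m1_286
  have h288 : ∀ u < 154656, (fun u => chkM1 tab u) u = true := ext_range (a := 154119) (len := 537) h287 m1_287
  have h289 : ∀ u < 155193, (fun u => chkM1 tab u) u = true := ext_range (a := 154656) (len := 537) h288 m1_288
  have h290 : ∀ u < 155730, (fun u => chkM1 tab u) u = true := ext_range (a := 155193) (len := 537) h289 m1_289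
  have h291 : ∀ u < 156267, (fun u => chkM1 tab u) u = true := ext_range (a := 155730) (len := 537) h290 m1_290
  have h292 : ∀ u < 156804, (fun u => chkM1 tab u) u = true := ext_range (a := 156267) (len := 537) h291 m1_291
  have h293 : ∀ u < 157341, (fun u => chkM1 tab u) u = true := ext_range (a := 156804) (len := 537) h292 m1_292
  have h294 : ∀ u < 157878, (fun u => chkM1 tab u) u = true := ext_range (a := 157341) (len := 537) h293 m1_293
  have h295 : ∀ u < 158415, (fun u => chkM1 tab u) u = true := ext_range (a := 157878) (len := 537) h294 m1_294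
  have h296 : ∀ u < 158952, (fun u => chkM1 tab u) u = true := ext_range (a := 158415) (len := 537) h295 m1_295
  have h297 : ∀ u < 159489, (fun u => chkM1 tab u) u = true := ext_range (a := 158952) (len := 537) h296 m1_296
  have h298 : ∀ u < 160026, (fun u => chkM1 tab u) u = true := ext_range (a := 159489) (len := 537) h297 m1_297
  have h299 : ∀ u < 160563, (fun u => chkM1 tab u) u = true := ext_range (a := 160026) (len := 537) h298 m1_298
  have h300 : ∀ u < 161100, (fun u => chkM1 tab u) u = true := ext_range (a := 160563) (len := 537) h299 m1_299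
  have h301 : ∀ u < 161637, (fun u => chkM1 tab u) u = true := ext_range (a := 161100) (len := 537) h300 m1_300
  have h302 : ∀ u < 162174, (fun u => chkM1 tab u) u = true := ext_range (a := 161637) (len := 537) h301 m1_301
  have h303 : ∀ u < 162711, (fun u => chkM1 tab u) u = true := ext_range (a := 162174) (len := 537) h302 m1_302
  have h304 : ∀ u < 163248, (fun u => chkM1 tab u) u = true := ext_range (a := 162711) (len := 537) h303 m1_303
  have h305 : ∀ u < 163785, (fun u => chkM1 tab u) u = true := ext_range (a := 163248) (len := 537) h304 m1_304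
  have h306 : ∀ u < 164322, (fun u => chkM1 tab u) u = true := ext_range (a := 163785) (len := 537) h305 m1_305
  have h307 : ∀ u < 164859, (fun u => chkM1 tab u) u = true := ext_range (a := 164322) (len := 537) h306 m1_306
  have h308 : ∀ u < 165396, (fun u => chkM1 tab u) u = true := ext_range (a := 164859) (len := 537) h307 m1_307
  have h309 : ∀ u < 165933, (fun u => chkM1 tab u) u = true := ext_range (a := 165396) (len := 537) h308 m1_308
  have h310 : ∀ u < 166470, (fun u => chkM1 tab u) u = true := ext_range (a := 165933) (len := 537) h309 m1_309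
  have h311 : ∀ u < 167007, (fun u => chkM1 tab u) u = true := ext_range (a := 166470) (len := 537) h310 m1_310
  have h312 : ∀ u < 167544, (fun u => chkM1 tab u) u = true := ext_range (a := 167007) (len := 537) h311 m1_311
  have h313 : ∀ u < 168081, (fun u => chkM1 tab u) u = true := ext_range (a := 167544) (len := 537) h312 m1_312
  have h314 : ∀ u < 168618, (fun u => chkM1 tab u) u = true := ext_range (a := 168081) (len := 537) h313 m1_313
  have h315 : ∀ u < 169155, (fun u => chkM1 tab u) u = true := ext_range (a := 168618) (len := 537) h314 m1_314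
  have h316 : ∀ u < 169692, (fun u => chkM1 tab u) u = true := ext_range (a := 169155) (len := 537) h315 m1_315
  have h317 : ∀ u < 170229, (fun u => chkM1 tab u) u = true := ext_range (a := 169692) (len := 537) h316 m1_316
  have h318 : ∀ u < 170766, (fun u => chkM1 tab u) u = true := ext_range (a := 170229) (len := 537) h317 m1_317
  have h319 : ∀ u < 171303, (fun u => chkM1 tab u) u = true := ext_range (a := 170766) (len := 537) h318 m1_318
  have h320 : ∀ u < 171840, (fun u => chkM1 tab u) u = true := ext_range (a := 171303) (len := 537) h319 m1_319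
  have h321 : ∀ u < 172377, (fun u => chkM1 tab u) u = true := ext_range (a := 171840) (len := 537) h320 m1_320
  have h322 : ∀ u < 172914, (fun u => chkM1 tab u) u = true := ext_range (a := 172377) (len := 537) h321 m1_321
  have h323 : ∀ u < 173451, (fun u => chkM1 tab u) u = true := ext_range (a := 172914) (len := 537) h322 m1_322
  have h324 : ∀ u < 173988, (fun u => chkM1 tab u) u = true := ext_range (a := 173451) (len := 537) h323 m1_323
  have h325 : ∀ u < 174525, (fun u => chkM1 tab u) u = true := ext_range (a := 173988) (len := 537) h324 m1_324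
  have h326 : ∀ u < 175062, (fun u => chkM1 tab u) u = true := ext_range (a := 174525) (len := 537) h325 m1_325
  have h327 : ∀ u < 175599, (fun u => chkM1 tab u) u = true := ext_range (a := 175062) (len := 537) h326 m1_326
  have h328 : ∀ u < 176136, (fun u => chkM1 tab u) u = true := ext_range (a := 175599) (len := 537) h327 m1_327
  have h329 : ∀ u < 176673, (fun u => chkM1 tab u) u = true := ext_range (a := 176136) (len := 537) h328 m1_328
  have h330 : ∀ u < 177210, (fun u => chkM1 tab u) u = true := ext_range (a := 176673) (len := 537) h329 m1_329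
  have h331 : ∀ u < 177747, (fun u => chkM1 tab u) u = true := ext_range (a := 177210) (len := 537) h330 m1_330
  have h332 : ∀ u < 178284, (fun u => chkM1 tab u) u = true := ext_range (a := 177747) (len := 537) h331 m1_331
  have h333 : ∀ u < 178821, (fun u => chkM1 tab u) u = true := ext_range (a := 178284) (len := 537) h332 m1_332
  have h334 : ∀ u < 179358, (fun u => chkM1 tab u) u = true := ext_range (a := 178821) (len := 537) h333 m1_333
  have h335 : ∀ u < 179895, (fun u => chkM1 tab u) u = true := ext_range (a := 179358) (len := 537) h334 m1_334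
  have h336 : ∀ u < 180432, (fun u => chkM1 tab u) u = true := ext_range (a := 179895) (len := 537) h335 m1_335
  have h337 : ∀ u < 180969, (fun u => chkM1 tab u) u = true := ext_range (a := 180432) (len := 537) h336 m1_336
  have h338 : ∀ u < 181506, (fun u => chkM1 tab u) u = true := ext_range (a := 180969) (len := 537) h337 m1_337
  have h339 : ∀ u < 182043, (fun u => chkM1 tab u) u = true := ext_range (a := 181506) (len := 537) h338 m1_338
  have h340 : ∀ u < 182580, (fun u => chkM1 tab u) u = true := ext_range (a := 182043) (len := 537) h339 m1_339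
  have h341 : ∀ u < 183117, (fun u => chkM1 tab u) u = true := ext_range (a := 182580) (len := 537) h340 m1_340
  have h342 : ∀ u < 183654, (fun u => chkM1 tab u) u = true := ext_range (a := 183117) (len := 537) h341 m1_341
  have h343 : ∀ u < 184191, (fun u => chkM1 tab u) u = true := ext_range (a := 183654) (len := 537) h342 m1_342
  have h344 : ∀ u < 184728, (fun u => chkM1 tab u) u = true := ext_range (a := 184191) (len := 537) h343 m1_343
  have h345 : ∀ u < 185265, (fun u => chkM1 tab u) u = true := ext_range (a := 184728) (len := 537) h344 m1_344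
  have h346 : ∀ u < 185802, (fun u => chkM1 tab u) u = true := ext_range (a := 185265) (len := 537) h345 m1_345
  have h347 : ∀ u < 186339, (fun u => chkM1 tab u) u = true := ext_range (a := 185802) (len := 537) h346 m1_346
  have h348 : ∀ u < 186876, (fun u => chkM1 tab u) u = true := ext_range (a := 186339) (len := 537) h347 m1_347
  have h349 : ∀ u < 187413, (fun u => chkM1 tab u) u = true := ext_range (a := 186876) (len := 537) h348 m1_348
  have h350 : ∀ u < 187950, (fun u => chkM1 tab u) u = true := ext_range (a := 187413) (len := 537) h349 m1_349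
  have h351 : ∀ u < 188487, (fun u => chkM1 tab u) u = true := ext_range (a := 187950) (len := 537) h350 m1_350
  have h352 : ∀ u < 189024, (fun u => chkM1 tab u) u = true := ext_range (a := 188487) (len := 537) h351 m1_351
  have h353 : ∀ u < 189561, (fun u => chkM1 tab u) u = true := ext_range (a := 189024) (len := 537) h352 m1_352
  have h354 : ∀ u < 190098, (fun u => chkM1 tab u) u = true := ext_range (a := 189561) (len := 537) h353 m1_353
  have h355 : ∀ u < 190635, (fun u => chkM1 tab u) u = true := ext_range (a := 190098) (len := 537) h354 m1_354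
  have h356 : ∀ u < 191172, (fun u => chkM1 tab u) u = true := ext_range (a := 190635) (len := 537) h355 m1_355
  have h357 : ∀ u < 191709, (fun u => chkM1 tab u) u = true := ext_range (a := 191172) (len := 537) h356 m1_356
  have h358 : ∀ u < 192246, (fun u => chkM1 tab u) u = true := ext_range (a := 191709) (len := 537) h357 m1_357
  have h359 : ∀ u < 192783, (fun u => chkM1 tab u) u = true := ext_range (a := 192246) (len := 537) h358 m1_358
  have h360 : ∀ u < 193320, (fun u => chkM1 tab u) u = true := ext_range (a := 192783) (len := 537) h359 m1_359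
  have h361 : ∀ u < 193857, (fun u => chkM1 tab u) u = true := ext_range (a := 193320) (len := 537) h360 m1_360
  have h362 : ∀ u < 194394, (fun u => chkM1 tab u) u = true := ext_range (a := 193857) (len := 537) h361 m1_361
  have h363 : ∀ u < 194931, (fun u => chkM1 tab u) u = true := ext_range (a := 194394) (len := 537) h362 m1_362
  have h364 : ∀ u < 195468, (fun u => chkM1 tab u) u = true := ext_range (a := 194931) (len := 537) h363 m1_363
  have h365 : ∀ u < 196005, (fun u => chkM1 tab u) u = true := ext_range (a := 195468) (len := 537) h364 m1_364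
  have h366 : ∀ u < 196542, (fun u => chkM1 tab u) u = true := ext_range (a := 196005) (len := 537) h365 m1_365
  have h367 : ∀ u < 197079, (fun u => chkM1 tab u) u = true := ext_range (a := 196542) (len := 537) h366 m1_366
  have h368 : ∀ u < 197616, (fun u => chkM1 tab u) u = true := ext_range (a := 197079) (len := 537) h367 m1_367
  have h369 : ∀ u < 198153, (fun u => chkM1 tab u) u = true := ext_range (a := 197616) (len := 537) h368 m1_368
  have h370 : ∀ u < 198690, (fun u => chkM1 tab u) u = true := ext_range (a := 198153) (len := 537) h369 m1_369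
  have h371 : ∀ u < 199227, (fun u => chkM1 tab u) u = true := ext_range (a := 198690) (len := 537) h370 m1_370
  have h372 : ∀ u < 199764, (fun u => chkM1 tab u) u = true := ext_range (a := 199227) (len := 537) h371 m1_371
  have h373 : ∀ u < 200301, (fun u => chkM1 tab u) u = true := ext_range (a := 199764) (len := 537) h372 m1_372
  have h374 : ∀ u < 200838, (fun u => chkM1 tab u) u = true := ext_range (a := 200301) (len := 537) h373 m1_373
  have h375 : ∀ u < 201375, (fun u => chkM1 tab u) u = true := ext_range (a := 200838) (len := 537) h374 m1_374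
  have h376 : ∀ u < 201912, (fun u => chkM1 tab u) u = true := ext_range (a := 201375) (len := 537) h375 m1_375
  have h377 : ∀ u < 202449, (fun u => chkM1 tab u) u = true := ext_range (a := 201912) (len := 537) h376 m1_376
  have h378 : ∀ u < 202986, (fun u => chkM1 tab u) u = true := ext_range (a := 202449) (len := 537) h377 m1_377
  have h379 : ∀ u < 203523, (fun u => chkM1 tab u) u = true := ext_range (a := 202986) (len := 537) h378 m1_378
  have h380 : ∀ u < 204060, (fun u => chkM1 tab u) u = true := ext_range (a := 203523) (len := 537) h379 m1_379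
  have h381 : ∀ u < 204597, (fun u => chkM1 tab u) u = true := ext_range (a := 204060) (len := 537) h380 m1_380
  have h382 : ∀ u < 205134, (fun u => chkM1 tab u) u = true := ext_range (a := 204597) (len := 537) h381 m1_381
  have h383 : ∀ u < 205671, (fun u => chkM1 tab u) u = true := ext_range (a := 205134) (len := 537) h382 m1_382
  have h384 : ∀ u < 206208, (fun u => chkM1 tab u) u = true := ext_range (a := 205671) (len := 537) h383 m1_383
  have h385 : ∀ u < 206745, (fun u => chkM1 tab u) u = true := ext_range (a := 206208) (len := 537) h384 m1_384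
  have h386 : ∀ u < 207282, (fun u => chkM1 tab u) u = true := ext_range (a := 206745) (len := 537) h385 m1_385
  have h387 : ∀ u < 207819, (fun u => chkM1 tab u) u = true := ext_range (a := 207282) (len := 537) h386 m1_386
  have h388 : ∀ u < 208356, (fun u => chkM1 tab u) u = true := ext_range (a := 207819) (len := 537) h387 m1_387
  have h389 : ∀ u < 208893, (fun u => chkM1 tab u) u = true := ext_range (a := 208356) (len := 537) h388 m1_388
  have h390 : ∀ u < 209430, (fun u => chkM1 tab u) u = true := ext_range (a := 208893) (len := 537) h389 m1_389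
  have h391 : ∀ u < 209967, (fun u => chkM1 tab u) u = true := ext_range (a := 209430) (len := 537) h390 m1_390
  have h392 : ∀ u < 210504, (fun u => chkM1 tab u) u = true := ext_range (a := 209967) (len := 537) h391 m1_391
  have h393 : ∀ u < 211041, (fun u => chkM1 tab u) u = true := ext_range (a := 210504) (len := 537) h392 m1_392
  have h394 : ∀ u < 211578, (fun u => chkM1 tab u) u = true := ext_range (a := 211041) (len := 537) h393 m1_393
  have h395 : ∀ u < 212115, (fun u => chkM1 tab u) u = true := ext_range (a := 211578) (len := 537) h394 m1_394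
  have h396 : ∀ u < 212652, (fun u => chkM1 tab u) u = true := ext_range (a := 212115) (len := 537) h395 m1_395
  have h397 : ∀ u < 213189, (fun u => chkM1 tab u) u = true := ext_range (a := 212652) (len := 537) h396 m1_396
  have h398 : ∀ u < 213726, (fun u => chkM1 tab u) u = true := ext_range (a := 213189) (len := 537) h397 m1_397
  have h399 : ∀ u < 214263, (fun u => chkM1 tab u) u = true := ext_range (a := 213726) (len := 537) h398 m1_398
  have h400 : ∀ u < 214800, (fun u => chkM1 tab u) u = true := ext_range (a := 214263) (len := 537) h399 m1_399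
  have h401 : ∀ u < 215337, (fun u => chkM1 tab u) u = true := ext_range (a := 214800) (len := 537) h400 m1_400
  have h402 : ∀ u < 215874, (fun u => chkM1 tab u) u = true := ext_range (a := 215337) (len := 537) h401 m1_401
  have h403 : ∀ u < 216411, (fun u => chkM1 tab u) u = true := ext_range (a := 215874) (len := 537) h402 m1_402
  have h404 : ∀ u < 216948, (fun u => chkM1 tab u) u = true := ext_range (a := 216411) (len := 537) h403 m1_403
  have h405 : ∀ u < 217485, (fun u => chkM1 tab u) u = true := ext_range (a := 216948) (len := 537) h404 m1_404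
  have h406 : ∀ u < 218022, (fun u => chkM1 tab u) u = true := ext_range (a := 217485) (len := 537) h405 m1_405
  have h407 : ∀ u < 218559, (fun u => chkM1 tab u) u = true := ext_range (a := 218022) (len := 537) h406 m1_406
  have h408 : ∀ u < 219096, (fun u => chkM1 tab u) u = true := ext_range (a := 218559) (len := 537) h407 m1_407
  have h409 : ∀ u < 219633, (fun u => chkM1 tab u) u = true := ext_range (a := 219096) (len := 537) h408 m1_408
  have h410 : ∀ u < 220170, (fun u => chkM1 tab u) u = true := ext_range (a := 219633) (len := 537) h409 m1_409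
  have h411 : ∀ u < 220707, (fun u => chkM1 tab u) u = true := ext_range (a := 220170) (len := 537) h410 m1_410
  have h412 : ∀ u < 221244, (fun u => chkM1 tab u) u = true := ext_range (a := 220707) (len := 537) h411 m1_411
  have h413 : ∀ u < 221781, (fun u => chkM1 tab u) u = true := ext_range (a := 221244) (len := 537) h412 m1_412
  have h414 : ∀ u < 222318, (fun u => chkM1 tab u) u = true := ext_range (a := 221781) (len := 537) h413 m1_413
  have h415 : ∀ u < 222855, (fun u => chkM1 tab u) u = true := ext_range (a := 222318) (len := 537) h414 m1_414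
  have h416 : ∀ u < 223392, (fun u => chkM1 tab u) u = true := ext_range (a := 222855) (len := 537) h415 m1_415
  have h417 : ∀ u < 223929, (fun u => chkM1 tab u) u = true := ext_range (a := 223392) (len := 537) h416 m1_416
  have h418 : ∀ u < 224466, (fun u => chkM1 tab u) u = true := ext_range (a := 223929) (len := 537) h417 m1_417
  have h419 : ∀ u < 225003, (fun u => chkM1 tab u) u = true := ext_range (a := 224466) (len := 537) h418 m1_418
  have h420 : ∀ u < 225540, (fun u => chkM1 tab u) u = true := ext_range (a := 225003) (len := 537) h419 m1_419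
  have h421 : ∀ u < 226077, (fun u => chkM1 tab u) u = true := ext_range (a := 225540) (len := 537) h420 m1_420
  have h422 : ∀ u < 226614, (fun u => chkM1 tab u) u = true := ext_range (a := 226077) (len := 537) h421 m1_421
  have h423 : ∀ u < 227151, (fun u => chkM1 tab u) u = true := ext_range (a := 226614) (len := 537) h422 m1_422
  have h424 : ∀ u < 227688, (fun u => chkM1 tab u) u = true := ext_range (a := 227151) (len := 537) h423 m1_423
  have h425 : ∀ u < 228225, (fun u => chkM1 tab u) u = true := ext_range (a := 227688) (len := 537) h424 m1_424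
  have h426 : ∀ u < 228762, (fun u => chkM1 tab u) u = true := ext_range (a := 228225) (len := 537) h425 m1_425
  have h427 : ∀ u < 229299, (fun u => chkM1 tab u) u = true := ext_range (a := 228762) (len := 537) h426 m1_426
  have h428 : ∀ u < 229836, (fun u => chkM1 tab u) u = true := ext_range (a := 229299) (len := 537) h427 m1_427
  have h429 : ∀ u < 230373, (fun u => chkM1 tab u) u = true := ext_range (a := 229836) (len := 537) h428 m1_428
  have h430 : ∀ u < 230910, (fun u => chkM1 tab u) u = true := ext_range (a := 230373) (len := 537) h429 m1_429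
  have h431 : ∀ u < 231447, (fun u => chkM1 tab u) u = true := ext_range (a := 230910) (len := 537) h430 m1_430
  have h432 : ∀ u < 231984, (fun u => chkM1 tab u) u = true := ext_range (a := 231447) (len := 537) h431 m1_431
  have h433 : ∀ u < 232521, (fun u => chkM1 tab u) u = true := ext_range (a := 231984) (len := 537) h432 m1_432
  have h434 : ∀ u < 233058, (fun u => chkM1 tab u) u = true := ext_range (a := 232521) (len := 537) h433 m1_433
  have h435 : ∀ u < 233595, (fun u => chkM1 tab u) u = true := ext_range (a := 233058) (len := 537) h434 m1_434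
  have h436 : ∀ u < 234132, (fun u => chkM1 tab u) u = true := ext_range (a := 233595) (len := 537) h435 m1_435
  have h437 : ∀ u < 234669, (fun u => chkM1 tab u) u = true := ext_range (a := 234132) (len := 537) h436 m1_436
  have h438 : ∀ u < 235206, (fun u => chkM1 tab u) u = true := ext_range (a := 234669) (len := 537) h437 m1_437
  have h439 : ∀ u < 235743, (fun u => chkM1 tab u) u = true := ext_range (a := 235206) (len := 537) h438 m1_438
  have h440 : ∀ u < 236280, (fun u => chkM1 tab u) u = true := ext_range (a := 235743) (len := 537) h439 m1_439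
  have h441 : ∀ u < 236817, (fun u => chkM1 tab u) u = true := ext_range (a := 236280) (len := 537) h440 m1_440
  have h442 : ∀ u < 237354, (fun u => chkM1 tab u) u = true := ext_range (a := 236817) (len := 537) h441 m1_441
  have h443 : ∀ u < 237891, (fun u => chkM1 tab u) u = true := ext_range (a := 237354) (len := 537) h442 m1_442
  have h444 : ∀ u < 238428, (fun u => chkM1 tab u) u = true := ext_range (a := 237891) (len := 537) h443 m1_443
  have h445 : ∀ u < 238965, (fun u => chkM1 tab u) u = true := ext_range (a := 238428) (len := 537) h444 m1_444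
  have h446 : ∀ u < 239502, (fun u => chkM1 tab u) u = true := ext_range (a := 238965) (len := 537) h445 m1_445
  have h447 : ∀ u < 240039, (fun u => chkM1 tab u) u = true := ext_range (a := 239502) (len := 537) h446 m1_446
  have h448 : ∀ u < 240576, (fun u => chkM1 tab u) u = true := ext_range (a := 240039) (len := 537) h447 m1_447
  have h449 : ∀ u < 241113, (fun u => chkM1 tab u) u = true := ext_range (a := 240576) (len := 537) h448 m1_448
  have h450 : ∀ u < 241650, (fun u => chkM1 tab u) u = true := ext_range (a := 241113) (len := 537) h449 m1_449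
  have h451 : ∀ u < 242187, (fun u => chkM1 tab u) u = true := ext_range (a := 241650) (len := 537) h450 m1_450
  have h452 : ∀ u < 242724, (fun u => chkM1 tab u) u = true := ext_range (a := 242187) (len := 537) h451 m1_451
  have h453 : ∀ u < 243261, (fun u => chkM1 tab u) u = true := ext_range (a := 242724) (len := 537) h452 m1_452
  have h454 : ∀ u < 243798, (fun u => chkM1 tab u) u = true := ext_range (a := 243261) (len := 537) h453 m1_453
  have h455 : ∀ u < 244335, (fun u => chkM1 tab u) u = true := ext_range (a := 243798) (len := 537) h454 m1_454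
  have h456 : ∀ u < 244872, (fun u => chkM1 tab u) u = true := ext_range (a := 244335) (len := 537) h455 m1_455
  have h457 : ∀ u < 245409, (fun u => chkM1 tab u) u = true := ext_range (a := 244872) (len := 537) h456 m1_456
  have h458 : ∀ u < 245946, (fun u => chkM1 tab u) u = true := ext_range (a := 245409) (len := 537) h457 m1_457
  have h459 : ∀ u < 246483, (fun u => chkM1 tab u) u = true := ext_range (a := 245946) (len := 537) h458 m1_458
  have h460 : ∀ u < 247020, (fun u => chkM1 tab u) u = true := ext_range (a := 246483) (len := 537) h459 m1_459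
  have h461 : ∀ u < 247557, (fun u => chkM1 tab u) u = true := ext_range (a := 247020) (len := 537) h460 m1_460
  have h462 : ∀ u < 248094, (fun u => chkM1 tab u) u = true := ext_range (a := 247557) (len := 537) h461 m1_461
  have h463 : ∀ u < 248631, (fun u => chkM1 tab u) u = true := ext_range (a := 248094) (len := 537) h462 m1_462
  have h464 : ∀ u < 249168, (fun u => chkM1 tab u) u = true := ext_range (a := 248631) (len := 537) h463 m1_463
  have h465 : ∀ u < 249705, (fun u => chkM1 tab u) u = true := ext_range (a := 249168) (len := 537) h464 m1_464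
  have h466 : ∀ u < 250242, (fun u => chkM1 tab u) u = true := ext_range (a := 249705) (len := 537) h465 m1_465
  have h467 : ∀ u < 250779, (fun u => chkM1 tab u) u = true := ext_range (a := 250242) (len := 537) h466 m1_466
  have h468 : ∀ u < 251316, (fun u => chkM1 tab u) u = true := ext_range (a := 250779) (len := 537) h467 m1_467
  have h469 : ∀ u < 251853, (fun u => chkM1 tab u) u = true := ext_range (a := 251316) (len := 537) h468 m1_468
  have h470 : ∀ u < 252390, (fun u => chkM1 tab u) u = true := ext_range (a := 251853) (len := 537) h469 m1_469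
  have h471 : ∀ u < 252927, (fun u => chkM1 tab u) u = true := ext_range (a := 252390) (len := 537) h470 m1_470
  have h472 : ∀ u < 253464, (fun u => chkM1 tab u) u = true := ext_range (a := 252927) (len := 537) h471 m1_471
  have h473 : ∀ u < 254001, (fun u => chkM1 tab u) u = true := ext_range (a := 253464) (len := 537) h472 m1_472
  have h474 : ∀ u < 254538, (fun u => chkM1 tab u) u = true := ext_range (a := 254001) (len := 537) h473 m1_473
  have h475 : ∀ u < 255075, (fun u => chkM1 tab u) u = true := ext_range (a := 254538) (len := 537) h474 m1_474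
  have h476 : ∀ u < 255612, (fun u => chkM1 tab u) u = true := ext_range (a := 255075) (len := 537) h475 m1_475
  have h477 : ∀ u < 256149, (fun u => chkM1 tab u) u = true := ext_range (a := 255612) (len := 537) h476 m1_476
  have h478 : ∀ u < 256686, (fun u => chkM1 tab u) u = true := ext_range (a := 256149) (len := 537) h477 m1_477
  have h479 : ∀ u < 257223, (fun u => chkM1 tab u) u = true := ext_range (a := 256686) (len := 537) h478 m1_478
  have h480 : ∀ u < 257760, (fun u => chkM1 tab u) u = true := ext_range (a := 257223) (len := 537) h479 m1_479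
  have h481 : ∀ u < 258297, (fun u => chkM1 tab u) u = true := ext_range (a := 257760) (len := 537) h480 m1_480
  have h482 : ∀ u < 258834, (fun u => chkM1 tab u) u = true := ext_range (a := 258297) (len := 537) h481 m1_481
  have h483 : ∀ u < 259371, (fun u => chkM1 tab u) u = true := ext_range (a := 258834) (len := 537) h482 m1_482
  have h484 : ∀ u < 259908, (fun u => chkM1 tab u) u = true := ext_range (a := 259371) (len := 537) h483 m1_483
  have h485 : ∀ u < 260445, (fun u => chkM1 tab u) u = true := ext_range (a := 259908) (len := 537) h484 m1_484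
  have h486 : ∀ u < 260982, (fun u => chkM1 tab u) u = true := ext_range (a := 260445) (len := 537) h485 m1_485
  have h487 : ∀ u < 261519, (fun u => chkM1 tab u) u = true := ext_range (a := 260982) (len := 537) h486 m1_486
  have h488 : ∀ u < 262056, (fun u => chkM1 tab u) u = true := ext_range (a := 261519) (len := 537) h487 m1_487
  have h489 : ∀ u < 262593, (fun u => chkM1 tab u) u = true := ext_range (a := 262056) (len := 537) h488 m1_488
  have h490 : ∀ u < 263130, (fun u => chkM1 tab u) u = true := ext_range (a := 262593) (len := 537) h489 m1_489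
  have h491 : ∀ u < 263667, (fun u => chkM1 tab u) u = true := ext_range (a := 263130) (len := 537) h490 m1_490
  have h492 : ∀ u < 264204, (fun u => chkM1 tab u) u = true := ext_range (a := 263667) (len := 537) h491 m1_491
  have h493 : ∀ u < 264741, (fun u => chkM1 tab u) u = true := ext_range (a := 264204) (len := 537) h492 m1_492
  have h494 : ∀ u < 265278, (fun u => chkM1 tab u) u = true := ext_range (a := 264741) (len := 537) h493 m1_493
  have h495 : ∀ u < 265815, (fun u => chkM1 tab u) u = true := ext_range (a := 265278) (len := 537) h494 m1_494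
  have h496 : ∀ u < 266352, (fun u => chkM1 tab u) u = true := ext_range (a := 265815) (len := 537) h495 m1_495
  have h497 : ∀ u < 266889, (fun u => chkM1 tab u) u = true := ext_range (a := 266352) (len := 537) h496 m1_496
  have h498 : ∀ u < 267426, (fun u => chkM1 tab u) u = true := ext_range (a := 266889) (len := 537) h497 m1_497
  have h499 : ∀ u < 267963, (fun u => chkM1 tab u) u = true := ext_range (a := 267426) (len := 537) h498 m1_498
  have h500 : ∀ u < 268500, (fun u => chkM1 tab u) u = true := ext_range (a := 267963) (len := 537) h499 m1_499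
  have h501 : ∀ u < 269037, (fun u => chkM1 tab u) u = true := ext_range (a := 268500) (len := 537) h500 m1_500
  have h502 : ∀ u < 269574, (fun u => chkM1 tab u) u = true := ext_range (a := 269037) (len := 537) h501 m1_501
  have h503 : ∀ u < 270111, (fun u => chkM1 tab u) u = true := ext_range (a := 269574) (len := 537) h502 m1_502
  have h504 : ∀ u < 270648, (fun u => chkM1 tab u) u = true := ext_range (a := 270111) (len := 537) h503 m1_503
  have h505 : ∀ u < 271185, (fun u => chkM1 tab u) u = true := ext_range (a := 270648) (len := 537) h504 m1_504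
  have h506 : ∀ u < 271722, (fun u => chkM1 tab u) u = true := ext_range (a := 271185) (len := 537) h505 m1_505
  have h507 : ∀ u < 272259, (fun u => chkM1 tab u) u = true := ext_range (a := 271722) (len := 537) h506 m1_506
  have h508 : ∀ u < 272796, (fun u => chkM1 tab u) u = true := ext_range (a := 272259) (len := 537) h507 m1_507
  have h509 : ∀ u < 273333, (fun u => chkM1 tab u) u = true := ext_range (a := 272796) (len := 537) h508 m1_508
  have h510 : ∀ u < 273870, (fun u => chkM1 tab u) u = true := ext_range (a := 273333) (len := 537) h509 m1_509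
  have h511 : ∀ u < 274407, (fun u => chkM1 tab u) u = true := ext_range (a := 273870) (len := 537) h510 m1_510
  have h512 : ∀ u < 274944, (fun u => chkM1 tab u) u = true := ext_range (a := 274407) (len := 537) h511 m1_511
  have h513 : ∀ u < 275481, (fun u => chkM1 tab u) u = true := ext_range (a := 274944) (len := 537) h512 m1_512
  have h514 : ∀ u < 276018, (fun u => chkM1 tab u) u = true := ext_range (a := 275481) (len := 537) h513 m1_513
  have h515 : ∀ u < 276555, (fun u => chkM1 tab u) u = true := ext_range (a := 276018) (len := 537) h514 m1_514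
  have h516 : ∀ u < 277092, (fun u => chkM1 tab u) u = true := ext_range (a := 276555) (len := 537) h515 m1_515
  have h517 : ∀ u < 277629, (fun u => chkM1 tab u) u = true := ext_range (a := 277092) (len := 537) h516 m1_516
  have h518 : ∀ u < 278166, (fun u => chkM1 tab u) u = true := ext_range (a := 277629) (len := 537) h517 m1_517
  have h519 : ∀ u < 278703, (fun u => chkM1 tab u) u = true := ext_range (a := 278166) (len := 537) h518 m1_518
  have h520 : ∀ u < 279240, (fun u => chkM1 tab u) u = true := ext_range (a := 278703) (len := 537) h519 m1_519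
  have h521 : ∀ u < 279777, (fun u => chkM1 tab u) u = true := ext_range (a := 279240) (len := 537) h520 m1_520
  have h522 : ∀ u < 280314, (fun u => chkM1 tab u) u = true := ext_range (a := 279777) (len := 537) h521 m1_521
  have h523 : ∀ u < 280851, (fun u => chkM1 tab u) u = true := ext_range (a := 280314) (len := 537) h522 m1_522
  have h524 : ∀ u < 281388, (fun u => chkM1 tab u) u = true := ext_range (a := 280851) (len := 537) h523 m1_523
  have h525 : ∀ u < 281925, (fun u => chkM1 tab u) u = true := ext_range (a := 281388) (len := 537) h524 m1_524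
  have h526 : ∀ u < 282462, (fun u => chkM1 tab u) u = true := ext_range (a := 281925) (len := 537) h525 m1_525
  have h527 : ∀ u < 282999, (fun u => chkM1 tab u) u = true := ext_range (a := 282462) (len := 537) h526 m1_526
  have h528 : ∀ u < 283536, (fun u => chkM1 tab u) u = true := ext_range (a := 282999) (len := 537) h527 m1_527
  have h529 : ∀ u < 284073, (fun u => chkM1 tab u) u = true := ext_range (a := 283536) (len := 537) h528 m1_528
  have h530 : ∀ u < 284610, (fun u => chkM1 tab u) u = true := ext_range (a := 284073) (len := 537) h529 m1_529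
  have h531 : ∀ u < 285147, (fun u => chkM1 tab u) u = true := ext_range (a := 284610) (len := 537) h530 m1_530
  have h532 : ∀ u < 285684, (fun u => chkM1 tab u) u = true := ext_range (a := 285147) (len := 537) h531 m1_531
  have h533 : ∀ u < 286221, (fun u => chkM1 tab u) u = true := ext_range (a := 285684) (len := 537) h532 m1_532
  have h534 : ∀ u < 286758, (fun u => chkM1 tab u) u = true := ext_range (a := 286221) (len := 537) h533 m1_533
  have h535 : ∀ u < 287295, (fun u => chkM1 tab u) u = true := ext_range (a := 286758) (len := 537) h534 m1_534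
  have h536 : ∀ u < 287832, (fun u => chkM1 tab u) u = true := ext_range (a := 287295) (len := 537) h535 m1_535
  have h537 : ∀ u < 288369, (fun u => chkM1 tab u) u = true := ext_range (a := 287832) (len := 537) h536 m1_536
  have h538 : ∀ u < 288906, (fun u => chkM1 tab u) u = true := ext_range (a := 288369) (len := 537) h537 m1_537
  have h539 : ∀ u < 289443, (fun u => chkM1 tab u) u = true := ext_range (a := 288906) (len := 537) h538 m1_538
  have h540 : ∀ u < 289980, (fun u => chkM1 tab u) u = true := ext_range (a := 289443) (len := 537) h539 m1_539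
  have h541 : ∀ u < 290517, (fun u => chkM1 tab u) u = true := ext_range (a := 289980) (len := 537) h540 m1_540
  have h542 : ∀ u < 291054, (fun u => chkM1 tab u) u = true := ext_range (a := 290517) (len := 537) h541 m1_541
  have h543 : ∀ u < 291591, (fun u => chkM1 tab u) u = true := ext_range (a := 291054) (len := 537) h542 m1_542
  have h544 : ∀ u < 292128, (fun u => chkM1 tab u) u = true := ext_range (a := 291591) (len := 537) h543 m1_543
  have h545 : ∀ u < 292665, (fun u => chkM1 tab u) u = true := ext_range (a := 292128) (len := 537) h544 m1_544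
  have h546 : ∀ u < 293202, (fun u => chkM1 tab u) u = true := ext_range (a := 292665) (len := 537) h545 m1_545
  have h547 : ∀ u < 293739, (fun u => chkM1 tab u) u = true := ext_range (a := 293202) (len := 537) h546 m1_546
  have h548 : ∀ u < 294276, (fun u => chkM1 tab u) u = true := ext_range (a := 293739) (len := 537) h547 m1_547
  have h549 : ∀ u < 294813, (fun u => chkM1 tab u) u = true := ext_range (a := 294276) (len := 537) h548 m1_548
  have h550 : ∀ u < 295350, (fun u => chkM1 tab u) u = true := ext_range (a := 294813) (len := 537) h549 m1_549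
  have h551 : ∀ u < 295887, (fun u => chkM1 tab u) u = true := ext_range (a := 295350) (len := 537) h550 m1_550
  have h552 : ∀ u < 296424, (fun u => chkM1 tab u) u = true := ext_range (a := 295887) (len := 537) h551 m1_551
  have h553 : ∀ u < 296961, (fun u => chkM1 tab u) u = true := ext_range (a := 296424) (len := 537) h552 m1_552
  have h554 : ∀ u < 297498, (fun u => chkM1 tab u) u = true := ext_range (a := 296961) (len := 537) h553 m1_553
  have h555 : ∀ u < 298035, (fun u => chkM1 tab u) u = true := ext_range (a := 297498) (len := 537) h554 m1_554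
  have h556 : ∀ u < 298572, (fun u => chkM1 tab u) u = true := ext_range (a := 298035) (len := 537) h555 m1_555
  have h557 : ∀ u < 299109, (fun u => chkM1 tab u) u = true := ext_range (a := 298572) (len := 537) h556 m1_556
  have h558 : ∀ u < 299646, (fun u => chkM1 tab u) u = true := ext_range (a := 299109) (len := 537) h557 m1_557
  have h559 : ∀ u < 300183, (fun u => chkM1 tab u) u = true := ext_range (a := 299646) (len := 537) h558 m1_558
  have h560 : ∀ u < 300720, (fun u => chkM1 tab u) u = true := ext_range (a := 300183) (len := 537) h559 m1_559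
  have h561 : ∀ u < 301257, (fun u => chkM1 tab u) u = true := ext_range (a := 300720) (len := 537) h560 m1_560
  have h562 : ∀ u < 301794, (fun u => chkM1 tab u) u = true := ext_range (a := 301257) (len := 537) h561 m1_561
  have h563 : ∀ u < 302331, (fun u => chkM1 tab u) u = true := ext_range (a := 301794) (len := 537) h562 m1_562
  have h564 : ∀ u < 302868, (fun u => chkM1 tab u) u = true := ext_range (a := 302331) (len := 537) h563 m1_563
  have h565 : ∀ u < 303405, (fun u => chkM1 tab u) u = true := ext_range (a := 302868) (len := 537) h564 m1_564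
  have h566 : ∀ u < 303942, (fun u => chkM1 tab u) u = true := ext_range (a := 303405) (len := 537) h565 m1_565
  have h567 : ∀ u < 304479, (fun u => chkM1 tab u) u = true := ext_range (a := 303942) (len := 537) h566 m1_566
  have h568 : ∀ u < 305016, (fun u => chkM1 tab u) u = true := ext_range (a := 304479) (len := 537) h567 m1_567
  have h569 : ∀ u < 305553, (fun u => chkM1 tab u) u = true := ext_range (a := 305016) (len := 537) h568 m1_568
  have h570 : ∀ u < 306090, (fun u => chkM1 tab u) u = true := ext_range (a := 305553) (len := 537) h569 m1_569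
  have h571 : ∀ u < 306627, (fun u => chkM1 tab u) u = true := ext_range (a := 306090) (len := 537) h570 m1_570
  have h572 : ∀ u < 306936, (fun u => chkM1 tab u) u = true := ext_range (a := 306627) (len := 309) h571 m1_571
  exact h572

theorem hMA : ∀ u < 306936, chkAux tab aux u = true := by
  have h0 : ∀ u < 0, (fun u => chkAux tab aux u) u = true := range_zero
  have h1 : ∀ u < 548, (fun u => chkAux tab aux u) u = true := ext_range (a := 0) (len := 548) h0 ma_0
  have h2 : ∀ u < 1096, (fun u => chkAux tab aux u) u = true := ext_range (a := 548) (len := 548) h1 ma_1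
  have h3 : ∀ u < 1644, (fun u => chkAux tab aux u) u = true := ext_range (a := 1096) (len := 548) h2 ma_2
  have h4 : ∀ u < 2192, (fun u => chkAux tab aux u) u = true := ext_range (a := 1644) (len := 548) h3 ma_3
  have h5 : ∀ u < 2740, (fun u => chkAux tab aux u) u = true := ext_range (a := 2192) (len := 548) h4 ma_4
  have h6 : ∀ u < 3288, (fun u => chkAux tab aux u) u = true := ext_range (a := 2740) (len := 548) h5 ma_5
  have h7 : ∀ u < 3836, (fun u => chkAux tab aux u) u = true := ext_range (a := 3288) (len := 548) h6 ma_6
  have h8 : ∀ u < 4384, (fun u => chkAux tab aux u) u = true := ext_range (a := 3836) (len := 548) h7 ma_7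
  have h9 : ∀ u < 4932, (fun u => chkAux tab aux u) u = true := ext_range (a := 4384) (len := 548) h8 ma_8
  have h10 : ∀ u < 5480, (fun u => chkAux tab aux u) u = true := ext_range (a := 4932) (len := 548) h9 ma_9
  have h11 : ∀ u < 6028, (fun u => chkAux tab aux u) u = true := ext_range (a := 5480) (len := 548) h10 ma_10
  have h12 : ∀ u < 6576, (fun u => chkAux tab aux u) u = true := ext_range (a := 6028) (len := 548) h11 ma_11
  have h13 : ∀ u < 7124, (fun u => chkAux tab aux u) u = true := ext_range (a := 6576) (len := 548) h12 ma_12
  have h14 : ∀ u < 7672, (fun u => chkAux tab aux u) u = true := ext_range (a := 7124) (len := 548) h13 ma_13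
  have h15 : ∀ u < 8220, (fun u => chkAux tab aux u) u = true := ext_range (a := 7672) (len := 548) h14 ma_14
  have h16 : ∀ u < 8768, (fun u => chkAux tab aux u) u = true := ext_range (a := 8220) (len := 548) h15 ma_15
  have h17 : ∀ u < 9316, (fun u => chkAux tab aux u) u = true := ext_range (a := 8768) (len := 548) h16 ma_16
  have h18 : ∀ u < 9864, (fun u => chkAux tab aux u) u = true := ext_range (a := 9316) (len := 548) h17 ma_17
  have h19 : ∀ u < 10412, (fun u => chkAux tab aux u) u = true := ext_range (a := 9864) (len := 548) h18 ma_18
  have h20 : ∀ u < 10960, (fun u => chkAux tab aux u) u = true := ext_range (a := 10412) (len := 548) h19 ma_19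
  have h21 : ∀ u < 11508, (fun u => chkAux tab aux u) u = true := ext_range (a := 10960) (len := 548) h20 ma_20
  have h22 : ∀ u < 12056, (fun u => chkAux tab aux u) u = true := ext_range (a := 11508) (len := 548) h21 ma_21
  have h23 : ∀ u < 12604, (fun u => chkAux tab aux u) u = true := ext_range (a := 12056) (len := 548) h22 ma_22
  have h24 : ∀ u < 13152, (fun u => chkAux tab aux u) u = true := ext_range (a := 12604) (len := 548) h23 ma_23
  have h25 : ∀ u < 13700, (fun u => chkAux tab aux u) u = true := ext_range (a := 13152) (len := 548) h24 ma_24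
  have h26 : ∀ u < 14248, (fun u => chkAux tab aux u) u = true := ext_range (a := 13700) (len := 548) h25 ma_25
  have h27 : ∀ u < 14796, (fun u => chkAux tab aux u) u = true := ext_range (a := 14248) (len := 548) h26 ma_26
  have h28 : ∀ u < 15344, (fun u => chkAux tab aux u) u = true := ext_range (a := 14796) (len := 548) h27 ma_27
  have h29 : ∀ u < 15892, (fun u => chkAux tab aux u) u = true := ext_range (a := 15344) (len := 548) h28 ma_28
  have h30 : ∀ u < 16440, (fun u => chkAux tab aux u) u = true := ext_range (a := 15892) (len := 548) h29 ma_29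
  have h31 : ∀ u < 16988, (fun u => chkAux tab aux u) u = true := ext_range (a := 16440) (len := 548) h30 ma_30
  have h32 : ∀ u < 17536, (fun u => chkAux tab aux u) u = true := ext_range (a := 16988) (len := 548) h31 ma_31
  have h33 : ∀ u < 18084, (fun u => chkAux tab aux u) u = true := ext_range (a := 17536) (len := 548) h32 ma_32
  have h34 : ∀ u < 18632, (fun u => chkAux tab aux u) u = true := ext_range (a := 18084) (len := 548) h33 ma_33
  have h35 : ∀ u < 19180, (fun u => chkAux tab aux u) u = true := ext_range (a := 18632) (len := 548) h34 ma_34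
  have h36 : ∀ u < 19728, (fun u => chkAux tab aux u) u = true := ext_range (a := 19180) (len := 548) h35 ma_35
  have h37 : ∀ u < 20276, (fun u => chkAux tab aux u) u = true := ext_range (a := 19728) (len := 548) h36 ma_36
  have h38 : ∀ u < 20824, (fun u => chkAux tab aux u) u = true := ext_range (a := 20276) (len := 548) h37 ma_37
  have h39 : ∀ u < 21372, (fun u => chkAux tab aux u) u = true := ext_range (a := 20824) (len := 548) h38 ma_38
  have h40 : ∀ u < 21920, (fun u => chkAux tab aux u) u = true := ext_range (a := 21372) (len := 548) h39 ma_39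
  have h41 : ∀ u < 22468, (fun u => chkAux tab aux u) u = true := ext_range (a := 21920) (len := 548) h40 ma_40
  have h42 : ∀ u < 23016, (fun u => chkAux tab aux u) u = true := ext_range (a := 22468) (len := 548) h41 ma_41
  have h43 : ∀ u < 23564, (fun u => chkAux tab aux u) u = true := ext_range (a := 23016) (len := 548) h42 ma_42
  have h44 : ∀ u < 24112, (fun u => chkAux tab aux u) u = true := ext_range (a := 23564) (len := 548) h43 ma_43
  have h45 : ∀ u < 24660, (fun u => chkAux tab aux u) u = true := ext_range (a := 24112) (len := 548) h44 ma_44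
  have h46 : ∀ u < 25208, (fun u => chkAux tab aux u) u = true := ext_range (a := 24660) (len := 548) h45 ma_45
  have h47 : ∀ u < 25756, (fun u => chkAux tab aux u) u = true := ext_range (a := 25208) (len := 548) h46 ma_46
  have h48 : ∀ u < 26304, (fun u => chkAux tab aux u) u = true := ext_range (a := 25756) (len := 548) h47 ma_47
  have h49 : ∀ u < 26852, (fun u => chkAux tab aux u) u = true := ext_range (a := 26304) (len := 548) h48 ma_48
  have h50 : ∀ u < 27400, (fun u => chkAux tab aux u) u = true := ext_range (a := 26852) (len := 548) h49 ma_49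
  have h51 : ∀ u < 27948, (fun u => chkAux tab aux u) u = true := ext_range (a := 27400) (len := 548) h50 ma_50
  have h52 : ∀ u < 28496, (fun u => chkAux tab aux u) u = true := ext_range (a := 27948) (len := 548) h51 ma_51
  have h53 : ∀ u < 29044, (fun u => chkAux tab aux u) u = true := ext_range (a := 28496) (len := 548) h52 ma_52
  have h54 : ∀ u < 29592, (fun u => chkAux tab aux u) u = true := ext_range (a := 29044) (len := 548) h53 ma_53
  have h55 : ∀ u < 30140, (fun u => chkAux tab aux u) u = true := ext_range (a := 29592) (len := 548) h54 ma_54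
  have h56 : ∀ u < 30688, (fun u => chkAux tab aux u) u = true := ext_range (a := 30140) (len := 548) h55 ma_55
  have h57 : ∀ u < 31236, (fun u => chkAux tab aux u) u = true := ext_range (a := 30688) (len := 548) h56 ma_56
  have h58 : ∀ u < 31784, (fun u => chkAux tab aux u) u = true := ext_range (a := 31236) (len := 548) h57 ma_57
  have h59 : ∀ u < 32332, (fun u => chkAux tab aux u) u = true := ext_range (a := 31784) (len := 548) h58 ma_58
  have h60 : ∀ u < 32880, (fun u => chkAux tab aux u) u = true := ext_range (a := 32332) (len := 548) h59 ma_59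
  have h61 : ∀ u < 33428, (fun u => chkAux tab aux u) u = true := ext_range (a := 32880) (len := 548) h60 ma_60
  have h62 : ∀ u < 33976, (fun u => chkAux tab aux u) u = true := ext_range (a := 33428) (len := 548) h61 ma_61
  have h63 : ∀ u < 34524, (fun u => chkAux tab aux u) u = true := ext_range (a := 33976) (len := 548) h62 ma_62
  have h64 : ∀ u < 35072, (fun u => chkAux tab aux u) u = true := ext_range (a := 34524) (len := 548) h63 ma_63
  have h65 : ∀ u < 35620, (fun u => chkAux tab aux u) u = true := ext_range (a := 35072) (len := 548) h64 ma_64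
  have h66 : ∀ u < 36168, (fun u => chkAux tab aux u) u = true := ext_range (a := 35620) (len := 548) h65 ma_65
  have h67 : ∀ u < 36716, (fun u => chkAux tab aux u) u = true := ext_range (a := 36168) (len := 548) h66 ma_66
  have h68 : ∀ u < 37264, (fun u => chkAux tab aux u) u = true := ext_range (a := 36716) (len := 548) h67 ma_67
  have h69 : ∀ u < 37812, (fun u => chkAux tab aux u) u = true := ext_range (a := 37264) (len := 548) h68 ma_68
  have h70 : ∀ u < 38360, (fun u => chkAux tab aux u) u = true := ext_range (a := 37812) (len := 548) h69 ma_69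
  have h71 : ∀ u < 38908, (fun u => chkAux tab aux u) u = true := ext_range (a := 38360) (len := 548) h70 ma_70
  have h72 : ∀ u < 39456, (fun u => chkAux tab aux u) u = true := ext_range (a := 38908) (len := 548) h71 ma_71
  have h73 : ∀ u < 40004, (fun u => chkAux tab aux u) u = true := ext_range (a := 39456) (len := 548) h72 ma_72
  have h74 : ∀ u < 40552, (fun u => chkAux tab aux u) u = true := ext_range (a := 40004) (len := 548) h73 ma_73
  have h75 : ∀ u < 41100, (fun u => chkAux tab aux u) u = true := ext_range (a := 40552) (len := 548) h74 ma_74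
  have h76 : ∀ u < 41648, (fun u => chkAux tab aux u) u = true := ext_range (a := 41100) (len := 548) h75 ma_75
  have h77 : ∀ u < 42196, (fun u => chkAux tab aux u) u = true := ext_range (a := 41648) (len := 548) h76 ma_76
  have h78 : ∀ u < 42744, (fun u => chkAux tab aux u) u = true := ext_range (a := 42196) (len := 548) h77 ma_77
  have h79 : ∀ u < 43292, (fun u => chkAux tab aux u) u = true := ext_range (a := 42744) (len := 548) h78 ma_78
  have h80 : ∀ u < 43840, (fun u => chkAux tab aux u) u = true := ext_range (a := 43292) (len := 548) h79 ma_79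
  have h81 : ∀ u < 44388, (fun u => chkAux tab aux u) u = true := ext_range (a := 43840) (len := 548) h80 ma_80
  have h82 : ∀ u < 44936, (fun u => chkAux tab aux u) u = true := ext_range (a := 44388) (len := 548) h81 ma_81
  have h83 : ∀ u < 45484, (fun u => chkAux tab aux u) u = true := ext_range (a := 44936) (len := 548) h82 ma_82
  have h84 : ∀ u < 46032, (fun u => chkAux tab aux u) u = true := ext_range (a := 45484) (len := 548) h83 ma_83
  have h85 : ∀ u < 46580, (fun u => chkAux tab aux u) u = true := ext_range (a := 46032) (len := 548) h84 ma_84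
  have h86 : ∀ u < 47128, (fun u => chkAux tab aux u) u = true := ext_range (a := 46580) (len := 548) h85 ma_85
  have h87 : ∀ u < 47676, (fun u => chkAux tab aux u) u = true := ext_range (a := 47128) (len := 548) h86 ma_86
  have h88 : ∀ u < 48224, (fun u => chkAux tab aux u) u = true := ext_range (a := 47676) (len := 548) h87 ma_87
  have h89 : ∀ u < 48772, (fun u => chkAux tab aux u) u = true := ext_range (a := 48224) (len := 548) h88 ma_88
  have h90 : ∀ u < 49320, (fun u => chkAux tab aux u) u = true := ext_range (a := 48772) (len := 548) h89 ma_89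
  have h91 : ∀ u < 49868, (fun u => chkAux tab aux u) u = true := ext_range (a := 49320) (len := 548) h90 ma_90
  have h92 : ∀ u < 50416, (fun u => chkAux tab aux u) u = true := ext_range (a := 49868) (len := 548) h91 ma_91
  have h93 : ∀ u < 50964, (fun u => chkAux tab aux u) u = true := ext_range (a := 50416) (len := 548) h92 ma_92
  have h94 : ∀ u < 51512, (fun u => chkAux tab aux u) u = true := ext_range (a := 50964) (len := 548) h93 ma_93
  have h95 : ∀ u < 52060, (fun u => chkAux tab aux u) u = true := ext_range (a := 51512) (len := 548) h94 ma_94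
  have h96 : ∀ u < 52608, (fun u => chkAux tab aux u) u = true := ext_range (a := 52060) (len := 548) h95 ma_95
  have h97 : ∀ u < 53156, (fun u => chkAux tab aux u) u = true := ext_range (a := 52608) (len := 548) h96 ma_96
  have h98 : ∀ u < 53704, (fun u => chkAux tab aux u) u = true := ext_range (a := 53156) (len := 548) h97 ma_97
  have h99 : ∀ u < 54252, (fun u => chkAux tab aux u) u = true := ext_range (a := 53704) (len := 548) h98 ma_98
  have h100 : ∀ u < 54800, (fun u => chkAux tab aux u) u = true := ext_range (a := 54252) (len := 548) h99 ma_99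
  have h101 : ∀ u < 55348, (fun u => chkAux tab aux u) u = true := ext_range (a := 54800) (len := 548) h100 ma_100
  have h102 : ∀ u < 55896, (fun u => chkAux tab aux u) u = true := ext_range (a := 55348) (len := 548) h101 ma_101
  have h103 : ∀ u < 56444, (fun u => chkAux tab aux u) u = true := ext_range (a := 55896) (len := 548) h102 ma_102
  have h104 : ∀ u < 56992, (fun u => chkAux tab aux u) u = true := ext_range (a := 56444) (len := 548) h103 ma_103
  have h105 : ∀ u < 57540, (fun u => chkAux tab aux u) u = true := ext_range (a := 56992) (len := 548) h104 ma_104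
  have h106 : ∀ u < 58088, (fun u => chkAux tab aux u) u = true := ext_range (a := 57540) (len := 548) h105 ma_105
  have h107 : ∀ u < 58636, (fun u => chkAux tab aux u) u = true := ext_range (a := 58088) (len := 548) h106 ma_106
  have h108 : ∀ u < 59184, (fun u => chkAux tab aux u) u = true := ext_range (a := 58636) (len := 548) h107 ma_107
  have h109 : ∀ u < 59732, (fun u => chkAux tab aux u) u = true := ext_range (a := 59184) (len := 548) h108 ma_108
  have h110 : ∀ u < 60280, (fun u => chkAux tab aux u) u = true := ext_range (a := 59732) (len := 548) h109 ma_109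
  have h111 : ∀ u < 60828, (fun u => chkAux tab aux u) u = true := ext_range (a := 60280) (len := 548) h110 ma_110
  have h112 : ∀ u < 61376, (fun u => chkAux tab aux u) u = true := ext_range (a := 60828) (len := 548) h111 ma_111
  have h113 : ∀ u < 61924, (fun u => chkAux tab aux u) u = true := ext_range (a := 61376) (len := 548) h112 ma_112
  have h114 : ∀ u < 62472, (fun u => chkAux tab aux u) u = true := ext_range (a := 61924) (len := 548) h113 ma_113
  have h115 : ∀ u < 63020, (fun u => chkAux tab aux u) u = true := ext_range (a := 62472) (len := 548) h114 ma_114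
  have h116 : ∀ u < 63568, (fun u => chkAux tab aux u) u = true := ext_range (a := 63020) (len := 548) h115 ma_115
  have h117 : ∀ u < 64116, (fun u => chkAux tab aux u) u = true := ext_range (a := 63568) (len := 548) h116 ma_116
  have h118 : ∀ u < 64664, (fun u => chkAux tab aux u) u = true := ext_range (a := 64116) (len := 548) h117 ma_117
  have h119 : ∀ u < 65212, (fun u => chkAux tab aux u) u = true := ext_range (a := 64664) (len := 548) h118 ma_118
  have h120 : ∀ u < 65760, (fun u => chkAux tab aux u) u = true := ext_range (a := 65212) (len := 548) h119 ma_119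
  have h121 : ∀ u < 66308, (fun u => chkAux tab aux u) u = true := ext_range (a := 65760) (len := 548) h120 ma_120
  have h122 : ∀ u < 66856, (fun u => chkAux tab aux u) u = true := ext_range (a := 66308) (len := 548) h121 ma_121
  have h123 : ∀ u < 67404, (fun u => chkAux tab aux u) u = true := ext_range (a := 66856) (len := 548) h122 ma_122
  have h124 : ∀ u < 67952, (fun u => chkAux tab aux u) u = true := ext_range (a := 67404) (len := 548) h123 ma_123
  have h125 : ∀ u < 68500, (fun u => chkAux tab aux u) u = true := ext_range (a := 67952) (len := 548) h124 ma_124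
  have h126 : ∀ u < 69048, (fun u => chkAux tab aux u) u = true := ext_range (a := 68500) (len := 548) h125 ma_125
  have h127 : ∀ u < 69596, (fun u => chkAux tab aux u) u = true := ext_range (a := 69048) (len := 548) h126 ma_126
  have h128 : ∀ u < 70144, (fun u => chkAux tab aux u) u = true := ext_range (a := 69596) (len := 548) h127 ma_127
  have h129 : ∀ u < 70692, (fun u => chkAux tab aux u) u = true := ext_range (a := 70144) (len := 548) h128 ma_128
  have h130 : ∀ u < 71240, (fun u => chkAux tab aux u) u = true := ext_range (a := 70692) (len := 548) h129 ma_129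
  have h131 : ∀ u < 71788, (fun u => chkAux tab aux u) u = true := ext_range (a := 71240) (len := 548) h130 ma_130
  have h132 : ∀ u < 72336, (fun u => chkAux tab aux u) u = true := ext_range (a := 71788) (len := 548) h131 ma_131
  have h133 : ∀ u < 72884, (fun u => chkAux tab aux u) u = true := ext_range (a := 72336) (len := 548) h132 ma_132
  have h134 : ∀ u < 73432, (fun u => chkAux tab aux u) u = true := ext_range (a := 72884) (len := 548) h133 ma_133
  have h135 : ∀ u < 73980, (fun u => chkAux tab aux u) u = true := ext_range (a := 73432) (len := 548) h134 ma_134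
  have h136 : ∀ u < 74528, (fun u => chkAux tab aux u) u = true := ext_range (a := 73980) (len := 548) h135 ma_135
  have h137 : ∀ u < 75076, (fun u => chkAux tab aux u) u = true := ext_range (a := 74528) (len := 548) h136 ma_136
  have h138 : ∀ u < 75624, (fun u => chkAux tab aux u) u = true := ext_range (a := 75076) (len := 548) h137 ma_137
  have h139 : ∀ u < 76172, (fun u => chkAux tab aux u) u = true := ext_range (a := 75624) (len := 548) h138 ma_138
  have h140 : ∀ u < 76720, (fun u => chkAux tab aux u) u = true := ext_range (a := 76172) (len := 548) h139 ma_139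
  have h141 : ∀ u < 77268, (fun u => chkAux tab aux u) u = true := ext_range (a := 76720) (len := 548) h140 ma_140
  have h142 : ∀ u < 77816, (fun u => chkAux tab aux u) u = true := ext_range (a := 77268) (len := 548) h141 ma_141
  have h143 : ∀ u < 78364, (fun u => chkAux tab aux u) u = true := ext_range (a := 77816) (len := 548) h142 ma_142
  have h144 : ∀ u < 78912, (fun u => chkAux tab aux u) u = true := ext_range (a := 78364) (len := 548) h143 ma_143
  have h145 : ∀ u < 79460, (fun u => chkAux tab aux u) u = true := ext_range (a := 78912) (len := 548) h144 ma_144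
  have h146 : ∀ u < 80008, (fun u => chkAux tab aux u) u = true := ext_range (a := 79460) (len := 548) h145 ma_145
  have h147 : ∀ u < 80556, (fun u => chkAux tab aux u) u = true := ext_range (a := 80008) (len := 548) h146 ma_146
  have h148 : ∀ u < 81104, (fun u => chkAux tab aux u) u = true := ext_range (a := 80556) (len := 548) h147 ma_147
  have h149 : ∀ u < 81652, (fun u => chkAux tab aux u) u = true := ext_range (a := 81104) (len := 548) h148 ma_148
  have h150 : ∀ u < 82200, (fun u => chkAux tab aux u) u = true := ext_range (a := 81652) (len := 548) h149 ma_149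
  have h151 : ∀ u < 82748, (fun u => chkAux tab aux u) u = true := ext_range (a := 82200) (len := 548) h150 ma_150
  have h152 : ∀ u < 83296, (fun u => chkAux tab aux u) u = true := ext_range (a := 82748) (len := 548) h151 ma_151
  have h153 : ∀ u < 83844, (fun u => chkAux tab aux u) u = true := ext_range (a := 83296) (len := 548) h152 ma_152
  have h154 : ∀ u < 84392, (fun u => chkAux tab aux u) u = true := ext_range (a := 83844) (len := 548) h153 ma_153
  have h155 : ∀ u < 84940, (fun u => chkAux tab aux u) u = true := ext_range (a := 84392) (len := 548) h154 ma_154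
  have h156 : ∀ u < 85488, (fun u => chkAux tab aux u) u = true := ext_range (a := 84940) (len := 548) h155 ma_155
  have h157 : ∀ u < 86036, (fun u => chkAux tab aux u) u = true := ext_range (a := 85488) (len := 548) h156 ma_156
  have h158 : ∀ u < 86584, (fun u => chkAux tab aux u) u = true := ext_range (a := 86036) (len := 548) h157 ma_157
  have h159 : ∀ u < 87132, (fun u => chkAux tab aux u) u = true := ext_range (a := 86584) (len := 548) h158 ma_158
  have h160 : ∀ u < 87680, (fun u => chkAux tab aux u) u = true := ext_range (a := 87132) (len := 548) h159 ma_159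
  have h161 : ∀ u < 88228, (fun u => chkAux tab aux u) u = true := ext_range (a := 87680) (len := 548) h160 ma_160
  have h162 : ∀ u < 88776, (fun u => chkAux tab aux u) u = true := ext_range (a := 88228) (len := 548) h161 ma_161
  have h163 : ∀ u < 89324, (fun u => chkAux tab aux u) u = true := ext_range (a := 88776) (len := 548) h162 ma_162
  have h164 : ∀ u < 89872, (fun u => chkAux tab aux u) u = true := ext_range (a := 89324) (len := 548) h163 ma_163
  have h165 : ∀ u < 90420, (fun u => chkAux tab aux u) u = true := ext_range (a := 89872) (len := 548) h164 ma_164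
  have h166 : ∀ u < 90968, (fun u => chkAux tab aux u) u = true := ext_range (a := 90420) (len := 548) h165 ma_165
  have h167 : ∀ u < 91516, (fun u => chkAux tab aux u) u = true := ext_range (a := 90968) (len := 548) h166 ma_166
  have h168 : ∀ u < 92064, (fun u => chkAux tab aux u) u = true := ext_range (a := 91516) (len := 548) h167 ma_167
  have h169 : ∀ u < 92612, (fun u => chkAux tab aux u) u = true := ext_range (a := 92064) (len := 548) h168 ma_168
  have h170 : ∀ u < 93160, (fun u => chkAux tab aux u) u = true := ext_range (a := 92612) (len := 548) h169 ma_169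
  have h171 : ∀ u < 93708, (fun u => chkAux tab aux u) u = true := ext_range (a := 93160) (len := 548) h170 ma_170
  have h172 : ∀ u < 94256, (fun u => chkAux tab aux u) u = true := ext_range (a := 93708) (len := 548) h171 ma_171
  have h173 : ∀ u < 94804, (fun u => chkAux tab aux u) u = true := ext_range (a := 94256) (len := 548) h172 ma_172
  have h174 : ∀ u < 95352, (fun u => chkAux tab aux u) u = true := ext_range (a := 94804) (len := 548) h173 ma_173
  have h175 : ∀ u < 95900, (fun u => chkAux tab aux u) u = true := ext_range (a := 95352) (len := 548) h174 ma_174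
  have h176 : ∀ u < 96448, (fun u => chkAux tab aux u) u = true := ext_range (a := 95900) (len := 548) h175 ma_175
  have h177 : ∀ u < 96996, (fun u => chkAux tab aux u) u = true := ext_range (a := 96448) (len := 548) h176 ma_176
  have h178 : ∀ u < 97544, (fun u => chkAux tab aux u) u = true := ext_range (a := 96996) (len := 548) h177 ma_177
  have h179 : ∀ u < 98092, (fun u => chkAux tab aux u) u = true := ext_range (a := 97544) (len := 548) h178 ma_178
  have h180 : ∀ u < 98640, (fun u => chkAux tab aux u) u = true := ext_range (a := 98092) (len := 548) h179 ma_179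
  have h181 : ∀ u < 99188, (fun u => chkAux tab aux u) u = true := ext_range (a := 98640) (len := 548) h180 ma_180
  have h182 : ∀ u < 99736, (fun u => chkAux tab aux u) u = true := ext_range (a := 99188) (len := 548) h181 ma_181
  have h183 : ∀ u < 100284, (fun u => chkAux tab aux u) u = true := ext_range (a := 99736) (len := 548) h182 ma_182
  have h184 : ∀ u < 100832, (fun u => chkAux tab aux u) u = true := ext_range (a := 100284) (len := 548) h183 ma_183
  have h185 : ∀ u < 101380, (fun u => chkAux tab aux u) u = true := ext_range (a := 100832) (len := 548) h184 ma_184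
  have h186 : ∀ u < 101928, (fun u => chkAux tab aux u) u = true := ext_range (a := 101380) (len := 548) h185 ma_185
  have h187 : ∀ u < 102476, (fun u => chkAux tab aux u) u = true := ext_range (a := 101928) (len := 548) h186 ma_186
  have h188 : ∀ u < 103024, (fun u => chkAux tab aux u) u = true := ext_range (a := 102476) (len := 548) h187 ma_187
  have h189 : ∀ u < 103572, (fun u => chkAux tab aux u) u = true := ext_range (a := 103024) (len := 548) h188 ma_188
  have h190 : ∀ u < 104120, (fun u => chkAux tab aux u) u = true := ext_range (a := 103572) (len := 548) h189 ma_189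
  have h191 : ∀ u < 104668, (fun u => chkAux tab aux u) u = true := ext_range (a := 104120) (len := 548) h190 ma_190
  have h192 : ∀ u < 105216, (fun u => chkAux tab aux u) u = true := ext_range (a := 104668) (len := 548) h191 ma_191
  have h193 : ∀ u < 105764, (fun u => chkAux tab aux u) u = true := ext_range (a := 105216) (len := 548) h192 ma_192
  have h194 : ∀ u < 106312, (fun u => chkAux tab aux u) u = true := ext_range (a := 105764) (len := 548) h193 ma_193
  have h195 : ∀ u < 106860, (fun u => chkAux tab aux u) u = true := ext_range (a := 106312) (len := 548) h194 ma_194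
  have h196 : ∀ u < 107408, (fun u => chkAux tab aux u) u = true := ext_range (a := 106860) (len := 548) h195 ma_195
  have h197 : ∀ u < 107956, (fun u => chkAux tab aux u) u = true := ext_range (a := 107408) (len := 548) h196 ma_196
  have h198 : ∀ u < 108504, (fun u => chkAux tab aux u) u = true := ext_range (a := 107956) (len := 548) h197 ma_197
  have h199 : ∀ u < 109052, (fun u => chkAux tab aux u) u = true := ext_range (a := 108504) (len := 548) h198 ma_198
  have h200 : ∀ u < 109600, (fun u => chkAux tab aux u) u = true := ext_range (a := 109052) (len := 548) h199 ma_199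
  have h201 : ∀ u < 110148, (fun u => chkAux tab aux u) u = true := ext_range (a := 109600) (len := 548) h200 ma_200
  have h202 : ∀ u < 110696, (fun u => chkAux tab aux u) u = true := ext_range (a := 110148) (len := 548) h201 ma_201
  have h203 : ∀ u < 111244, (fun u => chkAux tab aux u) u = true := ext_range (a := 110696) (len := 548) h202 ma_202
  have h204 : ∀ u < 111792, (fun u => chkAux tab aux u) u = true := ext_range (a := 111244) (len := 548) h203 ma_203
  have h205 : ∀ u < 112340, (fun u => chkAux tab aux u) u = true := ext_range (a := 111792) (len := 548) h204 ma_204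
  have h206 : ∀ u < 112888, (fun u => chkAux tab aux u) u = true := ext_range (a := 112340) (len := 548) h205 ma_205
  have h207 : ∀ u < 113436, (fun u => chkAux tab aux u) u = true := ext_range (a := 112888) (len := 548) h206 ma_206
  have h208 : ∀ u < 113984, (fun u => chkAux tab aux u) u = true := ext_range (a := 113436) (len := 548) h207 ma_207
  have h209 : ∀ u < 114532, (fun u => chkAux tab aux u) u = true := ext_range (a := 113984) (len := 548) h208 ma_208
  have h210 : ∀ u < 115080, (fun u => chkAux tab aux u) u = true := ext_range (a := 114532) (len := 548) h209 ma_209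
  have h211 : ∀ u < 115628, (fun u => chkAux tab aux u) u = true := ext_range (a := 115080) (len := 548) h210 ma_210
  have h212 : ∀ u < 116176, (fun u => chkAux tab aux u) u = true := ext_range (a := 115628) (len := 548) h211 ma_211
  have h213 : ∀ u < 116724, (fun u => chkAux tab aux u) u = true := ext_range (a := 116176) (len := 548) h212 ma_212
  have h214 : ∀ u < 117272, (fun u => chkAux tab aux u) u = true := ext_range (a := 116724) (len := 548) h213 ma_213
  have h215 : ∀ u < 117820, (fun u => chkAux tab aux u) u = true := ext_range (a := 117272) (len := 548) h214 ma_214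
  have h216 : ∀ u < 118368, (fun u => chkAux tab aux u) u = true := ext_range (a := 117820) (len := 548) h215 ma_215
  have h217 : ∀ u < 118916, (fun u => chkAux tab aux u) u = true := ext_range (a := 118368) (len := 548) h216 ma_216
  have h218 : ∀ u < 119464, (fun u => chkAux tab aux u) u = true := ext_range (a := 118916) (len := 548) h217 ma_217
  have h219 : ∀ u < 120012, (fun u => chkAux tab aux u) u = true := ext_range (a := 119464) (len := 548) h218 ma_218
  have h220 : ∀ u < 120560, (fun u => chkAux tab aux u) u = true := ext_range (a := 120012) (len := 548) h219 ma_219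
  have h221 : ∀ u < 121108, (fun u => chkAux tab aux u) u = true := ext_range (a := 120560) (len := 548) h220 ma_220
  have h222 : ∀ u < 121656, (fun u => chkAux tab aux u) u = true := ext_range (a := 121108) (len := 548) h221 ma_221
  have h223 : ∀ u < 122204, (fun u => chkAux tab aux u) u = true := ext_range (a := 121656) (len := 548) h222 ma_222
  have h224 : ∀ u < 122752, (fun u => chkAux tab aux u) u = true := ext_range (a := 122204) (len := 548) h223 ma_223
  have h225 : ∀ u < 123300, (fun u => chkAux tab aux u) u = true := ext_range (a := 122752) (len := 548) h224 ma_224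
  have h226 : ∀ u < 123848, (fun u => chkAux tab aux u) u = true := ext_range (a := 123300) (len := 548) h225 ma_225
  have h227 : ∀ u < 124396, (fun u => chkAux tab aux u) u = true := ext_range (a := 123848) (len := 548) h226 ma_226
  have h228 : ∀ u < 124944, (fun u => chkAux tab aux u) u = true := ext_range (a := 124396) (len := 548) h227 ma_227
  have h229 : ∀ u < 125492, (fun u => chkAux tab aux u) u = true := ext_range (a := 124944) (len := 548) h228 ma_228
  have h230 : ∀ u < 126040, (fun u => chkAux tab aux u) u = true := ext_range (a := 125492) (len := 548) h229 ma_229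
  have h231 : ∀ u < 126588, (fun u => chkAux tab aux u) u = true := ext_range (a := 126040) (len := 548) h230 ma_230
  have h232 : ∀ u < 127136, (fun u => chkAux tab aux u) u = true := ext_range (a := 126588) (len := 548) h231 ma_231
  have h233 : ∀ u < 127684, (fun u => chkAux tab aux u) u = true := ext_range (a := 127136) (len := 548) h232 ma_232
  have h234 : ∀ u < 128232, (fun u => chkAux tab aux u) u = true := ext_range (a := 127684) (len := 548) h233 ma_233
  have h235 : ∀ u < 128780, (fun u => chkAux tab aux u) u = true := ext_range (a := 128232) (len := 548) h234 ma_234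
  have h236 : ∀ u < 129328, (fun u => chkAux tab aux u) u = true := ext_range (a := 128780) (len := 548) h235 ma_235
  have h237 : ∀ u < 129876, (fun u => chkAux tab aux u) u = true := ext_range (a := 129328) (len := 548) h236 ma_236
  have h238 : ∀ u < 130424, (fun u => chkAux tab aux u) u = true := ext_range (a := 129876) (len := 548) h237 ma_237
  have h239 : ∀ u < 130972, (fun u => chkAux tab aux u) u = true := ext_range (a := 130424) (len := 548) h238 ma_238
  have h240 : ∀ u < 131520, (fun u => chkAux tab aux u) u = true := ext_range (a := 130972) (len := 548) h239 ma_239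
  have h241 : ∀ u < 132068, (fun u => chkAux tab aux u) u = true := ext_range (a := 131520) (len := 548) h240 ma_240
  have h242 : ∀ u < 132616, (fun u => chkAux tab aux u) u = true := ext_range (a := 132068) (len := 548) h241 ma_241
  have h243 : ∀ u < 133164, (fun u => chkAux tab aux u) u = true := ext_range (a := 132616) (len := 548) h242 ma_242
  have h244 : ∀ u < 133712, (fun u => chkAux tab aux u) u = true := ext_range (a := 133164) (len := 548) h243 ma_243
  have h245 : ∀ u < 134260, (fun u => chkAux tab aux u) u = true := ext_range (a := 133712) (len := 548) h244 ma_244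
  have h246 : ∀ u < 134808, (fun u => chkAux tab aux u) u = true := ext_range (a := 134260) (len := 548) h245 ma_245
  have h247 : ∀ u < 135356, (fun u => chkAux tab aux u) u = true := ext_range (a := 134808) (len := 548) h246 ma_246
  have h248 : ∀ u < 135904, (fun u => chkAux tab aux u) u = true := ext_range (a := 135356) (len := 548) h247 ma_247
  have h249 : ∀ u < 136452, (fun u => chkAux tab aux u) u = true := ext_range (a := 135904) (len := 548) h248 ma_248
  have h250 : ∀ u < 137000, (fun u => chkAux tab aux u) u = true := ext_range (a := 136452) (len := 548) h249 ma_249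
  have h251 : ∀ u < 137548, (fun u => chkAux tab aux u) u = true := ext_range (a := 137000) (len := 548) h250 ma_250
  have h252 : ∀ u < 138096, (fun u => chkAux tab aux u) u = true := ext_range (a := 137548) (len := 548) h251 ma_251
  have h253 : ∀ u < 138644, (fun u => chkAux tab aux u) u = true := ext_range (a := 138096) (len := 548) h252 ma_252
  have h254 : ∀ u < 139192, (fun u => chkAux tab aux u) u = true := ext_range (a := 138644) (len := 548) h253 ma_253
  have h255 : ∀ u < 139740, (fun u => chkAux tab aux u) u = true := ext_range (a := 139192) (len := 548) h254 ma_254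
  have h256 : ∀ u < 140288, (fun u => chkAux tab aux u) u = true := ext_range (a := 139740) (len := 548) h255 ma_255
  have h257 : ∀ u < 140836, (fun u => chkAux tab aux u) u = true := ext_range (a := 140288) (len := 548) h256 ma_256
  have h258 : ∀ u < 141384, (fun u => chkAux tab aux u) u = true := ext_range (a := 140836) (len := 548) h257 ma_257
  have h259 : ∀ u < 141932, (fun u => chkAux tab aux u) u = true := ext_range (a := 141384) (len := 548) h258 ma_258
  have h260 : ∀ u < 142480, (fun u => chkAux tab aux u) u = true := ext_range (a := 141932) (len := 548) h259 ma_259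
  have h261 : ∀ u < 143028, (fun u => chkAux tab aux u) u = true := ext_range (a := 142480) (len := 548) h260 ma_260
  have h262 : ∀ u < 143576, (fun u => chkAux tab aux u) u = true := ext_range (a := 143028) (len := 548) h261 ma_261
  have h263 : ∀ u < 144124, (fun u => chkAux tab aux u) u = true := ext_range (a := 143576) (len := 548) h262 ma_262
  have h264 : ∀ u < 144672, (fun u => chkAux tab aux u) u = true := ext_range (a := 144124) (len := 548) h263 ma_263
  have h265 : ∀ u < 145220, (fun u => chkAux tab aux u) u = true := ext_range (a := 144672) (len := 548) h264 ma_264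
  have h266 : ∀ u < 145768, (fun u => chkAux tab aux u) u = true := ext_range (a := 145220) (len := 548) h265 ma_265
  have h267 : ∀ u < 146316, (fun u => chkAux tab aux u) u = true := ext_range (a := 145768) (len := 548) h266 ma_266
  have h268 : ∀ u < 146864, (fun u => chkAux tab aux u) u = true := ext_range (a := 146316) (len := 548) h267 ma_267
  have h269 : ∀ u < 147412, (fun u => chkAux tab aux u) u = true := ext_range (a := 146864) (len := 548) h268 ma_268
  have h270 : ∀ u < 147960, (fun u => chkAux tab aux u) u = true := ext_range (a := 147412) (len := 548) h269 ma_269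
  have h271 : ∀ u < 148508, (fun u => chkAux tab aux u) u = true := ext_range (a := 147960) (len := 548) h270 ma_270
  have h272 : ∀ u < 149056, (fun u => chkAux tab aux u) u = true := ext_range (a := 148508) (len := 548) h271 ma_271
  have h273 : ∀ u < 149604, (fun u => chkAux tab aux u) u = true := ext_range (a := 149056) (len := 548) h272 ma_272
  have h274 : ∀ u < 150152, (fun u => chkAux tab aux u) u = true := ext_range (a := 149604) (len := 548) h273 ma_273
  have h275 : ∀ u < 150700, (fun u => chkAux tab aux u) u = true := ext_range (a := 150152) (len := 548) h274 ma_274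
  have h276 : ∀ u < 151248, (fun u => chkAux tab aux u) u = true := ext_range (a := 150700) (len := 548) h275 ma_275
  have h277 : ∀ u < 151796, (fun u => chkAux tab aux u) u = true := ext_range (a := 151248) (len := 548) h276 ma_276
  have h278 : ∀ u < 152344, (fun u => chkAux tab aux u) u = true := ext_range (a := 151796) (len := 548) h277 ma_277
  have h279 : ∀ u < 152892, (fun u => chkAux tab aux u) u = true := ext_range (a := 152344) (len := 548) h278 ma_278
  have h280 : ∀ u < 153440, (fun u => chkAux tab aux u) u = true := ext_range (a := 152892) (len := 548) h279 ma_279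
  have h281 : ∀ u < 153988, (fun u => chkAux tab aux u) u = true := ext_range (a := 153440) (len := 548) h280 ma_280
  have h282 : ∀ u < 154536, (fun u => chkAux tab aux u) u = true := ext_range (a := 153988) (len := 548) h281 ma_281
  have h283 : ∀ u < 155084, (fun u => chkAux tab aux u) u = true := ext_range (a := 154536) (len := 548) h282 ma_282
  have h284 : ∀ u < 155632, (fun u => chkAux tab aux u) u = true := ext_range (a := 155084) (len := 548) h283 ma_283
  have h285 : ∀ u < 156180, (fun u => chkAux tab aux u) u = true := ext_range (a := 155632) (len := 548) h284 ma_284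
  have h286 : ∀ u < 156728, (fun u => chkAux tab aux u) u = true := ext_range (a := 156180) (len := 548) h285 ma_285
  have h287 : ∀ u < 157276, (fun u => chkAux tab aux u) u = true := ext_range (a := 156728) (len := 548) h286 ma_286
  have h288 : ∀ u < 157824, (fun u => chkAux tab aux u) u = true := ext_range (a := 157276) (len := 548) h287 ma_287
  have h289 : ∀ u < 158372, (fun u => chkAux tab aux u) u = true := ext_range (a := 157824) (len := 548) h288 ma_288
  have h290 : ∀ u < 158920, (fun u => chkAux tab aux u) u = true := ext_range (a := 158372) (len := 548) h289 ma_289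
  have h291 : ∀ u < 159468, (fun u => chkAux tab aux u) u = true := ext_range (a := 158920) (len := 548) h290 ma_290
  have h292 : ∀ u < 160016, (fun u => chkAux tab aux u) u = true := ext_range (a := 159468) (len := 548) h291 ma_291
  have h293 : ∀ u < 160564, (fun u => chkAux tab aux u) u = true := ext_range (a := 160016) (len := 548) h292 ma_292
  have h294 : ∀ u < 161112, (fun u => chkAux tab aux u) u = true := ext_range (a := 160564) (len := 548) h293 ma_293
  have h295 : ∀ u < 161660, (fun u => chkAux tab aux u) u = true := ext_range (a := 161112) (len := 548) h294 ma_294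
  have h296 : ∀ u < 162208, (fun u => chkAux tab aux u) u = true := ext_range (a := 161660) (len := 548) h295 ma_295
  have h297 : ∀ u < 162756, (fun u => chkAux tab aux u) u = true := ext_range (a := 162208) (len := 548) h296 ma_296
  have h298 : ∀ u < 163304, (fun u => chkAux tab aux u) u = true := ext_range (a := 162756) (len := 548) h297 ma_297
  have h299 : ∀ u < 163852, (fun u => chkAux tab aux u) u = true := ext_range (a := 163304) (len := 548) h298 ma_298
  have h300 : ∀ u < 164400, (fun u => chkAux tab aux u) u = true := ext_range (a := 163852) (len := 548) h299 ma_299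
  have h301 : ∀ u < 164948, (fun u => chkAux tab aux u) u = true := ext_range (a := 164400) (len := 548) h300 ma_300
  have h302 : ∀ u < 165496, (fun u => chkAux tab aux u) u = true := ext_range (a := 164948) (len := 548) h301 ma_301
  have h303 : ∀ u < 166044, (fun u => chkAux tab aux u) u = true := ext_range (a := 165496) (len := 548) h302 ma_302
  have h304 : ∀ u < 166592, (fun u => chkAux tab aux u) u = true := ext_range (a := 166044) (len := 548) h303 ma_303
  have h305 : ∀ u < 167140, (fun u => chkAux tab aux u) u = true := ext_range (a := 166592) (len := 548) h304 ma_304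
  have h306 : ∀ u < 167688, (fun u => chkAux tab aux u) u = true := ext_range (a := 167140) (len := 548) h305 ma_305
  have h307 : ∀ u < 168236, (fun u => chkAux tab aux u) u = true := ext_range (a := 167688) (len := 548) h306 ma_306
  have h308 : ∀ u < 168784, (fun u => chkAux tab aux u) u = true := ext_range (a := 168236) (len := 548) h307 ma_307
  have h309 : ∀ u < 169332, (fun u => chkAux tab aux u) u = true := ext_range (a := 168784) (len := 548) h308 ma_308
  have h310 : ∀ u < 169880, (fun u => chkAux tab aux u) u = true := ext_range (a := 169332) (len := 548) h309 ma_309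
  have h311 : ∀ u < 170428, (fun u => chkAux tab aux u) u = true := ext_range (a := 169880) (len := 548) h310 ma_310
  have h312 : ∀ u < 170976, (fun u => chkAux tab aux u) u = true := ext_range (a := 170428) (len := 548) h311 ma_311
  have h313 : ∀ u < 171524, (fun u => chkAux tab aux u) u = true := ext_range (a := 170976) (len := 548) h312 ma_312
  have h314 : ∀ u < 172072, (fun u => chkAux tab aux u) u = true := ext_range (a := 171524) (len := 548) h313 ma_313
  have h315 : ∀ u < 172620, (fun u => chkAux tab aux u) u = true := ext_range (a := 172072) (len := 548) h314 ma_314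
  have h316 : ∀ u < 173168, (fun u => chkAux tab aux u) u = true := ext_range (a := 172620) (len := 548) h315 ma_315
  have h317 : ∀ u < 173716, (fun u => chkAux tab aux u) u = true := ext_range (a := 173168) (len := 548) h316 ma_316
  have h318 : ∀ u < 174264, (fun u => chkAux tab aux u) u = true := ext_range (a := 173716) (len := 548) h317 ma_317
  have h319 : ∀ u < 174812, (fun u => chkAux tab aux u) u = true := ext_range (a := 174264) (len := 548) h318 ma_318
  have h320 : ∀ u < 175360, (fun u => chkAux tab aux u) u = true := ext_range (a := 174812) (len := 548) h319 ma_319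
  have h321 : ∀ u < 175908, (fun u => chkAux tab aux u) u = true := ext_range (a := 175360) (len := 548) h320 ma_320
  have h322 : ∀ u < 176456, (fun u => chkAux tab aux u) u = true := ext_range (a := 175908) (len := 548) h321 ma_321
  have h323 : ∀ u < 177004, (fun u => chkAux tab aux u) u = true := ext_range (a := 176456) (len := 548) h322 ma_322
  have h324 : ∀ u < 177552, (fun u => chkAux tab aux u) u = true := ext_range (a := 177004) (len := 548) h323 ma_323
  have h325 : ∀ u < 178100, (fun u => chkAux tab aux u) u = true := ext_range (a := 177552) (len := 548) h324 ma_324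
  have h326 : ∀ u < 178648, (fun u => chkAux tab aux u) u = true := ext_range (a := 178100) (len := 548) h325 ma_325
  have h327 : ∀ u < 179196, (fun u => chkAux tab aux u) u = true := ext_range (a := 178648) (len := 548) h326 ma_326
  have h328 : ∀ u < 179744, (fun u => chkAux tab aux u) u = true := ext_range (a := 179196) (len := 548) h327 ma_327
  have h329 : ∀ u < 180292, (fun u => chkAux tab aux u) u = true := ext_range (a := 179744) (len := 548) h328 ma_328
  have h330 : ∀ u < 180840, (fun u => chkAux tab aux u) u = true := ext_range (a := 180292) (len := 548) h329 ma_329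
  have h331 : ∀ u < 181388, (fun u => chkAux tab aux u) u = true := ext_range (a := 180840) (len := 548) h330 ma_330
  have h332 : ∀ u < 181936, (fun u => chkAux tab aux u) u = true := ext_range (a := 181388) (len := 548) h331 ma_331
  have h333 : ∀ u < 182484, (fun u => chkAux tab aux u) u = true := ext_range (a := 181936) (len := 548) h332 ma_332
  have h334 : ∀ u < 183032, (fun u => chkAux tab aux u) u = true := ext_range (a := 182484) (len := 548) h333 ma_333
  have h335 : ∀ u < 183580, (fun u => chkAux tab aux u) u = true := ext_range (a := 183032) (len := 548) h334 ma_334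
  have h336 : ∀ u < 184128, (fun u => chkAux tab aux u) u = true := ext_range (a := 183580) (len := 548) h335 ma_335
  have h337 : ∀ u < 184676, (fun u => chkAux tab aux u) u = true := ext_range (a := 184128) (len := 548) h336 ma_336
  have h338 : ∀ u < 185224, (fun u => chkAux tab aux u) u = true := ext_range (a := 184676) (len := 548) h337 ma_337
  have h339 : ∀ u < 185772, (fun u => chkAux tab aux u) u = true := ext_range (a := 185224) (len := 548) h338 ma_338
  have h340 : ∀ u < 186320, (fun u => chkAux tab aux u) u = true := ext_range (a := 185772) (len := 548) h339 ma_339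
  have h341 : ∀ u < 186868, (fun u => chkAux tab aux u) u = true := ext_range (a := 186320) (len := 548) h340 ma_340
  have h342 : ∀ u < 187416, (fun u => chkAux tab aux u) u = true := ext_range (a := 186868) (len := 548) h341 ma_341
  have h343 : ∀ u < 187964, (fun u => chkAux tab aux u) u = true := ext_range (a := 187416) (len := 548) h342 ma_342
  have h344 : ∀ u < 188512, (fun u => chkAux tab aux u) u = true := ext_range (a := 187964) (len := 548) h343 ma_343
  have h345 : ∀ u < 189060, (fun u => chkAux tab aux u) u = true := ext_range (a := 188512) (len := 548) h344 ma_344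
  have h346 : ∀ u < 189608, (fun u => chkAux tab aux u) u = true := ext_range (a := 189060) (len := 548) h345 ma_345
  have h347 : ∀ u < 190156, (fun u => chkAux tab aux u) u = true := ext_range (a := 189608) (len := 548) h346 ma_346
  have h348 : ∀ u < 190704, (fun u => chkAux tab aux u) u = true := ext_range (a := 190156) (len := 548) h347 ma_347
  have h349 : ∀ u < 191252, (fun u => chkAux tab aux u) u = true := ext_range (a := 190704) (len := 548) h348 ma_348
  have h350 : ∀ u < 191800, (fun u => chkAux tab aux u) u = true := ext_range (a := 191252) (len := 548) h349 ma_349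
  have h351 : ∀ u < 192348, (fun u => chkAux tab aux u) u = true := ext_range (a := 191800) (len := 548) h350 ma_350
  have h352 : ∀ u < 192896, (fun u => chkAux tab aux u) u = true := ext_range (a := 192348) (len := 548) h351 ma_351
  have h353 : ∀ u < 193444, (fun u => chkAux tab aux u) u = true := ext_range (a := 192896) (len := 548) h352 ma_352
  have h354 : ∀ u < 193992, (fun u => chkAux tab aux u) u = true := ext_range (a := 193444) (len := 548) h353 ma_353
  have h355 : ∀ u < 194540, (fun u => chkAux tab aux u) u = true := ext_range (a := 193992) (len := 548) h354 ma_354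
  have h356 : ∀ u < 195088, (fun u => chkAux tab aux u) u = true := ext_range (a := 194540) (len := 548) h355 ma_355
  have h357 : ∀ u < 195636, (fun u => chkAux tab aux u) u = true := ext_range (a := 195088) (len := 548) h356 ma_356
  have h358 : ∀ u < 196184, (fun u => chkAux tab aux u) u = true := ext_range (a := 195636) (len := 548) h357 ma_357
  have h359 : ∀ u < 196732, (fun u => chkAux tab aux u) u = true := ext_range (a := 196184) (len := 548) h358 ma_358
  have h360 : ∀ u < 197280, (fun u => chkAux tab aux u) u = true := ext_range (a := 196732) (len := 548) h359 ma_359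
  have h361 : ∀ u < 197828, (fun u => chkAux tab aux u) u = true := ext_range (a := 197280) (len := 548) h360 ma_360
  have h362 : ∀ u < 198376, (fun u => chkAux tab aux u) u = true := ext_range (a := 197828) (len := 548) h361 ma_361
  have h363 : ∀ u < 198924, (fun u => chkAux tab aux u) u = true := ext_range (a := 198376) (len := 548) h362 ma_362
  have h364 : ∀ u < 199472, (fun u => chkAux tab aux u) u = true := ext_range (a := 198924) (len := 548) h363 ma_363
  have h365 : ∀ u < 200020, (fun u => chkAux tab aux u) u = true := ext_range (a := 199472) (len := 548) h364 ma_364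
  have h366 : ∀ u < 200568, (fun u => chkAux tab aux u) u = true := ext_range (a := 200020) (len := 548) h365 ma_365
  have h367 : ∀ u < 201116, (fun u => chkAux tab aux u) u = true := ext_range (a := 200568) (len := 548) h366 ma_366
  have h368 : ∀ u < 201664, (fun u => chkAux tab aux u) u = true := ext_range (a := 201116) (len := 548) h367 ma_367
  have h369 : ∀ u < 202212, (fun u => chkAux tab aux u) u = true := ext_range (a := 201664) (len := 548) h368 ma_368
  have h370 : ∀ u < 202760, (fun u => chkAux tab aux u) u = true := ext_range (a := 202212) (len := 548) h369 ma_369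
  have h371 : ∀ u < 203308, (fun u => chkAux tab aux u) u = true := ext_range (a := 202760) (len := 548) h370 ma_370
  have h372 : ∀ u < 203856, (fun u => chkAux tab aux u) u = true := ext_range (a := 203308) (len := 548) h371 ma_371
  have h373 : ∀ u < 204404, (fun u => chkAux tab aux u) u = true := ext_range (a := 203856) (len := 548) h372 ma_372
  have h374 : ∀ u < 204952, (fun u => chkAux tab aux u) u = true := ext_range (a := 204404) (len := 548) h373 ma_373
  have h375 : ∀ u < 205500, (fun u => chkAux tab aux u) u = true := ext_range (a := 204952) (len := 548) h374 ma_374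
  have h376 : ∀ u < 206048, (fun u => chkAux tab aux u) u = true := ext_range (a := 205500) (len := 548) h375 ma_375
  have h377 : ∀ u < 206596, (fun u => chkAux tab aux u) u = true := ext_range (a := 206048) (len := 548) h376 ma_376
  have h378 : ∀ u < 207144, (fun u => chkAux tab aux u) u = true := ext_range (a := 206596) (len := 548) h377 ma_377
  have h379 : ∀ u < 207692, (fun u => chkAux tab aux u) u = true := ext_range (a := 207144) (len := 548) h378 ma_378
  have h380 : ∀ u < 208240, (fun u => chkAux tab aux u) u = true := ext_range (a := 207692) (len := 548) h379 ma_379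
  have h381 : ∀ u < 208788, (fun u => chkAux tab aux u) u = true := ext_range (a := 208240) (len := 548) h380 ma_380
  have h382 : ∀ u < 209336, (fun u => chkAux tab aux u) u = true := ext_range (a := 208788) (len := 548) h381 ma_381
  have h383 : ∀ u < 209884, (fun u => chkAux tab aux u) u = true := ext_range (a := 209336) (len := 548) h382 ma_382
  have h384 : ∀ u < 210432, (fun u => chkAux tab aux u) u = true := ext_range (a := 209884) (len := 548) h383 ma_383
  have h385 : ∀ u < 210980, (fun u => chkAux tab aux u) u = true := ext_range (a := 210432) (len := 548) h384 ma_384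
  have h386 : ∀ u < 211528, (fun u => chkAux tab aux u) u = true := ext_range (a := 210980) (len := 548) h385 ma_385
  have h387 : ∀ u < 212076, (fun u => chkAux tab aux u) u = true := ext_range (a := 211528) (len := 548) h386 ma_386
  have h388 : ∀ u < 212624, (fun u => chkAux tab aux u) u = true := ext_range (a := 212076) (len := 548) h387 ma_387
  have h389 : ∀ u < 213172, (fun u => chkAux tab aux u) u = true := ext_range (a := 212624) (len := 548) h388 ma_388
  have h390 : ∀ u < 213720, (fun u => chkAux tab aux u) u = true := ext_range (a := 213172) (len := 548) h389 ma_389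
  have h391 : ∀ u < 214268, (fun u => chkAux tab aux u) u = true := ext_range (a := 213720) (len := 548) h390 ma_390
  have h392 : ∀ u < 214816, (fun u => chkAux tab aux u) u = true := ext_range (a := 214268) (len := 548) h391 ma_391
  have h393 : ∀ u < 215364, (fun u => chkAux tab aux u) u = true := ext_range (a := 214816) (len := 548) h392 ma_392
  have h394 : ∀ u < 215912, (fun u => chkAux tab aux u) u = true := ext_range (a := 215364) (len := 548) h393 ma_393
  have h395 : ∀ u < 216460, (fun u => chkAux tab aux u) u = true := ext_range (a := 215912) (len := 548) h394 ma_394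
  have h396 : ∀ u < 217008, (fun u => chkAux tab aux u) u = true := ext_range (a := 216460) (len := 548) h395 ma_395
  have h397 : ∀ u < 217556, (fun u => chkAux tab aux u) u = true := ext_range (a := 217008) (len := 548) h396 ma_396
  have h398 : ∀ u < 218104, (fun u => chkAux tab aux u) u = true := ext_range (a := 217556) (len := 548) h397 ma_397
  have h399 : ∀ u < 218652, (fun u => chkAux tab aux u) u = true := ext_range (a := 218104) (len := 548) h398 ma_398
  have h400 : ∀ u < 219200, (fun u => chkAux tab aux u) u = true := ext_range (a := 218652) (len := 548) h399 ma_399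
  have h401 : ∀ u < 219748, (fun u => chkAux tab aux u) u = true := ext_range (a := 219200) (len := 548) h400 ma_400
  have h402 : ∀ u < 220296, (fun u => chkAux tab aux u) u = true := ext_range (a := 219748) (len := 548) h401 ma_401
  have h403 : ∀ u < 220844, (fun u => chkAux tab aux u) u = true := ext_range (a := 220296) (len := 548) h402 ma_402
  have h404 : ∀ u < 221392, (fun u => chkAux tab aux u) u = true := ext_range (a := 220844) (len := 548) h403 ma_403
  have h405 : ∀ u < 221940, (fun u => chkAux tab aux u) u = true := ext_range (a := 221392) (len := 548) h404 ma_404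
  have h406 : ∀ u < 222488, (fun u => chkAux tab aux u) u = true := ext_range (a := 221940) (len := 548) h405 ma_405
  have h407 : ∀ u < 223036, (fun u => chkAux tab aux u) u = true := ext_range (a := 222488) (len := 548) h406 ma_406
  have h408 : ∀ u < 223584, (fun u => chkAux tab aux u) u = true := ext_range (a := 223036) (len := 548) h407 ma_407
  have h409 : ∀ u < 224132, (fun u => chkAux tab aux u) u = true := ext_range (a := 223584) (len := 548) h408 ma_408
  have h410 : ∀ u < 224680, (fun u => chkAux tab aux u) u = true := ext_range (a := 224132) (len := 548) h409 ma_409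
  have h411 : ∀ u < 225228, (fun u => chkAux tab aux u) u = true := ext_range (a := 224680) (len := 548) h410 ma_410
  have h412 : ∀ u < 225776, (fun u => chkAux tab aux u) u = true := ext_range (a := 225228) (len := 548) h411 ma_411
  have h413 : ∀ u < 226324, (fun u => chkAux tab aux u) u = true := ext_range (a := 225776) (len := 548) h412 ma_412
  have h414 : ∀ u < 226872, (fun u => chkAux tab aux u) u = true := ext_range (a := 226324) (len := 548) h413 ma_413
  have h415 : ∀ u < 227420, (fun u => chkAux tab aux u) u = true := ext_range (a := 226872) (len := 548) h414 ma_414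
  have h416 : ∀ u < 227968, (fun u => chkAux tab aux u) u = true := ext_range (a := 227420) (len := 548) h415 ma_415
  have h417 : ∀ u < 228516, (fun u => chkAux tab aux u) u = true := ext_range (a := 227968) (len := 548) h416 ma_416
  have h418 : ∀ u < 229064, (fun u => chkAux tab aux u) u = true := ext_range (a := 228516) (len := 548) h417 ma_417
  have h419 : ∀ u < 229612, (fun u => chkAux tab aux u) u = true := ext_range (a := 229064) (len := 548) h418 ma_418
  have h420 : ∀ u < 230160, (fun u => chkAux tab aux u) u = true := ext_range (a := 229612) (len := 548) h419 ma_419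
  have h421 : ∀ u < 230708, (fun u => chkAux tab aux u) u = true := ext_range (a := 230160) (len := 548) h420 ma_420
  have h422 : ∀ u < 231256, (fun u => chkAux tab aux u) u = true := ext_range (a := 230708) (len := 548) h421 ma_421
  have h423 : ∀ u < 231804, (fun u => chkAux tab aux u) u = true := ext_range (a := 231256) (len := 548) h422 ma_422
  have h424 : ∀ u < 232352, (fun u => chkAux tab aux u) u = true := ext_range (a := 231804) (len := 548) h423 ma_423
  have h425 : ∀ u < 232900, (fun u => chkAux tab aux u) u = true := ext_range (a := 232352) (len := 548) h424 ma_424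
  have h426 : ∀ u < 233448, (fun u => chkAux tab aux u) u = true := ext_range (a := 232900) (len := 548) h425 ma_425
  have h427 : ∀ u < 233996, (fun u => chkAux tab aux u) u = true := ext_range (a := 233448) (len := 548) h426 ma_426
  have h428 : ∀ u < 234544, (fun u => chkAux tab aux u) u = true := ext_range (a := 233996) (len := 548) h427 ma_427
  have h429 : ∀ u < 235092, (fun u => chkAux tab aux u) u = true := ext_range (a := 234544) (len := 548) h428 ma_428
  have h430 : ∀ u < 235640, (fun u => chkAux tab aux u) u = true := ext_range (a := 235092) (len := 548) h429 ma_429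
  have h431 : ∀ u < 236188, (fun u => chkAux tab aux u) u = true := ext_range (a := 235640) (len := 548) h430 ma_430
  have h432 : ∀ u < 236736, (fun u => chkAux tab aux u) u = true := ext_range (a := 236188) (len := 548) h431 ma_431
  have h433 : ∀ u < 237284, (fun u => chkAux tab aux u) u = true := ext_range (a := 236736) (len := 548) h432 ma_432
  have h434 : ∀ u < 237832, (fun u => chkAux tab aux u) u = true := ext_range (a := 237284) (len := 548) h433 ma_433
  have h435 : ∀ u < 238380, (fun u => chkAux tab aux u) u = true := ext_range (a := 237832) (len := 548) h434 ma_434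
  have h436 : ∀ u < 238928, (fun u => chkAux tab aux u) u = true := ext_range (a := 238380) (len := 548) h435 ma_435
  have h437 : ∀ u < 239476, (fun u => chkAux tab aux u) u = true := ext_range (a := 238928) (len := 548) h436 ma_436
  have h438 : ∀ u < 240024, (fun u => chkAux tab aux u) u = true := ext_range (a := 239476) (len := 548) h437 ma_437
  have h439 : ∀ u < 240572, (fun u => chkAux tab aux u) u = true := ext_range (a := 240024) (len := 548) h438 ma_438
  have h440 : ∀ u < 241120, (fun u => chkAux tab aux u) u = true := ext_range (a := 240572) (len := 548) h439 ma_439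
  have h441 : ∀ u < 241668, (fun u => chkAux tab aux u) u = true := ext_range (a := 241120) (len := 548) h440 ma_440
  have h442 : ∀ u < 242216, (fun u => chkAux tab aux u) u = true := ext_range (a := 241668) (len := 548) h441 ma_441
  have h443 : ∀ u < 242764, (fun u => chkAux tab aux u) u = true := ext_range (a := 242216) (len := 548) h442 ma_442
  have h444 : ∀ u < 243312, (fun u => chkAux tab aux u) u = true := ext_range (a := 242764) (len := 548) h443 ma_443
  have h445 : ∀ u < 243860, (fun u => chkAux tab aux u) u = true := ext_range (a := 243312) (len := 548) h444 ma_444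
  have h446 : ∀ u < 244408, (fun u => chkAux tab aux u) u = true := ext_range (a := 243860) (len := 548) h445 ma_445
  have h447 : ∀ u < 244956, (fun u => chkAux tab aux u) u = true := ext_range (a := 244408) (len := 548) h446 ma_446
  have h448 : ∀ u < 245504, (fun u => chkAux tab aux u) u = true := ext_range (a := 244956) (len := 548) h447 ma_447
  have h449 : ∀ u < 246052, (fun u => chkAux tab aux u) u = true := ext_range (a := 245504) (len := 548) h448 ma_448
  have h450 : ∀ u < 246600, (fun u => chkAux tab aux u) u = true := ext_range (a := 246052) (len := 548) h449 ma_449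
  have h451 : ∀ u < 247148, (fun u => chkAux tab aux u) u = true := ext_range (a := 246600) (len := 548) h450 ma_450
  have h452 : ∀ u < 247696, (fun u => chkAux tab aux u) u = true := ext_range (a := 247148) (len := 548) h451 ma_451
  have h453 : ∀ u < 248244, (fun u => chkAux tab aux u) u = true := ext_range (a := 247696) (len := 548) h452 ma_452
  have h454 : ∀ u < 248792, (fun u => chkAux tab aux u) u = true := ext_range (a := 248244) (len := 548) h453 ma_453
  have h455 : ∀ u < 249340, (fun u => chkAux tab aux u) u = true := ext_range (a := 248792) (len := 548) h454 ma_454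
  have h456 : ∀ u < 249888, (fun u => chkAux tab aux u) u = true := ext_range (a := 249340) (len := 548) h455 ma_455
  have h457 : ∀ u < 250436, (fun u => chkAux tab aux u) u = true := ext_range (a := 249888) (len := 548) h456 ma_456
  have h458 : ∀ u < 250984, (fun u => chkAux tab aux u) u = true := ext_range (a := 250436) (len := 548) h457 ma_457
  have h459 : ∀ u < 251532, (fun u => chkAux tab aux u) u = true := ext_range (a := 250984) (len := 548) h458 ma_458
  have h460 : ∀ u < 252080, (fun u => chkAux tab aux u) u = true := ext_range (a := 251532) (len := 548) h459 ma_459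
  have h461 : ∀ u < 252628, (fun u => chkAux tab aux u) u = true := ext_range (a := 252080) (len := 548) h460 ma_460
  have h462 : ∀ u < 253176, (fun u => chkAux tab aux u) u = true := ext_range (a := 252628) (len := 548) h461 ma_461
  have h463 : ∀ u < 253724, (fun u => chkAux tab aux u) u = true := ext_range (a := 253176) (len := 548) h462 ma_462
  have h464 : ∀ u < 254272, (fun u => chkAux tab aux u) u = true := ext_range (a := 253724) (len := 548) h463 ma_463
  have h465 : ∀ u < 254820, (fun u => chkAux tab aux u) u = true := ext_range (a := 254272) (len := 548) h464 ma_464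
  have h466 : ∀ u < 255368, (fun u => chkAux tab aux u) u = true := ext_range (a := 254820) (len := 548) h465 ma_465
  have h467 : ∀ u < 255916, (fun u => chkAux tab aux u) u = true := ext_range (a := 255368) (len := 548) h466 ma_466
  have h468 : ∀ u < 256464, (fun u => chkAux tab aux u) u = true := ext_range (a := 255916) (len := 548) h467 ma_467
  have h469 : ∀ u < 257012, (fun u => chkAux tab aux u) u = true := ext_range (a := 256464) (len := 548) h468 ma_468
  have h470 : ∀ u < 257560, (fun u => chkAux tab aux u) u = true := ext_range (a := 257012) (len := 548) h469 ma_469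
  have h471 : ∀ u < 258108, (fun u => chkAux tab aux u) u = true := ext_range (a := 257560) (len := 548) h470 ma_470
  have h472 : ∀ u < 258656, (fun u => chkAux tab aux u) u = true := ext_range (a := 258108) (len := 548) h471 ma_471
  have h473 : ∀ u < 259204, (fun u => chkAux tab aux u) u = true := ext_range (a := 258656) (len := 548) h472 ma_472
  have h474 : ∀ u < 259752, (fun u => chkAux tab aux u) u = true := ext_range (a := 259204) (len := 548) h473 ma_473
  have h475 : ∀ u < 260300, (fun u => chkAux tab aux u) u = true := ext_range (a := 259752) (len := 548) h474 ma_474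
  have h476 : ∀ u < 260848, (fun u => chkAux tab aux u) u = true := ext_range (a := 260300) (len := 548) h475 ma_475
  have h477 : ∀ u < 261396, (fun u => chkAux tab aux u) u = true := ext_range (a := 260848) (len := 548) h476 ma_476
  have h478 : ∀ u < 261944, (fun u => chkAux tab aux u) u = true := ext_range (a := 261396) (len := 548) h477 ma_477
  have h479 : ∀ u < 262492, (fun u => chkAux tab aux u) u = true := ext_range (a := 261944) (len := 548) h478 ma_478
  have h480 : ∀ u < 263040, (fun u => chkAux tab aux u) u = true := ext_range (a := 262492) (len := 548) h479 ma_479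
  have h481 : ∀ u < 263588, (fun u => chkAux tab aux u) u = true := ext_range (a := 263040) (len := 548) h480 ma_480
  have h482 : ∀ u < 264136, (fun u => chkAux tab aux u) u = true := ext_range (a := 263588) (len := 548) h481 ma_481
  have h483 : ∀ u < 264684, (fun u => chkAux tab aux u) u = true := ext_range (a := 264136) (len := 548) h482 ma_482
  have h484 : ∀ u < 265232, (fun u => chkAux tab aux u) u = true := ext_range (a := 264684) (len := 548) h483 ma_483
  have h485 : ∀ u < 265780, (fun u => chkAux tab aux u) u = true := ext_range (a := 265232) (len := 548) h484 ma_484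
  have h486 : ∀ u < 266328, (fun u => chkAux tab aux u) u = true := ext_range (a := 265780) (len := 548) h485 ma_485
  have h487 : ∀ u < 266876, (fun u => chkAux tab aux u) u = true := ext_range (a := 266328) (len := 548) h486 ma_486
  have h488 : ∀ u < 267424, (fun u => chkAux tab aux u) u = true := ext_range (a := 266876) (len := 548) h487 ma_487
  have h489 : ∀ u < 267972, (fun u => chkAux tab aux u) u = true := ext_range (a := 267424) (len := 548) h488 ma_488
  have h490 : ∀ u < 268520, (fun u => chkAux tab aux u) u = true := ext_range (a := 267972) (len := 548) h489 ma_489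
  have h491 : ∀ u < 269068, (fun u => chkAux tab aux u) u = true := ext_range (a := 268520) (len := 548) h490 ma_490
  have h492 : ∀ u < 269616, (fun u => chkAux tab aux u) u = true := ext_range (a := 269068) (len := 548) h491 ma_491
  have h493 : ∀ u < 270164, (fun u => chkAux tab aux u) u = true := ext_range (a := 269616) (len := 548) h492 ma_492
  have h494 : ∀ u < 270712, (fun u => chkAux tab aux u) u = true := ext_range (a := 270164) (len := 548) h493 ma_493
  have h495 : ∀ u < 271260, (fun u => chkAux tab aux u) u = true := ext_range (a := 270712) (len := 548) h494 ma_494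
  have h496 : ∀ u < 271808, (fun u => chkAux tab aux u) u = true := ext_range (a := 271260) (len := 548) h495 ma_495
  have h497 : ∀ u < 272356, (fun u => chkAux tab aux u) u = true := ext_range (a := 271808) (len := 548) h496 ma_496
  have h498 : ∀ u < 272904, (fun u => chkAux tab aux u) u = true := ext_range (a := 272356) (len := 548) h497 ma_497
  have h499 : ∀ u < 273452, (fun u => chkAux tab aux u) u = true := ext_range (a := 272904) (len := 548) h498 ma_498
  have h500 : ∀ u < 274000, (fun u => chkAux tab aux u) u = true := ext_range (a := 273452) (len := 548) h499 ma_499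
  have h501 : ∀ u < 274548, (fun u => chkAux tab aux u) u = true := ext_range (a := 274000) (len := 548) h500 ma_500
  have h502 : ∀ u < 275096, (fun u => chkAux tab aux u) u = true := ext_range (a := 274548) (len := 548) h501 ma_501
  have h503 : ∀ u < 275644, (fun u => chkAux tab aux u) u = true := ext_range (a := 275096) (len := 548) h502 ma_502
  have h504 : ∀ u < 276192, (fun u => chkAux tab aux u) u = true := ext_range (a := 275644) (len := 548) h503 ma_503
  have h505 : ∀ u < 276740, (fun u => chkAux tab aux u) u = true := ext_range (a := 276192) (len := 548) h504 ma_504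
  have h506 : ∀ u < 277288, (fun u => chkAux tab aux u) u = true := ext_range (a := 276740) (len := 548) h505 ma_505
  have h507 : ∀ u < 277836, (fun u => chkAux tab aux u) u = true := ext_range (a := 277288) (len := 548) h506 ma_506
  have h508 : ∀ u < 278384, (fun u => chkAux tab aux u) u = true := ext_range (a := 277836) (len := 548) h507 ma_507
  have h509 : ∀ u < 278932, (fun u => chkAux tab aux u) u = true := ext_range (a := 278384) (len := 548) h508 ma_508
  have h510 : ∀ u < 279480, (fun u => chkAux tab aux u) u = true := ext_range (a := 278932) (len := 548) h509 ma_509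
  have h511 : ∀ u < 280028, (fun u => chkAux tab aux u) u = true := ext_range (a := 279480) (len := 548) h510 ma_510
  have h512 : ∀ u < 280576, (fun u => chkAux tab aux u) u = true := ext_range (a := 280028) (len := 548) h511 ma_511
  have h513 : ∀ u < 281124, (fun u => chkAux tab aux u) u = true := ext_range (a := 280576) (len := 548) h512 ma_512
  have h514 : ∀ u < 281672, (fun u => chkAux tab aux u) u = true := ext_range (a := 281124) (len := 548) h513 ma_513
  have h515 : ∀ u < 282220, (fun u => chkAux tab aux u) u = true := ext_range (a := 281672) (len := 548) h514 ma_514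
  have h516 : ∀ u < 282768, (fun u => chkAux tab aux u) u = true := ext_range (a := 282220) (len := 548) h515 ma_515
  have h517 : ∀ u < 283316, (fun u => chkAux tab aux u) u = true := ext_range (a := 282768) (len := 548) h516 ma_516
  have h518 : ∀ u < 283864, (fun u => chkAux tab aux u) u = true := ext_range (a := 283316) (len := 548) h517 ma_517
  have h519 : ∀ u < 284412, (fun u => chkAux tab aux u) u = true := ext_range (a := 283864) (len := 548) h518 ma_518
  have h520 : ∀ u < 284960, (fun u => chkAux tab aux u) u = true := ext_range (a := 284412) (len := 548) h519 ma_519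
  have h521 : ∀ u < 285508, (fun u => chkAux tab aux u) u = true := ext_range (a := 284960) (len := 548) h520 ma_520
  have h522 : ∀ u < 286056, (fun u => chkAux tab aux u) u = true := ext_range (a := 285508) (len := 548) h521 ma_521
  have h523 : ∀ u < 286604, (fun u => chkAux tab aux u) u = true := ext_range (a := 286056) (len := 548) h522 ma_522
  have h524 : ∀ u < 287152, (fun u => chkAux tab aux u) u = true := ext_range (a := 286604) (len := 548) h523 ma_523
  have h525 : ∀ u < 287700, (fun u => chkAux tab aux u) u = true := ext_range (a := 287152) (len := 548) h524 ma_524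
  have h526 : ∀ u < 288248, (fun u => chkAux tab aux u) u = true := ext_range (a := 287700) (len := 548) h525 ma_525
  have h527 : ∀ u < 288796, (fun u => chkAux tab aux u) u = true := ext_range (a := 288248) (len := 548) h526 ma_526
  have h528 : ∀ u < 289344, (fun u => chkAux tab aux u) u = true := ext_range (a := 288796) (len := 548) h527 ma_527
  have h529 : ∀ u < 289892, (fun u => chkAux tab aux u) u = true := ext_range (a := 289344) (len := 548) h528 ma_528
  have h530 : ∀ u < 290440, (fun u => chkAux tab aux u) u = true := ext_range (a := 289892) (len := 548) h529 ma_529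
  have h531 : ∀ u < 290988, (fun u => chkAux tab aux u) u = true := ext_range (a := 290440) (len := 548) h530 ma_530
  have h532 : ∀ u < 291536, (fun u => chkAux tab aux u) u = true := ext_range (a := 290988) (len := 548) h531 ma_531
  have h533 : ∀ u < 292084, (fun u => chkAux tab aux u) u = true := ext_range (a := 291536) (len := 548) h532 ma_532
  have h534 : ∀ u < 292632, (fun u => chkAux tab aux u) u = true := ext_range (a := 292084) (len := 548) h533 ma_533
  have h535 : ∀ u < 293180, (fun u => chkAux tab aux u) u = true := ext_range (a := 292632) (len := 548) h534 ma_534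
  have h536 : ∀ u < 293728, (fun u => chkAux tab aux u) u = true := ext_range (a := 293180) (len := 548) h535 ma_535
  have h537 : ∀ u < 294276, (fun u => chkAux tab aux u) u = true := ext_range (a := 293728) (len := 548) h536 ma_536
  have h538 : ∀ u < 294824, (fun u => chkAux tab aux u) u = true := ext_range (a := 294276) (len := 548) h537 ma_537
  have h539 : ∀ u < 295372, (fun u => chkAux tab aux u) u = true := ext_range (a := 294824) (len := 548) h538 ma_538
  have h540 : ∀ u < 295920, (fun u => chkAux tab aux u) u = true := ext_range (a := 295372) (len := 548) h539 ma_539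
  have h541 : ∀ u < 296468, (fun u => chkAux tab aux u) u = true := ext_range (a := 295920) (len := 548) h540 ma_540
  have h542 : ∀ u < 297016, (fun u => chkAux tab aux u) u = true := ext_range (a := 296468) (len := 548) h541 ma_541
  have h543 : ∀ u < 297564, (fun u => chkAux tab aux u) u = true := ext_range (a := 297016) (len := 548) h542 ma_542
  have h544 : ∀ u < 298112, (fun u => chkAux tab aux u) u = true := ext_range (a := 297564) (len := 548) h543 ma_543
  have h545 : ∀ u < 298660, (fun u => chkAux tab aux u) u = true := ext_range (a := 298112) (len := 548) h544 ma_544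
  have h546 : ∀ u < 299208, (fun u => chkAux tab aux u) u = true := ext_range (a := 298660) (len := 548) h545 ma_545
  have h547 : ∀ u < 299756, (fun u => chkAux tab aux u) u = true := ext_range (a := 299208) (len := 548) h546 ma_546
  have h548 : ∀ u < 300304, (fun u => chkAux tab aux u) u = true := ext_range (a := 299756) (len := 548) h547 ma_547
  have h549 : ∀ u < 300852, (fun u => chkAux tab aux u) u = true := ext_range (a := 300304) (len := 548) h548 ma_548
  have h550 : ∀ u < 301400, (fun u => chkAux tab aux u) u = true := ext_range (a := 300852) (len := 548) h549 ma_549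
  have h551 : ∀ u < 301948, (fun u => chkAux tab aux u) u = true := ext_range (a := 301400) (len := 548) h550 ma_550
  have h552 : ∀ u < 302496, (fun u => chkAux tab aux u) u = true := ext_range (a := 301948) (len := 548) h551 ma_551
  have h553 : ∀ u < 303044, (fun u => chkAux tab aux u) u = true := ext_range (a := 302496) (len := 548) h552 ma_552
  have h554 : ∀ u < 303592, (fun u => chkAux tab aux u) u = true := ext_range (a := 303044) (len := 548) h553 ma_553
  have h555 : ∀ u < 304140, (fun u => chkAux tab aux u) u = true := ext_range (a := 303592) (len := 548) h554 ma_554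
  have h556 : ∀ u < 304688, (fun u => chkAux tab aux u) u = true := ext_range (a := 304140) (len := 548) h555 ma_555
  have h557 : ∀ u < 305236, (fun u => chkAux tab aux u) u = true := ext_range (a := 304688) (len := 548) h556 ma_556
  have h558 : ∀ u < 305784, (fun u => chkAux tab aux u) u = true := ext_range (a := 305236) (len := 548) h557 ma_557
  have h559 : ∀ u < 306332, (fun u => chkAux tab aux u) u = true := ext_range (a := 305784) (len := 548) h558 ma_558
  have h560 : ∀ u < 306880, (fun u => chkAux tab aux u) u = true := ext_range (a := 306332) (len := 548) h559 ma_559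
  have h561 : ∀ u < 306936, (fun u => chkAux tab aux u) u = true := ext_range (a := 306880) (len := 56) h560 ma_560
  exact h561

theorem hM2A : ∀ u < 306936, chkFix tab mwordsA u = true := by
  have h0 : ∀ u < 0, (fun u => chkFix tab mwordsA u) u = true := range_zero
  have h1 : ∀ u < 43, (fun u => chkFix tab mwordsA u) u = true := ext_range (a := 0) (len := 43) h0 m2_0
  have h2 : ∀ u < 86, (fun u => chkFix tab mwordsA u) u = true := ext_range (a := 43) (len := 43) h1 m2_1
  have h3 : ∀ u < 129, (fun u => chkFix tab mwordsA u) u = true := ext_range (a := 86) (len := 43) h2 m2_2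
  have h4 : ∀ u < 172, (fun u => chkFix tab mwordsA u) u = true := ext_range (a := 129) (len := 43) h3 m2_3
  have h5 : ∀ u < 215, (fun u => chkFix tab mwordsA u) u = true := ext_range (a := 172) (len := 43) h4 m2_4
  have h6 : ∀ u < 258, (fun u => chkFix tab mwordsA u) u = true := ext_range (a := 215) (len := 43) h5 m2_5
  have h7 : ∀ u < 301, (fun u => chkFix tab mwordsA u) u = true := ext_range (a := 258) (len := 43) h6 m2_6
  have h8 : ∀ u < 344, (fun u => chkFix tab mwordsA u) u = true := ext_range (a := 301) (len := 43) h7 m2_7
  have h9 : ∀ u < 387, (fun u => chkFix tab mwordsA u) u = true := ext_range (a := 344) (len := 43) h8 m2_8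
  have h10 : ∀ u < 430, (fun u => chkFix tab mwordsA u) u = true := ext_range (a := 387) (len := 43) h9 m2_9
  have h11 : ∀ u < 473, (fun u => chkFix tab mwordsA u) u = true := ext_range (a := 430) (len := 43) h10 m2_10
  have h12 : ∀ u < 516, (fun u => chkFix tab mwordsA u) u = true := ext_range (a := 473) (len := 43) h11 m2_11
  have h13 : ∀ u < 559, (fun u => chkFix tab mwordsA u) u = true := ext_range (a := 516) (len := 43) h12 m2_12
  have h14 : ∀ u < 602, (fun u => chkFix tab mwordsA u) u = true := ext_range (a := 559) (len := 43) h13 m2_13
  have h15 : ∀ u < 645, (fun u => chkFix tab mwordsA u) u = true := ext_range (a := 602) (len := 43) h14 m2_14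
  have h16 : ∀ u < 688, (fun u => chkFix tab mwordsA u) u = true := ext_range (a := 645) (len := 43) h15 m2_15
  have h17 : ∀ u < 731, (fun u => chkFix tab mwordsA u) u = true := ext_range (a := 688) (len := 43) h16 m2_16
  have h18 : ∀ u < 774, (fun u => chkFix tab mwordsA u) u = true := ext_range (a := 731) (len := 43) h17 m2_17
  have h19 : ∀ u < 817, (fun u => chkFix tab mwordsA u) u = true := ext_range (a := 774) (len := 43) h18 m2_18
  have h20 : ∀ u < 860, (fun u => chkFix tab mwordsA u) u = true := ext_range (a := 817) (len := 43) h19 m2_19
  have h21 : ∀ u < 903, (fun u => chkFix tab mwordsA u) u = true := ext_range (a := 860) (len := 43) h20 m2_20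
  have h22 : ∀ u < 946, (fun u => chkFix tab mwordsA u) u = true := ext_range (a := 903) (len := 43) h21 m2_21
  have h23 : ∀ u < 989, (fun u => chkFix tab mwordsA u) u = true := ext_range (a := 946) (len := 43) h22 m2_22
  have h24 : ∀ u < 1032, (fun u => chkFix tab mwordsA u) u = true := ext_range (a := 989) (len := 43) h23 m2_23
  have h25 : ∀ u < 1075, (fun u => chkFix tab mwordsA u) u = true := ext_range (a := 1032) (len := 43) h24 m2_24
  have h26 : ∀ u < 1118, (fun u => chkFix tab mwordsA u) u = true := ext_range (a := 1075) (len := 43) h25 m2_25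
  have h27 : ∀ u < 1161, (fun u => chkFix tab mwordsA u) u = true := ext_range (a := 1118) (len := 43) h26 m2_26
  have h28 : ∀ u < 1204, (fun u => chkFix tab mwordsA u) u = true := ext_range (a := 1161) (len := 43) h27 m2_27
  have h29 : ∀ u < 1247, (fun u => chkFix tab mwordsA u) u = true := ext_range (a := 1204) (len := 43) h28 m2_28
  have h30 : ∀ u < 1290, (fun u => chkFix tab mwordsA u) u = true := ext_range (a := 1247) (len := 43) h29 m2_29
  have h31 : ∀ u < 1333, (fun u => chkFix tab mwordsA u) u = true := ext_range (a := 1290) (len := 43) h30 m2_30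
  have h32 : ∀ u < 1376, (fun u => chkFix tab mwordsA u) u = true := ext_range (a := 1333) (len := 43) h31 m2_31
  have h33 : ∀ u < 1419, (fun u => chkFix tab mwordsA u) u = true := ext_range (a := 1376) (len := 43) h32 m2_32
  have h34 : ∀ u < 1462, (fun u => chkFix tab mwordsA u) u = true := ext_range (a := 1419) (len := 43) h33 m2_33
  have h35 : ∀ u < 1505, (fun u => chkFix tab mwordsA u) u = true := ext_range (a := 1462) (len := 43) h34 m2_34
  have h36 : ∀ u < 1548, (fun u => chkFix tab mwordsA u) u = true := ext_range (a := 1505) (len := 43) h35 m2_35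
  have h37 : ∀ u < 1591, (fun u => chkFix tab mwordsA u) u = true := ext_range (a := 1548) (len := 43) h36 m2_36
  have h38 : ∀ u < 1634, (fun u => chkFix tab mwordsA u) u = true := ext_range (a := 1591) (len := 43) h37 m2_37
  have h39 : ∀ u < 1677, (fun u => chkFix tab mwordsA u) u = true := ext_range (a := 1634) (len := 43) h38 m2_38
  have h40 : ∀ u < 1720, (fun u => chkFix tab mwordsA u) u = true := ext_range (a := 1677) (len := 43) h39 m2_39
  have h41 : ∀ u < 1763, (fun u => chkFix tab mwordsA u) u = true := ext_range (a := 1720) (len := 43) h40 m2_40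
  have h42 : ∀ u < 1806, (fun u => chkFix tab mwordsA u) u = true := ext_range (a := 1763) (len := 43) h41 m2_41
  have h43 : ∀ u < 1849, (fun u => chkFix tab mwordsA u) u = true := ext_range (a := 1806) (len := 43) h42 m2_42
  have h44 : ∀ u < 1892, (fun u => chkFix tab mwordsA u) u = true := ext_range (a := 1849) (len := 43) h43 m2_43
  have h45 : ∀ u < 1935, (fun u => chkFix tab mwordsA u) u = true := ext_range (a := 1892) (len := 43) h44 m2_44
  have h46 : ∀ u < 1978, (fun u => chkFix tab mwordsA u) u = true := ext_range (a := 1935) (len := 43) h45 m2_45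
  have h47 : ∀ u < 2021, (fun u => chkFix tab mwordsA u) u = true := ext_range (a := 1978) (len := 43) h46 m2_46
  have h48 : ∀ u < 2064, (fun u => chkFix tab mwordsA u) u = true := ext_range (a := 2021) (len := 43) h47 m2_47
  have h49 : ∀ u < 2107, (fun u => chkFix tab mwordsA u) u = true := ext_range (a := 2064) (len := 43) h48 m2_48
  have h50 : ∀ u < 2150, (fun u => chkFix tab mwordsA u) u = true := ext_range (a := 2107) (len := 43) h49 m2_49
  have h51 : ∀ u < 2193, (fun u => chkFix tab mwordsA u) u = true := ext_range (a := 2150) (len := 43) h50 m2_50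
  have h52 : ∀ u < 2236, (fun u => chkFix tab mwordsA u) u = true := ext_range (a := 2193) (len := 43) h51 m2_51
  have h53 : ∀ u < 2279, (fun u => chkFix tab mwordsA u) u = true := ext_range (a := 2236) (len := 43) h52 m2_52
  have h54 : ∀ u < 2322, (fun u => chkFix tab mwordsA u) u = true := ext_range (a := 2279) (len := 43) h53 m2_53
  have h55 : ∀ u < 2365, (fun u => chkFix tab mwordsA u) u = true := ext_range (a := 2322) (len := 43) h54 m2_54
  have h56 : ∀ u < 2408, (fun u => chkFix tab mwordsA u) u = true := ext_range (a := 2365) (len := 43) h55 m2_55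
  have h57 : ∀ u < 2451, (fun u => chkFix tab mwordsA u) u = true := ext_range (a := 2408) (len := 43) h56 m2_56
  have h58 : ∀ u < 2494, (fun u => chkFix tab mwordsA u) u = true := ext_range (a := 2451) (len := 43) h57 m2_57
  have h59 : ∀ u < 2537, (fun u => chkFix tab mwordsA u) u = true := ext_range (a := 2494) (len := 43) h58 m2_58
  have h60 : ∀ u < 2580, (fun u => chkFix tab mwordsA u) u = true := ext_range (a := 2537) (len := 43) h59 m2_59
  have h61 : ∀ u < 2623, (fun u => chkFix tab mwordsA u) u = true := ext_range (a := 2580) (len := 43) h60 m2_60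
  have h62 : ∀ u < 2666, (fun u => chkFix tab mwordsA u) u = true := ext_range (a := 2623) (len := 43) h61 m2_61
  have h63 : ∀ u < 2709, (fun u => chkFix tab mwordsA u) u = true := ext_range (a := 2666) (len := 43) h62 m2_62
  have h64 : ∀ u < 2752, (fun u => chkFix tab mwordsA u) u = true := ext_range (a := 2709) (len := 43) h63 m2_63
  have h65 : ∀ u < 2795, (fun u => chkFix tab mwordsA u) u = true := ext_range (a := 2752) (len := 43) h64 m2_64
  have h66 : ∀ u < 2838, (fun u => chkFix tab mwordsA u) u = true := ext_range (a := 2795) (len := 43) h65 m2_65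
  have h67 : ∀ u < 2881, (fun u => chkFix tab mwordsA u) u = true := ext_range (a := 2838) (len := 43) h66 m2_66
  have h68 : ∀ u < 2924, (fun u => chkFix tab mwordsA u) u = true := ext_range (a := 2881) (len := 43) h67 m2_67
  have h69 : ∀ u < 2967, (fun u => chkFix tab mwordsA u) u = true := ext_range (a := 2924) (len := 43) h68 m2_68
  have h70 : ∀ u < 3010, (fun u => chkFix tab mwordsA u) u = true := ext_range (a := 2967) (len := 43) h69 m2_69
  have h71 : ∀ u < 3053, (fun u => chkFix tab mwordsA u) u = true := ext_range (a := 3010) (len := 43) h70 m2_70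
  have h72 : ∀ u < 3096, (fun u => chkFix tab mwordsA u) u = true := ext_range (a := 3053) (len := 43) h71 m2_71
  have h73 : ∀ u < 3139, (fun u => chkFix tab mwordsA u) u = true := ext_range (a := 3096) (len := 43) h72 m2_72
  have h74 : ∀ u < 3182, (fun u => chkFix tab mwordsA u) u = true := ext_range (a := 3139) (len := 43) h73 m2_73
  have h75 : ∀ u < 3225, (fun u => chkFix tab mwordsA u) u = true := ext_range (a := 3182) (len := 43) h74 m2_74
  have h76 : ∀ u < 3268, (fun u => chkFix tab mwordsA u) u = true := ext_range (a := 3225) (len := 43) h75 m2_75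
  have h77 : ∀ u < 3311, (fun u => chkFix tab mwordsA u) u = true := ext_range (a := 3268) (len := 43) h76 m2_76
  have h78 : ∀ u < 3354, (fun u => chkFix tab mwordsA u) u = true := ext_range (a := 3311) (len := 43) h77 m2_77
  have h79 : ∀ u < 3397, (fun u => chkFix tab mwordsA u) u = true := ext_range (a := 3354) (len := 43) h78 m2_78
  have h80 : ∀ u < 3440, (fun u => chkFix tab mwordsA u) u = true := ext_range (a := 3397) (len := 43) h79 m2_79
  have h81 : ∀ u < 3483, (fun u => chkFix tab mwordsA u) u = true := ext_range (a := 3440) (len := 43) h80 m2_80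
  have h82 : ∀ u < 3526, (fun u => chkFix tab mwordsA u) u = true := ext_range (a := 3483) (len := 43) h81 m2_81
  have h83 : ∀ u < 3569, (fun u => chkFix tab mwordsA u) u = true := ext_range (a := 3526) (len := 43) h82 m2_82
  have h84 : ∀ u < 3612, (fun u => chkFix tab mwordsA u) u = true := ext_range (a := 3569) (len := 43) h83 m2_83
  have h85 : ∀ u < 3655, (fun u => chkFix tab mwordsA u) u = true := ext_range (a := 3612) (len := 43) h84 m2_84
  have h86 : ∀ u < 3698, (fun u => chkFix tab mwordsA u) u = true := ext_range (a := 3655) (len := 43) h85 m2_85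
  have h87 : ∀ u < 3741, (fun u => chkFix tab mwordsA u) u = true := ext_range (a := 3698) (len := 43) h86 m2_86
  have h88 : ∀ u < 3784, (fun u => chkFix tab mwordsA u) u = true := ext_range (a := 3741) (len := 43) h87 m2_87
  have h89 : ∀ u < 3827, (fun u => chkFix tab mwordsA u) u = true := ext_range (a := 3784) (len := 43) h88 m2_88
  have h90 : ∀ u < 3870, (fun u => chkFix tab mwordsA u) u = true := ext_range (a := 3827) (len := 43) h89 m2_89
  have h91 : ∀ u < 3913, (fun u => chkFix tab mwordsA u) u = true := ext_range (a := 3870) (len := 43) h90 m2_90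
  have h92 : ∀ u < 3956, (fun u => chkFix tab mwordsA u) u = true := ext_range (a := 3913) (len := 43) h91 m2_91
  have h93 : ∀ u < 3999, (fun u => chkFix tab mwordsA u) u = true := ext_range (a := 3956) (len := 43) h92 m2_92
  have h94 : ∀ u < 4042, (fun u => chkFix tab mwordsA u) u = true := ext_range (a := 3999) (len := 43) h93 m2_93
  have h95 : ∀ u < 4085, (fun u => chkFix tab mwordsA u) u = true := ext_range (a := 4042) (len := 43) h94 m2_94
  have h96 : ∀ u < 4128, (fun u => chkFix tab mwordsA u) u = true := ext_range (a := 4085) (len := 43) h95 m2_95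
  have h97 : ∀ u < 4171, (fun u => chkFix tab mwordsA u) u = true := ext_range (a := 4128) (len := 43) h96 m2_96
  have h98 : ∀ u < 4214, (fun u => chkFix tab mwordsA u) u = true := ext_range (a := 4171) (len := 43) h97 m2_97
  have h99 : ∀ u < 4257, (fun u => chkFix tab mwordsA u) u = true := ext_range (a := 4214) (len := 43) h98 m2_98
  have h100 : ∀ u < 4300, (fun u => chkFix tab mwordsA u) u = true := ext_range (a := 4257) (len := 43) h99 m2_99
  have h101 : ∀ u < 4343, (fun u => chkFix tab mwordsA u) u = true := ext_range (a := 4300) (len := 43) h100 m2_100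
  have h102 : ∀ u < 4386, (fun u => chkFix tab mwordsA u) u = true := ext_range (a := 4343) (len := 43) h101 m2_101
  have h103 : ∀ u < 4429, (fun u => chkFix tab mwordsA u) u = true := ext_range (a := 4386) (len := 43) h102 m2_102
  have h104 : ∀ u < 4472, (fun u => chkFix tab mwordsA u) u = true := ext_range (a := 4429) (len := 43) h103 m2_103
  have h105 : ∀ u < 4515, (fun u => chkFix tab mwordsA u) u = true := ext_range (a := 4472) (len := 43) h104 m2_104
  have h106 : ∀ u < 4558, (fun u => chkFix tab mwordsA u) u = true := ext_range (a := 4515) (len := 43) h105 m2_105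
  have h107 : ∀ u < 4601, (fun u => chkFix tab mwordsA u) u = true := ext_range (a := 4558) (len := 43) h106 m2_106
  have h108 : ∀ u < 4644, (fun u => chkFix tab mwordsA u) u = true := ext_range (a := 4601) (len := 43) h107 m2_107
  have h109 : ∀ u < 4687, (fun u => chkFix tab mwordsA u) u = true := ext_range (a := 4644) (len := 43) h108 m2_108
  have h110 : ∀ u < 4730, (fun u => chkFix tab mwordsA u) u = true := ext_range (a := 4687) (len := 43) h109 m2_109
  have h111 : ∀ u < 4773, (fun u => chkFix tab mwordsA u) u = true := ext_range (a := 4730) (len := 43) h110 m2_110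
  have h112 : ∀ u < 4816, (fun u => chkFix tab mwordsA u) u = true := ext_range (a := 4773) (len := 43) h111 m2_111
  have h113 : ∀ u < 4859, (fun u => chkFix tab mwordsA u) u = true := ext_range (a := 4816) (len := 43) h112 m2_112
  have h114 : ∀ u < 4902, (fun u => chkFix tab mwordsA u) u = true := ext_range (a := 4859) (len := 43) h113 m2_113
  have h115 : ∀ u < 4945, (fun u => chkFix tab mwordsA u) u = true := ext_range (a := 4902) (len := 43) h114 m2_114
  have h116 : ∀ u < 4988, (fun u => chkFix tab mwordsA u) u = true := ext_range (a := 4945) (len := 43) h115 m2_115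
  have h117 : ∀ u < 5031, (fun u => chkFix tab mwordsA u) u = true := ext_range (a := 4988) (len := 43) h116 m2_116
  have h118 : ∀ u < 5074, (fun u => chkFix tab mwordsA u) u = true := ext_range (a := 5031) (len := 43) h117 m2_117
  have h119 : ∀ u < 5117, (fun u => chkFix tab mwordsA u) u = true := ext_range (a := 5074) (len := 43) h118 m2_118
  have h120 : ∀ u < 5160, (fun u => chkFix tab mwordsA u) u = true := ext_range (a := 5117) (len := 43) h119 m2_119
  have h121 : ∀ u < 5203, (fun u => chkFix tab mwordsA u) u = true := ext_range (a := 5160) (len := 43) h120 m2_120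
  have h122 : ∀ u < 5246, (fun u => chkFix tab mwordsA u) u = true := ext_range (a := 5203) (len := 43) h121 m2_121
  have h123 : ∀ u < 5289, (fun u => chkFix tab mwordsA u) u = true := ext_range (a := 5246) (len := 43) h122 m2_122
  have h124 : ∀ u < 5332, (fun u => chkFix tab mwordsA u) u = true := ext_range (a := 5289) (len := 43) h123 m2_123
  have h125 : ∀ u < 5375, (fun u => chkFix tab mwordsA u) u = true := ext_range (a := 5332) (len := 43) h124 m2_124
  have h126 : ∀ u < 5418, (fun u => chkFix tab mwordsA u) u = true := ext_range (a := 5375) (len := 43) h125 m2_125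
  have h127 : ∀ u < 5461, (fun u => chkFix tab mwordsA u) u = true := ext_range (a := 5418) (len := 43) h126 m2_126
  have h128 : ∀ u < 5504, (fun u => chkFix tab mwordsA u) u = true := ext_range (a := 5461) (len := 43) h127 m2_127
  have h129 : ∀ u < 5547, (fun u => chkFix tab mwordsA u) u = true := ext_range (a := 5504) (len := 43) h128 m2_128
  have h130 : ∀ u < 5590, (fun u => chkFix tab mwordsA u) u = true := ext_range (a := 5547) (len := 43) h129 m2_129
  have h131 : ∀ u < 5633, (fun u => chkFix tab mwordsA u) u = true := ext_range (a := 5590) (len := 43) h130 m2_130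
  have h132 : ∀ u < 5676, (fun u => chkFix tab mwordsA u) u = true := ext_range (a := 5633) (len := 43) h131 m2_131
  have h133 : ∀ u < 5719, (fun u => chkFix tab mwordsA u) u = true := ext_range (a := 5676) (len := 43) h132 m2_132
  have h134 : ∀ u < 5762, (fun u => chkFix tab mwordsA u) u = true := ext_range (a := 5719) (len := 43) h133 m2_133
  have h135 : ∀ u < 5805, (fun u => chkFix tab mwordsA u) u = true := ext_range (a := 5762) (len := 43) h134 m2_134
  have h136 : ∀ u < 5848, (fun u => chkFix tab mwordsA u) u = true := ext_range (a := 5805) (len := 43) h135 m2_135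
  have h137 : ∀ u < 5891, (fun u => chkFix tab mwordsA u) u = true := ext_range (a := 5848) (len := 43) h136 m2_136
  have h138 : ∀ u < 5934, (fun u => chkFix tab mwordsA u) u = true := ext_range (a := 5891) (len := 43) h137 m2_137
  have h139 : ∀ u < 5977, (fun u => chkFix tab mwordsA u) u = true := ext_range (a := 5934) (len := 43) h138 m2_138
  have h140 : ∀ u < 6020, (fun u => chkFix tab mwordsA u) u = true := ext_range (a := 5977) (len := 43) h139 m2_139
  have h141 : ∀ u < 6063, (fun u => chkFix tab mwordsA u) u = true := ext_range (a := 6020) (len := 43) h140 m2_140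
  have h142 : ∀ u < 6106, (fun u => chkFix tab mwordsA u) u = true := ext_range (a := 6063) (len := 43) h141 m2_141
  have h143 : ∀ u < 6149, (fun u => chkFix tab mwordsA u) u = true := ext_range (a := 6106) (len := 43) h142 m2_142
  have h144 : ∀ u < 6192, (fun u => chkFix tab mwordsA u) u = true := ext_range (a := 6149) (len := 43) h143 m2_143
  have h145 : ∀ u < 6235, (fun u => chkFix tab mwordsA u) u = true := ext_range (a := 6192) (len := 43) h144 m2_144
  have h146 : ∀ u < 6278, (fun u => chkFix tab mwordsA u) u = true := ext_range (a := 6235) (len := 43) h145 m2_145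
  have h147 : ∀ u < 6321, (fun u => chkFix tab mwordsA u) u = true := ext_range (a := 6278) (len := 43) h146 m2_146
  have h148 : ∀ u < 6364, (fun u => chkFix tab mwordsA u) u = true := ext_range (a := 6321) (len := 43) h147 m2_147
  have h149 : ∀ u < 6407, (fun u => chkFix tab mwordsA u) u = true := ext_range (a := 6364) (len := 43) h148 m2_148
  have h150 : ∀ u < 6450, (fun u => chkFix tab mwordsA u) u = true := ext_range (a := 6407) (len := 43) h149 m2_149
  have h151 : ∀ u < 6493, (fun u => chkFix tab mwordsA u) u = true := ext_range (a := 6450) (len := 43) h150 m2_150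
  have h152 : ∀ u < 6536, (fun u => chkFix tab mwordsA u) u = true := ext_range (a := 6493) (len := 43) h151 m2_151
  have h153 : ∀ u < 6579, (fun u => chkFix tab mwordsA u) u = true := ext_range (a := 6536) (len := 43) h152 m2_152
  have h154 : ∀ u < 6622, (fun u => chkFix tab mwordsA u) u = true := ext_range (a := 6579) (len := 43) h153 m2_153
  have h155 : ∀ u < 6665, (fun u => chkFix tab mwordsA u) u = true := ext_range (a := 6622) (len := 43) h154 m2_154
  have h156 : ∀ u < 6708, (fun u => chkFix tab mwordsA u) u = true := ext_range (a := 6665) (len := 43) h155 m2_155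
  have h157 : ∀ u < 6751, (fun u => chkFix tab mwordsA u) u = true := ext_range (a := 6708) (len := 43) h156 m2_156
  have h158 : ∀ u < 6794, (fun u => chkFix tab mwordsA u) u = true := ext_range (a := 6751) (len := 43) h157 m2_157
  have h159 : ∀ u < 6837, (fun u => chkFix tab mwordsA u) u = true := ext_range (a := 6794) (len := 43) h158 m2_158
  have h160 : ∀ u < 6880, (fun u => chkFix tab mwordsA u) u = true := ext_range (a := 6837) (len := 43) h159 m2_159
  have h161 : ∀ u < 6923, (fun u => chkFix tab mwordsA u) u = true := ext_range (a := 6880) (len := 43) h160 m2_160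
  have h162 : ∀ u < 6966, (fun u => chkFix tab mwordsA u) u = true := ext_range (a := 6923) (len := 43) h161 m2_161
  have h163 : ∀ u < 7009, (fun u => chkFix tab mwordsA u) u = true := ext_range (a := 6966) (len := 43) h162 m2_162
  have h164 : ∀ u < 7052, (fun u => chkFix tab mwordsA u) u = true := ext_range (a := 7009) (len := 43) h163 m2_163
  have h165 : ∀ u < 7095, (fun u => chkFix tab mwordsA u) u = true := ext_range (a := 7052) (len := 43) h164 m2_164
  have h166 : ∀ u < 7138, (fun u => chkFix tab mwordsA u) u = true := ext_range (a := 7095) (len := 43) h165 m2_165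
  have h167 : ∀ u < 7181, (fun u => chkFix tab mwordsA u) u = true := ext_range (a := 7138) (len := 43) h166 m2_166
  have h168 : ∀ u < 7224, (fun u => chkFix tab mwordsA u) u = true := ext_range (a := 7181) (len := 43) h167 m2_167
  have h169 : ∀ u < 7267, (fun u => chkFix tab mwordsA u) u = true := ext_range (a := 7224) (len := 43) h168 m2_168
  have h170 : ∀ u < 7310, (fun u => chkFix tab mwordsA u) u = true := ext_range (a := 7267) (len := 43) h169 m2_169
  have h171 : ∀ u < 7353, (fun u => chkFix tab mwordsA u) u = true := ext_range (a := 7310) (len := 43) h170 m2_170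
  have h172 : ∀ u < 7396, (fun u => chkFix tab mwordsA u) u = true := ext_range (a := 7353) (len := 43) h171 m2_171
  have h173 : ∀ u < 7439, (fun u => chkFix tab mwordsA u) u = true := ext_range (a := 7396) (len := 43) h172 m2_172
  have h174 : ∀ u < 7482, (fun u => chkFix tab mwordsA u) u = true := ext_range (a := 7439) (len := 43) h173 m2_173
  have h175 : ∀ u < 7525, (fun u => chkFix tab mwordsA u) u = true := ext_range (a := 7482) (len := 43) h174 m2_174
  have h176 : ∀ u < 7568, (fun u => chkFix tab mwordsA u) u = true := ext_range (a := 7525) (len := 43) h175 m2_175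
  have h177 : ∀ u < 7611, (fun u => chkFix tab mwordsA u) u = true := ext_range (a := 7568) (len := 43) h176 m2_176
  have h178 : ∀ u < 7654, (fun u => chkFix tab mwordsA u) u = true := ext_range (a := 7611) (len := 43) h177 m2_177
  have h179 : ∀ u < 7697, (fun u => chkFix tab mwordsA u) u = true := ext_range (a := 7654) (len := 43) h178 m2_178
  have h180 : ∀ u < 7740, (fun u => chkFix tab mwordsA u) u = true := ext_range (a := 7697) (len := 43) h179 m2_179
  have h181 : ∀ u < 7783, (fun u => chkFix tab mwordsA u) u = true := ext_range (a := 7740) (len := 43) h180 m2_180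
  have h182 : ∀ u < 7826, (fun u => chkFix tab mwordsA u) u = true := ext_range (a := 7783) (len := 43) h181 m2_181
  have h183 : ∀ u < 7869, (fun u => chkFix tab mwordsA u) u = true := ext_range (a := 7826) (len := 43) h182 m2_182
  have h184 : ∀ u < 7912, (fun u => chkFix tab mwordsA u) u = true := ext_range (a := 7869) (len := 43) h183 m2_183
  have h185 : ∀ u < 7955, (fun u => chkFix tab mwordsA u) u = true := ext_range (a := 7912) (len := 43) h184 m2_184
  have h186 : ∀ u < 7998, (fun u => chkFix tab mwordsA u) u = true := ext_range (a := 7955) (len := 43) h185 m2_185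
  have h187 : ∀ u < 8041, (fun u => chkFix tab mwordsA u) u = true := ext_range (a := 7998) (len := 43) h186 m2_186
  have h188 : ∀ u < 8084, (fun u => chkFix tab mwordsA u) u = true := ext_range (a := 8041) (len := 43) h187 m2_187
  have h189 : ∀ u < 8127, (fun u => chkFix tab mwordsA u) u = true := ext_range (a := 8084) (len := 43) h188 m2_188
  have h190 : ∀ u < 8170, (fun u => chkFix tab mwordsA u) u = true := ext_range (a := 8127) (len := 43) h189 m2_189
  have h191 : ∀ u < 8213, (fun u => chkFix tab mwordsA u) u = true := ext_range (a := 8170) (len := 43) h190 m2_190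
  have h192 : ∀ u < 8256, (fun u => chkFix tab mwordsA u) u = true := ext_range (a := 8213) (len := 43) h191 m2_191
  have h193 : ∀ u < 8299, (fun u => chkFix tab mwordsA u) u = true := ext_range (a := 8256) (len := 43) h192 m2_192
  have h194 : ∀ u < 8342, (fun u => chkFix tab mwordsA u) u = true := ext_range (a := 8299) (len := 43) h193 m2_193
  have h195 : ∀ u < 8385, (fun u => chkFix tab mwordsA u) u = true := ext_range (a := 8342) (len := 43) h194 m2_194
  have h196 : ∀ u < 8428, (fun u => chkFix tab mwordsA u) u = true := ext_range (a := 8385) (len := 43) h195 m2_195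
  have h197 : ∀ u < 8471, (fun u => chkFix tab mwordsA u) u = true := ext_range (a := 8428) (len := 43) h196 m2_196
  have h198 : ∀ u < 8514, (fun u => chkFix tab mwordsA u) u = true := ext_range (a := 8471) (len := 43) h197 m2_197
  have h199 : ∀ u < 8557, (fun u => chkFix tab mwordsA u) u = true := ext_range (a := 8514) (len := 43) h198 m2_198
  have h200 : ∀ u < 8600, (fun u => chkFix tab mwordsA u) u = true := ext_range (a := 8557) (len := 43) h199 m2_199
  have h201 : ∀ u < 8643, (fun u => chkFix tab mwordsA u) u = true := ext_range (a := 8600) (len := 43) h200 m2_200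
  have h202 : ∀ u < 8686, (fun u => chkFix tab mwordsA u) u = true := ext_range (a := 8643) (len := 43) h201 m2_201
  have h203 : ∀ u < 8729, (fun u => chkFix tab mwordsA u) u = true := ext_range (a := 8686) (len := 43) h202 m2_202
  have h204 : ∀ u < 8772, (fun u => chkFix tab mwordsA u) u = true := ext_range (a := 8729) (len := 43) h203 m2_203
  have h205 : ∀ u < 8815, (fun u => chkFix tab mwordsA u) u = true := ext_range (a := 8772) (len := 43) h204 m2_204
  have h206 : ∀ u < 8858, (fun u => chkFix tab mwordsA u) u = true := ext_range (a := 8815) (len := 43) h205 m2_205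
  have h207 : ∀ u < 8901, (fun u => chkFix tab mwordsA u) u = true := ext_range (a := 8858) (len := 43) h206 m2_206
  have h208 : ∀ u < 8944, (fun u => chkFix tab mwordsA u) u = true := ext_range (a := 8901) (len := 43) h207 m2_207
  have h209 : ∀ u < 8987, (fun u => chkFix tab mwordsA u) u = true := ext_range (a := 8944) (len := 43) h208 m2_208
  have h210 : ∀ u < 9030, (fun u => chkFix tab mwordsA u) u = true := ext_range (a := 8987) (len := 43) h209 m2_209
  have h211 : ∀ u < 9073, (fun u => chkFix tab mwordsA u) u = true := ext_range (a := 9030) (len := 43) h210 m2_210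
  have h212 : ∀ u < 9116, (fun u => chkFix tab mwordsA u) u = true := ext_range (a := 9073) (len := 43) h211 m2_211
  have h213 : ∀ u < 9159, (fun u => chkFix tab mwordsA u) u = true := ext_range (a := 9116) (len := 43) h212 m2_212
  have h214 : ∀ u < 9202, (fun u => chkFix tab mwordsA u) u = true := ext_range (a := 9159) (len := 43) h213 m2_213
  have h215 : ∀ u < 9245, (fun u => chkFix tab mwordsA u) u = true := ext_range (a := 9202) (len := 43) h214 m2_214
  have h216 : ∀ u < 9288, (fun u => chkFix tab mwordsA u) u = true := ext_range (a := 9245) (len := 43) h215 m2_215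
  have h217 : ∀ u < 9331, (fun u => chkFix tab mwordsA u) u = true := ext_range (a := 9288) (len := 43) h216 m2_216
  have h218 : ∀ u < 9374, (fun u => chkFix tab mwordsA u) u = true := ext_range (a := 9331) (len := 43) h217 m2_217
  have h219 : ∀ u < 9417, (fun u => chkFix tab mwordsA u) u = true := ext_range (a := 9374) (len := 43) h218 m2_218
  have h220 : ∀ u < 9460, (fun u => chkFix tab mwordsA u) u = true := ext_range (a := 9417) (len := 43) h219 m2_219
  have h221 : ∀ u < 9503, (fun u => chkFix tab mwordsA u) u = true := ext_range (a := 9460) (len := 43) h220 m2_220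
  have h222 : ∀ u < 9546, (fun u => chkFix tab mwordsA u) u = true := ext_range (a := 9503) (len := 43) h221 m2_221
  have h223 : ∀ u < 9589, (fun u => chkFix tab mwordsA u) u = true := ext_range (a := 9546) (len := 43) h222 m2_222
  have h224 : ∀ u < 9632, (fun u => chkFix tab mwordsA u) u = true := ext_range (a := 9589) (len := 43) h223 m2_223
  have h225 : ∀ u < 9675, (fun u => chkFix tab mwordsA u) u = true := ext_range (a := 9632) (len := 43) h224 m2_224
  have h226 : ∀ u < 9718, (fun u => chkFix tab mwordsA u) u = true := ext_range (a := 9675) (len := 43) h225 m2_225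
  have h227 : ∀ u < 9761, (fun u => chkFix tab mwordsA u) u = true := ext_range (a := 9718) (len := 43) h226 m2_226
  have h228 : ∀ u < 9804, (fun u => chkFix tab mwordsA u) u = true := ext_range (a := 9761) (len := 43) h227 m2_227
  have h229 : ∀ u < 9847, (fun u => chkFix tab mwordsA u) u = true := ext_range (a := 9804) (len := 43) h228 m2_228
  have h230 : ∀ u < 9890, (fun u => chkFix tab mwordsA u) u = true := ext_range (a := 9847) (len := 43) h229 m2_229
  have h231 : ∀ u < 9933, (fun u => chkFix tab mwordsA u) u = true := ext_range (a := 9890) (len := 43) h230 m2_230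
  have h232 : ∀ u < 9976, (fun u => chkFix tab mwordsA u) u = true := ext_range (a := 9933) (len := 43) h231 m2_231
  have h233 : ∀ u < 10019, (fun u => chkFix tab mwordsA u) u = true := ext_range (a := 9976) (len := 43) h232 m2_232
  have h234 : ∀ u < 10062, (fun u => chkFix tab mwordsA u) u = true := ext_range (a := 10019) (len := 43) h233 m2_233
  have h235 : ∀ u < 10105, (fun u => chkFix tab mwordsA u) u = true := ext_range (a := 10062) (len := 43) h234 m2_234
  have h236 : ∀ u < 10148, (fun u => chkFix tab mwordsA u) u = true := ext_range (a := 10105) (len := 43) h235 m2_235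
  have h237 : ∀ u < 10191, (fun u => chkFix tab mwordsA u) u = true := ext_range (a := 10148) (len := 43) h236 m2_236
  have h238 : ∀ u < 10234, (fun u => chkFix tab mwordsA u) u = true := ext_range (a := 10191) (len := 43) h237 m2_237
  have h239 : ∀ u < 10277, (fun u => chkFix tab mwordsA u) u = true := ext_range (a := 10234) (len := 43) h238 m2_238
  have h240 : ∀ u < 10320, (fun u => chkFix tab mwordsA u) u = true := ext_range (a := 10277) (len := 43) h239 m2_239
  have h241 : ∀ u < 10363, (fun u => chkFix tab mwordsA u) u = true := ext_range (a := 10320) (len := 43) h240 m2_240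
  have h242 : ∀ u < 10406, (fun u => chkFix tab mwordsA u) u = true := ext_range (a := 10363) (len := 43) h241 m2_241
  have h243 : ∀ u < 10449, (fun u => chkFix tab mwordsA u) u = true := ext_range (a := 10406) (len := 43) h242 m2_242
  have h244 : ∀ u < 10492, (fun u => chkFix tab mwordsA u) u = true := ext_range (a := 10449) (len := 43) h243 m2_243
  have h245 : ∀ u < 10535, (fun u => chkFix tab mwordsA u) u = true := ext_range (a := 10492) (len := 43) h244 m2_244
  have h246 : ∀ u < 10578, (fun u => chkFix tab mwordsA u) u = true := ext_range (a := 10535) (len := 43) h245 m2_245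
  have h247 : ∀ u < 10621, (fun u => chkFix tab mwordsA u) u = true := ext_range (a := 10578) (len := 43) h246 m2_246
  have h248 : ∀ u < 10664, (fun u => chkFix tab mwordsA u) u = true := ext_range (a := 10621) (len := 43) h247 m2_247
  have h249 : ∀ u < 10707, (fun u => chkFix tab mwordsA u) u = true := ext_range (a := 10664) (len := 43) h248 m2_248
  have h250 : ∀ u < 10750, (fun u => chkFix tab mwordsA u) u = true := ext_range (a := 10707) (len := 43) h249 m2_249
  have h251 : ∀ u < 10793, (fun u => chkFix tab mwordsA u) u = true := ext_range (a := 10750) (len := 43) h250 m2_250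
  have h252 : ∀ u < 10836, (fun u => chkFix tab mwordsA u) u = true := ext_range (a := 10793) (len := 43) h251 m2_251
  have h253 : ∀ u < 10879, (fun u => chkFix tab mwordsA u) u = true := ext_range (a := 10836) (len := 43) h252 m2_252
  have h254 : ∀ u < 10922, (fun u => chkFix tab mwordsA u) u = true := ext_range (a := 10879) (len := 43) h253 m2_253
  have h255 : ∀ u < 10965, (fun u => chkFix tab mwordsA u) u = true := ext_range (a := 10922) (len := 43) h254 m2_254
  have h256 : ∀ u < 11008, (fun u => chkFix tab mwordsA u) u = true := ext_range (a := 10965) (len := 43) h255 m2_255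
  have h257 : ∀ u < 11051, (fun u => chkFix tab mwordsA u) u = true := ext_range (a := 11008) (len := 43) h256 m2_256
  have h258 : ∀ u < 11094, (fun u => chkFix tab mwordsA u) u = true := ext_range (a := 11051) (len := 43) h257 m2_257
  have h259 : ∀ u < 11137, (fun u => chkFix tab mwordsA u) u = true := ext_range (a := 11094) (len := 43) h258 m2_258
  have h260 : ∀ u < 11180, (fun u => chkFix tab mwordsA u) u = true := ext_range (a := 11137) (len := 43) h259 m2_259
  have h261 : ∀ u < 11223, (fun u => chkFix tab mwordsA u) u = true := ext_range (a := 11180) (len := 43) h260 m2_260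
  have h262 : ∀ u < 11266, (fun u => chkFix tab mwordsA u) u = true := ext_range (a := 11223) (len := 43) h261 m2_261
  have h263 : ∀ u < 11309, (fun u => chkFix tab mwordsA u) u = true := ext_range (a := 11266) (len := 43) h262 m2_262
  have h264 : ∀ u < 11352, (fun u => chkFix tab mwordsA u) u = true := ext_range (a := 11309) (len := 43) h263 m2_263
  have h265 : ∀ u < 11395, (fun u => chkFix tab mwordsA u) u = true := ext_range (a := 11352) (len := 43) h264 m2_264
  have h266 : ∀ u < 11438, (fun u => chkFix tab mwordsA u) u = true := ext_range (a := 11395) (len := 43) h265 m2_265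
  have h267 : ∀ u < 11481, (fun u => chkFix tab mwordsA u) u = true := ext_range (a := 11438) (len := 43) h266 m2_266
  have h268 : ∀ u < 11524, (fun u => chkFix tab mwordsA u) u = true := ext_range (a := 11481) (len := 43) h267 m2_267
  have h269 : ∀ u < 11567, (fun u => chkFix tab mwordsA u) u = true := ext_range (a := 11524) (len := 43) h268 m2_268
  have h270 : ∀ u < 11610, (fun u => chkFix tab mwordsA u) u = true := ext_range (a := 11567) (len := 43) h269 m2_269
  have h271 : ∀ u < 11653, (fun u => chkFix tab mwordsA u) u = true := ext_range (a := 11610) (len := 43) h270 m2_270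
  have h272 : ∀ u < 11696, (fun u => chkFix tab mwordsA u) u = true := ext_range (a := 11653) (len := 43) h271 m2_271
  have h273 : ∀ u < 11739, (fun u => chkFix tab mwordsA u) u = true := ext_range (a := 11696) (len := 43) h272 m2_272
  have h274 : ∀ u < 11782, (fun u => chkFix tab mwordsA u) u = true := ext_range (a := 11739) (len := 43) h273 m2_273
  have h275 : ∀ u < 11825, (fun u => chkFix tab mwordsA u) u = true := ext_range (a := 11782) (len := 43) h274 m2_274
  have h276 : ∀ u < 11868, (fun u => chkFix tab mwordsA u) u = true := ext_range (a := 11825) (len := 43) h275 m2_275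
  have h277 : ∀ u < 11911, (fun u => chkFix tab mwordsA u) u = true := ext_range (a := 11868) (len := 43) h276 m2_276
  have h278 : ∀ u < 11954, (fun u => chkFix tab mwordsA u) u = true := ext_range (a := 11911) (len := 43) h277 m2_277
  have h279 : ∀ u < 11997, (fun u => chkFix tab mwordsA u) u = true := ext_range (a := 11954) (len := 43) h278 m2_278
  have h280 : ∀ u < 12040, (fun u => chkFix tab mwordsA u) u = true := ext_range (a := 11997) (len := 43) h279 m2_279
  have h281 : ∀ u < 12083, (fun u => chkFix tab mwordsA u) u = true := ext_range (a := 12040) (len := 43) h280 m2_280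
  have h282 : ∀ u < 12126, (fun u => chkFix tab mwordsA u) u = true := ext_range (a := 12083) (len := 43) h281 m2_281
  have h283 : ∀ u < 12169, (fun u => chkFix tab mwordsA u) u = true := ext_range (a := 12126) (len := 43) h282 m2_282
  have h284 : ∀ u < 12212, (fun u => chkFix tab mwordsA u) u = true := ext_range (a := 12169) (len := 43) h283 m2_283
  have h285 : ∀ u < 12255, (fun u => chkFix tab mwordsA u) u = true := ext_range (a := 12212) (len := 43) h284 m2_284
  have h286 : ∀ u < 12298, (fun u => chkFix tab mwordsA u) u = true := ext_range (a := 12255) (len := 43) h285 m2_285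
  have h287 : ∀ u < 12341, (fun u => chkFix tab mwordsA u) u = true := ext_range (a := 12298) (len := 43) h286 m2_286
  have h288 : ∀ u < 12384, (fun u => chkFix tab mwordsA u) u = true := ext_range (a := 12341) (len := 43) h287 m2_287
  have h289 : ∀ u < 12427, (fun u => chkFix tab mwordsA u) u = true := ext_range (a := 12384) (len := 43) h288 m2_288
  have h290 : ∀ u < 12470, (fun u => chkFix tab mwordsA u) u = true := ext_range (a := 12427) (len := 43) h289 m2_289
  have h291 : ∀ u < 12513, (fun u => chkFix tab mwordsA u) u = true := ext_range (a := 12470) (len := 43) h290 m2_290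
  have h292 : ∀ u < 12556, (fun u => chkFix tab mwordsA u) u = true := ext_range (a := 12513) (len := 43) h291 m2_291
  have h293 : ∀ u < 12599, (fun u => chkFix tab mwordsA u) u = true := ext_range (a := 12556) (len := 43) h292 m2_292
  have h294 : ∀ u < 12642, (fun u => chkFix tab mwordsA u) u = true := ext_range (a := 12599) (len := 43) h293 m2_293
  have h295 : ∀ u < 12685, (fun u => chkFix tab mwordsA u) u = true := ext_range (a := 12642) (len := 43) h294 m2_294
  have h296 : ∀ u < 12728, (fun u => chkFix tab mwordsA u) u = true := ext_range (a := 12685) (len := 43) h295 m2_295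
  have h297 : ∀ u < 12771, (fun u => chkFix tab mwordsA u) u = true := ext_range (a := 12728) (len := 43) h296 m2_296
  have h298 : ∀ u < 12814, (fun u => chkFix tab mwordsA u) u = true := ext_range (a := 12771) (len := 43) h297 m2_297
  have h299 : ∀ u < 12857, (fun u => chkFix tab mwordsA u) u = true := ext_range (a := 12814) (len := 43) h298 m2_298
  have h300 : ∀ u < 12900, (fun u => chkFix tab mwordsA u) u = true := ext_range (a := 12857) (len := 43) h299 m2_299
  have h301 : ∀ u < 12943, (fun u => chkFix tab mwordsA u) u = true := ext_range (a := 12900) (len := 43) h300 m2_300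
  have h302 : ∀ u < 12986, (fun u => chkFix tab mwordsA u) u = true := ext_range (a := 12943) (len := 43) h301 m2_301
  have h303 : ∀ u < 13029, (fun u => chkFix tab mwordsA u) u = true := ext_range (a := 12986) (len := 43) h302 m2_302
  have h304 : ∀ u < 13072, (fun u => chkFix tab mwordsA u) u = true := ext_range (a := 13029) (len := 43) h303 m2_303
  have h305 : ∀ u < 13115, (fun u => chkFix tab mwordsA u) u = true := ext_range (a := 13072) (len := 43) h304 m2_304
  have h306 : ∀ u < 13158, (fun u => chkFix tab mwordsA u) u = true := ext_range (a := 13115) (len := 43) h305 m2_305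
  have h307 : ∀ u < 13201, (fun u => chkFix tab mwordsA u) u = true := ext_range (a := 13158) (len := 43) h306 m2_306
  have h308 : ∀ u < 13244, (fun u => chkFix tab mwordsA u) u = true := ext_range (a := 13201) (len := 43) h307 m2_307
  have h309 : ∀ u < 13287, (fun u => chkFix tab mwordsA u) u = true := ext_range (a := 13244) (len := 43) h308 m2_308
  have h310 : ∀ u < 13330, (fun u => chkFix tab mwordsA u) u = true := ext_range (a := 13287) (len := 43) h309 m2_309
  have h311 : ∀ u < 13373, (fun u => chkFix tab mwordsA u) u = true := ext_range (a := 13330) (len := 43) h310 m2_310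
  have h312 : ∀ u < 13416, (fun u => chkFix tab mwordsA u) u = true := ext_range (a := 13373) (len := 43) h311 m2_311
  have h313 : ∀ u < 13459, (fun u => chkFix tab mwordsA u) u = true := ext_range (a := 13416) (len := 43) h312 m2_312
  have h314 : ∀ u < 13502, (fun u => chkFix tab mwordsA u) u = true := ext_range (a := 13459) (len := 43) h313 m2_313
  have h315 : ∀ u < 13545, (fun u => chkFix tab mwordsA u) u = true := ext_range (a := 13502) (len := 43) h314 m2_314
  have h316 : ∀ u < 13588, (fun u => chkFix tab mwordsA u) u = true := ext_range (a := 13545) (len := 43) h315 m2_315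
  have h317 : ∀ u < 13631, (fun u => chkFix tab mwordsA u) u = true := ext_range (a := 13588) (len := 43) h316 m2_316
  have h318 : ∀ u < 13674, (fun u => chkFix tab mwordsA u) u = true := ext_range (a := 13631) (len := 43) h317 m2_317
  have h319 : ∀ u < 13717, (fun u => chkFix tab mwordsA u) u = true := ext_range (a := 13674) (len := 43) h318 m2_318
  have h320 : ∀ u < 13760, (fun u => chkFix tab mwordsA u) u = true := ext_range (a := 13717) (len := 43) h319 m2_319
  have h321 : ∀ u < 13803, (fun u => chkFix tab mwordsA u) u = true := ext_range (a := 13760) (len := 43) h320 m2_320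
  have h322 : ∀ u < 13846, (fun u => chkFix tab mwordsA u) u = true := ext_range (a := 13803) (len := 43) h321 m2_321
  have h323 : ∀ u < 13889, (fun u => chkFix tab mwordsA u) u = true := ext_range (a := 13846) (len := 43) h322 m2_322
  have h324 : ∀ u < 13932, (fun u => chkFix tab mwordsA u) u = true := ext_range (a := 13889) (len := 43) h323 m2_323
  have h325 : ∀ u < 13975, (fun u => chkFix tab mwordsA u) u = true := ext_range (a := 13932) (len := 43) h324 m2_324
  have h326 : ∀ u < 14018, (fun u => chkFix tab mwordsA u) u = true := ext_range (a := 13975) (len := 43) h325 m2_325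
  have h327 : ∀ u < 14061, (fun u => chkFix tab mwordsA u) u = true := ext_range (a := 14018) (len := 43) h326 m2_326
  have h328 : ∀ u < 14104, (fun u => chkFix tab mwordsA u) u = true := ext_range (a := 14061) (len := 43) h327 m2_327
  have h329 : ∀ u < 14147, (fun u => chkFix tab mwordsA u) u = true := ext_range (a := 14104) (len := 43) h328 m2_328
  have h330 : ∀ u < 14190, (fun u => chkFix tab mwordsA u) u = true := ext_range (a := 14147) (len := 43) h329 m2_329
  have h331 : ∀ u < 14233, (fun u => chkFix tab mwordsA u) u = true := ext_range (a := 14190) (len := 43) h330 m2_330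
  have h332 : ∀ u < 14276, (fun u => chkFix tab mwordsA u) u = true := ext_range (a := 14233) (len := 43) h331 m2_331
  have h333 : ∀ u < 14319, (fun u => chkFix tab mwordsA u) u = true := ext_range (a := 14276) (len := 43) h332 m2_332
  have h334 : ∀ u < 14362, (fun u => chkFix tab mwordsA u) u = true := ext_range (a := 14319) (len := 43) h333 m2_333
  have h335 : ∀ u < 14405, (fun u => chkFix tab mwordsA u) u = true := ext_range (a := 14362) (len := 43) h334 m2_334
  have h336 : ∀ u < 14448, (fun u => chkFix tab mwordsA u) u = true := ext_range (a := 14405) (len := 43) h335 m2_335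
  have h337 : ∀ u < 14491, (fun u => chkFix tab mwordsA u) u = true := ext_range (a := 14448) (len := 43) h336 m2_336
  have h338 : ∀ u < 14534, (fun u => chkFix tab mwordsA u) u = true := ext_range (a := 14491) (len := 43) h337 m2_337
  have h339 : ∀ u < 14577, (fun u => chkFix tab mwordsA u) u = true := ext_range (a := 14534) (len := 43) h338 m2_338
  have h340 : ∀ u < 14620, (fun u => chkFix tab mwordsA u) u = true := ext_range (a := 14577) (len := 43) h339 m2_339
  have h341 : ∀ u < 14663, (fun u => chkFix tab mwordsA u) u = true := ext_range (a := 14620) (len := 43) h340 m2_340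
  have h342 : ∀ u < 14706, (fun u => chkFix tab mwordsA u) u = true := ext_range (a := 14663) (len := 43) h341 m2_341
  have h343 : ∀ u < 14749, (fun u => chkFix tab mwordsA u) u = true := ext_range (a := 14706) (len := 43) h342 m2_342
  have h344 : ∀ u < 14792, (fun u => chkFix tab mwordsA u) u = true := ext_range (a := 14749) (len := 43) h343 m2_343
  have h345 : ∀ u < 14835, (fun u => chkFix tab mwordsA u) u = true := ext_range (a := 14792) (len := 43) h344 m2_344
  have h346 : ∀ u < 14878, (fun u => chkFix tab mwordsA u) u = true := ext_range (a := 14835) (len := 43) h345 m2_345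
  have h347 : ∀ u < 14921, (fun u => chkFix tab mwordsA u) u = true := ext_range (a := 14878) (len := 43) h346 m2_346
  have h348 : ∀ u < 14964, (fun u => chkFix tab mwordsA u) u = true := ext_range (a := 14921) (len := 43) h347 m2_347
  have h349 : ∀ u < 15007, (fun u => chkFix tab mwordsA u) u = true := ext_range (a := 14964) (len := 43) h348 m2_348
  have h350 : ∀ u < 15050, (fun u => chkFix tab mwordsA u) u = true := ext_range (a := 15007) (len := 43) h349 m2_349
  have h351 : ∀ u < 15093, (fun u => chkFix tab mwordsA u) u = true := ext_range (a := 15050) (len := 43) h350 m2_350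
  have h352 : ∀ u < 15136, (fun u => chkFix tab mwordsA u) u = true := ext_range (a := 15093) (len := 43) h351 m2_351
  have h353 : ∀ u < 15179, (fun u => chkFix tab mwordsA u) u = true := ext_range (a := 15136) (len := 43) h352 m2_352
  have h354 : ∀ u < 15222, (fun u => chkFix tab mwordsA u) u = true := ext_range (a := 15179) (len := 43) h353 m2_353
  have h355 : ∀ u < 15265, (fun u => chkFix tab mwordsA u) u = true := ext_range (a := 15222) (len := 43) h354 m2_354
  have h356 : ∀ u < 15308, (fun u => chkFix tab mwordsA u) u = true := ext_range (a := 15265) (len := 43) h355 m2_355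
  have h357 : ∀ u < 15351, (fun u => chkFix tab mwordsA u) u = true := ext_range (a := 15308) (len := 43) h356 m2_356
  have h358 : ∀ u < 15394, (fun u => chkFix tab mwordsA u) u = true := ext_range (a := 15351) (len := 43) h357 m2_357
  have h359 : ∀ u < 15437, (fun u => chkFix tab mwordsA u) u = true := ext_range (a := 15394) (len := 43) h358 m2_358
  have h360 : ∀ u < 15480, (fun u => chkFix tab mwordsA u) u = true := ext_range (a := 15437) (len := 43) h359 m2_359
  have h361 : ∀ u < 15523, (fun u => chkFix tab mwordsA u) u = true := ext_range (a := 15480) (len := 43) h360 m2_360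
  have h362 : ∀ u < 15566, (fun u => chkFix tab mwordsA u) u = true := ext_range (a := 15523) (len := 43) h361 m2_361
  have h363 : ∀ u < 15609, (fun u => chkFix tab mwordsA u) u = true := ext_range (a := 15566) (len := 43) h362 m2_362
  have h364 : ∀ u < 15652, (fun u => chkFix tab mwordsA u) u = true := ext_range (a := 15609) (len := 43) h363 m2_363
  have h365 : ∀ u < 15695, (fun u => chkFix tab mwordsA u) u = true := ext_range (a := 15652) (len := 43) h364 m2_364
  have h366 : ∀ u < 15738, (fun u => chkFix tab mwordsA u) u = true := ext_range (a := 15695) (len := 43) h365 m2_365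
  have h367 : ∀ u < 15781, (fun u => chkFix tab mwordsA u) u = true := ext_range (a := 15738) (len := 43) h366 m2_366
  have h368 : ∀ u < 15824, (fun u => chkFix tab mwordsA u) u = true := ext_range (a := 15781) (len := 43) h367 m2_367
  have h369 : ∀ u < 15867, (fun u => chkFix tab mwordsA u) u = true := ext_range (a := 15824) (len := 43) h368 m2_368
  have h370 : ∀ u < 15910, (fun u => chkFix tab mwordsA u) u = true := ext_range (a := 15867) (len := 43) h369 m2_369
  have h371 : ∀ u < 15953, (fun u => chkFix tab mwordsA u) u = true := ext_range (a := 15910) (len := 43) h370 m2_370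
  have h372 : ∀ u < 15996, (fun u => chkFix tab mwordsA u) u = true := ext_range (a := 15953) (len := 43) h371 m2_371
  have h373 : ∀ u < 16039, (fun u => chkFix tab mwordsA u) u = true := ext_range (a := 15996) (len := 43) h372 m2_372
  have h374 : ∀ u < 16082, (fun u => chkFix tab mwordsA u) u = true := ext_range (a := 16039) (len := 43) h373 m2_373
  have h375 : ∀ u < 16125, (fun u => chkFix tab mwordsA u) u = true := ext_range (a := 16082) (len := 43) h374 m2_374
  have h376 : ∀ u < 16168, (fun u => chkFix tab mwordsA u) u = true := ext_range (a := 16125) (len := 43) h375 m2_375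
  have h377 : ∀ u < 16211, (fun u => chkFix tab mwordsA u) u = true := ext_range (a := 16168) (len := 43) h376 m2_376
  have h378 : ∀ u < 16254, (fun u => chkFix tab mwordsA u) u = true := ext_range (a := 16211) (len := 43) h377 m2_377
  have h379 : ∀ u < 16297, (fun u => chkFix tab mwordsA u) u = true := ext_range (a := 16254) (len := 43) h378 m2_378
  have h380 : ∀ u < 16340, (fun u => chkFix tab mwordsA u) u = true := ext_range (a := 16297) (len := 43) h379 m2_379
  have h381 : ∀ u < 16383, (fun u => chkFix tab mwordsA u) u = true := ext_range (a := 16340) (len := 43) h380 m2_380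
  have h382 : ∀ u < 16426, (fun u => chkFix tab mwordsA u) u = true := ext_range (a := 16383) (len := 43) h381 m2_381
  have h383 : ∀ u < 16469, (fun u => chkFix tab mwordsA u) u = true := ext_range (a := 16426) (len := 43) h382 m2_382
  have h384 : ∀ u < 16512, (fun u => chkFix tab mwordsA u) u = true := ext_range (a := 16469) (len := 43) h383 m2_383
  have h385 : ∀ u < 16555, (fun u => chkFix tab mwordsA u) u = true := ext_range (a := 16512) (len := 43) h384 m2_384
  have h386 : ∀ u < 16598, (fun u => chkFix tab mwordsA u) u = true := ext_range (a := 16555) (len := 43) h385 m2_385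
  have h387 : ∀ u < 16641, (fun u => chkFix tab mwordsA u) u = true := ext_range (a := 16598) (len := 43) h386 m2_386
  have h388 : ∀ u < 16684, (fun u => chkFix tab mwordsA u) u = true := ext_range (a := 16641) (len := 43) h387 m2_387
  have h389 : ∀ u < 16727, (fun u => chkFix tab mwordsA u) u = true := ext_range (a := 16684) (len := 43) h388 m2_388
  have h390 : ∀ u < 16770, (fun u => chkFix tab mwordsA u) u = true := ext_range (a := 16727) (len := 43) h389 m2_389
  have h391 : ∀ u < 16813, (fun u => chkFix tab mwordsA u) u = true := ext_range (a := 16770) (len := 43) h390 m2_390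
  have h392 : ∀ u < 16856, (fun u => chkFix tab mwordsA u) u = true := ext_range (a := 16813) (len := 43) h391 m2_391
  have h393 : ∀ u < 16899, (fun u => chkFix tab mwordsA u) u = true := ext_range (a := 16856) (len := 43) h392 m2_392
  have h394 : ∀ u < 16942, (fun u => chkFix tab mwordsA u) u = true := ext_range (a := 16899) (len := 43) h393 m2_393
  have h395 : ∀ u < 16985, (fun u => chkFix tab mwordsA u) u = true := ext_range (a := 16942) (len := 43) h394 m2_394
  have h396 : ∀ u < 17028, (fun u => chkFix tab mwordsA u) u = true := ext_range (a := 16985) (len := 43) h395 m2_395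
  have h397 : ∀ u < 17071, (fun u => chkFix tab mwordsA u) u = true := ext_range (a := 17028) (len := 43) h396 m2_396
  have h398 : ∀ u < 17114, (fun u => chkFix tab mwordsA u) u = true := ext_range (a := 17071) (len := 43) h397 m2_397
  have h399 : ∀ u < 17157, (fun u => chkFix tab mwordsA u) u = true := ext_range (a := 17114) (len := 43) h398 m2_398
  have h400 : ∀ u < 17200, (fun u => chkFix tab mwordsA u) u = true := ext_range (a := 17157) (len := 43) h399 m2_399
  have h401 : ∀ u < 17243, (fun u => chkFix tab mwordsA u) u = true := ext_range (a := 17200) (len := 43) h400 m2_400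
  have h402 : ∀ u < 17286, (fun u => chkFix tab mwordsA u) u = true := ext_range (a := 17243) (len := 43) h401 m2_401
  have h403 : ∀ u < 17329, (fun u => chkFix tab mwordsA u) u = true := ext_range (a := 17286) (len := 43) h402 m2_402
  have h404 : ∀ u < 17372, (fun u => chkFix tab mwordsA u) u = true := ext_range (a := 17329) (len := 43) h403 m2_403
  have h405 : ∀ u < 17415, (fun u => chkFix tab mwordsA u) u = true := ext_range (a := 17372) (len := 43) h404 m2_404
  have h406 : ∀ u < 17458, (fun u => chkFix tab mwordsA u) u = true := ext_range (a := 17415) (len := 43) h405 m2_405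
  have h407 : ∀ u < 17501, (fun u => chkFix tab mwordsA u) u = true := ext_range (a := 17458) (len := 43) h406 m2_406
  have h408 : ∀ u < 17544, (fun u => chkFix tab mwordsA u) u = true := ext_range (a := 17501) (len := 43) h407 m2_407
  have h409 : ∀ u < 17587, (fun u => chkFix tab mwordsA u) u = true := ext_range (a := 17544) (len := 43) h408 m2_408
  have h410 : ∀ u < 17630, (fun u => chkFix tab mwordsA u) u = true := ext_range (a := 17587) (len := 43) h409 m2_409
  have h411 : ∀ u < 17673, (fun u => chkFix tab mwordsA u) u = true := ext_range (a := 17630) (len := 43) h410 m2_410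
  have h412 : ∀ u < 17716, (fun u => chkFix tab mwordsA u) u = true := ext_range (a := 17673) (len := 43) h411 m2_411
  have h413 : ∀ u < 17759, (fun u => chkFix tab mwordsA u) u = true := ext_range (a := 17716) (len := 43) h412 m2_412
  have h414 : ∀ u < 17802, (fun u => chkFix tab mwordsA u) u = true := ext_range (a := 17759) (len := 43) h413 m2_413
  have h415 : ∀ u < 17845, (fun u => chkFix tab mwordsA u) u = true := ext_range (a := 17802) (len := 43) h414 m2_414
  have h416 : ∀ u < 17888, (fun u => chkFix tab mwordsA u) u = true := ext_range (a := 17845) (len := 43) h415 m2_415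
  have h417 : ∀ u < 17931, (fun u => chkFix tab mwordsA u) u = true := ext_range (a := 17888) (len := 43) h416 m2_416
  have h418 : ∀ u < 17974, (fun u => chkFix tab mwordsA u) u = true := ext_range (a := 17931) (len := 43) h417 m2_417
  have h419 : ∀ u < 18017, (fun u => chkFix tab mwordsA u) u = true := ext_range (a := 17974) (len := 43) h418 m2_418
  have h420 : ∀ u < 18060, (fun u => chkFix tab mwordsA u) u = true := ext_range (a := 18017) (len := 43) h419 m2_419
  have h421 : ∀ u < 18103, (fun u => chkFix tab mwordsA u) u = true := ext_range (a := 18060) (len := 43) h420 m2_420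
  have h422 : ∀ u < 18146, (fun u => chkFix tab mwordsA u) u = true := ext_range (a := 18103) (len := 43) h421 m2_421
  have h423 : ∀ u < 18189, (fun u => chkFix tab mwordsA u) u = true := ext_range (a := 18146) (len := 43) h422 m2_422
  have h424 : ∀ u < 18232, (fun u => chkFix tab mwordsA u) u = true := ext_range (a := 18189) (len := 43) h423 m2_423
  have h425 : ∀ u < 18275, (fun u => chkFix tab mwordsA u) u = true := ext_range (a := 18232) (len := 43) h424 m2_424
  have h426 : ∀ u < 18318, (fun u => chkFix tab mwordsA u) u = true := ext_range (a := 18275) (len := 43) h425 m2_425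
  have h427 : ∀ u < 18361, (fun u => chkFix tab mwordsA u) u = true := ext_range (a := 18318) (len := 43) h426 m2_426
  have h428 : ∀ u < 18404, (fun u => chkFix tab mwordsA u) u = true := ext_range (a := 18361) (len := 43) h427 m2_427
  have h429 : ∀ u < 18447, (fun u => chkFix tab mwordsA u) u = true := ext_range (a := 18404) (len := 43) h428 m2_428
  have h430 : ∀ u < 18490, (fun u => chkFix tab mwordsA u) u = true := ext_range (a := 18447) (len := 43) h429 m2_429
  have h431 : ∀ u < 18533, (fun u => chkFix tab mwordsA u) u = true := ext_range (a := 18490) (len := 43) h430 m2_430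
  have h432 : ∀ u < 18576, (fun u => chkFix tab mwordsA u) u = true := ext_range (a := 18533) (len := 43) h431 m2_431
  have h433 : ∀ u < 18619, (fun u => chkFix tab mwordsA u) u = true := ext_range (a := 18576) (len := 43) h432 m2_432
  have h434 : ∀ u < 18662, (fun u => chkFix tab mwordsA u) u = true := ext_range (a := 18619) (len := 43) h433 m2_433
  have h435 : ∀ u < 18705, (fun u => chkFix tab mwordsA u) u = true := ext_range (a := 18662) (len := 43) h434 m2_434
  have h436 : ∀ u < 18748, (fun u => chkFix tab mwordsA u) u = true := ext_range (a := 18705) (len := 43) h435 m2_435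
  have h437 : ∀ u < 18791, (fun u => chkFix tab mwordsA u) u = true := ext_range (a := 18748) (len := 43) h436 m2_436
  have h438 : ∀ u < 18834, (fun u => chkFix tab mwordsA u) u = true := ext_range (a := 18791) (len := 43) h437 m2_437
  have h439 : ∀ u < 18877, (fun u => chkFix tab mwordsA u) u = true := ext_range (a := 18834) (len := 43) h438 m2_438
  have h440 : ∀ u < 18920, (fun u => chkFix tab mwordsA u) u = true := ext_range (a := 18877) (len := 43) h439 m2_439
  have h441 : ∀ u < 18963, (fun u => chkFix tab mwordsA u) u = true := ext_range (a := 18920) (len := 43) h440 m2_440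
  have h442 : ∀ u < 19006, (fun u => chkFix tab mwordsA u) u = true := ext_range (a := 18963) (len := 43) h441 m2_441
  have h443 : ∀ u < 19049, (fun u => chkFix tab mwordsA u) u = true := ext_range (a := 19006) (len := 43) h442 m2_442
  have h444 : ∀ u < 19092, (fun u => chkFix tab mwordsA u) u = true := ext_range (a := 19049) (len := 43) h443 m2_443
  have h445 : ∀ u < 19135, (fun u => chkFix tab mwordsA u) u = true := ext_range (a := 19092) (len := 43) h444 m2_444
  have h446 : ∀ u < 19178, (fun u => chkFix tab mwordsA u) u = true := ext_range (a := 19135) (len := 43) h445 m2_445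
  have h447 : ∀ u < 19221, (fun u => chkFix tab mwordsA u) u = true := ext_range (a := 19178) (len := 43) h446 m2_446
  have h448 : ∀ u < 19264, (fun u => chkFix tab mwordsA u) u = true := ext_range (a := 19221) (len := 43) h447 m2_447
  have h449 : ∀ u < 19307, (fun u => chkFix tab mwordsA u) u = true := ext_range (a := 19264) (len := 43) h448 m2_448
  have h450 : ∀ u < 19350, (fun u => chkFix tab mwordsA u) u = true := ext_range (a := 19307) (len := 43) h449 m2_449
  have h451 : ∀ u < 19393, (fun u => chkFix tab mwordsA u) u = true := ext_range (a := 19350) (len := 43) h450 m2_450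
  have h452 : ∀ u < 19436, (fun u => chkFix tab mwordsA u) u = true := ext_range (a := 19393) (len := 43) h451 m2_451
  have h453 : ∀ u < 19479, (fun u => chkFix tab mwordsA u) u = true := ext_range (a := 19436) (len := 43) h452 m2_452
  have h454 : ∀ u < 19522, (fun u => chkFix tab mwordsA u) u = true := ext_range (a := 19479) (len := 43) h453 m2_453
  have h455 : ∀ u < 19565, (fun u => chkFix tab mwordsA u) u = true := ext_range (a := 19522) (len := 43) h454 m2_454
  have h456 : ∀ u < 19608, (fun u => chkFix tab mwordsA u) u = true := ext_range (a := 19565) (len := 43) h455 m2_455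
  have h457 : ∀ u < 19651, (fun u => chkFix tab mwordsA u) u = true := ext_range (a := 19608) (len := 43) h456 m2_456
  have h458 : ∀ u < 19694, (fun u => chkFix tab mwordsA u) u = true := ext_range (a := 19651) (len := 43) h457 m2_457
  have h459 : ∀ u < 19737, (fun u => chkFix tab mwordsA u) u = true := ext_range (a := 19694) (len := 43) h458 m2_458
  have h460 : ∀ u < 19780, (fun u => chkFix tab mwordsA u) u = true := ext_range (a := 19737) (len := 43) h459 m2_459
  have h461 : ∀ u < 19823, (fun u => chkFix tab mwordsA u) u = true := ext_range (a := 19780) (len := 43) h460 m2_460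
  have h462 : ∀ u < 19866, (fun u => chkFix tab mwordsA u) u = true := ext_range (a := 19823) (len := 43) h461 m2_461
  have h463 : ∀ u < 19909, (fun u => chkFix tab mwordsA u) u = true := ext_range (a := 19866) (len := 43) h462 m2_462
  have h464 : ∀ u < 19952, (fun u => chkFix tab mwordsA u) u = true := ext_range (a := 19909) (len := 43) h463 m2_463
  have h465 : ∀ u < 19995, (fun u => chkFix tab mwordsA u) u = true := ext_range (a := 19952) (len := 43) h464 m2_464
  have h466 : ∀ u < 20038, (fun u => chkFix tab mwordsA u) u = true := ext_range (a := 19995) (len := 43) h465 m2_465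
  have h467 : ∀ u < 20081, (fun u => chkFix tab mwordsA u) u = true := ext_range (a := 20038) (len := 43) h466 m2_466
  have h468 : ∀ u < 20124, (fun u => chkFix tab mwordsA u) u = true := ext_range (a := 20081) (len := 43) h467 m2_467
  have h469 : ∀ u < 20167, (fun u => chkFix tab mwordsA u) u = true := ext_range (a := 20124) (len := 43) h468 m2_468
  have h470 : ∀ u < 20210, (fun u => chkFix tab mwordsA u) u = true := ext_range (a := 20167) (len := 43) h469 m2_469
  have h471 : ∀ u < 20253, (fun u => chkFix tab mwordsA u) u = true := ext_range (a := 20210) (len := 43) h470 m2_470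
  have h472 : ∀ u < 20296, (fun u => chkFix tab mwordsA u) u = true := ext_range (a := 20253) (len := 43) h471 m2_471
  have h473 : ∀ u < 20339, (fun u => chkFix tab mwordsA u) u = true := ext_range (a := 20296) (len := 43) h472 m2_472
  have h474 : ∀ u < 20382, (fun u => chkFix tab mwordsA u) u = true := ext_range (a := 20339) (len := 43) h473 m2_473
  have h475 : ∀ u < 20425, (fun u => chkFix tab mwordsA u) u = true := ext_range (a := 20382) (len := 43) h474 m2_474
  have h476 : ∀ u < 20468, (fun u => chkFix tab mwordsA u) u = true := ext_range (a := 20425) (len := 43) h475 m2_475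
  have h477 : ∀ u < 20511, (fun u => chkFix tab mwordsA u) u = true := ext_range (a := 20468) (len := 43) h476 m2_476
  have h478 : ∀ u < 20554, (fun u => chkFix tab mwordsA u) u = true := ext_range (a := 20511) (len := 43) h477 m2_477
  have h479 : ∀ u < 20597, (fun u => chkFix tab mwordsA u) u = true := ext_range (a := 20554) (len := 43) h478 m2_478
  have h480 : ∀ u < 20640, (fun u => chkFix tab mwordsA u) u = true := ext_range (a := 20597) (len := 43) h479 m2_479
  have h481 : ∀ u < 20683, (fun u => chkFix tab mwordsA u) u = true := ext_range (a := 20640) (len := 43) h480 m2_480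
  have h482 : ∀ u < 20726, (fun u => chkFix tab mwordsA u) u = true := ext_range (a := 20683) (len := 43) h481 m2_481
  have h483 : ∀ u < 20769, (fun u => chkFix tab mwordsA u) u = true := ext_range (a := 20726) (len := 43) h482 m2_482
  have h484 : ∀ u < 20812, (fun u => chkFix tab mwordsA u) u = true := ext_range (a := 20769) (len := 43) h483 m2_483
  have h485 : ∀ u < 20855, (fun u => chkFix tab mwordsA u) u = true := ext_range (a := 20812) (len := 43) h484 m2_484
  have h486 : ∀ u < 20898, (fun u => chkFix tab mwordsA u) u = true := ext_range (a := 20855) (len := 43) h485 m2_485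
  have h487 : ∀ u < 20941, (fun u => chkFix tab mwordsA u) u = true := ext_range (a := 20898) (len := 43) h486 m2_486
  have h488 : ∀ u < 20984, (fun u => chkFix tab mwordsA u) u = true := ext_range (a := 20941) (len := 43) h487 m2_487
  have h489 : ∀ u < 21027, (fun u => chkFix tab mwordsA u) u = true := ext_range (a := 20984) (len := 43) h488 m2_488
  have h490 : ∀ u < 21070, (fun u => chkFix tab mwordsA u) u = true := ext_range (a := 21027) (len := 43) h489 m2_489
  have h491 : ∀ u < 21113, (fun u => chkFix tab mwordsA u) u = true := ext_range (a := 21070) (len := 43) h490 m2_490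
  have h492 : ∀ u < 21156, (fun u => chkFix tab mwordsA u) u = true := ext_range (a := 21113) (len := 43) h491 m2_491
  have h493 : ∀ u < 21199, (fun u => chkFix tab mwordsA u) u = true := ext_range (a := 21156) (len := 43) h492 m2_492
  have h494 : ∀ u < 21242, (fun u => chkFix tab mwordsA u) u = true := ext_range (a := 21199) (len := 43) h493 m2_493
  have h495 : ∀ u < 21285, (fun u => chkFix tab mwordsA u) u = true := ext_range (a := 21242) (len := 43) h494 m2_494
  have h496 : ∀ u < 21328, (fun u => chkFix tab mwordsA u) u = true := ext_range (a := 21285) (len := 43) h495 m2_495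
  have h497 : ∀ u < 21371, (fun u => chkFix tab mwordsA u) u = true := ext_range (a := 21328) (len := 43) h496 m2_496
  have h498 : ∀ u < 21414, (fun u => chkFix tab mwordsA u) u = true := ext_range (a := 21371) (len := 43) h497 m2_497
  have h499 : ∀ u < 21457, (fun u => chkFix tab mwordsA u) u = true := ext_range (a := 21414) (len := 43) h498 m2_498
  have h500 : ∀ u < 21500, (fun u => chkFix tab mwordsA u) u = true := ext_range (a := 21457) (len := 43) h499 m2_499
  have h501 : ∀ u < 21543, (fun u => chkFix tab mwordsA u) u = true := ext_range (a := 21500) (len := 43) h500 m2_500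
  have h502 : ∀ u < 21586, (fun u => chkFix tab mwordsA u) u = true := ext_range (a := 21543) (len := 43) h501 m2_501
  have h503 : ∀ u < 21629, (fun u => chkFix tab mwordsA u) u = true := ext_range (a := 21586) (len := 43) h502 m2_502
  have h504 : ∀ u < 21672, (fun u => chkFix tab mwordsA u) u = true := ext_range (a := 21629) (len := 43) h503 m2_503
  have h505 : ∀ u < 21715, (fun u => chkFix tab mwordsA u) u = true := ext_range (a := 21672) (len := 43) h504 m2_504
  have h506 : ∀ u < 21758, (fun u => chkFix tab mwordsA u) u = true := ext_range (a := 21715) (len := 43) h505 m2_505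
  have h507 : ∀ u < 21801, (fun u => chkFix tab mwordsA u) u = true := ext_range (a := 21758) (len := 43) h506 m2_506
  have h508 : ∀ u < 21844, (fun u => chkFix tab mwordsA u) u = true := ext_range (a := 21801) (len := 43) h507 m2_507
  have h509 : ∀ u < 21887, (fun u => chkFix tab mwordsA u) u = true := ext_range (a := 21844) (len := 43) h508 m2_508
  have h510 : ∀ u < 21930, (fun u => chkFix tab mwordsA u) u = true := ext_range (a := 21887) (len := 43) h509 m2_509
  have h511 : ∀ u < 21973, (fun u => chkFix tab mwordsA u) u = true := ext_range (a := 21930) (len := 43) h510 m2_510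
  have h512 : ∀ u < 22016, (fun u => chkFix tab mwordsA u) u = true := ext_range (a := 21973) (len := 43) h511 m2_511
  have h513 : ∀ u < 22059, (fun u => chkFix tab mwordsA u) u = true := ext_range (a := 22016) (len := 43) h512 m2_512
  have h514 : ∀ u < 22102, (fun u => chkFix tab mwordsA u) u = true := ext_range (a := 22059) (len := 43) h513 m2_513
  have h515 : ∀ u < 22145, (fun u => chkFix tab mwordsA u) u = true := ext_range (a := 22102) (len := 43) h514 m2_514
  have h516 : ∀ u < 22188, (fun u => chkFix tab mwordsA u) u = true := ext_range (a := 22145) (len := 43) h515 m2_515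
  have h517 : ∀ u < 22231, (fun u => chkFix tab mwordsA u) u = true := ext_range (a := 22188) (len := 43) h516 m2_516
  have h518 : ∀ u < 22274, (fun u => chkFix tab mwordsA u) u = true := ext_range (a := 22231) (len := 43) h517 m2_517
  have h519 : ∀ u < 22317, (fun u => chkFix tab mwordsA u) u = true := ext_range (a := 22274) (len := 43) h518 m2_518
  have h520 : ∀ u < 22360, (fun u => chkFix tab mwordsA u) u = true := ext_range (a := 22317) (len := 43) h519 m2_519
  have h521 : ∀ u < 22403, (fun u => chkFix tab mwordsA u) u = true := ext_range (a := 22360) (len := 43) h520 m2_520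
  have h522 : ∀ u < 22446, (fun u => chkFix tab mwordsA u) u = true := ext_range (a := 22403) (len := 43) h521 m2_521
  have h523 : ∀ u < 22489, (fun u => chkFix tab mwordsA u) u = true := ext_range (a := 22446) (len := 43) h522 m2_522
  have h524 : ∀ u < 22532, (fun u => chkFix tab mwordsA u) u = true := ext_range (a := 22489) (len := 43) h523 m2_523
  have h525 : ∀ u < 22575, (fun u => chkFix tab mwordsA u) u = true := ext_range (a := 22532) (len := 43) h524 m2_524
  have h526 : ∀ u < 22618, (fun u => chkFix tab mwordsA u) u = true := ext_range (a := 22575) (len := 43) h525 m2_525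
  have h527 : ∀ u < 22661, (fun u => chkFix tab mwordsA u) u = true := ext_range (a := 22618) (len := 43) h526 m2_526
  have h528 : ∀ u < 22704, (fun u => chkFix tab mwordsA u) u = true := ext_range (a := 22661) (len := 43) h527 m2_527
  have h529 : ∀ u < 22747, (fun u => chkFix tab mwordsA u) u = true := ext_range (a := 22704) (len := 43) h528 m2_528
  have h530 : ∀ u < 22790, (fun u => chkFix tab mwordsA u) u = true := ext_range (a := 22747) (len := 43) h529 m2_529
  have h531 : ∀ u < 22833, (fun u => chkFix tab mwordsA u) u = true := ext_range (a := 22790) (len := 43) h530 m2_530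
  have h532 : ∀ u < 22876, (fun u => chkFix tab mwordsA u) u = true := ext_range (a := 22833) (len := 43) h531 m2_531
  have h533 : ∀ u < 22919, (fun u => chkFix tab mwordsA u) u = true := ext_range (a := 22876) (len := 43) h532 m2_532
  have h534 : ∀ u < 22962, (fun u => chkFix tab mwordsA u) u = true := ext_range (a := 22919) (len := 43) h533 m2_533
  have h535 : ∀ u < 23005, (fun u => chkFix tab mwordsA u) u = true := ext_range (a := 22962) (len := 43) h534 m2_534
  have h536 : ∀ u < 23048, (fun u => chkFix tab mwordsA u) u = true := ext_range (a := 23005) (len := 43) h535 m2_535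
  have h537 : ∀ u < 23091, (fun u => chkFix tab mwordsA u) u = true := ext_range (a := 23048) (len := 43) h536 m2_536
  have h538 : ∀ u < 23134, (fun u => chkFix tab mwordsA u) u = true := ext_range (a := 23091) (len := 43) h537 m2_537
  have h539 : ∀ u < 23177, (fun u => chkFix tab mwordsA u) u = true := ext_range (a := 23134) (len := 43) h538 m2_538
  have h540 : ∀ u < 23220, (fun u => chkFix tab mwordsA u) u = true := ext_range (a := 23177) (len := 43) h539 m2_539
  have h541 : ∀ u < 23263, (fun u => chkFix tab mwordsA u) u = true := ext_range (a := 23220) (len := 43) h540 m2_540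
  have h542 : ∀ u < 23306, (fun u => chkFix tab mwordsA u) u = true := ext_range (a := 23263) (len := 43) h541 m2_541
  have h543 : ∀ u < 23349, (fun u => chkFix tab mwordsA u) u = true := ext_range (a := 23306) (len := 43) h542 m2_542
  have h544 : ∀ u < 23392, (fun u => chkFix tab mwordsA u) u = true := ext_range (a := 23349) (len := 43) h543 m2_543
  have h545 : ∀ u < 23435, (fun u => chkFix tab mwordsA u) u = true := ext_range (a := 23392) (len := 43) h544 m2_544
  have h546 : ∀ u < 23478, (fun u => chkFix tab mwordsA u) u = true := ext_range (a := 23435) (len := 43) h545 m2_545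
  have h547 : ∀ u < 23521, (fun u => chkFix tab mwordsA u) u = true := ext_range (a := 23478) (len := 43) h546 m2_546
  have h548 : ∀ u < 23564, (fun u => chkFix tab mwordsA u) u = true := ext_range (a := 23521) (len := 43) h547 m2_547
  have h549 : ∀ u < 23607, (fun u => chkFix tab mwordsA u) u = true := ext_range (a := 23564) (len := 43) h548 m2_548
  have h550 : ∀ u < 23650, (fun u => chkFix tab mwordsA u) u = true := ext_range (a := 23607) (len := 43) h549 m2_549
  have h551 : ∀ u < 23693, (fun u => chkFix tab mwordsA u) u = true := ext_range (a := 23650) (len := 43) h550 m2_550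
  have h552 : ∀ u < 23736, (fun u => chkFix tab mwordsA u) u = true := ext_range (a := 23693) (len := 43) h551 m2_551
  have h553 : ∀ u < 23779, (fun u => chkFix tab mwordsA u) u = true := ext_range (a := 23736) (len := 43) h552 m2_552
  have h554 : ∀ u < 23822, (fun u => chkFix tab mwordsA u) u = true := ext_range (a := 23779) (len := 43) h553 m2_553
  have h555 : ∀ u < 23865, (fun u => chkFix tab mwordsA u) u = true := ext_range (a := 23822) (len := 43) h554 m2_554
  have h556 : ∀ u < 23908, (fun u => chkFix tab mwordsA u) u = true := ext_range (a := 23865) (len := 43) h555 m2_555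
  have h557 : ∀ u < 23951, (fun u => chkFix tab mwordsA u) u = true := ext_range (a := 23908) (len := 43) h556 m2_556
  have h558 : ∀ u < 23994, (fun u => chkFix tab mwordsA u) u = true := ext_range (a := 23951) (len := 43) h557 m2_557
  have h559 : ∀ u < 24037, (fun u => chkFix tab mwordsA u) u = true := ext_range (a := 23994) (len := 43) h558 m2_558
  have h560 : ∀ u < 24080, (fun u => chkFix tab mwordsA u) u = true := ext_range (a := 24037) (len := 43) h559 m2_559
  have h561 : ∀ u < 24123, (fun u => chkFix tab mwordsA u) u = true := ext_range (a := 24080) (len := 43) h560 m2_560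
  have h562 : ∀ u < 24166, (fun u => chkFix tab mwordsA u) u = true := ext_range (a := 24123) (len := 43) h561 m2_561
  have h563 : ∀ u < 24209, (fun u => chkFix tab mwordsA u) u = true := ext_range (a := 24166) (len := 43) h562 m2_562
  have h564 : ∀ u < 24252, (fun u => chkFix tab mwordsA u) u = true := ext_range (a := 24209) (len := 43) h563 m2_563
  have h565 : ∀ u < 24295, (fun u => chkFix tab mwordsA u) u = true := ext_range (a := 24252) (len := 43) h564 m2_564
  have h566 : ∀ u < 24338, (fun u => chkFix tab mwordsA u) u = true := ext_range (a := 24295) (len := 43) h565 m2_565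
  have h567 : ∀ u < 24381, (fun u => chkFix tab mwordsA u) u = true := ext_range (a := 24338) (len := 43) h566 m2_566
  have h568 : ∀ u < 24424, (fun u => chkFix tab mwordsA u) u = true := ext_range (a := 24381) (len := 43) h567 m2_567
  have h569 : ∀ u < 24467, (fun u => chkFix tab mwordsA u) u = true := ext_range (a := 24424) (len := 43) h568 m2_568
  have h570 : ∀ u < 24510, (fun u => chkFix tab mwordsA u) u = true := ext_range (a := 24467) (len := 43) h569 m2_569
  have h571 : ∀ u < 24553, (fun u => chkFix tab mwordsA u) u = true := ext_range (a := 24510) (len := 43) h570 m2_570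
  have h572 : ∀ u < 24596, (fun u => chkFix tab mwordsA u) u = true := ext_range (a := 24553) (len := 43) h571 m2_571
  have h573 : ∀ u < 24639, (fun u => chkFix tab mwordsA u) u = true := ext_range (a := 24596) (len := 43) h572 m2_572
  have h574 : ∀ u < 24682, (fun u => chkFix tab mwordsA u) u = true := ext_range (a := 24639) (len := 43) h573 m2_573
  have h575 : ∀ u < 24725, (fun u => chkFix tab mwordsA u) u = true := ext_range (a := 24682) (len := 43) h574 m2_574
  have h576 : ∀ u < 24768, (fun u => chkFix tab mwordsA u) u = true := ext_range (a := 24725) (len := 43) h575 m2_575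
  have h577 : ∀ u < 24811, (fun u => chkFix tab mwordsA u) u = true := ext_range (a := 24768) (len := 43) h576 m2_576
  have h578 : ∀ u < 24854, (fun u => chkFix tab mwordsA u) u = true := ext_range (a := 24811) (len := 43) h577 m2_577
  have h579 : ∀ u < 24897, (fun u => chkFix tab mwordsA u) u = true := ext_range (a := 24854) (len := 43) h578 m2_578
  have h580 : ∀ u < 24940, (fun u => chkFix tab mwordsA u) u = true := ext_range (a := 24897) (len := 43) h579 m2_579
  have h581 : ∀ u < 24983, (fun u => chkFix tab mwordsA u) u = true := ext_range (a := 24940) (len := 43) h580 m2_580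
  have h582 : ∀ u < 25026, (fun u => chkFix tab mwordsA u) u = true := ext_range (a := 24983) (len := 43) h581 m2_581
  have h583 : ∀ u < 25069, (fun u => chkFix tab mwordsA u) u = true := ext_range (a := 25026) (len := 43) h582 m2_582
  have h584 : ∀ u < 25112, (fun u => chkFix tab mwordsA u) u = true := ext_range (a := 25069) (len := 43) h583 m2_583
  have h585 : ∀ u < 25155, (fun u => chkFix tab mwordsA u) u = true := ext_range (a := 25112) (len := 43) h584 m2_584
  have h586 : ∀ u < 25198, (fun u => chkFix tab mwordsA u) u = true := ext_range (a := 25155) (len := 43) h585 m2_585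
  have h587 : ∀ u < 25241, (fun u => chkFix tab mwordsA u) u = true := ext_range (a := 25198) (len := 43) h586 m2_586
  have h588 : ∀ u < 25284, (fun u => chkFix tab mwordsA u) u = true := ext_range (a := 25241) (len := 43) h587 m2_587
  have h589 : ∀ u < 25327, (fun u => chkFix tab mwordsA u) u = true := ext_range (a := 25284) (len := 43) h588 m2_588
  have h590 : ∀ u < 25370, (fun u => chkFix tab mwordsA u) u = true := ext_range (a := 25327) (len := 43) h589 m2_589
  have h591 : ∀ u < 25413, (fun u => chkFix tab mwordsA u) u = true := ext_range (a := 25370) (len := 43) h590 m2_590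
  have h592 : ∀ u < 25456, (fun u => chkFix tab mwordsA u) u = true := ext_range (a := 25413) (len := 43) h591 m2_591
  have h593 : ∀ u < 25499, (fun u => chkFix tab mwordsA u) u = true := ext_range (a := 25456) (len := 43) h592 m2_592
  have h594 : ∀ u < 25542, (fun u => chkFix tab mwordsA u) u = true := ext_range (a := 25499) (len := 43) h593 m2_593
  have h595 : ∀ u < 25585, (fun u => chkFix tab mwordsA u) u = true := ext_range (a := 25542) (len := 43) h594 m2_594
  have h596 : ∀ u < 25628, (fun u => chkFix tab mwordsA u) u = true := ext_range (a := 25585) (len := 43) h595 m2_595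
  have h597 : ∀ u < 25671, (fun u => chkFix tab mwordsA u) u = true := ext_range (a := 25628) (len := 43) h596 m2_596
  have h598 : ∀ u < 25714, (fun u => chkFix tab mwordsA u) u = true := ext_range (a := 25671) (len := 43) h597 m2_597
  have h599 : ∀ u < 25757, (fun u => chkFix tab mwordsA u) u = true := ext_range (a := 25714) (len := 43) h598 m2_598
  have h600 : ∀ u < 25800, (fun u => chkFix tab mwordsA u) u = true := ext_range (a := 25757) (len := 43) h599 m2_599
  have h601 : ∀ u < 25843, (fun u => chkFix tab mwordsA u) u = true := ext_range (a := 25800) (len := 43) h600 m2_600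
  have h602 : ∀ u < 25886, (fun u => chkFix tab mwordsA u) u = true := ext_range (a := 25843) (len := 43) h601 m2_601
  have h603 : ∀ u < 25929, (fun u => chkFix tab mwordsA u) u = true := ext_range (a := 25886) (len := 43) h602 m2_602
  have h604 : ∀ u < 25972, (fun u => chkFix tab mwordsA u) u = true := ext_range (a := 25929) (len := 43) h603 m2_603
  have h605 : ∀ u < 26015, (fun u => chkFix tab mwordsA u) u = true := ext_range (a := 25972) (len := 43) h604 m2_604
  have h606 : ∀ u < 26058, (fun u => chkFix tab mwordsA u) u = true := ext_range (a := 26015) (len := 43) h605 m2_605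
  have h607 : ∀ u < 26101, (fun u => chkFix tab mwordsA u) u = true := ext_range (a := 26058) (len := 43) h606 m2_606
  have h608 : ∀ u < 26144, (fun u => chkFix tab mwordsA u) u = true := ext_range (a := 26101) (len := 43) h607 m2_607
  have h609 : ∀ u < 26187, (fun u => chkFix tab mwordsA u) u = true := ext_range (a := 26144) (len := 43) h608 m2_608
  have h610 : ∀ u < 26230, (fun u => chkFix tab mwordsA u) u = true := ext_range (a := 26187) (len := 43) h609 m2_609
  have h611 : ∀ u < 26273, (fun u => chkFix tab mwordsA u) u = true := ext_range (a := 26230) (len := 43) h610 m2_610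
  have h612 : ∀ u < 26316, (fun u => chkFix tab mwordsA u) u = true := ext_range (a := 26273) (len := 43) h611 m2_611
  have h613 : ∀ u < 26359, (fun u => chkFix tab mwordsA u) u = true := ext_range (a := 26316) (len := 43) h612 m2_612
  have h614 : ∀ u < 26402, (fun u => chkFix tab mwordsA u) u = true := ext_range (a := 26359) (len := 43) h613 m2_613
  have h615 : ∀ u < 26445, (fun u => chkFix tab mwordsA u) u = true := ext_range (a := 26402) (len := 43) h614 m2_614
  have h616 : ∀ u < 26488, (fun u => chkFix tab mwordsA u) u = true := ext_range (a := 26445) (len := 43) h615 m2_615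
  have h617 : ∀ u < 26531, (fun u => chkFix tab mwordsA u) u = true := ext_range (a := 26488) (len := 43) h616 m2_616
  have h618 : ∀ u < 26574, (fun u => chkFix tab mwordsA u) u = true := ext_range (a := 26531) (len := 43) h617 m2_617
  have h619 : ∀ u < 26617, (fun u => chkFix tab mwordsA u) u = true := ext_range (a := 26574) (len := 43) h618 m2_618
  have h620 : ∀ u < 26660, (fun u => chkFix tab mwordsA u) u = true := ext_range (a := 26617) (len := 43) h619 m2_619
  have h621 : ∀ u < 26703, (fun u => chkFix tab mwordsA u) u = true := ext_range (a := 26660) (len := 43) h620 m2_620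
  have h622 : ∀ u < 26746, (fun u => chkFix tab mwordsA u) u = true := ext_range (a := 26703) (len := 43) h621 m2_621
  have h623 : ∀ u < 26789, (fun u => chkFix tab mwordsA u) u = true := ext_range (a := 26746) (len := 43) h622 m2_622
  have h624 : ∀ u < 26832, (fun u => chkFix tab mwordsA u) u = true := ext_range (a := 26789) (len := 43) h623 m2_623
  have h625 : ∀ u < 26875, (fun u => chkFix tab mwordsA u) u = true := ext_range (a := 26832) (len := 43) h624 m2_624
  have h626 : ∀ u < 26918, (fun u => chkFix tab mwordsA u) u = true := ext_range (a := 26875) (len := 43) h625 m2_625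
  have h627 : ∀ u < 26961, (fun u => chkFix tab mwordsA u) u = true := ext_range (a := 26918) (len := 43) h626 m2_626
  have h628 : ∀ u < 27004, (fun u => chkFix tab mwordsA u) u = true := ext_range (a := 26961) (len := 43) h627 m2_627
  have h629 : ∀ u < 27047, (fun u => chkFix tab mwordsA u) u = true := ext_range (a := 27004) (len := 43) h628 m2_628
  have h630 : ∀ u < 27090, (fun u => chkFix tab mwordsA u) u = true := ext_range (a := 27047) (len := 43) h629 m2_629
  have h631 : ∀ u < 27133, (fun u => chkFix tab mwordsA u) u = true := ext_range (a := 27090) (len := 43) h630 m2_630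
  have h632 : ∀ u < 27176, (fun u => chkFix tab mwordsA u) u = true := ext_range (a := 27133) (len := 43) h631 m2_631
  have h633 : ∀ u < 27219, (fun u => chkFix tab mwordsA u) u = true := ext_range (a := 27176) (len := 43) h632 m2_632
  have h634 : ∀ u < 27262, (fun u => chkFix tab mwordsA u) u = true := ext_range (a := 27219) (len := 43) h633 m2_633
  have h635 : ∀ u < 27305, (fun u => chkFix tab mwordsA u) u = true := ext_range (a := 27262) (len := 43) h634 m2_634
  have h636 : ∀ u < 27348, (fun u => chkFix tab mwordsA u) u = true := ext_range (a := 27305) (len := 43) h635 m2_635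
  have h637 : ∀ u < 27391, (fun u => chkFix tab mwordsA u) u = true := ext_range (a := 27348) (len := 43) h636 m2_636
  have h638 : ∀ u < 27434, (fun u => chkFix tab mwordsA u) u = true := ext_range (a := 27391) (len := 43) h637 m2_637
  have h639 : ∀ u < 27477, (fun u => chkFix tab mwordsA u) u = true := ext_range (a := 27434) (len := 43) h638 m2_638
  have h640 : ∀ u < 27520, (fun u => chkFix tab mwordsA u) u = true := ext_range (a := 27477) (len := 43) h639 m2_639
  have h641 : ∀ u < 27563, (fun u => chkFix tab mwordsA u) u = true := ext_range (a := 27520) (len := 43) h640 m2_640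
  have h642 : ∀ u < 27606, (fun u => chkFix tab mwordsA u) u = true := ext_range (a := 27563) (len := 43) h641 m2_641
  have h643 : ∀ u < 27649, (fun u => chkFix tab mwordsA u) u = true := ext_range (a := 27606) (len := 43) h642 m2_642
  have h644 : ∀ u < 27692, (fun u => chkFix tab mwordsA u) u = true := ext_range (a := 27649) (len := 43) h643 m2_643
  have h645 : ∀ u < 27735, (fun u => chkFix tab mwordsA u) u = true := ext_range (a := 27692) (len := 43) h644 m2_644
  have h646 : ∀ u < 27778, (fun u => chkFix tab mwordsA u) u = true := ext_range (a := 27735) (len := 43) h645 m2_645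
  have h647 : ∀ u < 27821, (fun u => chkFix tab mwordsA u) u = true := ext_range (a := 27778) (len := 43) h646 m2_646
  have h648 : ∀ u < 27864, (fun u => chkFix tab mwordsA u) u = true := ext_range (a := 27821) (len := 43) h647 m2_647
  have h649 : ∀ u < 27907, (fun u => chkFix tab mwordsA u) u = true := ext_range (a := 27864) (len := 43) h648 m2_648
  have h650 : ∀ u < 27950, (fun u => chkFix tab mwordsA u) u = true := ext_range (a := 27907) (len := 43) h649 m2_649
  have h651 : ∀ u < 27993, (fun u => chkFix tab mwordsA u) u = true := ext_range (a := 27950) (len := 43) h650 m2_650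
  have h652 : ∀ u < 28036, (fun u => chkFix tab mwordsA u) u = true := ext_range (a := 27993) (len := 43) h651 m2_651
  have h653 : ∀ u < 28079, (fun u => chkFix tab mwordsA u) u = true := ext_range (a := 28036) (len := 43) h652 m2_652
  have h654 : ∀ u < 28122, (fun u => chkFix tab mwordsA u) u = true := ext_range (a := 28079) (len := 43) h653 m2_653
  have h655 : ∀ u < 28165, (fun u => chkFix tab mwordsA u) u = true := ext_range (a := 28122) (len := 43) h654 m2_654
  have h656 : ∀ u < 28208, (fun u => chkFix tab mwordsA u) u = true := ext_range (a := 28165) (len := 43) h655 m2_655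
  have h657 : ∀ u < 28251, (fun u => chkFix tab mwordsA u) u = true := ext_range (a := 28208) (len := 43) h656 m2_656
  have h658 : ∀ u < 28294, (fun u => chkFix tab mwordsA u) u = true := ext_range (a := 28251) (len := 43) h657 m2_657
  have h659 : ∀ u < 28337, (fun u => chkFix tab mwordsA u) u = true := ext_range (a := 28294) (len := 43) h658 m2_658
  have h660 : ∀ u < 28380, (fun u => chkFix tab mwordsA u) u = true := ext_range (a := 28337) (len := 43) h659 m2_659
  have h661 : ∀ u < 28423, (fun u => chkFix tab mwordsA u) u = true := ext_range (a := 28380) (len := 43) h660 m2_660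
  have h662 : ∀ u < 28466, (fun u => chkFix tab mwordsA u) u = true := ext_range (a := 28423) (len := 43) h661 m2_661
  have h663 : ∀ u < 28509, (fun u => chkFix tab mwordsA u) u = true := ext_range (a := 28466) (len := 43) h662 m2_662
  have h664 : ∀ u < 28552, (fun u => chkFix tab mwordsA u) u = true := ext_range (a := 28509) (len := 43) h663 m2_663
  have h665 : ∀ u < 28595, (fun u => chkFix tab mwordsA u) u = true := ext_range (a := 28552) (len := 43) h664 m2_664
  have h666 : ∀ u < 28638, (fun u => chkFix tab mwordsA u) u = true := ext_range (a := 28595) (len := 43) h665 m2_665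
  have h667 : ∀ u < 28681, (fun u => chkFix tab mwordsA u) u = true := ext_range (a := 28638) (len := 43) h666 m2_666
  have h668 : ∀ u < 28724, (fun u => chkFix tab mwordsA u) u = true := ext_range (a := 28681) (len := 43) h667 m2_667
  have h669 : ∀ u < 28767, (fun u => chkFix tab mwordsA u) u = true := ext_range (a := 28724) (len := 43) h668 m2_668
  have h670 : ∀ u < 28810, (fun u => chkFix tab mwordsA u) u = true := ext_range (a := 28767) (len := 43) h669 m2_669
  have h671 : ∀ u < 28853, (fun u => chkFix tab mwordsA u) u = true := ext_range (a := 28810) (len := 43) h670 m2_670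
  have h672 : ∀ u < 28896, (fun u => chkFix tab mwordsA u) u = true := ext_range (a := 28853) (len := 43) h671 m2_671
  have h673 : ∀ u < 28939, (fun u => chkFix tab mwordsA u) u = true := ext_range (a := 28896) (len := 43) h672 m2_672
  have h674 : ∀ u < 28982, (fun u => chkFix tab mwordsA u) u = true := ext_range (a := 28939) (len := 43) h673 m2_673
  have h675 : ∀ u < 29025, (fun u => chkFix tab mwordsA u) u = true := ext_range (a := 28982) (len := 43) h674 m2_674
  have h676 : ∀ u < 29068, (fun u => chkFix tab mwordsA u) u = true := ext_range (a := 29025) (len := 43) h675 m2_675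
  have h677 : ∀ u < 29111, (fun u => chkFix tab mwordsA u) u = true := ext_range (a := 29068) (len := 43) h676 m2_676
  have h678 : ∀ u < 29154, (fun u => chkFix tab mwordsA u) u = true := ext_range (a := 29111) (len := 43) h677 m2_677
  have h679 : ∀ u < 29197, (fun u => chkFix tab mwordsA u) u = true := ext_range (a := 29154) (len := 43) h678 m2_678
  have h680 : ∀ u < 29240, (fun u => chkFix tab mwordsA u) u = true := ext_range (a := 29197) (len := 43) h679 m2_679
  have h681 : ∀ u < 29283, (fun u => chkFix tab mwordsA u) u = true := ext_range (a := 29240) (len := 43) h680 m2_680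
  have h682 : ∀ u < 29326, (fun u => chkFix tab mwordsA u) u = true := ext_range (a := 29283) (len := 43) h681 m2_681
  have h683 : ∀ u < 29369, (fun u => chkFix tab mwordsA u) u = true := ext_range (a := 29326) (len := 43) h682 m2_682
  have h684 : ∀ u < 29412, (fun u => chkFix tab mwordsA u) u = true := ext_range (a := 29369) (len := 43) h683 m2_683
  have h685 : ∀ u < 29455, (fun u => chkFix tab mwordsA u) u = true := ext_range (a := 29412) (len := 43) h684 m2_684
  have h686 : ∀ u < 29498, (fun u => chkFix tab mwordsA u) u = true := ext_range (a := 29455) (len := 43) h685 m2_685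
  have h687 : ∀ u < 29541, (fun u => chkFix tab mwordsA u) u = true := ext_range (a := 29498) (len := 43) h686 m2_686
  have h688 : ∀ u < 29584, (fun u => chkFix tab mwordsA u) u = true := ext_range (a := 29541) (len := 43) h687 m2_687
  have h689 : ∀ u < 29627, (fun u => chkFix tab mwordsA u) u = true := ext_range (a := 29584) (len := 43) h688 m2_688
  have h690 : ∀ u < 29670, (fun u => chkFix tab mwordsA u) u = true := ext_range (a := 29627) (len := 43) h689 m2_689
  have h691 : ∀ u < 29713, (fun u => chkFix tab mwordsA u) u = true := ext_range (a := 29670) (len := 43) h690 m2_690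
  have h692 : ∀ u < 29756, (fun u => chkFix tab mwordsA u) u = true := ext_range (a := 29713) (len := 43) h691 m2_691
  have h693 : ∀ u < 29799, (fun u => chkFix tab mwordsA u) u = true := ext_range (a := 29756) (len := 43) h692 m2_692
  have h694 : ∀ u < 29842, (fun u => chkFix tab mwordsA u) u = true := ext_range (a := 29799) (len := 43) h693 m2_693
  have h695 : ∀ u < 29885, (fun u => chkFix tab mwordsA u) u = true := ext_range (a := 29842) (len := 43) h694 m2_694
  have h696 : ∀ u < 29928, (fun u => chkFix tab mwordsA u) u = true := ext_range (a := 29885) (len := 43) h695 m2_695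
  have h697 : ∀ u < 29971, (fun u => chkFix tab mwordsA u) u = true := ext_range (a := 29928) (len := 43) h696 m2_696
  have h698 : ∀ u < 30014, (fun u => chkFix tab mwordsA u) u = true := ext_range (a := 29971) (len := 43) h697 m2_697
  have h699 : ∀ u < 30057, (fun u => chkFix tab mwordsA u) u = true := ext_range (a := 30014) (len := 43) h698 m2_698
  have h700 : ∀ u < 30100, (fun u => chkFix tab mwordsA u) u = true := ext_range (a := 30057) (len := 43) h699 m2_699
  have h701 : ∀ u < 30143, (fun u => chkFix tab mwordsA u) u = true := ext_range (a := 30100) (len := 43) h700 m2_700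
  have h702 : ∀ u < 30186, (fun u => chkFix tab mwordsA u) u = true := ext_range (a := 30143) (len := 43) h701 m2_701
  have h703 : ∀ u < 30229, (fun u => chkFix tab mwordsA u) u = true := ext_range (a := 30186) (len := 43) h702 m2_702
  have h704 : ∀ u < 30272, (fun u => chkFix tab mwordsA u) u = true := ext_range (a := 30229) (len := 43) h703 m2_703
  have h705 : ∀ u < 30315, (fun u => chkFix tab mwordsA u) u = true := ext_range (a := 30272) (len := 43) h704 m2_704
  have h706 : ∀ u < 30358, (fun u => chkFix tab mwordsA u) u = true := ext_range (a := 30315) (len := 43) h705 m2_705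
  have h707 : ∀ u < 30401, (fun u => chkFix tab mwordsA u) u = true := ext_range (a := 30358) (len := 43) h706 m2_706
  have h708 : ∀ u < 30444, (fun u => chkFix tab mwordsA u) u = true := ext_range (a := 30401) (len := 43) h707 m2_707
  have h709 : ∀ u < 30487, (fun u => chkFix tab mwordsA u) u = true := ext_range (a := 30444) (len := 43) h708 m2_708
  have h710 : ∀ u < 30530, (fun u => chkFix tab mwordsA u) u = true := ext_range (a := 30487) (len := 43) h709 m2_709
  have h711 : ∀ u < 30573, (fun u => chkFix tab mwordsA u) u = true := ext_range (a := 30530) (len := 43) h710 m2_710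
  have h712 : ∀ u < 30616, (fun u => chkFix tab mwordsA u) u = true := ext_range (a := 30573) (len := 43) h711 m2_711
  have h713 : ∀ u < 30659, (fun u => chkFix tab mwordsA u) u = true := ext_range (a := 30616) (len := 43) h712 m2_712
  have h714 : ∀ u < 30702, (fun u => chkFix tab mwordsA u) u = true := ext_range (a := 30659) (len := 43) h713 m2_713
  have h715 : ∀ u < 30745, (fun u => chkFix tab mwordsA u) u = true := ext_range (a := 30702) (len := 43) h714 m2_714
  have h716 : ∀ u < 30788, (fun u => chkFix tab mwordsA u) u = true := ext_range (a := 30745) (len := 43) h715 m2_715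
  have h717 : ∀ u < 30831, (fun u => chkFix tab mwordsA u) u = true := ext_range (a := 30788) (len := 43) h716 m2_716
  have h718 : ∀ u < 30874, (fun u => chkFix tab mwordsA u) u = true := ext_range (a := 30831) (len := 43) h717 m2_717
  have h719 : ∀ u < 30917, (fun u => chkFix tab mwordsA u) u = true := ext_range (a := 30874) (len := 43) h718 m2_718
  have h720 : ∀ u < 30960, (fun u => chkFix tab mwordsA u) u = true := ext_range (a := 30917) (len := 43) h719 m2_719
  have h721 : ∀ u < 31003, (fun u => chkFix tab mwordsA u) u = true := ext_range (a := 30960) (len := 43) h720 m2_720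
  have h722 : ∀ u < 31046, (fun u => chkFix tab mwordsA u) u = true := ext_range (a := 31003) (len := 43) h721 m2_721
  have h723 : ∀ u < 31089, (fun u => chkFix tab mwordsA u) u = true := ext_range (a := 31046) (len := 43) h722 m2_722
  have h724 : ∀ u < 31132, (fun u => chkFix tab mwordsA u) u = true := ext_range (a := 31089) (len := 43) h723 m2_723
  have h725 : ∀ u < 31175, (fun u => chkFix tab mwordsA u) u = true := ext_range (a := 31132) (len := 43) h724 m2_724
  have h726 : ∀ u < 31218, (fun u => chkFix tab mwordsA u) u = true := ext_range (a := 31175) (len := 43) h725 m2_725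
  have h727 : ∀ u < 31261, (fun u => chkFix tab mwordsA u) u = true := ext_range (a := 31218) (len := 43) h726 m2_726
  have h728 : ∀ u < 31304, (fun u => chkFix tab mwordsA u) u = true := ext_range (a := 31261) (len := 43) h727 m2_727
  have h729 : ∀ u < 31347, (fun u => chkFix tab mwordsA u) u = true := ext_range (a := 31304) (len := 43) h728 m2_728
  have h730 : ∀ u < 31390, (fun u => chkFix tab mwordsA u) u = true := ext_range (a := 31347) (len := 43) h729 m2_729
  have h731 : ∀ u < 31433, (fun u => chkFix tab mwordsA u) u = true := ext_range (a := 31390) (len := 43) h730 m2_730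
  have h732 : ∀ u < 31476, (fun u => chkFix tab mwordsA u) u = true := ext_range (a := 31433) (len := 43) h731 m2_731
  have h733 : ∀ u < 31519, (fun u => chkFix tab mwordsA u) u = true := ext_range (a := 31476) (len := 43) h732 m2_732
  have h734 : ∀ u < 31562, (fun u => chkFix tab mwordsA u) u = true := ext_range (a := 31519) (len := 43) h733 m2_733
  have h735 : ∀ u < 31605, (fun u => chkFix tab mwordsA u) u = true := ext_range (a := 31562) (len := 43) h734 m2_734
  have h736 : ∀ u < 31648, (fun u => chkFix tab mwordsA u) u = true := ext_range (a := 31605) (len := 43) h735 m2_735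
  have h737 : ∀ u < 31691, (fun u => chkFix tab mwordsA u) u = true := ext_range (a := 31648) (len := 43) h736 m2_736
  have h738 : ∀ u < 31734, (fun u => chkFix tab mwordsA u) u = true := ext_range (a := 31691) (len := 43) h737 m2_737
  have h739 : ∀ u < 31777, (fun u => chkFix tab mwordsA u) u = true := ext_range (a := 31734) (len := 43) h738 m2_738
  have h740 : ∀ u < 31820, (fun u => chkFix tab mwordsA u) u = true := ext_range (a := 31777) (len := 43) h739 m2_739
  have h741 : ∀ u < 31863, (fun u => chkFix tab mwordsA u) u = true := ext_range (a := 31820) (len := 43) h740 m2_740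
  have h742 : ∀ u < 31906, (fun u => chkFix tab mwordsA u) u = true := ext_range (a := 31863) (len := 43) h741 m2_741
  have h743 : ∀ u < 31949, (fun u => chkFix tab mwordsA u) u = true := ext_range (a := 31906) (len := 43) h742 m2_742
  have h744 : ∀ u < 31992, (fun u => chkFix tab mwordsA u) u = true := ext_range (a := 31949) (len := 43) h743 m2_743
  have h745 : ∀ u < 32035, (fun u => chkFix tab mwordsA u) u = true := ext_range (a := 31992) (len := 43) h744 m2_744
  have h746 : ∀ u < 32078, (fun u => chkFix tab mwordsA u) u = true := ext_range (a := 32035) (len := 43) h745 m2_745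
  have h747 : ∀ u < 32121, (fun u => chkFix tab mwordsA u) u = true := ext_range (a := 32078) (len := 43) h746 m2_746
  have h748 : ∀ u < 32164, (fun u => chkFix tab mwordsA u) u = true := ext_range (a := 32121) (len := 43) h747 m2_747
  have h749 : ∀ u < 32207, (fun u => chkFix tab mwordsA u) u = true := ext_range (a := 32164) (len := 43) h748 m2_748
  have h750 : ∀ u < 32250, (fun u => chkFix tab mwordsA u) u = true := ext_range (a := 32207) (len := 43) h749 m2_749
  have h751 : ∀ u < 32293, (fun u => chkFix tab mwordsA u) u = true := ext_range (a := 32250) (len := 43) h750 m2_750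
  have h752 : ∀ u < 32336, (fun u => chkFix tab mwordsA u) u = true := ext_range (a := 32293) (len := 43) h751 m2_751
  have h753 : ∀ u < 32379, (fun u => chkFix tab mwordsA u) u = true := ext_range (a := 32336) (len := 43) h752 m2_752
  have h754 : ∀ u < 32422, (fun u => chkFix tab mwordsA u) u = true := ext_range (a := 32379) (len := 43) h753 m2_753
  have h755 : ∀ u < 32465, (fun u => chkFix tab mwordsA u) u = true := ext_range (a := 32422) (len := 43) h754 m2_754
  have h756 : ∀ u < 32508, (fun u => chkFix tab mwordsA u) u = true := ext_range (a := 32465) (len := 43) h755 m2_755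
  have h757 : ∀ u < 32551, (fun u => chkFix tab mwordsA u) u = true := ext_range (a := 32508) (len := 43) h756 m2_756
  have h758 : ∀ u < 32594, (fun u => chkFix tab mwordsA u) u = true := ext_range (a := 32551) (len := 43) h757 m2_757
  have h759 : ∀ u < 32637, (fun u => chkFix tab mwordsA u) u = true := ext_range (a := 32594) (len := 43) h758 m2_758
  have h760 : ∀ u < 32680, (fun u => chkFix tab mwordsA u) u = true := ext_range (a := 32637) (len := 43) h759 m2_759
  have h761 : ∀ u < 32723, (fun u => chkFix tab mwordsA u) u = true := ext_range (a := 32680) (len := 43) h760 m2_760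
  have h762 : ∀ u < 32766, (fun u => chkFix tab mwordsA u) u = true := ext_range (a := 32723) (len := 43) h761 m2_761
  have h763 : ∀ u < 32809, (fun u => chkFix tab mwordsA u) u = true := ext_range (a := 32766) (len := 43) h762 m2_762
  have h764 : ∀ u < 32852, (fun u => chkFix tab mwordsA u) u = true := ext_range (a := 32809) (len := 43) h763 m2_763
  have h765 : ∀ u < 32895, (fun u => chkFix tab mwordsA u) u = true := ext_range (a := 32852) (len := 43) h764 m2_764
  have h766 : ∀ u < 32938, (fun u => chkFix tab mwordsA u) u = true := ext_range (a := 32895) (len := 43) h765 m2_765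
  have h767 : ∀ u < 32981, (fun u => chkFix tab mwordsA u) u = true := ext_range (a := 32938) (len := 43) h766 m2_766
  have h768 : ∀ u < 33024, (fun u => chkFix tab mwordsA u) u = true := ext_range (a := 32981) (len := 43) h767 m2_767
  have h769 : ∀ u < 33067, (fun u => chkFix tab mwordsA u) u = true := ext_range (a := 33024) (len := 43) h768 m2_768
  have h770 : ∀ u < 33110, (fun u => chkFix tab mwordsA u) u = true := ext_range (a := 33067) (len := 43) h769 m2_769
  have h771 : ∀ u < 33153, (fun u => chkFix tab mwordsA u) u = true := ext_range (a := 33110) (len := 43) h770 m2_770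
  have h772 : ∀ u < 33196, (fun u => chkFix tab mwordsA u) u = true := ext_range (a := 33153) (len := 43) h771 m2_771
  have h773 : ∀ u < 33239, (fun u => chkFix tab mwordsA u) u = true := ext_range (a := 33196) (len := 43) h772 m2_772
  have h774 : ∀ u < 33282, (fun u => chkFix tab mwordsA u) u = true := ext_range (a := 33239) (len := 43) h773 m2_773
  have h775 : ∀ u < 33325, (fun u => chkFix tab mwordsA u) u = true := ext_range (a := 33282) (len := 43) h774 m2_774
  have h776 : ∀ u < 33368, (fun u => chkFix tab mwordsA u) u = true := ext_range (a := 33325) (len := 43) h775 m2_775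
  have h777 : ∀ u < 33411, (fun u => chkFix tab mwordsA u) u = true := ext_range (a := 33368) (len := 43) h776 m2_776
  have h778 : ∀ u < 33454, (fun u => chkFix tab mwordsA u) u = true := ext_range (a := 33411) (len := 43) h777 m2_777
  have h779 : ∀ u < 33497, (fun u => chkFix tab mwordsA u) u = true := ext_range (a := 33454) (len := 43) h778 m2_778
  have h780 : ∀ u < 33540, (fun u => chkFix tab mwordsA u) u = true := ext_range (a := 33497) (len := 43) h779 m2_779
  have h781 : ∀ u < 33583, (fun u => chkFix tab mwordsA u) u = true := ext_range (a := 33540) (len := 43) h780 m2_780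
  have h782 : ∀ u < 33626, (fun u => chkFix tab mwordsA u) u = true := ext_range (a := 33583) (len := 43) h781 m2_781
  have h783 : ∀ u < 33669, (fun u => chkFix tab mwordsA u) u = true := ext_range (a := 33626) (len := 43) h782 m2_782
  have h784 : ∀ u < 33712, (fun u => chkFix tab mwordsA u) u = true := ext_range (a := 33669) (len := 43) h783 m2_783
  have h785 : ∀ u < 33755, (fun u => chkFix tab mwordsA u) u = true := ext_range (a := 33712) (len := 43) h784 m2_784
  have h786 : ∀ u < 33798, (fun u => chkFix tab mwordsA u) u = true := ext_range (a := 33755) (len := 43) h785 m2_785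
  have h787 : ∀ u < 33841, (fun u => chkFix tab mwordsA u) u = true := ext_range (a := 33798) (len := 43) h786 m2_786
  have h788 : ∀ u < 33884, (fun u => chkFix tab mwordsA u) u = true := ext_range (a := 33841) (len := 43) h787 m2_787
  have h789 : ∀ u < 33927, (fun u => chkFix tab mwordsA u) u = true := ext_range (a := 33884) (len := 43) h788 m2_788
  have h790 : ∀ u < 33970, (fun u => chkFix tab mwordsA u) u = true := ext_range (a := 33927) (len := 43) h789 m2_789
  have h791 : ∀ u < 34013, (fun u => chkFix tab mwordsA u) u = true := ext_range (a := 33970) (len := 43) h790 m2_790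
  have h792 : ∀ u < 34056, (fun u => chkFix tab mwordsA u) u = true := ext_range (a := 34013) (len := 43) h791 m2_791
  have h793 : ∀ u < 34099, (fun u => chkFix tab mwordsA u) u = true := ext_range (a := 34056) (len := 43) h792 m2_792
  have h794 : ∀ u < 34142, (fun u => chkFix tab mwordsA u) u = true := ext_range (a := 34099) (len := 43) h793 m2_793
  have h795 : ∀ u < 34185, (fun u => chkFix tab mwordsA u) u = true := ext_range (a := 34142) (len := 43) h794 m2_794
  have h796 : ∀ u < 34228, (fun u => chkFix tab mwordsA u) u = true := ext_range (a := 34185) (len := 43) h795 m2_795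
  have h797 : ∀ u < 34271, (fun u => chkFix tab mwordsA u) u = true := ext_range (a := 34228) (len := 43) h796 m2_796
  have h798 : ∀ u < 34314, (fun u => chkFix tab mwordsA u) u = true := ext_range (a := 34271) (len := 43) h797 m2_797
  have h799 : ∀ u < 34357, (fun u => chkFix tab mwordsA u) u = true := ext_range (a := 34314) (len := 43) h798 m2_798
  have h800 : ∀ u < 34400, (fun u => chkFix tab mwordsA u) u = true := ext_range (a := 34357) (len := 43) h799 m2_799
  have h801 : ∀ u < 34443, (fun u => chkFix tab mwordsA u) u = true := ext_range (a := 34400) (len := 43) h800 m2_800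
  have h802 : ∀ u < 34486, (fun u => chkFix tab mwordsA u) u = true := ext_range (a := 34443) (len := 43) h801 m2_801
  have h803 : ∀ u < 34529, (fun u => chkFix tab mwordsA u) u = true := ext_range (a := 34486) (len := 43) h802 m2_802
  have h804 : ∀ u < 34572, (fun u => chkFix tab mwordsA u) u = true := ext_range (a := 34529) (len := 43) h803 m2_803
  have h805 : ∀ u < 34615, (fun u => chkFix tab mwordsA u) u = true := ext_range (a := 34572) (len := 43) h804 m2_804
  have h806 : ∀ u < 34658, (fun u => chkFix tab mwordsA u) u = true := ext_range (a := 34615) (len := 43) h805 m2_805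
  have h807 : ∀ u < 34701, (fun u => chkFix tab mwordsA u) u = true := ext_range (a := 34658) (len := 43) h806 m2_806
  have h808 : ∀ u < 34744, (fun u => chkFix tab mwordsA u) u = true := ext_range (a := 34701) (len := 43) h807 m2_807
  have h809 : ∀ u < 34787, (fun u => chkFix tab mwordsA u) u = true := ext_range (a := 34744) (len := 43) h808 m2_808
  have h810 : ∀ u < 34830, (fun u => chkFix tab mwordsA u) u = true := ext_range (a := 34787) (len := 43) h809 m2_809
  have h811 : ∀ u < 34873, (fun u => chkFix tab mwordsA u) u = true := ext_range (a := 34830) (len := 43) h810 m2_810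
  have h812 : ∀ u < 34916, (fun u => chkFix tab mwordsA u) u = true := ext_range (a := 34873) (len := 43) h811 m2_811
  have h813 : ∀ u < 34959, (fun u => chkFix tab mwordsA u) u = true := ext_range (a := 34916) (len := 43) h812 m2_812
  have h814 : ∀ u < 35002, (fun u => chkFix tab mwordsA u) u = true := ext_range (a := 34959) (len := 43) h813 m2_813
  have h815 : ∀ u < 35045, (fun u => chkFix tab mwordsA u) u = true := ext_range (a := 35002) (len := 43) h814 m2_814
  have h816 : ∀ u < 35088, (fun u => chkFix tab mwordsA u) u = true := ext_range (a := 35045) (len := 43) h815 m2_815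
  have h817 : ∀ u < 35131, (fun u => chkFix tab mwordsA u) u = true := ext_range (a := 35088) (len := 43) h816 m2_816
  have h818 : ∀ u < 35174, (fun u => chkFix tab mwordsA u) u = true := ext_range (a := 35131) (len := 43) h817 m2_817
  have h819 : ∀ u < 35217, (fun u => chkFix tab mwordsA u) u = true := ext_range (a := 35174) (len := 43) h818 m2_818
  have h820 : ∀ u < 35260, (fun u => chkFix tab mwordsA u) u = true := ext_range (a := 35217) (len := 43) h819 m2_819
  have h821 : ∀ u < 35303, (fun u => chkFix tab mwordsA u) u = true := ext_range (a := 35260) (len := 43) h820 m2_820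
  have h822 : ∀ u < 35346, (fun u => chkFix tab mwordsA u) u = true := ext_range (a := 35303) (len := 43) h821 m2_821
  have h823 : ∀ u < 35389, (fun u => chkFix tab mwordsA u) u = true := ext_range (a := 35346) (len := 43) h822 m2_822
  have h824 : ∀ u < 35432, (fun u => chkFix tab mwordsA u) u = true := ext_range (a := 35389) (len := 43) h823 m2_823
  have h825 : ∀ u < 35475, (fun u => chkFix tab mwordsA u) u = true := ext_range (a := 35432) (len := 43) h824 m2_824
  have h826 : ∀ u < 35518, (fun u => chkFix tab mwordsA u) u = true := ext_range (a := 35475) (len := 43) h825 m2_825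
  have h827 : ∀ u < 35561, (fun u => chkFix tab mwordsA u) u = true := ext_range (a := 35518) (len := 43) h826 m2_826
  have h828 : ∀ u < 35604, (fun u => chkFix tab mwordsA u) u = true := ext_range (a := 35561) (len := 43) h827 m2_827
  have h829 : ∀ u < 35647, (fun u => chkFix tab mwordsA u) u = true := ext_range (a := 35604) (len := 43) h828 m2_828
  have h830 : ∀ u < 35690, (fun u => chkFix tab mwordsA u) u = true := ext_range (a := 35647) (len := 43) h829 m2_829
  have h831 : ∀ u < 35733, (fun u => chkFix tab mwordsA u) u = true := ext_range (a := 35690) (len := 43) h830 m2_830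
  have h832 : ∀ u < 35776, (fun u => chkFix tab mwordsA u) u = true := ext_range (a := 35733) (len := 43) h831 m2_831
  have h833 : ∀ u < 35819, (fun u => chkFix tab mwordsA u) u = true := ext_range (a := 35776) (len := 43) h832 m2_832
  have h834 : ∀ u < 35862, (fun u => chkFix tab mwordsA u) u = true := ext_range (a := 35819) (len := 43) h833 m2_833
  have h835 : ∀ u < 35905, (fun u => chkFix tab mwordsA u) u = true := ext_range (a := 35862) (len := 43) h834 m2_834
  have h836 : ∀ u < 35948, (fun u => chkFix tab mwordsA u) u = true := ext_range (a := 35905) (len := 43) h835 m2_835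
  have h837 : ∀ u < 35991, (fun u => chkFix tab mwordsA u) u = true := ext_range (a := 35948) (len := 43) h836 m2_836
  have h838 : ∀ u < 36034, (fun u => chkFix tab mwordsA u) u = true := ext_range (a := 35991) (len := 43) h837 m2_837
  have h839 : ∀ u < 36077, (fun u => chkFix tab mwordsA u) u = true := ext_range (a := 36034) (len := 43) h838 m2_838
  have h840 : ∀ u < 36120, (fun u => chkFix tab mwordsA u) u = true := ext_range (a := 36077) (len := 43) h839 m2_839
  have h841 : ∀ u < 36163, (fun u => chkFix tab mwordsA u) u = true := ext_range (a := 36120) (len := 43) h840 m2_840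
  have h842 : ∀ u < 36206, (fun u => chkFix tab mwordsA u) u = true := ext_range (a := 36163) (len := 43) h841 m2_841
  have h843 : ∀ u < 36249, (fun u => chkFix tab mwordsA u) u = true := ext_range (a := 36206) (len := 43) h842 m2_842
  have h844 : ∀ u < 36292, (fun u => chkFix tab mwordsA u) u = true := ext_range (a := 36249) (len := 43) h843 m2_843
  have h845 : ∀ u < 36335, (fun u => chkFix tab mwordsA u) u = true := ext_range (a := 36292) (len := 43) h844 m2_844
  have h846 : ∀ u < 36378, (fun u => chkFix tab mwordsA u) u = true := ext_range (a := 36335) (len := 43) h845 m2_845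
  have h847 : ∀ u < 36421, (fun u => chkFix tab mwordsA u) u = true := ext_range (a := 36378) (len := 43) h846 m2_846
  have h848 : ∀ u < 36464, (fun u => chkFix tab mwordsA u) u = true := ext_range (a := 36421) (len := 43) h847 m2_847
  have h849 : ∀ u < 36507, (fun u => chkFix tab mwordsA u) u = true := ext_range (a := 36464) (len := 43) h848 m2_848
  have h850 : ∀ u < 36550, (fun u => chkFix tab mwordsA u) u = true := ext_range (a := 36507) (len := 43) h849 m2_849
  have h851 : ∀ u < 36593, (fun u => chkFix tab mwordsA u) u = true := ext_range (a := 36550) (len := 43) h850 m2_850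
  have h852 : ∀ u < 36636, (fun u => chkFix tab mwordsA u) u = true := ext_range (a := 36593) (len := 43) h851 m2_851
  have h853 : ∀ u < 36679, (fun u => chkFix tab mwordsA u) u = true := ext_range (a := 36636) (len := 43) h852 m2_852
  have h854 : ∀ u < 36722, (fun u => chkFix tab mwordsA u) u = true := ext_range (a := 36679) (len := 43) h853 m2_853
  have h855 : ∀ u < 36765, (fun u => chkFix tab mwordsA u) u = true := ext_range (a := 36722) (len := 43) h854 m2_854
  have h856 : ∀ u < 36808, (fun u => chkFix tab mwordsA u) u = true := ext_range (a := 36765) (len := 43) h855 m2_855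
  have h857 : ∀ u < 36851, (fun u => chkFix tab mwordsA u) u = true := ext_range (a := 36808) (len := 43) h856 m2_856
  have h858 : ∀ u < 36894, (fun u => chkFix tab mwordsA u) u = true := ext_range (a := 36851) (len := 43) h857 m2_857
  have h859 : ∀ u < 36937, (fun u => chkFix tab mwordsA u) u = true := ext_range (a := 36894) (len := 43) h858 m2_858
  have h860 : ∀ u < 36980, (fun u => chkFix tab mwordsA u) u = true := ext_range (a := 36937) (len := 43) h859 m2_859
  have h861 : ∀ u < 37023, (fun u => chkFix tab mwordsA u) u = true := ext_range (a := 36980) (len := 43) h860 m2_860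
  have h862 : ∀ u < 37066, (fun u => chkFix tab mwordsA u) u = true := ext_range (a := 37023) (len := 43) h861 m2_861
  have h863 : ∀ u < 37109, (fun u => chkFix tab mwordsA u) u = true := ext_range (a := 37066) (len := 43) h862 m2_862
  have h864 : ∀ u < 37152, (fun u => chkFix tab mwordsA u) u = true := ext_range (a := 37109) (len := 43) h863 m2_863
  have h865 : ∀ u < 37195, (fun u => chkFix tab mwordsA u) u = true := ext_range (a := 37152) (len := 43) h864 m2_864
  have h866 : ∀ u < 37238, (fun u => chkFix tab mwordsA u) u = true := ext_range (a := 37195) (len := 43) h865 m2_865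
  have h867 : ∀ u < 37281, (fun u => chkFix tab mwordsA u) u = true := ext_range (a := 37238) (len := 43) h866 m2_866
  have h868 : ∀ u < 37324, (fun u => chkFix tab mwordsA u) u = true := ext_range (a := 37281) (len := 43) h867 m2_867
  have h869 : ∀ u < 37367, (fun u => chkFix tab mwordsA u) u = true := ext_range (a := 37324) (len := 43) h868 m2_868
  have h870 : ∀ u < 37410, (fun u => chkFix tab mwordsA u) u = true := ext_range (a := 37367) (len := 43) h869 m2_869
  have h871 : ∀ u < 37453, (fun u => chkFix tab mwordsA u) u = true := ext_range (a := 37410) (len := 43) h870 m2_870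
  have h872 : ∀ u < 37496, (fun u => chkFix tab mwordsA u) u = true := ext_range (a := 37453) (len := 43) h871 m2_871
  have h873 : ∀ u < 37539, (fun u => chkFix tab mwordsA u) u = true := ext_range (a := 37496) (len := 43) h872 m2_872
  have h874 : ∀ u < 37582, (fun u => chkFix tab mwordsA u) u = true := ext_range (a := 37539) (len := 43) h873 m2_873
  have h875 : ∀ u < 37625, (fun u => chkFix tab mwordsA u) u = true := ext_range (a := 37582) (len := 43) h874 m2_874
  have h876 : ∀ u < 37668, (fun u => chkFix tab mwordsA u) u = true := ext_range (a := 37625) (len := 43) h875 m2_875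
  have h877 : ∀ u < 37711, (fun u => chkFix tab mwordsA u) u = true := ext_range (a := 37668) (len := 43) h876 m2_876
  have h878 : ∀ u < 37754, (fun u => chkFix tab mwordsA u) u = true := ext_range (a := 37711) (len := 43) h877 m2_877
  have h879 : ∀ u < 37797, (fun u => chkFix tab mwordsA u) u = true := ext_range (a := 37754) (len := 43) h878 m2_878
  have h880 : ∀ u < 37840, (fun u => chkFix tab mwordsA u) u = true := ext_range (a := 37797) (len := 43) h879 m2_879
  have h881 : ∀ u < 37883, (fun u => chkFix tab mwordsA u) u = true := ext_range (a := 37840) (len := 43) h880 m2_880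
  have h882 : ∀ u < 37926, (fun u => chkFix tab mwordsA u) u = true := ext_range (a := 37883) (len := 43) h881 m2_881
  have h883 : ∀ u < 37969, (fun u => chkFix tab mwordsA u) u = true := ext_range (a := 37926) (len := 43) h882 m2_882
  have h884 : ∀ u < 38012, (fun u => chkFix tab mwordsA u) u = true := ext_range (a := 37969) (len := 43) h883 m2_883
  have h885 : ∀ u < 38055, (fun u => chkFix tab mwordsA u) u = true := ext_range (a := 38012) (len := 43) h884 m2_884
  have h886 : ∀ u < 38098, (fun u => chkFix tab mwordsA u) u = true := ext_range (a := 38055) (len := 43) h885 m2_885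
  have h887 : ∀ u < 38141, (fun u => chkFix tab mwordsA u) u = true := ext_range (a := 38098) (len := 43) h886 m2_886
  have h888 : ∀ u < 38184, (fun u => chkFix tab mwordsA u) u = true := ext_range (a := 38141) (len := 43) h887 m2_887
  have h889 : ∀ u < 38227, (fun u => chkFix tab mwordsA u) u = true := ext_range (a := 38184) (len := 43) h888 m2_888
  have h890 : ∀ u < 38270, (fun u => chkFix tab mwordsA u) u = true := ext_range (a := 38227) (len := 43) h889 m2_889
  have h891 : ∀ u < 38313, (fun u => chkFix tab mwordsA u) u = true := ext_range (a := 38270) (len := 43) h890 m2_890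
  have h892 : ∀ u < 38356, (fun u => chkFix tab mwordsA u) u = true := ext_range (a := 38313) (len := 43) h891 m2_891
  have h893 : ∀ u < 38399, (fun u => chkFix tab mwordsA u) u = true := ext_range (a := 38356) (len := 43) h892 m2_892
  have h894 : ∀ u < 38442, (fun u => chkFix tab mwordsA u) u = true := ext_range (a := 38399) (len := 43) h893 m2_893
  have h895 : ∀ u < 38485, (fun u => chkFix tab mwordsA u) u = true := ext_range (a := 38442) (len := 43) h894 m2_894
  have h896 : ∀ u < 38528, (fun u => chkFix tab mwordsA u) u = true := ext_range (a := 38485) (len := 43) h895 m2_895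
  have h897 : ∀ u < 38571, (fun u => chkFix tab mwordsA u) u = true := ext_range (a := 38528) (len := 43) h896 m2_896
  have h898 : ∀ u < 38614, (fun u => chkFix tab mwordsA u) u = true := ext_range (a := 38571) (len := 43) h897 m2_897
  have h899 : ∀ u < 38657, (fun u => chkFix tab mwordsA u) u = true := ext_range (a := 38614) (len := 43) h898 m2_898
  have h900 : ∀ u < 38700, (fun u => chkFix tab mwordsA u) u = true := ext_range (a := 38657) (len := 43) h899 m2_899
  have h901 : ∀ u < 38743, (fun u => chkFix tab mwordsA u) u = true := ext_range (a := 38700) (len := 43) h900 m2_900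
  have h902 : ∀ u < 38786, (fun u => chkFix tab mwordsA u) u = true := ext_range (a := 38743) (len := 43) h901 m2_901
  have h903 : ∀ u < 38829, (fun u => chkFix tab mwordsA u) u = true := ext_range (a := 38786) (len := 43) h902 m2_902
  have h904 : ∀ u < 38872, (fun u => chkFix tab mwordsA u) u = true := ext_range (a := 38829) (len := 43) h903 m2_903
  have h905 : ∀ u < 38915, (fun u => chkFix tab mwordsA u) u = true := ext_range (a := 38872) (len := 43) h904 m2_904
  have h906 : ∀ u < 38958, (fun u => chkFix tab mwordsA u) u = true := ext_range (a := 38915) (len := 43) h905 m2_905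
  have h907 : ∀ u < 39001, (fun u => chkFix tab mwordsA u) u = true := ext_range (a := 38958) (len := 43) h906 m2_906
  have h908 : ∀ u < 39044, (fun u => chkFix tab mwordsA u) u = true := ext_range (a := 39001) (len := 43) h907 m2_907
  have h909 : ∀ u < 39087, (fun u => chkFix tab mwordsA u) u = true := ext_range (a := 39044) (len := 43) h908 m2_908
  have h910 : ∀ u < 39130, (fun u => chkFix tab mwordsA u) u = true := ext_range (a := 39087) (len := 43) h909 m2_909
  have h911 : ∀ u < 39173, (fun u => chkFix tab mwordsA u) u = true := ext_range (a := 39130) (len := 43) h910 m2_910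
  have h912 : ∀ u < 39216, (fun u => chkFix tab mwordsA u) u = true := ext_range (a := 39173) (len := 43) h911 m2_911
  have h913 : ∀ u < 39259, (fun u => chkFix tab mwordsA u) u = true := ext_range (a := 39216) (len := 43) h912 m2_912
  have h914 : ∀ u < 39302, (fun u => chkFix tab mwordsA u) u = true := ext_range (a := 39259) (len := 43) h913 m2_913
  have h915 : ∀ u < 39345, (fun u => chkFix tab mwordsA u) u = true := ext_range (a := 39302) (len := 43) h914 m2_914
  have h916 : ∀ u < 39388, (fun u => chkFix tab mwordsA u) u = true := ext_range (a := 39345) (len := 43) h915 m2_915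
  have h917 : ∀ u < 39431, (fun u => chkFix tab mwordsA u) u = true := ext_range (a := 39388) (len := 43) h916 m2_916
  have h918 : ∀ u < 39474, (fun u => chkFix tab mwordsA u) u = true := ext_range (a := 39431) (len := 43) h917 m2_917
  have h919 : ∀ u < 39517, (fun u => chkFix tab mwordsA u) u = true := ext_range (a := 39474) (len := 43) h918 m2_918
  have h920 : ∀ u < 39560, (fun u => chkFix tab mwordsA u) u = true := ext_range (a := 39517) (len := 43) h919 m2_919
  have h921 : ∀ u < 39603, (fun u => chkFix tab mwordsA u) u = true := ext_range (a := 39560) (len := 43) h920 m2_920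
  have h922 : ∀ u < 39646, (fun u => chkFix tab mwordsA u) u = true := ext_range (a := 39603) (len := 43) h921 m2_921
  have h923 : ∀ u < 39689, (fun u => chkFix tab mwordsA u) u = true := ext_range (a := 39646) (len := 43) h922 m2_922
  have h924 : ∀ u < 39732, (fun u => chkFix tab mwordsA u) u = true := ext_range (a := 39689) (len := 43) h923 m2_923
  have h925 : ∀ u < 39775, (fun u => chkFix tab mwordsA u) u = true := ext_range (a := 39732) (len := 43) h924 m2_924
  have h926 : ∀ u < 39818, (fun u => chkFix tab mwordsA u) u = true := ext_range (a := 39775) (len := 43) h925 m2_925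
  have h927 : ∀ u < 39861, (fun u => chkFix tab mwordsA u) u = true := ext_range (a := 39818) (len := 43) h926 m2_926
  have h928 : ∀ u < 39904, (fun u => chkFix tab mwordsA u) u = true := ext_range (a := 39861) (len := 43) h927 m2_927
  have h929 : ∀ u < 39947, (fun u => chkFix tab mwordsA u) u = true := ext_range (a := 39904) (len := 43) h928 m2_928
  have h930 : ∀ u < 39990, (fun u => chkFix tab mwordsA u) u = true := ext_range (a := 39947) (len := 43) h929 m2_929
  have h931 : ∀ u < 40033, (fun u => chkFix tab mwordsA u) u = true := ext_range (a := 39990) (len := 43) h930 m2_930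
  have h932 : ∀ u < 40076, (fun u => chkFix tab mwordsA u) u = true := ext_range (a := 40033) (len := 43) h931 m2_931
  have h933 : ∀ u < 40119, (fun u => chkFix tab mwordsA u) u = true := ext_range (a := 40076) (len := 43) h932 m2_932
  have h934 : ∀ u < 40162, (fun u => chkFix tab mwordsA u) u = true := ext_range (a := 40119) (len := 43) h933 m2_933
  have h935 : ∀ u < 40205, (fun u => chkFix tab mwordsA u) u = true := ext_range (a := 40162) (len := 43) h934 m2_934
  have h936 : ∀ u < 40248, (fun u => chkFix tab mwordsA u) u = true := ext_range (a := 40205) (len := 43) h935 m2_935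
  have h937 : ∀ u < 40291, (fun u => chkFix tab mwordsA u) u = true := ext_range (a := 40248) (len := 43) h936 m2_936
  have h938 : ∀ u < 40334, (fun u => chkFix tab mwordsA u) u = true := ext_range (a := 40291) (len := 43) h937 m2_937
  have h939 : ∀ u < 40377, (fun u => chkFix tab mwordsA u) u = true := ext_range (a := 40334) (len := 43) h938 m2_938
  have h940 : ∀ u < 40420, (fun u => chkFix tab mwordsA u) u = true := ext_range (a := 40377) (len := 43) h939 m2_939
  have h941 : ∀ u < 40463, (fun u => chkFix tab mwordsA u) u = true := ext_range (a := 40420) (len := 43) h940 m2_940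
  have h942 : ∀ u < 40506, (fun u => chkFix tab mwordsA u) u = true := ext_range (a := 40463) (len := 43) h941 m2_941
  have h943 : ∀ u < 40549, (fun u => chkFix tab mwordsA u) u = true := ext_range (a := 40506) (len := 43) h942 m2_942
  have h944 : ∀ u < 40592, (fun u => chkFix tab mwordsA u) u = true := ext_range (a := 40549) (len := 43) h943 m2_943
  have h945 : ∀ u < 40635, (fun u => chkFix tab mwordsA u) u = true := ext_range (a := 40592) (len := 43) h944 m2_944
  have h946 : ∀ u < 40678, (fun u => chkFix tab mwordsA u) u = true := ext_range (a := 40635) (len := 43) h945 m2_945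
  have h947 : ∀ u < 40721, (fun u => chkFix tab mwordsA u) u = true := ext_range (a := 40678) (len := 43) h946 m2_946
  have h948 : ∀ u < 40764, (fun u => chkFix tab mwordsA u) u = true := ext_range (a := 40721) (len := 43) h947 m2_947
  have h949 : ∀ u < 40807, (fun u => chkFix tab mwordsA u) u = true := ext_range (a := 40764) (len := 43) h948 m2_948
  have h950 : ∀ u < 40850, (fun u => chkFix tab mwordsA u) u = true := ext_range (a := 40807) (len := 43) h949 m2_949
  have h951 : ∀ u < 40893, (fun u => chkFix tab mwordsA u) u = true := ext_range (a := 40850) (len := 43) h950 m2_950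
  have h952 : ∀ u < 40936, (fun u => chkFix tab mwordsA u) u = true := ext_range (a := 40893) (len := 43) h951 m2_951
  have h953 : ∀ u < 40979, (fun u => chkFix tab mwordsA u) u = true := ext_range (a := 40936) (len := 43) h952 m2_952
  have h954 : ∀ u < 41022, (fun u => chkFix tab mwordsA u) u = true := ext_range (a := 40979) (len := 43) h953 m2_953
  have h955 : ∀ u < 41065, (fun u => chkFix tab mwordsA u) u = true := ext_range (a := 41022) (len := 43) h954 m2_954
  have h956 : ∀ u < 41108, (fun u => chkFix tab mwordsA u) u = true := ext_range (a := 41065) (len := 43) h955 m2_955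
  have h957 : ∀ u < 41151, (fun u => chkFix tab mwordsA u) u = true := ext_range (a := 41108) (len := 43) h956 m2_956
  have h958 : ∀ u < 41194, (fun u => chkFix tab mwordsA u) u = true := ext_range (a := 41151) (len := 43) h957 m2_957
  have h959 : ∀ u < 41237, (fun u => chkFix tab mwordsA u) u = true := ext_range (a := 41194) (len := 43) h958 m2_958
  have h960 : ∀ u < 41280, (fun u => chkFix tab mwordsA u) u = true := ext_range (a := 41237) (len := 43) h959 m2_959
  have h961 : ∀ u < 41323, (fun u => chkFix tab mwordsA u) u = true := ext_range (a := 41280) (len := 43) h960 m2_960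
  have h962 : ∀ u < 41366, (fun u => chkFix tab mwordsA u) u = true := ext_range (a := 41323) (len := 43) h961 m2_961
  have h963 : ∀ u < 41409, (fun u => chkFix tab mwordsA u) u = true := ext_range (a := 41366) (len := 43) h962 m2_962
  have h964 : ∀ u < 41452, (fun u => chkFix tab mwordsA u) u = true := ext_range (a := 41409) (len := 43) h963 m2_963
  have h965 : ∀ u < 41495, (fun u => chkFix tab mwordsA u) u = true := ext_range (a := 41452) (len := 43) h964 m2_964
  have h966 : ∀ u < 41538, (fun u => chkFix tab mwordsA u) u = true := ext_range (a := 41495) (len := 43) h965 m2_965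
  have h967 : ∀ u < 41581, (fun u => chkFix tab mwordsA u) u = true := ext_range (a := 41538) (len := 43) h966 m2_966
  have h968 : ∀ u < 41624, (fun u => chkFix tab mwordsA u) u = true := ext_range (a := 41581) (len := 43) h967 m2_967
  have h969 : ∀ u < 41667, (fun u => chkFix tab mwordsA u) u = true := ext_range (a := 41624) (len := 43) h968 m2_968
  have h970 : ∀ u < 41710, (fun u => chkFix tab mwordsA u) u = true := ext_range (a := 41667) (len := 43) h969 m2_969
  have h971 : ∀ u < 41753, (fun u => chkFix tab mwordsA u) u = true := ext_range (a := 41710) (len := 43) h970 m2_970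
  have h972 : ∀ u < 41796, (fun u => chkFix tab mwordsA u) u = true := ext_range (a := 41753) (len := 43) h971 m2_971
  have h973 : ∀ u < 41839, (fun u => chkFix tab mwordsA u) u = true := ext_range (a := 41796) (len := 43) h972 m2_972
  have h974 : ∀ u < 41882, (fun u => chkFix tab mwordsA u) u = true := ext_range (a := 41839) (len := 43) h973 m2_973
  have h975 : ∀ u < 41925, (fun u => chkFix tab mwordsA u) u = true := ext_range (a := 41882) (len := 43) h974 m2_974
  have h976 : ∀ u < 41968, (fun u => chkFix tab mwordsA u) u = true := ext_range (a := 41925) (len := 43) h975 m2_975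
  have h977 : ∀ u < 42011, (fun u => chkFix tab mwordsA u) u = true := ext_range (a := 41968) (len := 43) h976 m2_976
  have h978 : ∀ u < 42054, (fun u => chkFix tab mwordsA u) u = true := ext_range (a := 42011) (len := 43) h977 m2_977
  have h979 : ∀ u < 42097, (fun u => chkFix tab mwordsA u) u = true := ext_range (a := 42054) (len := 43) h978 m2_978
  have h980 : ∀ u < 42140, (fun u => chkFix tab mwordsA u) u = true := ext_range (a := 42097) (len := 43) h979 m2_979
  have h981 : ∀ u < 42183, (fun u => chkFix tab mwordsA u) u = true := ext_range (a := 42140) (len := 43) h980 m2_980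
  have h982 : ∀ u < 42226, (fun u => chkFix tab mwordsA u) u = true := ext_range (a := 42183) (len := 43) h981 m2_981
  have h983 : ∀ u < 42269, (fun u => chkFix tab mwordsA u) u = true := ext_range (a := 42226) (len := 43) h982 m2_982
  have h984 : ∀ u < 42312, (fun u => chkFix tab mwordsA u) u = true := ext_range (a := 42269) (len := 43) h983 m2_983
  have h985 : ∀ u < 42355, (fun u => chkFix tab mwordsA u) u = true := ext_range (a := 42312) (len := 43) h984 m2_984
  have h986 : ∀ u < 42398, (fun u => chkFix tab mwordsA u) u = true := ext_range (a := 42355) (len := 43) h985 m2_985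
  have h987 : ∀ u < 42441, (fun u => chkFix tab mwordsA u) u = true := ext_range (a := 42398) (len := 43) h986 m2_986
  have h988 : ∀ u < 42484, (fun u => chkFix tab mwordsA u) u = true := ext_range (a := 42441) (len := 43) h987 m2_987
  have h989 : ∀ u < 42527, (fun u => chkFix tab mwordsA u) u = true := ext_range (a := 42484) (len := 43) h988 m2_988
  have h990 : ∀ u < 42570, (fun u => chkFix tab mwordsA u) u = true := ext_range (a := 42527) (len := 43) h989 m2_989
  have h991 : ∀ u < 42613, (fun u => chkFix tab mwordsA u) u = true := ext_range (a := 42570) (len := 43) h990 m2_990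
  have h992 : ∀ u < 42656, (fun u => chkFix tab mwordsA u) u = true := ext_range (a := 42613) (len := 43) h991 m2_991
  have h993 : ∀ u < 42699, (fun u => chkFix tab mwordsA u) u = true := ext_range (a := 42656) (len := 43) h992 m2_992
  have h994 : ∀ u < 42742, (fun u => chkFix tab mwordsA u) u = true := ext_range (a := 42699) (len := 43) h993 m2_993
  have h995 : ∀ u < 42785, (fun u => chkFix tab mwordsA u) u = true := ext_range (a := 42742) (len := 43) h994 m2_994
  have h996 : ∀ u < 42828, (fun u => chkFix tab mwordsA u) u = true := ext_range (a := 42785) (len := 43) h995 m2_995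
  have h997 : ∀ u < 42871, (fun u => chkFix tab mwordsA u) u = true := ext_range (a := 42828) (len := 43) h996 m2_996
  have h998 : ∀ u < 42914, (fun u => chkFix tab mwordsA u) u = true := ext_range (a := 42871) (len := 43) h997 m2_997
  have h999 : ∀ u < 42957, (fun u => chkFix tab mwordsA u) u = true := ext_range (a := 42914) (len := 43) h998 m2_998
  have h1000 : ∀ u < 43000, (fun u => chkFix tab mwordsA u) u = true := ext_range (a := 42957) (len := 43) h999 m2_999
  have h1001 : ∀ u < 43043, (fun u => chkFix tab mwordsA u) u = true := ext_range (a := 43000) (len := 43) h1000 m2_1000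
  have h1002 : ∀ u < 43086, (fun u => chkFix tab mwordsA u) u = true := ext_range (a := 43043) (len := 43) h1001 m2_1001
  have h1003 : ∀ u < 43129, (fun u => chkFix tab mwordsA u) u = true := ext_range (a := 43086) (len := 43) h1002 m2_1002
  have h1004 : ∀ u < 43172, (fun u => chkFix tab mwordsA u) u = true := ext_range (a := 43129) (len := 43) h1003 m2_1003
  have h1005 : ∀ u < 43215, (fun u => chkFix tab mwordsA u) u = true := ext_range (a := 43172) (len := 43) h1004 m2_1004
  have h1006 : ∀ u < 43258, (fun u => chkFix tab mwordsA u) u = true := ext_range (a := 43215) (len := 43) h1005 m2_1005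
  have h1007 : ∀ u < 43301, (fun u => chkFix tab mwordsA u) u = true := ext_range (a := 43258) (len := 43) h1006 m2_1006
  have h1008 : ∀ u < 43344, (fun u => chkFix tab mwordsA u) u = true := ext_range (a := 43301) (len := 43) h1007 m2_1007
  have h1009 : ∀ u < 43387, (fun u => chkFix tab mwordsA u) u = true := ext_range (a := 43344) (len := 43) h1008 m2_1008
  have h1010 : ∀ u < 43430, (fun u => chkFix tab mwordsA u) u = true := ext_range (a := 43387) (len := 43) h1009 m2_1009
  have h1011 : ∀ u < 43473, (fun u => chkFix tab mwordsA u) u = true := ext_range (a := 43430) (len := 43) h1010 m2_1010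
  have h1012 : ∀ u < 43516, (fun u => chkFix tab mwordsA u) u = true := ext_range (a := 43473) (len := 43) h1011 m2_1011
  have h1013 : ∀ u < 43559, (fun u => chkFix tab mwordsA u) u = true := ext_range (a := 43516) (len := 43) h1012 m2_1012
  have h1014 : ∀ u < 43602, (fun u => chkFix tab mwordsA u) u = true := ext_range (a := 43559) (len := 43) h1013 m2_1013
  have h1015 : ∀ u < 43645, (fun u => chkFix tab mwordsA u) u = true := ext_range (a := 43602) (len := 43) h1014 m2_1014
  have h1016 : ∀ u < 43688, (fun u => chkFix tab mwordsA u) u = true := ext_range (a := 43645) (len := 43) h1015 m2_1015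
  have h1017 : ∀ u < 43731, (fun u => chkFix tab mwordsA u) u = true := ext_range (a := 43688) (len := 43) h1016 m2_1016
  have h1018 : ∀ u < 43774, (fun u => chkFix tab mwordsA u) u = true := ext_range (a := 43731) (len := 43) h1017 m2_1017
  have h1019 : ∀ u < 43817, (fun u => chkFix tab mwordsA u) u = true := ext_range (a := 43774) (len := 43) h1018 m2_1018
  have h1020 : ∀ u < 43860, (fun u => chkFix tab mwordsA u) u = true := ext_range (a := 43817) (len := 43) h1019 m2_1019
  have h1021 : ∀ u < 43903, (fun u => chkFix tab mwordsA u) u = true := ext_range (a := 43860) (len := 43) h1020 m2_1020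
  have h1022 : ∀ u < 43946, (fun u => chkFix tab mwordsA u) u = true := ext_range (a := 43903) (len := 43) h1021 m2_1021
  have h1023 : ∀ u < 43989, (fun u => chkFix tab mwordsA u) u = true := ext_range (a := 43946) (len := 43) h1022 m2_1022
  have h1024 : ∀ u < 44032, (fun u => chkFix tab mwordsA u) u = true := ext_range (a := 43989) (len := 43) h1023 m2_1023
  have h1025 : ∀ u < 44075, (fun u => chkFix tab mwordsA u) u = true := ext_range (a := 44032) (len := 43) h1024 m2_1024
  have h1026 : ∀ u < 44118, (fun u => chkFix tab mwordsA u) u = true := ext_range (a := 44075) (len := 43) h1025 m2_1025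
  have h1027 : ∀ u < 44161, (fun u => chkFix tab mwordsA u) u = true := ext_range (a := 44118) (len := 43) h1026 m2_1026
  have h1028 : ∀ u < 44204, (fun u => chkFix tab mwordsA u) u = true := ext_range (a := 44161) (len := 43) h1027 m2_1027
  have h1029 : ∀ u < 44247, (fun u => chkFix tab mwordsA u) u = true := ext_range (a := 44204) (len := 43) h1028 m2_1028
  have h1030 : ∀ u < 44290, (fun u => chkFix tab mwordsA u) u = true := ext_range (a := 44247) (len := 43) h1029 m2_1029
  have h1031 : ∀ u < 44333, (fun u => chkFix tab mwordsA u) u = true := ext_range (a := 44290) (len := 43) h1030 m2_1030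
  have h1032 : ∀ u < 44376, (fun u => chkFix tab mwordsA u) u = true := ext_range (a := 44333) (len := 43) h1031 m2_1031
  have h1033 : ∀ u < 44419, (fun u => chkFix tab mwordsA u) u = true := ext_range (a := 44376) (len := 43) h1032 m2_1032
  have h1034 : ∀ u < 44462, (fun u => chkFix tab mwordsA u) u = true := ext_range (a := 44419) (len := 43) h1033 m2_1033
  have h1035 : ∀ u < 44505, (fun u => chkFix tab mwordsA u) u = true := ext_range (a := 44462) (len := 43) h1034 m2_1034
  have h1036 : ∀ u < 44548, (fun u => chkFix tab mwordsA u) u = true := ext_range (a := 44505) (len := 43) h1035 m2_1035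
  have h1037 : ∀ u < 44591, (fun u => chkFix tab mwordsA u) u = true := ext_range (a := 44548) (len := 43) h1036 m2_1036
  have h1038 : ∀ u < 44634, (fun u => chkFix tab mwordsA u) u = true := ext_range (a := 44591) (len := 43) h1037 m2_1037
  have h1039 : ∀ u < 44677, (fun u => chkFix tab mwordsA u) u = true := ext_range (a := 44634) (len := 43) h1038 m2_1038
  have h1040 : ∀ u < 44720, (fun u => chkFix tab mwordsA u) u = true := ext_range (a := 44677) (len := 43) h1039 m2_1039
  have h1041 : ∀ u < 44763, (fun u => chkFix tab mwordsA u) u = true := ext_range (a := 44720) (len := 43) h1040 m2_1040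
  have h1042 : ∀ u < 44806, (fun u => chkFix tab mwordsA u) u = true := ext_range (a := 44763) (len := 43) h1041 m2_1041
  have h1043 : ∀ u < 44849, (fun u => chkFix tab mwordsA u) u = true := ext_range (a := 44806) (len := 43) h1042 m2_1042
  have h1044 : ∀ u < 44892, (fun u => chkFix tab mwordsA u) u = true := ext_range (a := 44849) (len := 43) h1043 m2_1043
  have h1045 : ∀ u < 44935, (fun u => chkFix tab mwordsA u) u = true := ext_range (a := 44892) (len := 43) h1044 m2_1044
  have h1046 : ∀ u < 44978, (fun u => chkFix tab mwordsA u) u = true := ext_range (a := 44935) (len := 43) h1045 m2_1045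
  have h1047 : ∀ u < 45021, (fun u => chkFix tab mwordsA u) u = true := ext_range (a := 44978) (len := 43) h1046 m2_1046
  have h1048 : ∀ u < 45064, (fun u => chkFix tab mwordsA u) u = true := ext_range (a := 45021) (len := 43) h1047 m2_1047
  have h1049 : ∀ u < 45107, (fun u => chkFix tab mwordsA u) u = true := ext_range (a := 45064) (len := 43) h1048 m2_1048
  have h1050 : ∀ u < 45150, (fun u => chkFix tab mwordsA u) u = true := ext_range (a := 45107) (len := 43) h1049 m2_1049
  have h1051 : ∀ u < 45193, (fun u => chkFix tab mwordsA u) u = true := ext_range (a := 45150) (len := 43) h1050 m2_1050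
  have h1052 : ∀ u < 45236, (fun u => chkFix tab mwordsA u) u = true := ext_range (a := 45193) (len := 43) h1051 m2_1051
  have h1053 : ∀ u < 45279, (fun u => chkFix tab mwordsA u) u = true := ext_range (a := 45236) (len := 43) h1052 m2_1052
  have h1054 : ∀ u < 45322, (fun u => chkFix tab mwordsA u) u = true := ext_range (a := 45279) (len := 43) h1053 m2_1053
  have h1055 : ∀ u < 45365, (fun u => chkFix tab mwordsA u) u = true := ext_range (a := 45322) (len := 43) h1054 m2_1054
  have h1056 : ∀ u < 45408, (fun u => chkFix tab mwordsA u) u = true := ext_range (a := 45365) (len := 43) h1055 m2_1055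
  have h1057 : ∀ u < 45451, (fun u => chkFix tab mwordsA u) u = true := ext_range (a := 45408) (len := 43) h1056 m2_1056
  have h1058 : ∀ u < 45494, (fun u => chkFix tab mwordsA u) u = true := ext_range (a := 45451) (len := 43) h1057 m2_1057
  have h1059 : ∀ u < 45537, (fun u => chkFix tab mwordsA u) u = true := ext_range (a := 45494) (len := 43) h1058 m2_1058
  have h1060 : ∀ u < 45580, (fun u => chkFix tab mwordsA u) u = true := ext_range (a := 45537) (len := 43) h1059 m2_1059
  have h1061 : ∀ u < 45623, (fun u => chkFix tab mwordsA u) u = true := ext_range (a := 45580) (len := 43) h1060 m2_1060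
  have h1062 : ∀ u < 45666, (fun u => chkFix tab mwordsA u) u = true := ext_range (a := 45623) (len := 43) h1061 m2_1061
  have h1063 : ∀ u < 45709, (fun u => chkFix tab mwordsA u) u = true := ext_range (a := 45666) (len := 43) h1062 m2_1062
  have h1064 : ∀ u < 45752, (fun u => chkFix tab mwordsA u) u = true := ext_range (a := 45709) (len := 43) h1063 m2_1063
  have h1065 : ∀ u < 45795, (fun u => chkFix tab mwordsA u) u = true := ext_range (a := 45752) (len := 43) h1064 m2_1064
  have h1066 : ∀ u < 45838, (fun u => chkFix tab mwordsA u) u = true := ext_range (a := 45795) (len := 43) h1065 m2_1065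
  have h1067 : ∀ u < 45881, (fun u => chkFix tab mwordsA u) u = true := ext_range (a := 45838) (len := 43) h1066 m2_1066
  have h1068 : ∀ u < 45924, (fun u => chkFix tab mwordsA u) u = true := ext_range (a := 45881) (len := 43) h1067 m2_1067
  have h1069 : ∀ u < 45967, (fun u => chkFix tab mwordsA u) u = true := ext_range (a := 45924) (len := 43) h1068 m2_1068
  have h1070 : ∀ u < 46010, (fun u => chkFix tab mwordsA u) u = true := ext_range (a := 45967) (len := 43) h1069 m2_1069
  have h1071 : ∀ u < 46053, (fun u => chkFix tab mwordsA u) u = true := ext_range (a := 46010) (len := 43) h1070 m2_1070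
  have h1072 : ∀ u < 46096, (fun u => chkFix tab mwordsA u) u = true := ext_range (a := 46053) (len := 43) h1071 m2_1071
  have h1073 : ∀ u < 46139, (fun u => chkFix tab mwordsA u) u = true := ext_range (a := 46096) (len := 43) h1072 m2_1072
  have h1074 : ∀ u < 46182, (fun u => chkFix tab mwordsA u) u = true := ext_range (a := 46139) (len := 43) h1073 m2_1073
  have h1075 : ∀ u < 46225, (fun u => chkFix tab mwordsA u) u = true := ext_range (a := 46182) (len := 43) h1074 m2_1074
  have h1076 : ∀ u < 46268, (fun u => chkFix tab mwordsA u) u = true := ext_range (a := 46225) (len := 43) h1075 m2_1075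
  have h1077 : ∀ u < 46311, (fun u => chkFix tab mwordsA u) u = true := ext_range (a := 46268) (len := 43) h1076 m2_1076
  have h1078 : ∀ u < 46354, (fun u => chkFix tab mwordsA u) u = true := ext_range (a := 46311) (len := 43) h1077 m2_1077
  have h1079 : ∀ u < 46397, (fun u => chkFix tab mwordsA u) u = true := ext_range (a := 46354) (len := 43) h1078 m2_1078
  have h1080 : ∀ u < 46440, (fun u => chkFix tab mwordsA u) u = true := ext_range (a := 46397) (len := 43) h1079 m2_1079
  have h1081 : ∀ u < 46483, (fun u => chkFix tab mwordsA u) u = true := ext_range (a := 46440) (len := 43) h1080 m2_1080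
  have h1082 : ∀ u < 46526, (fun u => chkFix tab mwordsA u) u = true := ext_range (a := 46483) (len := 43) h1081 m2_1081
  have h1083 : ∀ u < 46569, (fun u => chkFix tab mwordsA u) u = true := ext_range (a := 46526) (len := 43) h1082 m2_1082
  have h1084 : ∀ u < 46612, (fun u => chkFix tab mwordsA u) u = true := ext_range (a := 46569) (len := 43) h1083 m2_1083
  have h1085 : ∀ u < 46655, (fun u => chkFix tab mwordsA u) u = true := ext_range (a := 46612) (len := 43) h1084 m2_1084
  have h1086 : ∀ u < 46698, (fun u => chkFix tab mwordsA u) u = true := ext_range (a := 46655) (len := 43) h1085 m2_1085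
  have h1087 : ∀ u < 46741, (fun u => chkFix tab mwordsA u) u = true := ext_range (a := 46698) (len := 43) h1086 m2_1086
  have h1088 : ∀ u < 46784, (fun u => chkFix tab mwordsA u) u = true := ext_range (a := 46741) (len := 43) h1087 m2_1087
  have h1089 : ∀ u < 46827, (fun u => chkFix tab mwordsA u) u = true := ext_range (a := 46784) (len := 43) h1088 m2_1088
  have h1090 : ∀ u < 46870, (fun u => chkFix tab mwordsA u) u = true := ext_range (a := 46827) (len := 43) h1089 m2_1089
  have h1091 : ∀ u < 46913, (fun u => chkFix tab mwordsA u) u = true := ext_range (a := 46870) (len := 43) h1090 m2_1090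
  have h1092 : ∀ u < 46956, (fun u => chkFix tab mwordsA u) u = true := ext_range (a := 46913) (len := 43) h1091 m2_1091
  have h1093 : ∀ u < 46999, (fun u => chkFix tab mwordsA u) u = true := ext_range (a := 46956) (len := 43) h1092 m2_1092
  have h1094 : ∀ u < 47042, (fun u => chkFix tab mwordsA u) u = true := ext_range (a := 46999) (len := 43) h1093 m2_1093
  have h1095 : ∀ u < 47085, (fun u => chkFix tab mwordsA u) u = true := ext_range (a := 47042) (len := 43) h1094 m2_1094
  have h1096 : ∀ u < 47128, (fun u => chkFix tab mwordsA u) u = true := ext_range (a := 47085) (len := 43) h1095 m2_1095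
  have h1097 : ∀ u < 47171, (fun u => chkFix tab mwordsA u) u = true := ext_range (a := 47128) (len := 43) h1096 m2_1096
  have h1098 : ∀ u < 47214, (fun u => chkFix tab mwordsA u) u = true := ext_range (a := 47171) (len := 43) h1097 m2_1097
  have h1099 : ∀ u < 47257, (fun u => chkFix tab mwordsA u) u = true := ext_range (a := 47214) (len := 43) h1098 m2_1098
  have h1100 : ∀ u < 47300, (fun u => chkFix tab mwordsA u) u = true := ext_range (a := 47257) (len := 43) h1099 m2_1099
  have h1101 : ∀ u < 47343, (fun u => chkFix tab mwordsA u) u = true := ext_range (a := 47300) (len := 43) h1100 m2_1100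
  have h1102 : ∀ u < 47386, (fun u => chkFix tab mwordsA u) u = true := ext_range (a := 47343) (len := 43) h1101 m2_1101
  have h1103 : ∀ u < 47429, (fun u => chkFix tab mwordsA u) u = true := ext_range (a := 47386) (len := 43) h1102 m2_1102
  have h1104 : ∀ u < 47472, (fun u => chkFix tab mwordsA u) u = true := ext_range (a := 47429) (len := 43) h1103 m2_1103
  have h1105 : ∀ u < 47515, (fun u => chkFix tab mwordsA u) u = true := ext_range (a := 47472) (len := 43) h1104 m2_1104
  have h1106 : ∀ u < 47558, (fun u => chkFix tab mwordsA u) u = true := ext_range (a := 47515) (len := 43) h1105 m2_1105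
  have h1107 : ∀ u < 47601, (fun u => chkFix tab mwordsA u) u = true := ext_range (a := 47558) (len := 43) h1106 m2_1106
  have h1108 : ∀ u < 47644, (fun u => chkFix tab mwordsA u) u = true := ext_range (a := 47601) (len := 43) h1107 m2_1107
  have h1109 : ∀ u < 47687, (fun u => chkFix tab mwordsA u) u = true := ext_range (a := 47644) (len := 43) h1108 m2_1108
  have h1110 : ∀ u < 47730, (fun u => chkFix tab mwordsA u) u = true := ext_range (a := 47687) (len := 43) h1109 m2_1109
  have h1111 : ∀ u < 47773, (fun u => chkFix tab mwordsA u) u = true := ext_range (a := 47730) (len := 43) h1110 m2_1110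
  have h1112 : ∀ u < 47816, (fun u => chkFix tab mwordsA u) u = true := ext_range (a := 47773) (len := 43) h1111 m2_1111
  have h1113 : ∀ u < 47859, (fun u => chkFix tab mwordsA u) u = true := ext_range (a := 47816) (len := 43) h1112 m2_1112
  have h1114 : ∀ u < 47902, (fun u => chkFix tab mwordsA u) u = true := ext_range (a := 47859) (len := 43) h1113 m2_1113
  have h1115 : ∀ u < 47945, (fun u => chkFix tab mwordsA u) u = true := ext_range (a := 47902) (len := 43) h1114 m2_1114
  have h1116 : ∀ u < 47988, (fun u => chkFix tab mwordsA u) u = true := ext_range (a := 47945) (len := 43) h1115 m2_1115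
  have h1117 : ∀ u < 48031, (fun u => chkFix tab mwordsA u) u = true := ext_range (a := 47988) (len := 43) h1116 m2_1116
  have h1118 : ∀ u < 48074, (fun u => chkFix tab mwordsA u) u = true := ext_range (a := 48031) (len := 43) h1117 m2_1117
  have h1119 : ∀ u < 48117, (fun u => chkFix tab mwordsA u) u = true := ext_range (a := 48074) (len := 43) h1118 m2_1118
  have h1120 : ∀ u < 48160, (fun u => chkFix tab mwordsA u) u = true := ext_range (a := 48117) (len := 43) h1119 m2_1119
  have h1121 : ∀ u < 48203, (fun u => chkFix tab mwordsA u) u = true := ext_range (a := 48160) (len := 43) h1120 m2_1120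
  have h1122 : ∀ u < 48246, (fun u => chkFix tab mwordsA u) u = true := ext_range (a := 48203) (len := 43) h1121 m2_1121
  have h1123 : ∀ u < 48289, (fun u => chkFix tab mwordsA u) u = true := ext_range (a := 48246) (len := 43) h1122 m2_1122
  have h1124 : ∀ u < 48332, (fun u => chkFix tab mwordsA u) u = true := ext_range (a := 48289) (len := 43) h1123 m2_1123
  have h1125 : ∀ u < 48375, (fun u => chkFix tab mwordsA u) u = true := ext_range (a := 48332) (len := 43) h1124 m2_1124
  have h1126 : ∀ u < 48418, (fun u => chkFix tab mwordsA u) u = true := ext_range (a := 48375) (len := 43) h1125 m2_1125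
  have h1127 : ∀ u < 48461, (fun u => chkFix tab mwordsA u) u = true := ext_range (a := 48418) (len := 43) h1126 m2_1126
  have h1128 : ∀ u < 48504, (fun u => chkFix tab mwordsA u) u = true := ext_range (a := 48461) (len := 43) h1127 m2_1127
  have h1129 : ∀ u < 48547, (fun u => chkFix tab mwordsA u) u = true := ext_range (a := 48504) (len := 43) h1128 m2_1128
  have h1130 : ∀ u < 48590, (fun u => chkFix tab mwordsA u) u = true := ext_range (a := 48547) (len := 43) h1129 m2_1129
  have h1131 : ∀ u < 48633, (fun u => chkFix tab mwordsA u) u = true := ext_range (a := 48590) (len := 43) h1130 m2_1130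
  have h1132 : ∀ u < 48676, (fun u => chkFix tab mwordsA u) u = true := ext_range (a := 48633) (len := 43) h1131 m2_1131
  have h1133 : ∀ u < 48719, (fun u => chkFix tab mwordsA u) u = true := ext_range (a := 48676) (len := 43) h1132 m2_1132
  have h1134 : ∀ u < 48762, (fun u => chkFix tab mwordsA u) u = true := ext_range (a := 48719) (len := 43) h1133 m2_1133
  have h1135 : ∀ u < 48805, (fun u => chkFix tab mwordsA u) u = true := ext_range (a := 48762) (len := 43) h1134 m2_1134
  have h1136 : ∀ u < 48848, (fun u => chkFix tab mwordsA u) u = true := ext_range (a := 48805) (len := 43) h1135 m2_1135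
  have h1137 : ∀ u < 48891, (fun u => chkFix tab mwordsA u) u = true := ext_range (a := 48848) (len := 43) h1136 m2_1136
  have h1138 : ∀ u < 48934, (fun u => chkFix tab mwordsA u) u = true := ext_range (a := 48891) (len := 43) h1137 m2_1137
  have h1139 : ∀ u < 48977, (fun u => chkFix tab mwordsA u) u = true := ext_range (a := 48934) (len := 43) h1138 m2_1138
  have h1140 : ∀ u < 49020, (fun u => chkFix tab mwordsA u) u = true := ext_range (a := 48977) (len := 43) h1139 m2_1139
  have h1141 : ∀ u < 49063, (fun u => chkFix tab mwordsA u) u = true := ext_range (a := 49020) (len := 43) h1140 m2_1140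
  have h1142 : ∀ u < 49106, (fun u => chkFix tab mwordsA u) u = true := ext_range (a := 49063) (len := 43) h1141 m2_1141
  have h1143 : ∀ u < 49149, (fun u => chkFix tab mwordsA u) u = true := ext_range (a := 49106) (len := 43) h1142 m2_1142
  have h1144 : ∀ u < 49192, (fun u => chkFix tab mwordsA u) u = true := ext_range (a := 49149) (len := 43) h1143 m2_1143
  have h1145 : ∀ u < 49235, (fun u => chkFix tab mwordsA u) u = true := ext_range (a := 49192) (len := 43) h1144 m2_1144
  have h1146 : ∀ u < 49278, (fun u => chkFix tab mwordsA u) u = true := ext_range (a := 49235) (len := 43) h1145 m2_1145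
  have h1147 : ∀ u < 49321, (fun u => chkFix tab mwordsA u) u = true := ext_range (a := 49278) (len := 43) h1146 m2_1146
  have h1148 : ∀ u < 49364, (fun u => chkFix tab mwordsA u) u = true := ext_range (a := 49321) (len := 43) h1147 m2_1147
  have h1149 : ∀ u < 49407, (fun u => chkFix tab mwordsA u) u = true := ext_range (a := 49364) (len := 43) h1148 m2_1148
  have h1150 : ∀ u < 49450, (fun u => chkFix tab mwordsA u) u = true := ext_range (a := 49407) (len := 43) h1149 m2_1149
  have h1151 : ∀ u < 49493, (fun u => chkFix tab mwordsA u) u = true := ext_range (a := 49450) (len := 43) h1150 m2_1150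
  have h1152 : ∀ u < 49536, (fun u => chkFix tab mwordsA u) u = true := ext_range (a := 49493) (len := 43) h1151 m2_1151
  have h1153 : ∀ u < 49579, (fun u => chkFix tab mwordsA u) u = true := ext_range (a := 49536) (len := 43) h1152 m2_1152
  have h1154 : ∀ u < 49622, (fun u => chkFix tab mwordsA u) u = true := ext_range (a := 49579) (len := 43) h1153 m2_1153
  have h1155 : ∀ u < 49665, (fun u => chkFix tab mwordsA u) u = true := ext_range (a := 49622) (len := 43) h1154 m2_1154
  have h1156 : ∀ u < 49708, (fun u => chkFix tab mwordsA u) u = true := ext_range (a := 49665) (len := 43) h1155 m2_1155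
  have h1157 : ∀ u < 49751, (fun u => chkFix tab mwordsA u) u = true := ext_range (a := 49708) (len := 43) h1156 m2_1156
  have h1158 : ∀ u < 49794, (fun u => chkFix tab mwordsA u) u = true := ext_range (a := 49751) (len := 43) h1157 m2_1157
  have h1159 : ∀ u < 49837, (fun u => chkFix tab mwordsA u) u = true := ext_range (a := 49794) (len := 43) h1158 m2_1158
  have h1160 : ∀ u < 49880, (fun u => chkFix tab mwordsA u) u = true := ext_range (a := 49837) (len := 43) h1159 m2_1159
  have h1161 : ∀ u < 49923, (fun u => chkFix tab mwordsA u) u = true := ext_range (a := 49880) (len := 43) h1160 m2_1160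
  have h1162 : ∀ u < 49966, (fun u => chkFix tab mwordsA u) u = true := ext_range (a := 49923) (len := 43) h1161 m2_1161
  have h1163 : ∀ u < 50009, (fun u => chkFix tab mwordsA u) u = true := ext_range (a := 49966) (len := 43) h1162 m2_1162
  have h1164 : ∀ u < 50052, (fun u => chkFix tab mwordsA u) u = true := ext_range (a := 50009) (len := 43) h1163 m2_1163
  have h1165 : ∀ u < 50095, (fun u => chkFix tab mwordsA u) u = true := ext_range (a := 50052) (len := 43) h1164 m2_1164
  have h1166 : ∀ u < 50138, (fun u => chkFix tab mwordsA u) u = true := ext_range (a := 50095) (len := 43) h1165 m2_1165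
  have h1167 : ∀ u < 50181, (fun u => chkFix tab mwordsA u) u = true := ext_range (a := 50138) (len := 43) h1166 m2_1166
  have h1168 : ∀ u < 50224, (fun u => chkFix tab mwordsA u) u = true := ext_range (a := 50181) (len := 43) h1167 m2_1167
  have h1169 : ∀ u < 50267, (fun u => chkFix tab mwordsA u) u = true := ext_range (a := 50224) (len := 43) h1168 m2_1168
  have h1170 : ∀ u < 50310, (fun u => chkFix tab mwordsA u) u = true := ext_range (a := 50267) (len := 43) h1169 m2_1169
  have h1171 : ∀ u < 50353, (fun u => chkFix tab mwordsA u) u = true := ext_range (a := 50310) (len := 43) h1170 m2_1170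
  have h1172 : ∀ u < 50396, (fun u => chkFix tab mwordsA u) u = true := ext_range (a := 50353) (len := 43) h1171 m2_1171
  have h1173 : ∀ u < 50439, (fun u => chkFix tab mwordsA u) u = true := ext_range (a := 50396) (len := 43) h1172 m2_1172
  have h1174 : ∀ u < 50482, (fun u => chkFix tab mwordsA u) u = true := ext_range (a := 50439) (len := 43) h1173 m2_1173
  have h1175 : ∀ u < 50525, (fun u => chkFix tab mwordsA u) u = true := ext_range (a := 50482) (len := 43) h1174 m2_1174
  have h1176 : ∀ u < 50568, (fun u => chkFix tab mwordsA u) u = true := ext_range (a := 50525) (len := 43) h1175 m2_1175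
  have h1177 : ∀ u < 50611, (fun u => chkFix tab mwordsA u) u = true := ext_range (a := 50568) (len := 43) h1176 m2_1176
  have h1178 : ∀ u < 50654, (fun u => chkFix tab mwordsA u) u = true := ext_range (a := 50611) (len := 43) h1177 m2_1177
  have h1179 : ∀ u < 50697, (fun u => chkFix tab mwordsA u) u = true := ext_range (a := 50654) (len := 43) h1178 m2_1178
  have h1180 : ∀ u < 50740, (fun u => chkFix tab mwordsA u) u = true := ext_range (a := 50697) (len := 43) h1179 m2_1179
  have h1181 : ∀ u < 50783, (fun u => chkFix tab mwordsA u) u = true := ext_range (a := 50740) (len := 43) h1180 m2_1180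
  have h1182 : ∀ u < 50826, (fun u => chkFix tab mwordsA u) u = true := ext_range (a := 50783) (len := 43) h1181 m2_1181
  have h1183 : ∀ u < 50869, (fun u => chkFix tab mwordsA u) u = true := ext_range (a := 50826) (len := 43) h1182 m2_1182
  have h1184 : ∀ u < 50912, (fun u => chkFix tab mwordsA u) u = true := ext_range (a := 50869) (len := 43) h1183 m2_1183
  have h1185 : ∀ u < 50955, (fun u => chkFix tab mwordsA u) u = true := ext_range (a := 50912) (len := 43) h1184 m2_1184
  have h1186 : ∀ u < 50998, (fun u => chkFix tab mwordsA u) u = true := ext_range (a := 50955) (len := 43) h1185 m2_1185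
  have h1187 : ∀ u < 51041, (fun u => chkFix tab mwordsA u) u = true := ext_range (a := 50998) (len := 43) h1186 m2_1186
  have h1188 : ∀ u < 51084, (fun u => chkFix tab mwordsA u) u = true := ext_range (a := 51041) (len := 43) h1187 m2_1187
  have h1189 : ∀ u < 51127, (fun u => chkFix tab mwordsA u) u = true := ext_range (a := 51084) (len := 43) h1188 m2_1188
  have h1190 : ∀ u < 51170, (fun u => chkFix tab mwordsA u) u = true := ext_range (a := 51127) (len := 43) h1189 m2_1189
  have h1191 : ∀ u < 51213, (fun u => chkFix tab mwordsA u) u = true := ext_range (a := 51170) (len := 43) h1190 m2_1190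
  have h1192 : ∀ u < 51256, (fun u => chkFix tab mwordsA u) u = true := ext_range (a := 51213) (len := 43) h1191 m2_1191
  have h1193 : ∀ u < 51299, (fun u => chkFix tab mwordsA u) u = true := ext_range (a := 51256) (len := 43) h1192 m2_1192
  have h1194 : ∀ u < 51342, (fun u => chkFix tab mwordsA u) u = true := ext_range (a := 51299) (len := 43) h1193 m2_1193
  have h1195 : ∀ u < 51385, (fun u => chkFix tab mwordsA u) u = true := ext_range (a := 51342) (len := 43) h1194 m2_1194
  have h1196 : ∀ u < 51428, (fun u => chkFix tab mwordsA u) u = true := ext_range (a := 51385) (len := 43) h1195 m2_1195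
  have h1197 : ∀ u < 51471, (fun u => chkFix tab mwordsA u) u = true := ext_range (a := 51428) (len := 43) h1196 m2_1196
  have h1198 : ∀ u < 51514, (fun u => chkFix tab mwordsA u) u = true := ext_range (a := 51471) (len := 43) h1197 m2_1197
  have h1199 : ∀ u < 51557, (fun u => chkFix tab mwordsA u) u = true := ext_range (a := 51514) (len := 43) h1198 m2_1198
  have h1200 : ∀ u < 51600, (fun u => chkFix tab mwordsA u) u = true := ext_range (a := 51557) (len := 43) h1199 m2_1199
  have h1201 : ∀ u < 51643, (fun u => chkFix tab mwordsA u) u = true := ext_range (a := 51600) (len := 43) h1200 m2_1200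
  have h1202 : ∀ u < 51686, (fun u => chkFix tab mwordsA u) u = true := ext_range (a := 51643) (len := 43) h1201 m2_1201
  have h1203 : ∀ u < 51729, (fun u => chkFix tab mwordsA u) u = true := ext_range (a := 51686) (len := 43) h1202 m2_1202
  have h1204 : ∀ u < 51772, (fun u => chkFix tab mwordsA u) u = true := ext_range (a := 51729) (len := 43) h1203 m2_1203
  have h1205 : ∀ u < 51815, (fun u => chkFix tab mwordsA u) u = true := ext_range (a := 51772) (len := 43) h1204 m2_1204
  have h1206 : ∀ u < 51858, (fun u => chkFix tab mwordsA u) u = true := ext_range (a := 51815) (len := 43) h1205 m2_1205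
  have h1207 : ∀ u < 51901, (fun u => chkFix tab mwordsA u) u = true := ext_range (a := 51858) (len := 43) h1206 m2_1206
  have h1208 : ∀ u < 51944, (fun u => chkFix tab mwordsA u) u = true := ext_range (a := 51901) (len := 43) h1207 m2_1207
  have h1209 : ∀ u < 51987, (fun u => chkFix tab mwordsA u) u = true := ext_range (a := 51944) (len := 43) h1208 m2_1208
  have h1210 : ∀ u < 52030, (fun u => chkFix tab mwordsA u) u = true := ext_range (a := 51987) (len := 43) h1209 m2_1209
  have h1211 : ∀ u < 52073, (fun u => chkFix tab mwordsA u) u = true := ext_range (a := 52030) (len := 43) h1210 m2_1210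
  have h1212 : ∀ u < 52116, (fun u => chkFix tab mwordsA u) u = true := ext_range (a := 52073) (len := 43) h1211 m2_1211
  have h1213 : ∀ u < 52159, (fun u => chkFix tab mwordsA u) u = true := ext_range (a := 52116) (len := 43) h1212 m2_1212
  have h1214 : ∀ u < 52202, (fun u => chkFix tab mwordsA u) u = true := ext_range (a := 52159) (len := 43) h1213 m2_1213
  have h1215 : ∀ u < 52245, (fun u => chkFix tab mwordsA u) u = true := ext_range (a := 52202) (len := 43) h1214 m2_1214
  have h1216 : ∀ u < 52288, (fun u => chkFix tab mwordsA u) u = true := ext_range (a := 52245) (len := 43) h1215 m2_1215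
  have h1217 : ∀ u < 52331, (fun u => chkFix tab mwordsA u) u = true := ext_range (a := 52288) (len := 43) h1216 m2_1216
  have h1218 : ∀ u < 52374, (fun u => chkFix tab mwordsA u) u = true := ext_range (a := 52331) (len := 43) h1217 m2_1217
  have h1219 : ∀ u < 52417, (fun u => chkFix tab mwordsA u) u = true := ext_range (a := 52374) (len := 43) h1218 m2_1218
  have h1220 : ∀ u < 52460, (fun u => chkFix tab mwordsA u) u = true := ext_range (a := 52417) (len := 43) h1219 m2_1219
  have h1221 : ∀ u < 52503, (fun u => chkFix tab mwordsA u) u = true := ext_range (a := 52460) (len := 43) h1220 m2_1220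
  have h1222 : ∀ u < 52546, (fun u => chkFix tab mwordsA u) u = true := ext_range (a := 52503) (len := 43) h1221 m2_1221
  have h1223 : ∀ u < 52589, (fun u => chkFix tab mwordsA u) u = true := ext_range (a := 52546) (len := 43) h1222 m2_1222
  have h1224 : ∀ u < 52632, (fun u => chkFix tab mwordsA u) u = true := ext_range (a := 52589) (len := 43) h1223 m2_1223
  have h1225 : ∀ u < 52675, (fun u => chkFix tab mwordsA u) u = true := ext_range (a := 52632) (len := 43) h1224 m2_1224
  have h1226 : ∀ u < 52718, (fun u => chkFix tab mwordsA u) u = true := ext_range (a := 52675) (len := 43) h1225 m2_1225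
  have h1227 : ∀ u < 52761, (fun u => chkFix tab mwordsA u) u = true := ext_range (a := 52718) (len := 43) h1226 m2_1226
  have h1228 : ∀ u < 52804, (fun u => chkFix tab mwordsA u) u = true := ext_range (a := 52761) (len := 43) h1227 m2_1227
  have h1229 : ∀ u < 52847, (fun u => chkFix tab mwordsA u) u = true := ext_range (a := 52804) (len := 43) h1228 m2_1228
  have h1230 : ∀ u < 52890, (fun u => chkFix tab mwordsA u) u = true := ext_range (a := 52847) (len := 43) h1229 m2_1229
  have h1231 : ∀ u < 52933, (fun u => chkFix tab mwordsA u) u = true := ext_range (a := 52890) (len := 43) h1230 m2_1230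
  have h1232 : ∀ u < 52976, (fun u => chkFix tab mwordsA u) u = true := ext_range (a := 52933) (len := 43) h1231 m2_1231
  have h1233 : ∀ u < 53019, (fun u => chkFix tab mwordsA u) u = true := ext_range (a := 52976) (len := 43) h1232 m2_1232
  have h1234 : ∀ u < 53062, (fun u => chkFix tab mwordsA u) u = true := ext_range (a := 53019) (len := 43) h1233 m2_1233
  have h1235 : ∀ u < 53105, (fun u => chkFix tab mwordsA u) u = true := ext_range (a := 53062) (len := 43) h1234 m2_1234
  have h1236 : ∀ u < 53148, (fun u => chkFix tab mwordsA u) u = true := ext_range (a := 53105) (len := 43) h1235 m2_1235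
  have h1237 : ∀ u < 53191, (fun u => chkFix tab mwordsA u) u = true := ext_range (a := 53148) (len := 43) h1236 m2_1236
  have h1238 : ∀ u < 53234, (fun u => chkFix tab mwordsA u) u = true := ext_range (a := 53191) (len := 43) h1237 m2_1237
  have h1239 : ∀ u < 53277, (fun u => chkFix tab mwordsA u) u = true := ext_range (a := 53234) (len := 43) h1238 m2_1238
  have h1240 : ∀ u < 53320, (fun u => chkFix tab mwordsA u) u = true := ext_range (a := 53277) (len := 43) h1239 m2_1239
  have h1241 : ∀ u < 53363, (fun u => chkFix tab mwordsA u) u = true := ext_range (a := 53320) (len := 43) h1240 m2_1240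
  have h1242 : ∀ u < 53406, (fun u => chkFix tab mwordsA u) u = true := ext_range (a := 53363) (len := 43) h1241 m2_1241
  have h1243 : ∀ u < 53449, (fun u => chkFix tab mwordsA u) u = true := ext_range (a := 53406) (len := 43) h1242 m2_1242
  have h1244 : ∀ u < 53492, (fun u => chkFix tab mwordsA u) u = true := ext_range (a := 53449) (len := 43) h1243 m2_1243
  have h1245 : ∀ u < 53535, (fun u => chkFix tab mwordsA u) u = true := ext_range (a := 53492) (len := 43) h1244 m2_1244
  have h1246 : ∀ u < 53578, (fun u => chkFix tab mwordsA u) u = true := ext_range (a := 53535) (len := 43) h1245 m2_1245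
  have h1247 : ∀ u < 53621, (fun u => chkFix tab mwordsA u) u = true := ext_range (a := 53578) (len := 43) h1246 m2_1246
  have h1248 : ∀ u < 53664, (fun u => chkFix tab mwordsA u) u = true := ext_range (a := 53621) (len := 43) h1247 m2_1247
  have h1249 : ∀ u < 53707, (fun u => chkFix tab mwordsA u) u = true := ext_range (a := 53664) (len := 43) h1248 m2_1248
  have h1250 : ∀ u < 53750, (fun u => chkFix tab mwordsA u) u = true := ext_range (a := 53707) (len := 43) h1249 m2_1249
  have h1251 : ∀ u < 53793, (fun u => chkFix tab mwordsA u) u = true := ext_range (a := 53750) (len := 43) h1250 m2_1250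
  have h1252 : ∀ u < 53836, (fun u => chkFix tab mwordsA u) u = true := ext_range (a := 53793) (len := 43) h1251 m2_1251
  have h1253 : ∀ u < 53879, (fun u => chkFix tab mwordsA u) u = true := ext_range (a := 53836) (len := 43) h1252 m2_1252
  have h1254 : ∀ u < 53922, (fun u => chkFix tab mwordsA u) u = true := ext_range (a := 53879) (len := 43) h1253 m2_1253
  have h1255 : ∀ u < 53965, (fun u => chkFix tab mwordsA u) u = true := ext_range (a := 53922) (len := 43) h1254 m2_1254
  have h1256 : ∀ u < 54008, (fun u => chkFix tab mwordsA u) u = true := ext_range (a := 53965) (len := 43) h1255 m2_1255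
  have h1257 : ∀ u < 54051, (fun u => chkFix tab mwordsA u) u = true := ext_range (a := 54008) (len := 43) h1256 m2_1256
  have h1258 : ∀ u < 54094, (fun u => chkFix tab mwordsA u) u = true := ext_range (a := 54051) (len := 43) h1257 m2_1257
  have h1259 : ∀ u < 54137, (fun u => chkFix tab mwordsA u) u = true := ext_range (a := 54094) (len := 43) h1258 m2_1258
  have h1260 : ∀ u < 54180, (fun u => chkFix tab mwordsA u) u = true := ext_range (a := 54137) (len := 43) h1259 m2_1259
  have h1261 : ∀ u < 54223, (fun u => chkFix tab mwordsA u) u = true := ext_range (a := 54180) (len := 43) h1260 m2_1260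
  have h1262 : ∀ u < 54266, (fun u => chkFix tab mwordsA u) u = true := ext_range (a := 54223) (len := 43) h1261 m2_1261
  have h1263 : ∀ u < 54309, (fun u => chkFix tab mwordsA u) u = true := ext_range (a := 54266) (len := 43) h1262 m2_1262
  have h1264 : ∀ u < 54352, (fun u => chkFix tab mwordsA u) u = true := ext_range (a := 54309) (len := 43) h1263 m2_1263
  have h1265 : ∀ u < 54395, (fun u => chkFix tab mwordsA u) u = true := ext_range (a := 54352) (len := 43) h1264 m2_1264
  have h1266 : ∀ u < 54438, (fun u => chkFix tab mwordsA u) u = true := ext_range (a := 54395) (len := 43) h1265 m2_1265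
  have h1267 : ∀ u < 54481, (fun u => chkFix tab mwordsA u) u = true := ext_range (a := 54438) (len := 43) h1266 m2_1266
  have h1268 : ∀ u < 54524, (fun u => chkFix tab mwordsA u) u = true := ext_range (a := 54481) (len := 43) h1267 m2_1267
  have h1269 : ∀ u < 54567, (fun u => chkFix tab mwordsA u) u = true := ext_range (a := 54524) (len := 43) h1268 m2_1268
  have h1270 : ∀ u < 54610, (fun u => chkFix tab mwordsA u) u = true := ext_range (a := 54567) (len := 43) h1269 m2_1269
  have h1271 : ∀ u < 54653, (fun u => chkFix tab mwordsA u) u = true := ext_range (a := 54610) (len := 43) h1270 m2_1270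
  have h1272 : ∀ u < 54696, (fun u => chkFix tab mwordsA u) u = true := ext_range (a := 54653) (len := 43) h1271 m2_1271
  have h1273 : ∀ u < 54739, (fun u => chkFix tab mwordsA u) u = true := ext_range (a := 54696) (len := 43) h1272 m2_1272
  have h1274 : ∀ u < 54782, (fun u => chkFix tab mwordsA u) u = true := ext_range (a := 54739) (len := 43) h1273 m2_1273
  have h1275 : ∀ u < 54825, (fun u => chkFix tab mwordsA u) u = true := ext_range (a := 54782) (len := 43) h1274 m2_1274
  have h1276 : ∀ u < 54868, (fun u => chkFix tab mwordsA u) u = true := ext_range (a := 54825) (len := 43) h1275 m2_1275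
  have h1277 : ∀ u < 54911, (fun u => chkFix tab mwordsA u) u = true := ext_range (a := 54868) (len := 43) h1276 m2_1276
  have h1278 : ∀ u < 54954, (fun u => chkFix tab mwordsA u) u = true := ext_range (a := 54911) (len := 43) h1277 m2_1277
  have h1279 : ∀ u < 54997, (fun u => chkFix tab mwordsA u) u = true := ext_range (a := 54954) (len := 43) h1278 m2_1278
  have h1280 : ∀ u < 55040, (fun u => chkFix tab mwordsA u) u = true := ext_range (a := 54997) (len := 43) h1279 m2_1279
  have h1281 : ∀ u < 55083, (fun u => chkFix tab mwordsA u) u = true := ext_range (a := 55040) (len := 43) h1280 m2_1280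
  have h1282 : ∀ u < 55126, (fun u => chkFix tab mwordsA u) u = true := ext_range (a := 55083) (len := 43) h1281 m2_1281
  have h1283 : ∀ u < 55169, (fun u => chkFix tab mwordsA u) u = true := ext_range (a := 55126) (len := 43) h1282 m2_1282
  have h1284 : ∀ u < 55212, (fun u => chkFix tab mwordsA u) u = true := ext_range (a := 55169) (len := 43) h1283 m2_1283
  have h1285 : ∀ u < 55255, (fun u => chkFix tab mwordsA u) u = true := ext_range (a := 55212) (len := 43) h1284 m2_1284
  have h1286 : ∀ u < 55298, (fun u => chkFix tab mwordsA u) u = true := ext_range (a := 55255) (len := 43) h1285 m2_1285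
  have h1287 : ∀ u < 55341, (fun u => chkFix tab mwordsA u) u = true := ext_range (a := 55298) (len := 43) h1286 m2_1286
  have h1288 : ∀ u < 55384, (fun u => chkFix tab mwordsA u) u = true := ext_range (a := 55341) (len := 43) h1287 m2_1287
  have h1289 : ∀ u < 55427, (fun u => chkFix tab mwordsA u) u = true := ext_range (a := 55384) (len := 43) h1288 m2_1288
  have h1290 : ∀ u < 55470, (fun u => chkFix tab mwordsA u) u = true := ext_range (a := 55427) (len := 43) h1289 m2_1289
  have h1291 : ∀ u < 55513, (fun u => chkFix tab mwordsA u) u = true := ext_range (a := 55470) (len := 43) h1290 m2_1290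
  have h1292 : ∀ u < 55556, (fun u => chkFix tab mwordsA u) u = true := ext_range (a := 55513) (len := 43) h1291 m2_1291
  have h1293 : ∀ u < 55599, (fun u => chkFix tab mwordsA u) u = true := ext_range (a := 55556) (len := 43) h1292 m2_1292
  have h1294 : ∀ u < 55642, (fun u => chkFix tab mwordsA u) u = true := ext_range (a := 55599) (len := 43) h1293 m2_1293
  have h1295 : ∀ u < 55685, (fun u => chkFix tab mwordsA u) u = true := ext_range (a := 55642) (len := 43) h1294 m2_1294
  have h1296 : ∀ u < 55728, (fun u => chkFix tab mwordsA u) u = true := ext_range (a := 55685) (len := 43) h1295 m2_1295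
  have h1297 : ∀ u < 55771, (fun u => chkFix tab mwordsA u) u = true := ext_range (a := 55728) (len := 43) h1296 m2_1296
  have h1298 : ∀ u < 55814, (fun u => chkFix tab mwordsA u) u = true := ext_range (a := 55771) (len := 43) h1297 m2_1297
  have h1299 : ∀ u < 55857, (fun u => chkFix tab mwordsA u) u = true := ext_range (a := 55814) (len := 43) h1298 m2_1298
  have h1300 : ∀ u < 55900, (fun u => chkFix tab mwordsA u) u = true := ext_range (a := 55857) (len := 43) h1299 m2_1299
  have h1301 : ∀ u < 55943, (fun u => chkFix tab mwordsA u) u = true := ext_range (a := 55900) (len := 43) h1300 m2_1300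
  have h1302 : ∀ u < 55986, (fun u => chkFix tab mwordsA u) u = true := ext_range (a := 55943) (len := 43) h1301 m2_1301
  have h1303 : ∀ u < 56029, (fun u => chkFix tab mwordsA u) u = true := ext_range (a := 55986) (len := 43) h1302 m2_1302
  have h1304 : ∀ u < 56072, (fun u => chkFix tab mwordsA u) u = true := ext_range (a := 56029) (len := 43) h1303 m2_1303
  have h1305 : ∀ u < 56115, (fun u => chkFix tab mwordsA u) u = true := ext_range (a := 56072) (len := 43) h1304 m2_1304
  have h1306 : ∀ u < 56158, (fun u => chkFix tab mwordsA u) u = true := ext_range (a := 56115) (len := 43) h1305 m2_1305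
  have h1307 : ∀ u < 56201, (fun u => chkFix tab mwordsA u) u = true := ext_range (a := 56158) (len := 43) h1306 m2_1306
  have h1308 : ∀ u < 56244, (fun u => chkFix tab mwordsA u) u = true := ext_range (a := 56201) (len := 43) h1307 m2_1307
  have h1309 : ∀ u < 56287, (fun u => chkFix tab mwordsA u) u = true := ext_range (a := 56244) (len := 43) h1308 m2_1308
  have h1310 : ∀ u < 56330, (fun u => chkFix tab mwordsA u) u = true := ext_range (a := 56287) (len := 43) h1309 m2_1309
  have h1311 : ∀ u < 56373, (fun u => chkFix tab mwordsA u) u = true := ext_range (a := 56330) (len := 43) h1310 m2_1310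
  have h1312 : ∀ u < 56416, (fun u => chkFix tab mwordsA u) u = true := ext_range (a := 56373) (len := 43) h1311 m2_1311
  have h1313 : ∀ u < 56459, (fun u => chkFix tab mwordsA u) u = true := ext_range (a := 56416) (len := 43) h1312 m2_1312
  have h1314 : ∀ u < 56502, (fun u => chkFix tab mwordsA u) u = true := ext_range (a := 56459) (len := 43) h1313 m2_1313
  have h1315 : ∀ u < 56545, (fun u => chkFix tab mwordsA u) u = true := ext_range (a := 56502) (len := 43) h1314 m2_1314
  have h1316 : ∀ u < 56588, (fun u => chkFix tab mwordsA u) u = true := ext_range (a := 56545) (len := 43) h1315 m2_1315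
  have h1317 : ∀ u < 56631, (fun u => chkFix tab mwordsA u) u = true := ext_range (a := 56588) (len := 43) h1316 m2_1316
  have h1318 : ∀ u < 56674, (fun u => chkFix tab mwordsA u) u = true := ext_range (a := 56631) (len := 43) h1317 m2_1317
  have h1319 : ∀ u < 56717, (fun u => chkFix tab mwordsA u) u = true := ext_range (a := 56674) (len := 43) h1318 m2_1318
  have h1320 : ∀ u < 56760, (fun u => chkFix tab mwordsA u) u = true := ext_range (a := 56717) (len := 43) h1319 m2_1319
  have h1321 : ∀ u < 56803, (fun u => chkFix tab mwordsA u) u = true := ext_range (a := 56760) (len := 43) h1320 m2_1320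
  have h1322 : ∀ u < 56846, (fun u => chkFix tab mwordsA u) u = true := ext_range (a := 56803) (len := 43) h1321 m2_1321
  have h1323 : ∀ u < 56889, (fun u => chkFix tab mwordsA u) u = true := ext_range (a := 56846) (len := 43) h1322 m2_1322
  have h1324 : ∀ u < 56932, (fun u => chkFix tab mwordsA u) u = true := ext_range (a := 56889) (len := 43) h1323 m2_1323
  have h1325 : ∀ u < 56975, (fun u => chkFix tab mwordsA u) u = true := ext_range (a := 56932) (len := 43) h1324 m2_1324
  have h1326 : ∀ u < 57018, (fun u => chkFix tab mwordsA u) u = true := ext_range (a := 56975) (len := 43) h1325 m2_1325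
  have h1327 : ∀ u < 57061, (fun u => chkFix tab mwordsA u) u = true := ext_range (a := 57018) (len := 43) h1326 m2_1326
  have h1328 : ∀ u < 57104, (fun u => chkFix tab mwordsA u) u = true := ext_range (a := 57061) (len := 43) h1327 m2_1327
  have h1329 : ∀ u < 57147, (fun u => chkFix tab mwordsA u) u = true := ext_range (a := 57104) (len := 43) h1328 m2_1328
  have h1330 : ∀ u < 57190, (fun u => chkFix tab mwordsA u) u = true := ext_range (a := 57147) (len := 43) h1329 m2_1329
  have h1331 : ∀ u < 57233, (fun u => chkFix tab mwordsA u) u = true := ext_range (a := 57190) (len := 43) h1330 m2_1330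
  have h1332 : ∀ u < 57276, (fun u => chkFix tab mwordsA u) u = true := ext_range (a := 57233) (len := 43) h1331 m2_1331
  have h1333 : ∀ u < 57319, (fun u => chkFix tab mwordsA u) u = true := ext_range (a := 57276) (len := 43) h1332 m2_1332
  have h1334 : ∀ u < 57362, (fun u => chkFix tab mwordsA u) u = true := ext_range (a := 57319) (len := 43) h1333 m2_1333
  have h1335 : ∀ u < 57405, (fun u => chkFix tab mwordsA u) u = true := ext_range (a := 57362) (len := 43) h1334 m2_1334
  have h1336 : ∀ u < 57448, (fun u => chkFix tab mwordsA u) u = true := ext_range (a := 57405) (len := 43) h1335 m2_1335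
  have h1337 : ∀ u < 57491, (fun u => chkFix tab mwordsA u) u = true := ext_range (a := 57448) (len := 43) h1336 m2_1336
  have h1338 : ∀ u < 57534, (fun u => chkFix tab mwordsA u) u = true := ext_range (a := 57491) (len := 43) h1337 m2_1337
  have h1339 : ∀ u < 57577, (fun u => chkFix tab mwordsA u) u = true := ext_range (a := 57534) (len := 43) h1338 m2_1338
  have h1340 : ∀ u < 57620, (fun u => chkFix tab mwordsA u) u = true := ext_range (a := 57577) (len := 43) h1339 m2_1339
  have h1341 : ∀ u < 57663, (fun u => chkFix tab mwordsA u) u = true := ext_range (a := 57620) (len := 43) h1340 m2_1340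
  have h1342 : ∀ u < 57706, (fun u => chkFix tab mwordsA u) u = true := ext_range (a := 57663) (len := 43) h1341 m2_1341
  have h1343 : ∀ u < 57749, (fun u => chkFix tab mwordsA u) u = true := ext_range (a := 57706) (len := 43) h1342 m2_1342
  have h1344 : ∀ u < 57792, (fun u => chkFix tab mwordsA u) u = true := ext_range (a := 57749) (len := 43) h1343 m2_1343
  have h1345 : ∀ u < 57835, (fun u => chkFix tab mwordsA u) u = true := ext_range (a := 57792) (len := 43) h1344 m2_1344
  have h1346 : ∀ u < 57878, (fun u => chkFix tab mwordsA u) u = true := ext_range (a := 57835) (len := 43) h1345 m2_1345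
  have h1347 : ∀ u < 57921, (fun u => chkFix tab mwordsA u) u = true := ext_range (a := 57878) (len := 43) h1346 m2_1346
  have h1348 : ∀ u < 57964, (fun u => chkFix tab mwordsA u) u = true := ext_range (a := 57921) (len := 43) h1347 m2_1347
  have h1349 : ∀ u < 58007, (fun u => chkFix tab mwordsA u) u = true := ext_range (a := 57964) (len := 43) h1348 m2_1348
  have h1350 : ∀ u < 58050, (fun u => chkFix tab mwordsA u) u = true := ext_range (a := 58007) (len := 43) h1349 m2_1349
  have h1351 : ∀ u < 58093, (fun u => chkFix tab mwordsA u) u = true := ext_range (a := 58050) (len := 43) h1350 m2_1350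
  have h1352 : ∀ u < 58136, (fun u => chkFix tab mwordsA u) u = true := ext_range (a := 58093) (len := 43) h1351 m2_1351
  have h1353 : ∀ u < 58179, (fun u => chkFix tab mwordsA u) u = true := ext_range (a := 58136) (len := 43) h1352 m2_1352
  have h1354 : ∀ u < 58222, (fun u => chkFix tab mwordsA u) u = true := ext_range (a := 58179) (len := 43) h1353 m2_1353
  have h1355 : ∀ u < 58265, (fun u => chkFix tab mwordsA u) u = true := ext_range (a := 58222) (len := 43) h1354 m2_1354
  have h1356 : ∀ u < 58308, (fun u => chkFix tab mwordsA u) u = true := ext_range (a := 58265) (len := 43) h1355 m2_1355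
  have h1357 : ∀ u < 58351, (fun u => chkFix tab mwordsA u) u = true := ext_range (a := 58308) (len := 43) h1356 m2_1356
  have h1358 : ∀ u < 58394, (fun u => chkFix tab mwordsA u) u = true := ext_range (a := 58351) (len := 43) h1357 m2_1357
  have h1359 : ∀ u < 58437, (fun u => chkFix tab mwordsA u) u = true := ext_range (a := 58394) (len := 43) h1358 m2_1358
  have h1360 : ∀ u < 58480, (fun u => chkFix tab mwordsA u) u = true := ext_range (a := 58437) (len := 43) h1359 m2_1359
  have h1361 : ∀ u < 58523, (fun u => chkFix tab mwordsA u) u = true := ext_range (a := 58480) (len := 43) h1360 m2_1360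
  have h1362 : ∀ u < 58566, (fun u => chkFix tab mwordsA u) u = true := ext_range (a := 58523) (len := 43) h1361 m2_1361
  have h1363 : ∀ u < 58609, (fun u => chkFix tab mwordsA u) u = true := ext_range (a := 58566) (len := 43) h1362 m2_1362
  have h1364 : ∀ u < 58652, (fun u => chkFix tab mwordsA u) u = true := ext_range (a := 58609) (len := 43) h1363 m2_1363
  have h1365 : ∀ u < 58695, (fun u => chkFix tab mwordsA u) u = true := ext_range (a := 58652) (len := 43) h1364 m2_1364
  have h1366 : ∀ u < 58738, (fun u => chkFix tab mwordsA u) u = true := ext_range (a := 58695) (len := 43) h1365 m2_1365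
  have h1367 : ∀ u < 58781, (fun u => chkFix tab mwordsA u) u = true := ext_range (a := 58738) (len := 43) h1366 m2_1366
  have h1368 : ∀ u < 58824, (fun u => chkFix tab mwordsA u) u = true := ext_range (a := 58781) (len := 43) h1367 m2_1367
  have h1369 : ∀ u < 58867, (fun u => chkFix tab mwordsA u) u = true := ext_range (a := 58824) (len := 43) h1368 m2_1368
  have h1370 : ∀ u < 58910, (fun u => chkFix tab mwordsA u) u = true := ext_range (a := 58867) (len := 43) h1369 m2_1369
  have h1371 : ∀ u < 58953, (fun u => chkFix tab mwordsA u) u = true := ext_range (a := 58910) (len := 43) h1370 m2_1370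
  have h1372 : ∀ u < 58996, (fun u => chkFix tab mwordsA u) u = true := ext_range (a := 58953) (len := 43) h1371 m2_1371
  have h1373 : ∀ u < 59039, (fun u => chkFix tab mwordsA u) u = true := ext_range (a := 58996) (len := 43) h1372 m2_1372
  have h1374 : ∀ u < 59082, (fun u => chkFix tab mwordsA u) u = true := ext_range (a := 59039) (len := 43) h1373 m2_1373
  have h1375 : ∀ u < 59125, (fun u => chkFix tab mwordsA u) u = true := ext_range (a := 59082) (len := 43) h1374 m2_1374
  have h1376 : ∀ u < 59168, (fun u => chkFix tab mwordsA u) u = true := ext_range (a := 59125) (len := 43) h1375 m2_1375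
  have h1377 : ∀ u < 59211, (fun u => chkFix tab mwordsA u) u = true := ext_range (a := 59168) (len := 43) h1376 m2_1376
  have h1378 : ∀ u < 59254, (fun u => chkFix tab mwordsA u) u = true := ext_range (a := 59211) (len := 43) h1377 m2_1377
  have h1379 : ∀ u < 59297, (fun u => chkFix tab mwordsA u) u = true := ext_range (a := 59254) (len := 43) h1378 m2_1378
  have h1380 : ∀ u < 59340, (fun u => chkFix tab mwordsA u) u = true := ext_range (a := 59297) (len := 43) h1379 m2_1379
  have h1381 : ∀ u < 59383, (fun u => chkFix tab mwordsA u) u = true := ext_range (a := 59340) (len := 43) h1380 m2_1380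
  have h1382 : ∀ u < 59426, (fun u => chkFix tab mwordsA u) u = true := ext_range (a := 59383) (len := 43) h1381 m2_1381
  have h1383 : ∀ u < 59469, (fun u => chkFix tab mwordsA u) u = true := ext_range (a := 59426) (len := 43) h1382 m2_1382
  have h1384 : ∀ u < 59512, (fun u => chkFix tab mwordsA u) u = true := ext_range (a := 59469) (len := 43) h1383 m2_1383
  have h1385 : ∀ u < 59555, (fun u => chkFix tab mwordsA u) u = true := ext_range (a := 59512) (len := 43) h1384 m2_1384
  have h1386 : ∀ u < 59598, (fun u => chkFix tab mwordsA u) u = true := ext_range (a := 59555) (len := 43) h1385 m2_1385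
  have h1387 : ∀ u < 59641, (fun u => chkFix tab mwordsA u) u = true := ext_range (a := 59598) (len := 43) h1386 m2_1386
  have h1388 : ∀ u < 59684, (fun u => chkFix tab mwordsA u) u = true := ext_range (a := 59641) (len := 43) h1387 m2_1387
  have h1389 : ∀ u < 59727, (fun u => chkFix tab mwordsA u) u = true := ext_range (a := 59684) (len := 43) h1388 m2_1388
  have h1390 : ∀ u < 59770, (fun u => chkFix tab mwordsA u) u = true := ext_range (a := 59727) (len := 43) h1389 m2_1389
  have h1391 : ∀ u < 59813, (fun u => chkFix tab mwordsA u) u = true := ext_range (a := 59770) (len := 43) h1390 m2_1390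
  have h1392 : ∀ u < 59856, (fun u => chkFix tab mwordsA u) u = true := ext_range (a := 59813) (len := 43) h1391 m2_1391
  have h1393 : ∀ u < 59899, (fun u => chkFix tab mwordsA u) u = true := ext_range (a := 59856) (len := 43) h1392 m2_1392
  have h1394 : ∀ u < 59942, (fun u => chkFix tab mwordsA u) u = true := ext_range (a := 59899) (len := 43) h1393 m2_1393
  have h1395 : ∀ u < 59985, (fun u => chkFix tab mwordsA u) u = true := ext_range (a := 59942) (len := 43) h1394 m2_1394
  have h1396 : ∀ u < 60028, (fun u => chkFix tab mwordsA u) u = true := ext_range (a := 59985) (len := 43) h1395 m2_1395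
  have h1397 : ∀ u < 60071, (fun u => chkFix tab mwordsA u) u = true := ext_range (a := 60028) (len := 43) h1396 m2_1396
  have h1398 : ∀ u < 60114, (fun u => chkFix tab mwordsA u) u = true := ext_range (a := 60071) (len := 43) h1397 m2_1397
  have h1399 : ∀ u < 60157, (fun u => chkFix tab mwordsA u) u = true := ext_range (a := 60114) (len := 43) h1398 m2_1398
  have h1400 : ∀ u < 60200, (fun u => chkFix tab mwordsA u) u = true := ext_range (a := 60157) (len := 43) h1399 m2_1399
  have h1401 : ∀ u < 60243, (fun u => chkFix tab mwordsA u) u = true := ext_range (a := 60200) (len := 43) h1400 m2_1400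
  have h1402 : ∀ u < 60286, (fun u => chkFix tab mwordsA u) u = true := ext_range (a := 60243) (len := 43) h1401 m2_1401
  have h1403 : ∀ u < 60329, (fun u => chkFix tab mwordsA u) u = true := ext_range (a := 60286) (len := 43) h1402 m2_1402
  have h1404 : ∀ u < 60372, (fun u => chkFix tab mwordsA u) u = true := ext_range (a := 60329) (len := 43) h1403 m2_1403
  have h1405 : ∀ u < 60415, (fun u => chkFix tab mwordsA u) u = true := ext_range (a := 60372) (len := 43) h1404 m2_1404
  have h1406 : ∀ u < 60458, (fun u => chkFix tab mwordsA u) u = true := ext_range (a := 60415) (len := 43) h1405 m2_1405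
  have h1407 : ∀ u < 60501, (fun u => chkFix tab mwordsA u) u = true := ext_range (a := 60458) (len := 43) h1406 m2_1406
  have h1408 : ∀ u < 60544, (fun u => chkFix tab mwordsA u) u = true := ext_range (a := 60501) (len := 43) h1407 m2_1407
  have h1409 : ∀ u < 60587, (fun u => chkFix tab mwordsA u) u = true := ext_range (a := 60544) (len := 43) h1408 m2_1408
  have h1410 : ∀ u < 60630, (fun u => chkFix tab mwordsA u) u = true := ext_range (a := 60587) (len := 43) h1409 m2_1409
  have h1411 : ∀ u < 60673, (fun u => chkFix tab mwordsA u) u = true := ext_range (a := 60630) (len := 43) h1410 m2_1410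
  have h1412 : ∀ u < 60716, (fun u => chkFix tab mwordsA u) u = true := ext_range (a := 60673) (len := 43) h1411 m2_1411
  have h1413 : ∀ u < 60759, (fun u => chkFix tab mwordsA u) u = true := ext_range (a := 60716) (len := 43) h1412 m2_1412
  have h1414 : ∀ u < 60802, (fun u => chkFix tab mwordsA u) u = true := ext_range (a := 60759) (len := 43) h1413 m2_1413
  have h1415 : ∀ u < 60845, (fun u => chkFix tab mwordsA u) u = true := ext_range (a := 60802) (len := 43) h1414 m2_1414
  have h1416 : ∀ u < 60888, (fun u => chkFix tab mwordsA u) u = true := ext_range (a := 60845) (len := 43) h1415 m2_1415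
  have h1417 : ∀ u < 60931, (fun u => chkFix tab mwordsA u) u = true := ext_range (a := 60888) (len := 43) h1416 m2_1416
  have h1418 : ∀ u < 60974, (fun u => chkFix tab mwordsA u) u = true := ext_range (a := 60931) (len := 43) h1417 m2_1417
  have h1419 : ∀ u < 61017, (fun u => chkFix tab mwordsA u) u = true := ext_range (a := 60974) (len := 43) h1418 m2_1418
  have h1420 : ∀ u < 61060, (fun u => chkFix tab mwordsA u) u = true := ext_range (a := 61017) (len := 43) h1419 m2_1419
  have h1421 : ∀ u < 61103, (fun u => chkFix tab mwordsA u) u = true := ext_range (a := 61060) (len := 43) h1420 m2_1420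
  have h1422 : ∀ u < 61146, (fun u => chkFix tab mwordsA u) u = true := ext_range (a := 61103) (len := 43) h1421 m2_1421
  have h1423 : ∀ u < 61189, (fun u => chkFix tab mwordsA u) u = true := ext_range (a := 61146) (len := 43) h1422 m2_1422
  have h1424 : ∀ u < 61232, (fun u => chkFix tab mwordsA u) u = true := ext_range (a := 61189) (len := 43) h1423 m2_1423
  have h1425 : ∀ u < 61275, (fun u => chkFix tab mwordsA u) u = true := ext_range (a := 61232) (len := 43) h1424 m2_1424
  have h1426 : ∀ u < 61318, (fun u => chkFix tab mwordsA u) u = true := ext_range (a := 61275) (len := 43) h1425 m2_1425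
  have h1427 : ∀ u < 61361, (fun u => chkFix tab mwordsA u) u = true := ext_range (a := 61318) (len := 43) h1426 m2_1426
  have h1428 : ∀ u < 61404, (fun u => chkFix tab mwordsA u) u = true := ext_range (a := 61361) (len := 43) h1427 m2_1427
  have h1429 : ∀ u < 61447, (fun u => chkFix tab mwordsA u) u = true := ext_range (a := 61404) (len := 43) h1428 m2_1428
  have h1430 : ∀ u < 61490, (fun u => chkFix tab mwordsA u) u = true := ext_range (a := 61447) (len := 43) h1429 m2_1429
  have h1431 : ∀ u < 61533, (fun u => chkFix tab mwordsA u) u = true := ext_range (a := 61490) (len := 43) h1430 m2_1430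
  have h1432 : ∀ u < 61576, (fun u => chkFix tab mwordsA u) u = true := ext_range (a := 61533) (len := 43) h1431 m2_1431
  have h1433 : ∀ u < 61619, (fun u => chkFix tab mwordsA u) u = true := ext_range (a := 61576) (len := 43) h1432 m2_1432
  have h1434 : ∀ u < 61662, (fun u => chkFix tab mwordsA u) u = true := ext_range (a := 61619) (len := 43) h1433 m2_1433
  have h1435 : ∀ u < 61705, (fun u => chkFix tab mwordsA u) u = true := ext_range (a := 61662) (len := 43) h1434 m2_1434
  have h1436 : ∀ u < 61748, (fun u => chkFix tab mwordsA u) u = true := ext_range (a := 61705) (len := 43) h1435 m2_1435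
  have h1437 : ∀ u < 61791, (fun u => chkFix tab mwordsA u) u = true := ext_range (a := 61748) (len := 43) h1436 m2_1436
  have h1438 : ∀ u < 61834, (fun u => chkFix tab mwordsA u) u = true := ext_range (a := 61791) (len := 43) h1437 m2_1437
  have h1439 : ∀ u < 61877, (fun u => chkFix tab mwordsA u) u = true := ext_range (a := 61834) (len := 43) h1438 m2_1438
  have h1440 : ∀ u < 61920, (fun u => chkFix tab mwordsA u) u = true := ext_range (a := 61877) (len := 43) h1439 m2_1439
  have h1441 : ∀ u < 61963, (fun u => chkFix tab mwordsA u) u = true := ext_range (a := 61920) (len := 43) h1440 m2_1440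
  have h1442 : ∀ u < 62006, (fun u => chkFix tab mwordsA u) u = true := ext_range (a := 61963) (len := 43) h1441 m2_1441
  have h1443 : ∀ u < 62049, (fun u => chkFix tab mwordsA u) u = true := ext_range (a := 62006) (len := 43) h1442 m2_1442
  have h1444 : ∀ u < 62092, (fun u => chkFix tab mwordsA u) u = true := ext_range (a := 62049) (len := 43) h1443 m2_1443
  have h1445 : ∀ u < 62135, (fun u => chkFix tab mwordsA u) u = true := ext_range (a := 62092) (len := 43) h1444 m2_1444
  have h1446 : ∀ u < 62178, (fun u => chkFix tab mwordsA u) u = true := ext_range (a := 62135) (len := 43) h1445 m2_1445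
  have h1447 : ∀ u < 62221, (fun u => chkFix tab mwordsA u) u = true := ext_range (a := 62178) (len := 43) h1446 m2_1446
  have h1448 : ∀ u < 62264, (fun u => chkFix tab mwordsA u) u = true := ext_range (a := 62221) (len := 43) h1447 m2_1447
  have h1449 : ∀ u < 62307, (fun u => chkFix tab mwordsA u) u = true := ext_range (a := 62264) (len := 43) h1448 m2_1448
  have h1450 : ∀ u < 62350, (fun u => chkFix tab mwordsA u) u = true := ext_range (a := 62307) (len := 43) h1449 m2_1449
  have h1451 : ∀ u < 62393, (fun u => chkFix tab mwordsA u) u = true := ext_range (a := 62350) (len := 43) h1450 m2_1450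
  have h1452 : ∀ u < 62436, (fun u => chkFix tab mwordsA u) u = true := ext_range (a := 62393) (len := 43) h1451 m2_1451
  have h1453 : ∀ u < 62479, (fun u => chkFix tab mwordsA u) u = true := ext_range (a := 62436) (len := 43) h1452 m2_1452
  have h1454 : ∀ u < 62522, (fun u => chkFix tab mwordsA u) u = true := ext_range (a := 62479) (len := 43) h1453 m2_1453
  have h1455 : ∀ u < 62565, (fun u => chkFix tab mwordsA u) u = true := ext_range (a := 62522) (len := 43) h1454 m2_1454
  have h1456 : ∀ u < 62608, (fun u => chkFix tab mwordsA u) u = true := ext_range (a := 62565) (len := 43) h1455 m2_1455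
  have h1457 : ∀ u < 62651, (fun u => chkFix tab mwordsA u) u = true := ext_range (a := 62608) (len := 43) h1456 m2_1456
  have h1458 : ∀ u < 62694, (fun u => chkFix tab mwordsA u) u = true := ext_range (a := 62651) (len := 43) h1457 m2_1457
  have h1459 : ∀ u < 62737, (fun u => chkFix tab mwordsA u) u = true := ext_range (a := 62694) (len := 43) h1458 m2_1458
  have h1460 : ∀ u < 62780, (fun u => chkFix tab mwordsA u) u = true := ext_range (a := 62737) (len := 43) h1459 m2_1459
  have h1461 : ∀ u < 62823, (fun u => chkFix tab mwordsA u) u = true := ext_range (a := 62780) (len := 43) h1460 m2_1460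
  have h1462 : ∀ u < 62866, (fun u => chkFix tab mwordsA u) u = true := ext_range (a := 62823) (len := 43) h1461 m2_1461
  have h1463 : ∀ u < 62909, (fun u => chkFix tab mwordsA u) u = true := ext_range (a := 62866) (len := 43) h1462 m2_1462
  have h1464 : ∀ u < 62952, (fun u => chkFix tab mwordsA u) u = true := ext_range (a := 62909) (len := 43) h1463 m2_1463
  have h1465 : ∀ u < 62995, (fun u => chkFix tab mwordsA u) u = true := ext_range (a := 62952) (len := 43) h1464 m2_1464
  have h1466 : ∀ u < 63038, (fun u => chkFix tab mwordsA u) u = true := ext_range (a := 62995) (len := 43) h1465 m2_1465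
  have h1467 : ∀ u < 63081, (fun u => chkFix tab mwordsA u) u = true := ext_range (a := 63038) (len := 43) h1466 m2_1466
  have h1468 : ∀ u < 63124, (fun u => chkFix tab mwordsA u) u = true := ext_range (a := 63081) (len := 43) h1467 m2_1467
  have h1469 : ∀ u < 63167, (fun u => chkFix tab mwordsA u) u = true := ext_range (a := 63124) (len := 43) h1468 m2_1468
  have h1470 : ∀ u < 63210, (fun u => chkFix tab mwordsA u) u = true := ext_range (a := 63167) (len := 43) h1469 m2_1469
  have h1471 : ∀ u < 63253, (fun u => chkFix tab mwordsA u) u = true := ext_range (a := 63210) (len := 43) h1470 m2_1470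
  have h1472 : ∀ u < 63296, (fun u => chkFix tab mwordsA u) u = true := ext_range (a := 63253) (len := 43) h1471 m2_1471
  have h1473 : ∀ u < 63339, (fun u => chkFix tab mwordsA u) u = true := ext_range (a := 63296) (len := 43) h1472 m2_1472
  have h1474 : ∀ u < 63382, (fun u => chkFix tab mwordsA u) u = true := ext_range (a := 63339) (len := 43) h1473 m2_1473
  have h1475 : ∀ u < 63425, (fun u => chkFix tab mwordsA u) u = true := ext_range (a := 63382) (len := 43) h1474 m2_1474
  have h1476 : ∀ u < 63468, (fun u => chkFix tab mwordsA u) u = true := ext_range (a := 63425) (len := 43) h1475 m2_1475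
  have h1477 : ∀ u < 63511, (fun u => chkFix tab mwordsA u) u = true := ext_range (a := 63468) (len := 43) h1476 m2_1476
  have h1478 : ∀ u < 63554, (fun u => chkFix tab mwordsA u) u = true := ext_range (a := 63511) (len := 43) h1477 m2_1477
  have h1479 : ∀ u < 63597, (fun u => chkFix tab mwordsA u) u = true := ext_range (a := 63554) (len := 43) h1478 m2_1478
  have h1480 : ∀ u < 63640, (fun u => chkFix tab mwordsA u) u = true := ext_range (a := 63597) (len := 43) h1479 m2_1479
  have h1481 : ∀ u < 63683, (fun u => chkFix tab mwordsA u) u = true := ext_range (a := 63640) (len := 43) h1480 m2_1480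
  have h1482 : ∀ u < 63726, (fun u => chkFix tab mwordsA u) u = true := ext_range (a := 63683) (len := 43) h1481 m2_1481
  have h1483 : ∀ u < 63769, (fun u => chkFix tab mwordsA u) u = true := ext_range (a := 63726) (len := 43) h1482 m2_1482
  have h1484 : ∀ u < 63812, (fun u => chkFix tab mwordsA u) u = true := ext_range (a := 63769) (len := 43) h1483 m2_1483
  have h1485 : ∀ u < 63855, (fun u => chkFix tab mwordsA u) u = true := ext_range (a := 63812) (len := 43) h1484 m2_1484
  have h1486 : ∀ u < 63898, (fun u => chkFix tab mwordsA u) u = true := ext_range (a := 63855) (len := 43) h1485 m2_1485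
  have h1487 : ∀ u < 63941, (fun u => chkFix tab mwordsA u) u = true := ext_range (a := 63898) (len := 43) h1486 m2_1486
  have h1488 : ∀ u < 63984, (fun u => chkFix tab mwordsA u) u = true := ext_range (a := 63941) (len := 43) h1487 m2_1487
  have h1489 : ∀ u < 64027, (fun u => chkFix tab mwordsA u) u = true := ext_range (a := 63984) (len := 43) h1488 m2_1488
  have h1490 : ∀ u < 64070, (fun u => chkFix tab mwordsA u) u = true := ext_range (a := 64027) (len := 43) h1489 m2_1489
  have h1491 : ∀ u < 64113, (fun u => chkFix tab mwordsA u) u = true := ext_range (a := 64070) (len := 43) h1490 m2_1490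
  have h1492 : ∀ u < 64156, (fun u => chkFix tab mwordsA u) u = true := ext_range (a := 64113) (len := 43) h1491 m2_1491
  have h1493 : ∀ u < 64199, (fun u => chkFix tab mwordsA u) u = true := ext_range (a := 64156) (len := 43) h1492 m2_1492
  have h1494 : ∀ u < 64242, (fun u => chkFix tab mwordsA u) u = true := ext_range (a := 64199) (len := 43) h1493 m2_1493
  have h1495 : ∀ u < 64285, (fun u => chkFix tab mwordsA u) u = true := ext_range (a := 64242) (len := 43) h1494 m2_1494
  have h1496 : ∀ u < 64328, (fun u => chkFix tab mwordsA u) u = true := ext_range (a := 64285) (len := 43) h1495 m2_1495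
  have h1497 : ∀ u < 64371, (fun u => chkFix tab mwordsA u) u = true := ext_range (a := 64328) (len := 43) h1496 m2_1496
  have h1498 : ∀ u < 64414, (fun u => chkFix tab mwordsA u) u = true := ext_range (a := 64371) (len := 43) h1497 m2_1497
  have h1499 : ∀ u < 64457, (fun u => chkFix tab mwordsA u) u = true := ext_range (a := 64414) (len := 43) h1498 m2_1498
  have h1500 : ∀ u < 64500, (fun u => chkFix tab mwordsA u) u = true := ext_range (a := 64457) (len := 43) h1499 m2_1499
  have h1501 : ∀ u < 64543, (fun u => chkFix tab mwordsA u) u = true := ext_range (a := 64500) (len := 43) h1500 m2_1500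
  have h1502 : ∀ u < 64586, (fun u => chkFix tab mwordsA u) u = true := ext_range (a := 64543) (len := 43) h1501 m2_1501
  have h1503 : ∀ u < 64629, (fun u => chkFix tab mwordsA u) u = true := ext_range (a := 64586) (len := 43) h1502 m2_1502
  have h1504 : ∀ u < 64672, (fun u => chkFix tab mwordsA u) u = true := ext_range (a := 64629) (len := 43) h1503 m2_1503
  have h1505 : ∀ u < 64715, (fun u => chkFix tab mwordsA u) u = true := ext_range (a := 64672) (len := 43) h1504 m2_1504
  have h1506 : ∀ u < 64758, (fun u => chkFix tab mwordsA u) u = true := ext_range (a := 64715) (len := 43) h1505 m2_1505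
  have h1507 : ∀ u < 64801, (fun u => chkFix tab mwordsA u) u = true := ext_range (a := 64758) (len := 43) h1506 m2_1506
  have h1508 : ∀ u < 64844, (fun u => chkFix tab mwordsA u) u = true := ext_range (a := 64801) (len := 43) h1507 m2_1507
  have h1509 : ∀ u < 64887, (fun u => chkFix tab mwordsA u) u = true := ext_range (a := 64844) (len := 43) h1508 m2_1508
  have h1510 : ∀ u < 64930, (fun u => chkFix tab mwordsA u) u = true := ext_range (a := 64887) (len := 43) h1509 m2_1509
  have h1511 : ∀ u < 64973, (fun u => chkFix tab mwordsA u) u = true := ext_range (a := 64930) (len := 43) h1510 m2_1510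
  have h1512 : ∀ u < 65016, (fun u => chkFix tab mwordsA u) u = true := ext_range (a := 64973) (len := 43) h1511 m2_1511
  have h1513 : ∀ u < 65059, (fun u => chkFix tab mwordsA u) u = true := ext_range (a := 65016) (len := 43) h1512 m2_1512
  have h1514 : ∀ u < 65102, (fun u => chkFix tab mwordsA u) u = true := ext_range (a := 65059) (len := 43) h1513 m2_1513
  have h1515 : ∀ u < 65145, (fun u => chkFix tab mwordsA u) u = true := ext_range (a := 65102) (len := 43) h1514 m2_1514
  have h1516 : ∀ u < 65188, (fun u => chkFix tab mwordsA u) u = true := ext_range (a := 65145) (len := 43) h1515 m2_1515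
  have h1517 : ∀ u < 65231, (fun u => chkFix tab mwordsA u) u = true := ext_range (a := 65188) (len := 43) h1516 m2_1516
  have h1518 : ∀ u < 65274, (fun u => chkFix tab mwordsA u) u = true := ext_range (a := 65231) (len := 43) h1517 m2_1517
  have h1519 : ∀ u < 65317, (fun u => chkFix tab mwordsA u) u = true := ext_range (a := 65274) (len := 43) h1518 m2_1518
  have h1520 : ∀ u < 65360, (fun u => chkFix tab mwordsA u) u = true := ext_range (a := 65317) (len := 43) h1519 m2_1519
  have h1521 : ∀ u < 65403, (fun u => chkFix tab mwordsA u) u = true := ext_range (a := 65360) (len := 43) h1520 m2_1520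
  have h1522 : ∀ u < 65446, (fun u => chkFix tab mwordsA u) u = true := ext_range (a := 65403) (len := 43) h1521 m2_1521
  have h1523 : ∀ u < 65489, (fun u => chkFix tab mwordsA u) u = true := ext_range (a := 65446) (len := 43) h1522 m2_1522
  have h1524 : ∀ u < 65532, (fun u => chkFix tab mwordsA u) u = true := ext_range (a := 65489) (len := 43) h1523 m2_1523
  have h1525 : ∀ u < 65575, (fun u => chkFix tab mwordsA u) u = true := ext_range (a := 65532) (len := 43) h1524 m2_1524
  have h1526 : ∀ u < 65618, (fun u => chkFix tab mwordsA u) u = true := ext_range (a := 65575) (len := 43) h1525 m2_1525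
  have h1527 : ∀ u < 65661, (fun u => chkFix tab mwordsA u) u = true := ext_range (a := 65618) (len := 43) h1526 m2_1526
  have h1528 : ∀ u < 65704, (fun u => chkFix tab mwordsA u) u = true := ext_range (a := 65661) (len := 43) h1527 m2_1527
  have h1529 : ∀ u < 65747, (fun u => chkFix tab mwordsA u) u = true := ext_range (a := 65704) (len := 43) h1528 m2_1528
  have h1530 : ∀ u < 65790, (fun u => chkFix tab mwordsA u) u = true := ext_range (a := 65747) (len := 43) h1529 m2_1529
  have h1531 : ∀ u < 65833, (fun u => chkFix tab mwordsA u) u = true := ext_range (a := 65790) (len := 43) h1530 m2_1530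
  have h1532 : ∀ u < 65876, (fun u => chkFix tab mwordsA u) u = true := ext_range (a := 65833) (len := 43) h1531 m2_1531
  have h1533 : ∀ u < 65919, (fun u => chkFix tab mwordsA u) u = true := ext_range (a := 65876) (len := 43) h1532 m2_1532
  have h1534 : ∀ u < 65962, (fun u => chkFix tab mwordsA u) u = true := ext_range (a := 65919) (len := 43) h1533 m2_1533
  have h1535 : ∀ u < 66005, (fun u => chkFix tab mwordsA u) u = true := ext_range (a := 65962) (len := 43) h1534 m2_1534
  have h1536 : ∀ u < 66048, (fun u => chkFix tab mwordsA u) u = true := ext_range (a := 66005) (len := 43) h1535 m2_1535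
  have h1537 : ∀ u < 66091, (fun u => chkFix tab mwordsA u) u = true := ext_range (a := 66048) (len := 43) h1536 m2_1536
  have h1538 : ∀ u < 66134, (fun u => chkFix tab mwordsA u) u = true := ext_range (a := 66091) (len := 43) h1537 m2_1537
  have h1539 : ∀ u < 66177, (fun u => chkFix tab mwordsA u) u = true := ext_range (a := 66134) (len := 43) h1538 m2_1538
  have h1540 : ∀ u < 66220, (fun u => chkFix tab mwordsA u) u = true := ext_range (a := 66177) (len := 43) h1539 m2_1539
  have h1541 : ∀ u < 66263, (fun u => chkFix tab mwordsA u) u = true := ext_range (a := 66220) (len := 43) h1540 m2_1540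
  have h1542 : ∀ u < 66306, (fun u => chkFix tab mwordsA u) u = true := ext_range (a := 66263) (len := 43) h1541 m2_1541
  have h1543 : ∀ u < 66349, (fun u => chkFix tab mwordsA u) u = true := ext_range (a := 66306) (len := 43) h1542 m2_1542
  have h1544 : ∀ u < 66392, (fun u => chkFix tab mwordsA u) u = true := ext_range (a := 66349) (len := 43) h1543 m2_1543
  have h1545 : ∀ u < 66435, (fun u => chkFix tab mwordsA u) u = true := ext_range (a := 66392) (len := 43) h1544 m2_1544
  have h1546 : ∀ u < 66478, (fun u => chkFix tab mwordsA u) u = true := ext_range (a := 66435) (len := 43) h1545 m2_1545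
  have h1547 : ∀ u < 66521, (fun u => chkFix tab mwordsA u) u = true := ext_range (a := 66478) (len := 43) h1546 m2_1546
  have h1548 : ∀ u < 66564, (fun u => chkFix tab mwordsA u) u = true := ext_range (a := 66521) (len := 43) h1547 m2_1547
  have h1549 : ∀ u < 66607, (fun u => chkFix tab mwordsA u) u = true := ext_range (a := 66564) (len := 43) h1548 m2_1548
  have h1550 : ∀ u < 66650, (fun u => chkFix tab mwordsA u) u = true := ext_range (a := 66607) (len := 43) h1549 m2_1549
  have h1551 : ∀ u < 66693, (fun u => chkFix tab mwordsA u) u = true := ext_range (a := 66650) (len := 43) h1550 m2_1550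
  have h1552 : ∀ u < 66736, (fun u => chkFix tab mwordsA u) u = true := ext_range (a := 66693) (len := 43) h1551 m2_1551
  have h1553 : ∀ u < 66779, (fun u => chkFix tab mwordsA u) u = true := ext_range (a := 66736) (len := 43) h1552 m2_1552
  have h1554 : ∀ u < 66822, (fun u => chkFix tab mwordsA u) u = true := ext_range (a := 66779) (len := 43) h1553 m2_1553
  have h1555 : ∀ u < 66865, (fun u => chkFix tab mwordsA u) u = true := ext_range (a := 66822) (len := 43) h1554 m2_1554
  have h1556 : ∀ u < 66908, (fun u => chkFix tab mwordsA u) u = true := ext_range (a := 66865) (len := 43) h1555 m2_1555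
  have h1557 : ∀ u < 66951, (fun u => chkFix tab mwordsA u) u = true := ext_range (a := 66908) (len := 43) h1556 m2_1556
  have h1558 : ∀ u < 66994, (fun u => chkFix tab mwordsA u) u = true := ext_range (a := 66951) (len := 43) h1557 m2_1557
  have h1559 : ∀ u < 67037, (fun u => chkFix tab mwordsA u) u = true := ext_range (a := 66994) (len := 43) h1558 m2_1558
  have h1560 : ∀ u < 67080, (fun u => chkFix tab mwordsA u) u = true := ext_range (a := 67037) (len := 43) h1559 m2_1559
  have h1561 : ∀ u < 67123, (fun u => chkFix tab mwordsA u) u = true := ext_range (a := 67080) (len := 43) h1560 m2_1560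
  have h1562 : ∀ u < 67166, (fun u => chkFix tab mwordsA u) u = true := ext_range (a := 67123) (len := 43) h1561 m2_1561
  have h1563 : ∀ u < 67209, (fun u => chkFix tab mwordsA u) u = true := ext_range (a := 67166) (len := 43) h1562 m2_1562
  have h1564 : ∀ u < 67252, (fun u => chkFix tab mwordsA u) u = true := ext_range (a := 67209) (len := 43) h1563 m2_1563
  have h1565 : ∀ u < 67295, (fun u => chkFix tab mwordsA u) u = true := ext_range (a := 67252) (len := 43) h1564 m2_1564
  have h1566 : ∀ u < 67338, (fun u => chkFix tab mwordsA u) u = true := ext_range (a := 67295) (len := 43) h1565 m2_1565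
  have h1567 : ∀ u < 67381, (fun u => chkFix tab mwordsA u) u = true := ext_range (a := 67338) (len := 43) h1566 m2_1566
  have h1568 : ∀ u < 67424, (fun u => chkFix tab mwordsA u) u = true := ext_range (a := 67381) (len := 43) h1567 m2_1567
  have h1569 : ∀ u < 67467, (fun u => chkFix tab mwordsA u) u = true := ext_range (a := 67424) (len := 43) h1568 m2_1568
  have h1570 : ∀ u < 67510, (fun u => chkFix tab mwordsA u) u = true := ext_range (a := 67467) (len := 43) h1569 m2_1569
  have h1571 : ∀ u < 67553, (fun u => chkFix tab mwordsA u) u = true := ext_range (a := 67510) (len := 43) h1570 m2_1570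
  have h1572 : ∀ u < 67596, (fun u => chkFix tab mwordsA u) u = true := ext_range (a := 67553) (len := 43) h1571 m2_1571
  have h1573 : ∀ u < 67639, (fun u => chkFix tab mwordsA u) u = true := ext_range (a := 67596) (len := 43) h1572 m2_1572
  have h1574 : ∀ u < 67682, (fun u => chkFix tab mwordsA u) u = true := ext_range (a := 67639) (len := 43) h1573 m2_1573
  have h1575 : ∀ u < 67725, (fun u => chkFix tab mwordsA u) u = true := ext_range (a := 67682) (len := 43) h1574 m2_1574
  have h1576 : ∀ u < 67768, (fun u => chkFix tab mwordsA u) u = true := ext_range (a := 67725) (len := 43) h1575 m2_1575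
  have h1577 : ∀ u < 67811, (fun u => chkFix tab mwordsA u) u = true := ext_range (a := 67768) (len := 43) h1576 m2_1576
  have h1578 : ∀ u < 67854, (fun u => chkFix tab mwordsA u) u = true := ext_range (a := 67811) (len := 43) h1577 m2_1577
  have h1579 : ∀ u < 67897, (fun u => chkFix tab mwordsA u) u = true := ext_range (a := 67854) (len := 43) h1578 m2_1578
  have h1580 : ∀ u < 67940, (fun u => chkFix tab mwordsA u) u = true := ext_range (a := 67897) (len := 43) h1579 m2_1579
  have h1581 : ∀ u < 67983, (fun u => chkFix tab mwordsA u) u = true := ext_range (a := 67940) (len := 43) h1580 m2_1580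
  have h1582 : ∀ u < 68026, (fun u => chkFix tab mwordsA u) u = true := ext_range (a := 67983) (len := 43) h1581 m2_1581
  have h1583 : ∀ u < 68069, (fun u => chkFix tab mwordsA u) u = true := ext_range (a := 68026) (len := 43) h1582 m2_1582
  have h1584 : ∀ u < 68112, (fun u => chkFix tab mwordsA u) u = true := ext_range (a := 68069) (len := 43) h1583 m2_1583
  have h1585 : ∀ u < 68155, (fun u => chkFix tab mwordsA u) u = true := ext_range (a := 68112) (len := 43) h1584 m2_1584
  have h1586 : ∀ u < 68198, (fun u => chkFix tab mwordsA u) u = true := ext_range (a := 68155) (len := 43) h1585 m2_1585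
  have h1587 : ∀ u < 68241, (fun u => chkFix tab mwordsA u) u = true := ext_range (a := 68198) (len := 43) h1586 m2_1586
  have h1588 : ∀ u < 68284, (fun u => chkFix tab mwordsA u) u = true := ext_range (a := 68241) (len := 43) h1587 m2_1587
  have h1589 : ∀ u < 68327, (fun u => chkFix tab mwordsA u) u = true := ext_range (a := 68284) (len := 43) h1588 m2_1588
  have h1590 : ∀ u < 68370, (fun u => chkFix tab mwordsA u) u = true := ext_range (a := 68327) (len := 43) h1589 m2_1589
  have h1591 : ∀ u < 68413, (fun u => chkFix tab mwordsA u) u = true := ext_range (a := 68370) (len := 43) h1590 m2_1590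
  have h1592 : ∀ u < 68456, (fun u => chkFix tab mwordsA u) u = true := ext_range (a := 68413) (len := 43) h1591 m2_1591
  have h1593 : ∀ u < 68499, (fun u => chkFix tab mwordsA u) u = true := ext_range (a := 68456) (len := 43) h1592 m2_1592
  have h1594 : ∀ u < 68542, (fun u => chkFix tab mwordsA u) u = true := ext_range (a := 68499) (len := 43) h1593 m2_1593
  have h1595 : ∀ u < 68585, (fun u => chkFix tab mwordsA u) u = true := ext_range (a := 68542) (len := 43) h1594 m2_1594
  have h1596 : ∀ u < 68628, (fun u => chkFix tab mwordsA u) u = true := ext_range (a := 68585) (len := 43) h1595 m2_1595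
  have h1597 : ∀ u < 68671, (fun u => chkFix tab mwordsA u) u = true := ext_range (a := 68628) (len := 43) h1596 m2_1596
  have h1598 : ∀ u < 68714, (fun u => chkFix tab mwordsA u) u = true := ext_range (a := 68671) (len := 43) h1597 m2_1597
  have h1599 : ∀ u < 68757, (fun u => chkFix tab mwordsA u) u = true := ext_range (a := 68714) (len := 43) h1598 m2_1598
  have h1600 : ∀ u < 68800, (fun u => chkFix tab mwordsA u) u = true := ext_range (a := 68757) (len := 43) h1599 m2_1599
  have h1601 : ∀ u < 68843, (fun u => chkFix tab mwordsA u) u = true := ext_range (a := 68800) (len := 43) h1600 m2_1600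
  have h1602 : ∀ u < 68886, (fun u => chkFix tab mwordsA u) u = true := ext_range (a := 68843) (len := 43) h1601 m2_1601
  have h1603 : ∀ u < 68929, (fun u => chkFix tab mwordsA u) u = true := ext_range (a := 68886) (len := 43) h1602 m2_1602
  have h1604 : ∀ u < 68972, (fun u => chkFix tab mwordsA u) u = true := ext_range (a := 68929) (len := 43) h1603 m2_1603
  have h1605 : ∀ u < 69015, (fun u => chkFix tab mwordsA u) u = true := ext_range (a := 68972) (len := 43) h1604 m2_1604
  have h1606 : ∀ u < 69058, (fun u => chkFix tab mwordsA u) u = true := ext_range (a := 69015) (len := 43) h1605 m2_1605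
  have h1607 : ∀ u < 69101, (fun u => chkFix tab mwordsA u) u = true := ext_range (a := 69058) (len := 43) h1606 m2_1606
  have h1608 : ∀ u < 69144, (fun u => chkFix tab mwordsA u) u = true := ext_range (a := 69101) (len := 43) h1607 m2_1607
  have h1609 : ∀ u < 69187, (fun u => chkFix tab mwordsA u) u = true := ext_range (a := 69144) (len := 43) h1608 m2_1608
  have h1610 : ∀ u < 69230, (fun u => chkFix tab mwordsA u) u = true := ext_range (a := 69187) (len := 43) h1609 m2_1609
  have h1611 : ∀ u < 69273, (fun u => chkFix tab mwordsA u) u = true := ext_range (a := 69230) (len := 43) h1610 m2_1610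
  have h1612 : ∀ u < 69316, (fun u => chkFix tab mwordsA u) u = true := ext_range (a := 69273) (len := 43) h1611 m2_1611
  have h1613 : ∀ u < 69359, (fun u => chkFix tab mwordsA u) u = true := ext_range (a := 69316) (len := 43) h1612 m2_1612
  have h1614 : ∀ u < 69402, (fun u => chkFix tab mwordsA u) u = true := ext_range (a := 69359) (len := 43) h1613 m2_1613
  have h1615 : ∀ u < 69445, (fun u => chkFix tab mwordsA u) u = true := ext_range (a := 69402) (len := 43) h1614 m2_1614
  have h1616 : ∀ u < 69488, (fun u => chkFix tab mwordsA u) u = true := ext_range (a := 69445) (len := 43) h1615 m2_1615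
  have h1617 : ∀ u < 69531, (fun u => chkFix tab mwordsA u) u = true := ext_range (a := 69488) (len := 43) h1616 m2_1616
  have h1618 : ∀ u < 69574, (fun u => chkFix tab mwordsA u) u = true := ext_range (a := 69531) (len := 43) h1617 m2_1617
  have h1619 : ∀ u < 69617, (fun u => chkFix tab mwordsA u) u = true := ext_range (a := 69574) (len := 43) h1618 m2_1618
  have h1620 : ∀ u < 69660, (fun u => chkFix tab mwordsA u) u = true := ext_range (a := 69617) (len := 43) h1619 m2_1619
  have h1621 : ∀ u < 69703, (fun u => chkFix tab mwordsA u) u = true := ext_range (a := 69660) (len := 43) h1620 m2_1620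
  have h1622 : ∀ u < 69746, (fun u => chkFix tab mwordsA u) u = true := ext_range (a := 69703) (len := 43) h1621 m2_1621
  have h1623 : ∀ u < 69789, (fun u => chkFix tab mwordsA u) u = true := ext_range (a := 69746) (len := 43) h1622 m2_1622
  have h1624 : ∀ u < 69832, (fun u => chkFix tab mwordsA u) u = true := ext_range (a := 69789) (len := 43) h1623 m2_1623
  have h1625 : ∀ u < 69875, (fun u => chkFix tab mwordsA u) u = true := ext_range (a := 69832) (len := 43) h1624 m2_1624
  have h1626 : ∀ u < 69918, (fun u => chkFix tab mwordsA u) u = true := ext_range (a := 69875) (len := 43) h1625 m2_1625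
  have h1627 : ∀ u < 69961, (fun u => chkFix tab mwordsA u) u = true := ext_range (a := 69918) (len := 43) h1626 m2_1626
  have h1628 : ∀ u < 70004, (fun u => chkFix tab mwordsA u) u = true := ext_range (a := 69961) (len := 43) h1627 m2_1627
  have h1629 : ∀ u < 70047, (fun u => chkFix tab mwordsA u) u = true := ext_range (a := 70004) (len := 43) h1628 m2_1628
  have h1630 : ∀ u < 70090, (fun u => chkFix tab mwordsA u) u = true := ext_range (a := 70047) (len := 43) h1629 m2_1629
  have h1631 : ∀ u < 70133, (fun u => chkFix tab mwordsA u) u = true := ext_range (a := 70090) (len := 43) h1630 m2_1630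
  have h1632 : ∀ u < 70176, (fun u => chkFix tab mwordsA u) u = true := ext_range (a := 70133) (len := 43) h1631 m2_1631
  have h1633 : ∀ u < 70219, (fun u => chkFix tab mwordsA u) u = true := ext_range (a := 70176) (len := 43) h1632 m2_1632
  have h1634 : ∀ u < 70262, (fun u => chkFix tab mwordsA u) u = true := ext_range (a := 70219) (len := 43) h1633 m2_1633
  have h1635 : ∀ u < 70305, (fun u => chkFix tab mwordsA u) u = true := ext_range (a := 70262) (len := 43) h1634 m2_1634
  have h1636 : ∀ u < 70348, (fun u => chkFix tab mwordsA u) u = true := ext_range (a := 70305) (len := 43) h1635 m2_1635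
  have h1637 : ∀ u < 70391, (fun u => chkFix tab mwordsA u) u = true := ext_range (a := 70348) (len := 43) h1636 m2_1636
  have h1638 : ∀ u < 70434, (fun u => chkFix tab mwordsA u) u = true := ext_range (a := 70391) (len := 43) h1637 m2_1637
  have h1639 : ∀ u < 70477, (fun u => chkFix tab mwordsA u) u = true := ext_range (a := 70434) (len := 43) h1638 m2_1638
  have h1640 : ∀ u < 70520, (fun u => chkFix tab mwordsA u) u = true := ext_range (a := 70477) (len := 43) h1639 m2_1639
  have h1641 : ∀ u < 70563, (fun u => chkFix tab mwordsA u) u = true := ext_range (a := 70520) (len := 43) h1640 m2_1640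
  have h1642 : ∀ u < 70606, (fun u => chkFix tab mwordsA u) u = true := ext_range (a := 70563) (len := 43) h1641 m2_1641
  have h1643 : ∀ u < 70649, (fun u => chkFix tab mwordsA u) u = true := ext_range (a := 70606) (len := 43) h1642 m2_1642
  have h1644 : ∀ u < 70692, (fun u => chkFix tab mwordsA u) u = true := ext_range (a := 70649) (len := 43) h1643 m2_1643
  have h1645 : ∀ u < 70735, (fun u => chkFix tab mwordsA u) u = true := ext_range (a := 70692) (len := 43) h1644 m2_1644
  have h1646 : ∀ u < 70778, (fun u => chkFix tab mwordsA u) u = true := ext_range (a := 70735) (len := 43) h1645 m2_1645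
  have h1647 : ∀ u < 70821, (fun u => chkFix tab mwordsA u) u = true := ext_range (a := 70778) (len := 43) h1646 m2_1646
  have h1648 : ∀ u < 70864, (fun u => chkFix tab mwordsA u) u = true := ext_range (a := 70821) (len := 43) h1647 m2_1647
  have h1649 : ∀ u < 70907, (fun u => chkFix tab mwordsA u) u = true := ext_range (a := 70864) (len := 43) h1648 m2_1648
  have h1650 : ∀ u < 70950, (fun u => chkFix tab mwordsA u) u = true := ext_range (a := 70907) (len := 43) h1649 m2_1649
  have h1651 : ∀ u < 70993, (fun u => chkFix tab mwordsA u) u = true := ext_range (a := 70950) (len := 43) h1650 m2_1650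
  have h1652 : ∀ u < 71036, (fun u => chkFix tab mwordsA u) u = true := ext_range (a := 70993) (len := 43) h1651 m2_1651
  have h1653 : ∀ u < 71079, (fun u => chkFix tab mwordsA u) u = true := ext_range (a := 71036) (len := 43) h1652 m2_1652
  have h1654 : ∀ u < 71122, (fun u => chkFix tab mwordsA u) u = true := ext_range (a := 71079) (len := 43) h1653 m2_1653
  have h1655 : ∀ u < 71165, (fun u => chkFix tab mwordsA u) u = true := ext_range (a := 71122) (len := 43) h1654 m2_1654
  have h1656 : ∀ u < 71208, (fun u => chkFix tab mwordsA u) u = true := ext_range (a := 71165) (len := 43) h1655 m2_1655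
  have h1657 : ∀ u < 71251, (fun u => chkFix tab mwordsA u) u = true := ext_range (a := 71208) (len := 43) h1656 m2_1656
  have h1658 : ∀ u < 71294, (fun u => chkFix tab mwordsA u) u = true := ext_range (a := 71251) (len := 43) h1657 m2_1657
  have h1659 : ∀ u < 71337, (fun u => chkFix tab mwordsA u) u = true := ext_range (a := 71294) (len := 43) h1658 m2_1658
  have h1660 : ∀ u < 71380, (fun u => chkFix tab mwordsA u) u = true := ext_range (a := 71337) (len := 43) h1659 m2_1659
  have h1661 : ∀ u < 71423, (fun u => chkFix tab mwordsA u) u = true := ext_range (a := 71380) (len := 43) h1660 m2_1660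
  have h1662 : ∀ u < 71466, (fun u => chkFix tab mwordsA u) u = true := ext_range (a := 71423) (len := 43) h1661 m2_1661
  have h1663 : ∀ u < 71509, (fun u => chkFix tab mwordsA u) u = true := ext_range (a := 71466) (len := 43) h1662 m2_1662
  have h1664 : ∀ u < 71552, (fun u => chkFix tab mwordsA u) u = true := ext_range (a := 71509) (len := 43) h1663 m2_1663
  have h1665 : ∀ u < 71595, (fun u => chkFix tab mwordsA u) u = true := ext_range (a := 71552) (len := 43) h1664 m2_1664
  have h1666 : ∀ u < 71638, (fun u => chkFix tab mwordsA u) u = true := ext_range (a := 71595) (len := 43) h1665 m2_1665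
  have h1667 : ∀ u < 71681, (fun u => chkFix tab mwordsA u) u = true := ext_range (a := 71638) (len := 43) h1666 m2_1666
  have h1668 : ∀ u < 71724, (fun u => chkFix tab mwordsA u) u = true := ext_range (a := 71681) (len := 43) h1667 m2_1667
  have h1669 : ∀ u < 71767, (fun u => chkFix tab mwordsA u) u = true := ext_range (a := 71724) (len := 43) h1668 m2_1668
  have h1670 : ∀ u < 71810, (fun u => chkFix tab mwordsA u) u = true := ext_range (a := 71767) (len := 43) h1669 m2_1669
  have h1671 : ∀ u < 71853, (fun u => chkFix tab mwordsA u) u = true := ext_range (a := 71810) (len := 43) h1670 m2_1670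
  have h1672 : ∀ u < 71896, (fun u => chkFix tab mwordsA u) u = true := ext_range (a := 71853) (len := 43) h1671 m2_1671
  have h1673 : ∀ u < 71939, (fun u => chkFix tab mwordsA u) u = true := ext_range (a := 71896) (len := 43) h1672 m2_1672
  have h1674 : ∀ u < 71982, (fun u => chkFix tab mwordsA u) u = true := ext_range (a := 71939) (len := 43) h1673 m2_1673
  have h1675 : ∀ u < 72025, (fun u => chkFix tab mwordsA u) u = true := ext_range (a := 71982) (len := 43) h1674 m2_1674
  have h1676 : ∀ u < 72068, (fun u => chkFix tab mwordsA u) u = true := ext_range (a := 72025) (len := 43) h1675 m2_1675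
  have h1677 : ∀ u < 72111, (fun u => chkFix tab mwordsA u) u = true := ext_range (a := 72068) (len := 43) h1676 m2_1676
  have h1678 : ∀ u < 72154, (fun u => chkFix tab mwordsA u) u = true := ext_range (a := 72111) (len := 43) h1677 m2_1677
  have h1679 : ∀ u < 72197, (fun u => chkFix tab mwordsA u) u = true := ext_range (a := 72154) (len := 43) h1678 m2_1678
  have h1680 : ∀ u < 72240, (fun u => chkFix tab mwordsA u) u = true := ext_range (a := 72197) (len := 43) h1679 m2_1679
  have h1681 : ∀ u < 72283, (fun u => chkFix tab mwordsA u) u = true := ext_range (a := 72240) (len := 43) h1680 m2_1680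
  have h1682 : ∀ u < 72326, (fun u => chkFix tab mwordsA u) u = true := ext_range (a := 72283) (len := 43) h1681 m2_1681
  have h1683 : ∀ u < 72369, (fun u => chkFix tab mwordsA u) u = true := ext_range (a := 72326) (len := 43) h1682 m2_1682
  have h1684 : ∀ u < 72412, (fun u => chkFix tab mwordsA u) u = true := ext_range (a := 72369) (len := 43) h1683 m2_1683
  have h1685 : ∀ u < 72455, (fun u => chkFix tab mwordsA u) u = true := ext_range (a := 72412) (len := 43) h1684 m2_1684
  have h1686 : ∀ u < 72498, (fun u => chkFix tab mwordsA u) u = true := ext_range (a := 72455) (len := 43) h1685 m2_1685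
  have h1687 : ∀ u < 72541, (fun u => chkFix tab mwordsA u) u = true := ext_range (a := 72498) (len := 43) h1686 m2_1686
  have h1688 : ∀ u < 72584, (fun u => chkFix tab mwordsA u) u = true := ext_range (a := 72541) (len := 43) h1687 m2_1687
  have h1689 : ∀ u < 72627, (fun u => chkFix tab mwordsA u) u = true := ext_range (a := 72584) (len := 43) h1688 m2_1688
  have h1690 : ∀ u < 72670, (fun u => chkFix tab mwordsA u) u = true := ext_range (a := 72627) (len := 43) h1689 m2_1689
  have h1691 : ∀ u < 72713, (fun u => chkFix tab mwordsA u) u = true := ext_range (a := 72670) (len := 43) h1690 m2_1690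
  have h1692 : ∀ u < 72756, (fun u => chkFix tab mwordsA u) u = true := ext_range (a := 72713) (len := 43) h1691 m2_1691
  have h1693 : ∀ u < 72799, (fun u => chkFix tab mwordsA u) u = true := ext_range (a := 72756) (len := 43) h1692 m2_1692
  have h1694 : ∀ u < 72842, (fun u => chkFix tab mwordsA u) u = true := ext_range (a := 72799) (len := 43) h1693 m2_1693
  have h1695 : ∀ u < 72885, (fun u => chkFix tab mwordsA u) u = true := ext_range (a := 72842) (len := 43) h1694 m2_1694
  have h1696 : ∀ u < 72928, (fun u => chkFix tab mwordsA u) u = true := ext_range (a := 72885) (len := 43) h1695 m2_1695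
  have h1697 : ∀ u < 72971, (fun u => chkFix tab mwordsA u) u = true := ext_range (a := 72928) (len := 43) h1696 m2_1696
  have h1698 : ∀ u < 73014, (fun u => chkFix tab mwordsA u) u = true := ext_range (a := 72971) (len := 43) h1697 m2_1697
  have h1699 : ∀ u < 73057, (fun u => chkFix tab mwordsA u) u = true := ext_range (a := 73014) (len := 43) h1698 m2_1698
  have h1700 : ∀ u < 73100, (fun u => chkFix tab mwordsA u) u = true := ext_range (a := 73057) (len := 43) h1699 m2_1699
  have h1701 : ∀ u < 73143, (fun u => chkFix tab mwordsA u) u = true := ext_range (a := 73100) (len := 43) h1700 m2_1700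
  have h1702 : ∀ u < 73186, (fun u => chkFix tab mwordsA u) u = true := ext_range (a := 73143) (len := 43) h1701 m2_1701
  have h1703 : ∀ u < 73229, (fun u => chkFix tab mwordsA u) u = true := ext_range (a := 73186) (len := 43) h1702 m2_1702
  have h1704 : ∀ u < 73272, (fun u => chkFix tab mwordsA u) u = true := ext_range (a := 73229) (len := 43) h1703 m2_1703
  have h1705 : ∀ u < 73315, (fun u => chkFix tab mwordsA u) u = true := ext_range (a := 73272) (len := 43) h1704 m2_1704
  have h1706 : ∀ u < 73358, (fun u => chkFix tab mwordsA u) u = true := ext_range (a := 73315) (len := 43) h1705 m2_1705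
  have h1707 : ∀ u < 73401, (fun u => chkFix tab mwordsA u) u = true := ext_range (a := 73358) (len := 43) h1706 m2_1706
  have h1708 : ∀ u < 73444, (fun u => chkFix tab mwordsA u) u = true := ext_range (a := 73401) (len := 43) h1707 m2_1707
  have h1709 : ∀ u < 73487, (fun u => chkFix tab mwordsA u) u = true := ext_range (a := 73444) (len := 43) h1708 m2_1708
  have h1710 : ∀ u < 73530, (fun u => chkFix tab mwordsA u) u = true := ext_range (a := 73487) (len := 43) h1709 m2_1709
  have h1711 : ∀ u < 73573, (fun u => chkFix tab mwordsA u) u = true := ext_range (a := 73530) (len := 43) h1710 m2_1710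
  have h1712 : ∀ u < 73616, (fun u => chkFix tab mwordsA u) u = true := ext_range (a := 73573) (len := 43) h1711 m2_1711
  have h1713 : ∀ u < 73659, (fun u => chkFix tab mwordsA u) u = true := ext_range (a := 73616) (len := 43) h1712 m2_1712
  have h1714 : ∀ u < 73702, (fun u => chkFix tab mwordsA u) u = true := ext_range (a := 73659) (len := 43) h1713 m2_1713
  have h1715 : ∀ u < 73745, (fun u => chkFix tab mwordsA u) u = true := ext_range (a := 73702) (len := 43) h1714 m2_1714
  have h1716 : ∀ u < 73788, (fun u => chkFix tab mwordsA u) u = true := ext_range (a := 73745) (len := 43) h1715 m2_1715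
  have h1717 : ∀ u < 73831, (fun u => chkFix tab mwordsA u) u = true := ext_range (a := 73788) (len := 43) h1716 m2_1716
  have h1718 : ∀ u < 73874, (fun u => chkFix tab mwordsA u) u = true := ext_range (a := 73831) (len := 43) h1717 m2_1717
  have h1719 : ∀ u < 73917, (fun u => chkFix tab mwordsA u) u = true := ext_range (a := 73874) (len := 43) h1718 m2_1718
  have h1720 : ∀ u < 73960, (fun u => chkFix tab mwordsA u) u = true := ext_range (a := 73917) (len := 43) h1719 m2_1719
  have h1721 : ∀ u < 74003, (fun u => chkFix tab mwordsA u) u = true := ext_range (a := 73960) (len := 43) h1720 m2_1720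
  have h1722 : ∀ u < 74046, (fun u => chkFix tab mwordsA u) u = true := ext_range (a := 74003) (len := 43) h1721 m2_1721
  have h1723 : ∀ u < 74089, (fun u => chkFix tab mwordsA u) u = true := ext_range (a := 74046) (len := 43) h1722 m2_1722
  have h1724 : ∀ u < 74132, (fun u => chkFix tab mwordsA u) u = true := ext_range (a := 74089) (len := 43) h1723 m2_1723
  have h1725 : ∀ u < 74175, (fun u => chkFix tab mwordsA u) u = true := ext_range (a := 74132) (len := 43) h1724 m2_1724
  have h1726 : ∀ u < 74218, (fun u => chkFix tab mwordsA u) u = true := ext_range (a := 74175) (len := 43) h1725 m2_1725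
  have h1727 : ∀ u < 74261, (fun u => chkFix tab mwordsA u) u = true := ext_range (a := 74218) (len := 43) h1726 m2_1726
  have h1728 : ∀ u < 74304, (fun u => chkFix tab mwordsA u) u = true := ext_range (a := 74261) (len := 43) h1727 m2_1727
  have h1729 : ∀ u < 74347, (fun u => chkFix tab mwordsA u) u = true := ext_range (a := 74304) (len := 43) h1728 m2_1728
  have h1730 : ∀ u < 74390, (fun u => chkFix tab mwordsA u) u = true := ext_range (a := 74347) (len := 43) h1729 m2_1729
  have h1731 : ∀ u < 74433, (fun u => chkFix tab mwordsA u) u = true := ext_range (a := 74390) (len := 43) h1730 m2_1730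
  have h1732 : ∀ u < 74476, (fun u => chkFix tab mwordsA u) u = true := ext_range (a := 74433) (len := 43) h1731 m2_1731
  have h1733 : ∀ u < 74519, (fun u => chkFix tab mwordsA u) u = true := ext_range (a := 74476) (len := 43) h1732 m2_1732
  have h1734 : ∀ u < 74562, (fun u => chkFix tab mwordsA u) u = true := ext_range (a := 74519) (len := 43) h1733 m2_1733
  have h1735 : ∀ u < 74605, (fun u => chkFix tab mwordsA u) u = true := ext_range (a := 74562) (len := 43) h1734 m2_1734
  have h1736 : ∀ u < 74648, (fun u => chkFix tab mwordsA u) u = true := ext_range (a := 74605) (len := 43) h1735 m2_1735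
  have h1737 : ∀ u < 74691, (fun u => chkFix tab mwordsA u) u = true := ext_range (a := 74648) (len := 43) h1736 m2_1736
  have h1738 : ∀ u < 74734, (fun u => chkFix tab mwordsA u) u = true := ext_range (a := 74691) (len := 43) h1737 m2_1737
  have h1739 : ∀ u < 74777, (fun u => chkFix tab mwordsA u) u = true := ext_range (a := 74734) (len := 43) h1738 m2_1738
  have h1740 : ∀ u < 74820, (fun u => chkFix tab mwordsA u) u = true := ext_range (a := 74777) (len := 43) h1739 m2_1739
  have h1741 : ∀ u < 74863, (fun u => chkFix tab mwordsA u) u = true := ext_range (a := 74820) (len := 43) h1740 m2_1740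
  have h1742 : ∀ u < 74906, (fun u => chkFix tab mwordsA u) u = true := ext_range (a := 74863) (len := 43) h1741 m2_1741
  have h1743 : ∀ u < 74949, (fun u => chkFix tab mwordsA u) u = true := ext_range (a := 74906) (len := 43) h1742 m2_1742
  have h1744 : ∀ u < 74992, (fun u => chkFix tab mwordsA u) u = true := ext_range (a := 74949) (len := 43) h1743 m2_1743
  have h1745 : ∀ u < 75035, (fun u => chkFix tab mwordsA u) u = true := ext_range (a := 74992) (len := 43) h1744 m2_1744
  have h1746 : ∀ u < 75078, (fun u => chkFix tab mwordsA u) u = true := ext_range (a := 75035) (len := 43) h1745 m2_1745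
  have h1747 : ∀ u < 75121, (fun u => chkFix tab mwordsA u) u = true := ext_range (a := 75078) (len := 43) h1746 m2_1746
  have h1748 : ∀ u < 75164, (fun u => chkFix tab mwordsA u) u = true := ext_range (a := 75121) (len := 43) h1747 m2_1747
  have h1749 : ∀ u < 75207, (fun u => chkFix tab mwordsA u) u = true := ext_range (a := 75164) (len := 43) h1748 m2_1748
  have h1750 : ∀ u < 75250, (fun u => chkFix tab mwordsA u) u = true := ext_range (a := 75207) (len := 43) h1749 m2_1749
  have h1751 : ∀ u < 75293, (fun u => chkFix tab mwordsA u) u = true := ext_range (a := 75250) (len := 43) h1750 m2_1750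
  have h1752 : ∀ u < 75336, (fun u => chkFix tab mwordsA u) u = true := ext_range (a := 75293) (len := 43) h1751 m2_1751
  have h1753 : ∀ u < 75379, (fun u => chkFix tab mwordsA u) u = true := ext_range (a := 75336) (len := 43) h1752 m2_1752
  have h1754 : ∀ u < 75422, (fun u => chkFix tab mwordsA u) u = true := ext_range (a := 75379) (len := 43) h1753 m2_1753
  have h1755 : ∀ u < 75465, (fun u => chkFix tab mwordsA u) u = true := ext_range (a := 75422) (len := 43) h1754 m2_1754
  have h1756 : ∀ u < 75508, (fun u => chkFix tab mwordsA u) u = true := ext_range (a := 75465) (len := 43) h1755 m2_1755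
  have h1757 : ∀ u < 75551, (fun u => chkFix tab mwordsA u) u = true := ext_range (a := 75508) (len := 43) h1756 m2_1756
  have h1758 : ∀ u < 75594, (fun u => chkFix tab mwordsA u) u = true := ext_range (a := 75551) (len := 43) h1757 m2_1757
  have h1759 : ∀ u < 75637, (fun u => chkFix tab mwordsA u) u = true := ext_range (a := 75594) (len := 43) h1758 m2_1758
  have h1760 : ∀ u < 75680, (fun u => chkFix tab mwordsA u) u = true := ext_range (a := 75637) (len := 43) h1759 m2_1759
  have h1761 : ∀ u < 75723, (fun u => chkFix tab mwordsA u) u = true := ext_range (a := 75680) (len := 43) h1760 m2_1760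
  have h1762 : ∀ u < 75766, (fun u => chkFix tab mwordsA u) u = true := ext_range (a := 75723) (len := 43) h1761 m2_1761
  have h1763 : ∀ u < 75809, (fun u => chkFix tab mwordsA u) u = true := ext_range (a := 75766) (len := 43) h1762 m2_1762
  have h1764 : ∀ u < 75852, (fun u => chkFix tab mwordsA u) u = true := ext_range (a := 75809) (len := 43) h1763 m2_1763
  have h1765 : ∀ u < 75895, (fun u => chkFix tab mwordsA u) u = true := ext_range (a := 75852) (len := 43) h1764 m2_1764
  have h1766 : ∀ u < 75938, (fun u => chkFix tab mwordsA u) u = true := ext_range (a := 75895) (len := 43) h1765 m2_1765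
  have h1767 : ∀ u < 75981, (fun u => chkFix tab mwordsA u) u = true := ext_range (a := 75938) (len := 43) h1766 m2_1766
  have h1768 : ∀ u < 76024, (fun u => chkFix tab mwordsA u) u = true := ext_range (a := 75981) (len := 43) h1767 m2_1767
  have h1769 : ∀ u < 76067, (fun u => chkFix tab mwordsA u) u = true := ext_range (a := 76024) (len := 43) h1768 m2_1768
  have h1770 : ∀ u < 76110, (fun u => chkFix tab mwordsA u) u = true := ext_range (a := 76067) (len := 43) h1769 m2_1769
  have h1771 : ∀ u < 76153, (fun u => chkFix tab mwordsA u) u = true := ext_range (a := 76110) (len := 43) h1770 m2_1770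
  have h1772 : ∀ u < 76196, (fun u => chkFix tab mwordsA u) u = true := ext_range (a := 76153) (len := 43) h1771 m2_1771
  have h1773 : ∀ u < 76239, (fun u => chkFix tab mwordsA u) u = true := ext_range (a := 76196) (len := 43) h1772 m2_1772
  have h1774 : ∀ u < 76282, (fun u => chkFix tab mwordsA u) u = true := ext_range (a := 76239) (len := 43) h1773 m2_1773
  have h1775 : ∀ u < 76325, (fun u => chkFix tab mwordsA u) u = true := ext_range (a := 76282) (len := 43) h1774 m2_1774
  have h1776 : ∀ u < 76368, (fun u => chkFix tab mwordsA u) u = true := ext_range (a := 76325) (len := 43) h1775 m2_1775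
  have h1777 : ∀ u < 76411, (fun u => chkFix tab mwordsA u) u = true := ext_range (a := 76368) (len := 43) h1776 m2_1776
  have h1778 : ∀ u < 76454, (fun u => chkFix tab mwordsA u) u = true := ext_range (a := 76411) (len := 43) h1777 m2_1777
  have h1779 : ∀ u < 76497, (fun u => chkFix tab mwordsA u) u = true := ext_range (a := 76454) (len := 43) h1778 m2_1778
  have h1780 : ∀ u < 76540, (fun u => chkFix tab mwordsA u) u = true := ext_range (a := 76497) (len := 43) h1779 m2_1779
  have h1781 : ∀ u < 76583, (fun u => chkFix tab mwordsA u) u = true := ext_range (a := 76540) (len := 43) h1780 m2_1780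
  have h1782 : ∀ u < 76626, (fun u => chkFix tab mwordsA u) u = true := ext_range (a := 76583) (len := 43) h1781 m2_1781
  have h1783 : ∀ u < 76669, (fun u => chkFix tab mwordsA u) u = true := ext_range (a := 76626) (len := 43) h1782 m2_1782
  have h1784 : ∀ u < 76712, (fun u => chkFix tab mwordsA u) u = true := ext_range (a := 76669) (len := 43) h1783 m2_1783
  have h1785 : ∀ u < 76755, (fun u => chkFix tab mwordsA u) u = true := ext_range (a := 76712) (len := 43) h1784 m2_1784
  have h1786 : ∀ u < 76798, (fun u => chkFix tab mwordsA u) u = true := ext_range (a := 76755) (len := 43) h1785 m2_1785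
  have h1787 : ∀ u < 76841, (fun u => chkFix tab mwordsA u) u = true := ext_range (a := 76798) (len := 43) h1786 m2_1786
  have h1788 : ∀ u < 76884, (fun u => chkFix tab mwordsA u) u = true := ext_range (a := 76841) (len := 43) h1787 m2_1787
  have h1789 : ∀ u < 76927, (fun u => chkFix tab mwordsA u) u = true := ext_range (a := 76884) (len := 43) h1788 m2_1788
  have h1790 : ∀ u < 76970, (fun u => chkFix tab mwordsA u) u = true := ext_range (a := 76927) (len := 43) h1789 m2_1789
  have h1791 : ∀ u < 77013, (fun u => chkFix tab mwordsA u) u = true := ext_range (a := 76970) (len := 43) h1790 m2_1790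
  have h1792 : ∀ u < 77056, (fun u => chkFix tab mwordsA u) u = true := ext_range (a := 77013) (len := 43) h1791 m2_1791
  have h1793 : ∀ u < 77099, (fun u => chkFix tab mwordsA u) u = true := ext_range (a := 77056) (len := 43) h1792 m2_1792
  have h1794 : ∀ u < 77142, (fun u => chkFix tab mwordsA u) u = true := ext_range (a := 77099) (len := 43) h1793 m2_1793
  have h1795 : ∀ u < 77185, (fun u => chkFix tab mwordsA u) u = true := ext_range (a := 77142) (len := 43) h1794 m2_1794
  have h1796 : ∀ u < 77228, (fun u => chkFix tab mwordsA u) u = true := ext_range (a := 77185) (len := 43) h1795 m2_1795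
  have h1797 : ∀ u < 77271, (fun u => chkFix tab mwordsA u) u = true := ext_range (a := 77228) (len := 43) h1796 m2_1796
  have h1798 : ∀ u < 77314, (fun u => chkFix tab mwordsA u) u = true := ext_range (a := 77271) (len := 43) h1797 m2_1797
  have h1799 : ∀ u < 77357, (fun u => chkFix tab mwordsA u) u = true := ext_range (a := 77314) (len := 43) h1798 m2_1798
  have h1800 : ∀ u < 77400, (fun u => chkFix tab mwordsA u) u = true := ext_range (a := 77357) (len := 43) h1799 m2_1799
  have h1801 : ∀ u < 77443, (fun u => chkFix tab mwordsA u) u = true := ext_range (a := 77400) (len := 43) h1800 m2_1800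
  have h1802 : ∀ u < 77486, (fun u => chkFix tab mwordsA u) u = true := ext_range (a := 77443) (len := 43) h1801 m2_1801
  have h1803 : ∀ u < 77529, (fun u => chkFix tab mwordsA u) u = true := ext_range (a := 77486) (len := 43) h1802 m2_1802
  have h1804 : ∀ u < 77572, (fun u => chkFix tab mwordsA u) u = true := ext_range (a := 77529) (len := 43) h1803 m2_1803
  have h1805 : ∀ u < 77615, (fun u => chkFix tab mwordsA u) u = true := ext_range (a := 77572) (len := 43) h1804 m2_1804
  have h1806 : ∀ u < 77658, (fun u => chkFix tab mwordsA u) u = true := ext_range (a := 77615) (len := 43) h1805 m2_1805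
  have h1807 : ∀ u < 77701, (fun u => chkFix tab mwordsA u) u = true := ext_range (a := 77658) (len := 43) h1806 m2_1806
  have h1808 : ∀ u < 77744, (fun u => chkFix tab mwordsA u) u = true := ext_range (a := 77701) (len := 43) h1807 m2_1807
  have h1809 : ∀ u < 77787, (fun u => chkFix tab mwordsA u) u = true := ext_range (a := 77744) (len := 43) h1808 m2_1808
  have h1810 : ∀ u < 77830, (fun u => chkFix tab mwordsA u) u = true := ext_range (a := 77787) (len := 43) h1809 m2_1809
  have h1811 : ∀ u < 77873, (fun u => chkFix tab mwordsA u) u = true := ext_range (a := 77830) (len := 43) h1810 m2_1810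
  have h1812 : ∀ u < 77916, (fun u => chkFix tab mwordsA u) u = true := ext_range (a := 77873) (len := 43) h1811 m2_1811
  have h1813 : ∀ u < 77959, (fun u => chkFix tab mwordsA u) u = true := ext_range (a := 77916) (len := 43) h1812 m2_1812
  have h1814 : ∀ u < 78002, (fun u => chkFix tab mwordsA u) u = true := ext_range (a := 77959) (len := 43) h1813 m2_1813
  have h1815 : ∀ u < 78045, (fun u => chkFix tab mwordsA u) u = true := ext_range (a := 78002) (len := 43) h1814 m2_1814
  have h1816 : ∀ u < 78088, (fun u => chkFix tab mwordsA u) u = true := ext_range (a := 78045) (len := 43) h1815 m2_1815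
  have h1817 : ∀ u < 78131, (fun u => chkFix tab mwordsA u) u = true := ext_range (a := 78088) (len := 43) h1816 m2_1816
  have h1818 : ∀ u < 78174, (fun u => chkFix tab mwordsA u) u = true := ext_range (a := 78131) (len := 43) h1817 m2_1817
  have h1819 : ∀ u < 78217, (fun u => chkFix tab mwordsA u) u = true := ext_range (a := 78174) (len := 43) h1818 m2_1818
  have h1820 : ∀ u < 78260, (fun u => chkFix tab mwordsA u) u = true := ext_range (a := 78217) (len := 43) h1819 m2_1819
  have h1821 : ∀ u < 78303, (fun u => chkFix tab mwordsA u) u = true := ext_range (a := 78260) (len := 43) h1820 m2_1820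
  have h1822 : ∀ u < 78346, (fun u => chkFix tab mwordsA u) u = true := ext_range (a := 78303) (len := 43) h1821 m2_1821
  have h1823 : ∀ u < 78389, (fun u => chkFix tab mwordsA u) u = true := ext_range (a := 78346) (len := 43) h1822 m2_1822
  have h1824 : ∀ u < 78432, (fun u => chkFix tab mwordsA u) u = true := ext_range (a := 78389) (len := 43) h1823 m2_1823
  have h1825 : ∀ u < 78475, (fun u => chkFix tab mwordsA u) u = true := ext_range (a := 78432) (len := 43) h1824 m2_1824
  have h1826 : ∀ u < 78518, (fun u => chkFix tab mwordsA u) u = true := ext_range (a := 78475) (len := 43) h1825 m2_1825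
  have h1827 : ∀ u < 78561, (fun u => chkFix tab mwordsA u) u = true := ext_range (a := 78518) (len := 43) h1826 m2_1826
  have h1828 : ∀ u < 78604, (fun u => chkFix tab mwordsA u) u = true := ext_range (a := 78561) (len := 43) h1827 m2_1827
  have h1829 : ∀ u < 78647, (fun u => chkFix tab mwordsA u) u = true := ext_range (a := 78604) (len := 43) h1828 m2_1828
  have h1830 : ∀ u < 78690, (fun u => chkFix tab mwordsA u) u = true := ext_range (a := 78647) (len := 43) h1829 m2_1829
  have h1831 : ∀ u < 78733, (fun u => chkFix tab mwordsA u) u = true := ext_range (a := 78690) (len := 43) h1830 m2_1830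
  have h1832 : ∀ u < 78776, (fun u => chkFix tab mwordsA u) u = true := ext_range (a := 78733) (len := 43) h1831 m2_1831
  have h1833 : ∀ u < 78819, (fun u => chkFix tab mwordsA u) u = true := ext_range (a := 78776) (len := 43) h1832 m2_1832
  have h1834 : ∀ u < 78862, (fun u => chkFix tab mwordsA u) u = true := ext_range (a := 78819) (len := 43) h1833 m2_1833
  have h1835 : ∀ u < 78905, (fun u => chkFix tab mwordsA u) u = true := ext_range (a := 78862) (len := 43) h1834 m2_1834
  have h1836 : ∀ u < 78948, (fun u => chkFix tab mwordsA u) u = true := ext_range (a := 78905) (len := 43) h1835 m2_1835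
  have h1837 : ∀ u < 78991, (fun u => chkFix tab mwordsA u) u = true := ext_range (a := 78948) (len := 43) h1836 m2_1836
  have h1838 : ∀ u < 79034, (fun u => chkFix tab mwordsA u) u = true := ext_range (a := 78991) (len := 43) h1837 m2_1837
  have h1839 : ∀ u < 79077, (fun u => chkFix tab mwordsA u) u = true := ext_range (a := 79034) (len := 43) h1838 m2_1838
  have h1840 : ∀ u < 79120, (fun u => chkFix tab mwordsA u) u = true := ext_range (a := 79077) (len := 43) h1839 m2_1839
  have h1841 : ∀ u < 79163, (fun u => chkFix tab mwordsA u) u = true := ext_range (a := 79120) (len := 43) h1840 m2_1840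
  have h1842 : ∀ u < 79206, (fun u => chkFix tab mwordsA u) u = true := ext_range (a := 79163) (len := 43) h1841 m2_1841
  have h1843 : ∀ u < 79249, (fun u => chkFix tab mwordsA u) u = true := ext_range (a := 79206) (len := 43) h1842 m2_1842
  have h1844 : ∀ u < 79292, (fun u => chkFix tab mwordsA u) u = true := ext_range (a := 79249) (len := 43) h1843 m2_1843
  have h1845 : ∀ u < 79335, (fun u => chkFix tab mwordsA u) u = true := ext_range (a := 79292) (len := 43) h1844 m2_1844
  have h1846 : ∀ u < 79378, (fun u => chkFix tab mwordsA u) u = true := ext_range (a := 79335) (len := 43) h1845 m2_1845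
  have h1847 : ∀ u < 79421, (fun u => chkFix tab mwordsA u) u = true := ext_range (a := 79378) (len := 43) h1846 m2_1846
  have h1848 : ∀ u < 79464, (fun u => chkFix tab mwordsA u) u = true := ext_range (a := 79421) (len := 43) h1847 m2_1847
  have h1849 : ∀ u < 79507, (fun u => chkFix tab mwordsA u) u = true := ext_range (a := 79464) (len := 43) h1848 m2_1848
  have h1850 : ∀ u < 79550, (fun u => chkFix tab mwordsA u) u = true := ext_range (a := 79507) (len := 43) h1849 m2_1849
  have h1851 : ∀ u < 79593, (fun u => chkFix tab mwordsA u) u = true := ext_range (a := 79550) (len := 43) h1850 m2_1850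
  have h1852 : ∀ u < 79636, (fun u => chkFix tab mwordsA u) u = true := ext_range (a := 79593) (len := 43) h1851 m2_1851
  have h1853 : ∀ u < 79679, (fun u => chkFix tab mwordsA u) u = true := ext_range (a := 79636) (len := 43) h1852 m2_1852
  have h1854 : ∀ u < 79722, (fun u => chkFix tab mwordsA u) u = true := ext_range (a := 79679) (len := 43) h1853 m2_1853
  have h1855 : ∀ u < 79765, (fun u => chkFix tab mwordsA u) u = true := ext_range (a := 79722) (len := 43) h1854 m2_1854
  have h1856 : ∀ u < 79808, (fun u => chkFix tab mwordsA u) u = true := ext_range (a := 79765) (len := 43) h1855 m2_1855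
  have h1857 : ∀ u < 79851, (fun u => chkFix tab mwordsA u) u = true := ext_range (a := 79808) (len := 43) h1856 m2_1856
  have h1858 : ∀ u < 79894, (fun u => chkFix tab mwordsA u) u = true := ext_range (a := 79851) (len := 43) h1857 m2_1857
  have h1859 : ∀ u < 79937, (fun u => chkFix tab mwordsA u) u = true := ext_range (a := 79894) (len := 43) h1858 m2_1858
  have h1860 : ∀ u < 79980, (fun u => chkFix tab mwordsA u) u = true := ext_range (a := 79937) (len := 43) h1859 m2_1859
  have h1861 : ∀ u < 80023, (fun u => chkFix tab mwordsA u) u = true := ext_range (a := 79980) (len := 43) h1860 m2_1860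
  have h1862 : ∀ u < 80066, (fun u => chkFix tab mwordsA u) u = true := ext_range (a := 80023) (len := 43) h1861 m2_1861
  have h1863 : ∀ u < 80109, (fun u => chkFix tab mwordsA u) u = true := ext_range (a := 80066) (len := 43) h1862 m2_1862
  have h1864 : ∀ u < 80152, (fun u => chkFix tab mwordsA u) u = true := ext_range (a := 80109) (len := 43) h1863 m2_1863
  have h1865 : ∀ u < 80195, (fun u => chkFix tab mwordsA u) u = true := ext_range (a := 80152) (len := 43) h1864 m2_1864
  have h1866 : ∀ u < 80238, (fun u => chkFix tab mwordsA u) u = true := ext_range (a := 80195) (len := 43) h1865 m2_1865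
  have h1867 : ∀ u < 80281, (fun u => chkFix tab mwordsA u) u = true := ext_range (a := 80238) (len := 43) h1866 m2_1866
  have h1868 : ∀ u < 80324, (fun u => chkFix tab mwordsA u) u = true := ext_range (a := 80281) (len := 43) h1867 m2_1867
  have h1869 : ∀ u < 80367, (fun u => chkFix tab mwordsA u) u = true := ext_range (a := 80324) (len := 43) h1868 m2_1868
  have h1870 : ∀ u < 80410, (fun u => chkFix tab mwordsA u) u = true := ext_range (a := 80367) (len := 43) h1869 m2_1869
  have h1871 : ∀ u < 80453, (fun u => chkFix tab mwordsA u) u = true := ext_range (a := 80410) (len := 43) h1870 m2_1870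
  have h1872 : ∀ u < 80496, (fun u => chkFix tab mwordsA u) u = true := ext_range (a := 80453) (len := 43) h1871 m2_1871
  have h1873 : ∀ u < 80539, (fun u => chkFix tab mwordsA u) u = true := ext_range (a := 80496) (len := 43) h1872 m2_1872
  have h1874 : ∀ u < 80582, (fun u => chkFix tab mwordsA u) u = true := ext_range (a := 80539) (len := 43) h1873 m2_1873
  have h1875 : ∀ u < 80625, (fun u => chkFix tab mwordsA u) u = true := ext_range (a := 80582) (len := 43) h1874 m2_1874
  have h1876 : ∀ u < 80668, (fun u => chkFix tab mwordsA u) u = true := ext_range (a := 80625) (len := 43) h1875 m2_1875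
  have h1877 : ∀ u < 80711, (fun u => chkFix tab mwordsA u) u = true := ext_range (a := 80668) (len := 43) h1876 m2_1876
  have h1878 : ∀ u < 80754, (fun u => chkFix tab mwordsA u) u = true := ext_range (a := 80711) (len := 43) h1877 m2_1877
  have h1879 : ∀ u < 80797, (fun u => chkFix tab mwordsA u) u = true := ext_range (a := 80754) (len := 43) h1878 m2_1878
  have h1880 : ∀ u < 80840, (fun u => chkFix tab mwordsA u) u = true := ext_range (a := 80797) (len := 43) h1879 m2_1879
  have h1881 : ∀ u < 80883, (fun u => chkFix tab mwordsA u) u = true := ext_range (a := 80840) (len := 43) h1880 m2_1880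
  have h1882 : ∀ u < 80926, (fun u => chkFix tab mwordsA u) u = true := ext_range (a := 80883) (len := 43) h1881 m2_1881
  have h1883 : ∀ u < 80969, (fun u => chkFix tab mwordsA u) u = true := ext_range (a := 80926) (len := 43) h1882 m2_1882
  have h1884 : ∀ u < 81012, (fun u => chkFix tab mwordsA u) u = true := ext_range (a := 80969) (len := 43) h1883 m2_1883
  have h1885 : ∀ u < 81055, (fun u => chkFix tab mwordsA u) u = true := ext_range (a := 81012) (len := 43) h1884 m2_1884
  have h1886 : ∀ u < 81098, (fun u => chkFix tab mwordsA u) u = true := ext_range (a := 81055) (len := 43) h1885 m2_1885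
  have h1887 : ∀ u < 81141, (fun u => chkFix tab mwordsA u) u = true := ext_range (a := 81098) (len := 43) h1886 m2_1886
  have h1888 : ∀ u < 81184, (fun u => chkFix tab mwordsA u) u = true := ext_range (a := 81141) (len := 43) h1887 m2_1887
  have h1889 : ∀ u < 81227, (fun u => chkFix tab mwordsA u) u = true := ext_range (a := 81184) (len := 43) h1888 m2_1888
  have h1890 : ∀ u < 81270, (fun u => chkFix tab mwordsA u) u = true := ext_range (a := 81227) (len := 43) h1889 m2_1889
  have h1891 : ∀ u < 81313, (fun u => chkFix tab mwordsA u) u = true := ext_range (a := 81270) (len := 43) h1890 m2_1890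
  have h1892 : ∀ u < 81356, (fun u => chkFix tab mwordsA u) u = true := ext_range (a := 81313) (len := 43) h1891 m2_1891
  have h1893 : ∀ u < 81399, (fun u => chkFix tab mwordsA u) u = true := ext_range (a := 81356) (len := 43) h1892 m2_1892
  have h1894 : ∀ u < 81442, (fun u => chkFix tab mwordsA u) u = true := ext_range (a := 81399) (len := 43) h1893 m2_1893
  have h1895 : ∀ u < 81485, (fun u => chkFix tab mwordsA u) u = true := ext_range (a := 81442) (len := 43) h1894 m2_1894
  have h1896 : ∀ u < 81528, (fun u => chkFix tab mwordsA u) u = true := ext_range (a := 81485) (len := 43) h1895 m2_1895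
  have h1897 : ∀ u < 81571, (fun u => chkFix tab mwordsA u) u = true := ext_range (a := 81528) (len := 43) h1896 m2_1896
  have h1898 : ∀ u < 81614, (fun u => chkFix tab mwordsA u) u = true := ext_range (a := 81571) (len := 43) h1897 m2_1897
  have h1899 : ∀ u < 81657, (fun u => chkFix tab mwordsA u) u = true := ext_range (a := 81614) (len := 43) h1898 m2_1898
  have h1900 : ∀ u < 81700, (fun u => chkFix tab mwordsA u) u = true := ext_range (a := 81657) (len := 43) h1899 m2_1899
  have h1901 : ∀ u < 81743, (fun u => chkFix tab mwordsA u) u = true := ext_range (a := 81700) (len := 43) h1900 m2_1900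
  have h1902 : ∀ u < 81786, (fun u => chkFix tab mwordsA u) u = true := ext_range (a := 81743) (len := 43) h1901 m2_1901
  have h1903 : ∀ u < 81829, (fun u => chkFix tab mwordsA u) u = true := ext_range (a := 81786) (len := 43) h1902 m2_1902
  have h1904 : ∀ u < 81872, (fun u => chkFix tab mwordsA u) u = true := ext_range (a := 81829) (len := 43) h1903 m2_1903
  have h1905 : ∀ u < 81915, (fun u => chkFix tab mwordsA u) u = true := ext_range (a := 81872) (len := 43) h1904 m2_1904
  have h1906 : ∀ u < 81958, (fun u => chkFix tab mwordsA u) u = true := ext_range (a := 81915) (len := 43) h1905 m2_1905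
  have h1907 : ∀ u < 82001, (fun u => chkFix tab mwordsA u) u = true := ext_range (a := 81958) (len := 43) h1906 m2_1906
  have h1908 : ∀ u < 82044, (fun u => chkFix tab mwordsA u) u = true := ext_range (a := 82001) (len := 43) h1907 m2_1907
  have h1909 : ∀ u < 82087, (fun u => chkFix tab mwordsA u) u = true := ext_range (a := 82044) (len := 43) h1908 m2_1908
  have h1910 : ∀ u < 82130, (fun u => chkFix tab mwordsA u) u = true := ext_range (a := 82087) (len := 43) h1909 m2_1909
  have h1911 : ∀ u < 82173, (fun u => chkFix tab mwordsA u) u = true := ext_range (a := 82130) (len := 43) h1910 m2_1910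
  have h1912 : ∀ u < 82216, (fun u => chkFix tab mwordsA u) u = true := ext_range (a := 82173) (len := 43) h1911 m2_1911
  have h1913 : ∀ u < 82259, (fun u => chkFix tab mwordsA u) u = true := ext_range (a := 82216) (len := 43) h1912 m2_1912
  have h1914 : ∀ u < 82302, (fun u => chkFix tab mwordsA u) u = true := ext_range (a := 82259) (len := 43) h1913 m2_1913
  have h1915 : ∀ u < 82345, (fun u => chkFix tab mwordsA u) u = true := ext_range (a := 82302) (len := 43) h1914 m2_1914
  have h1916 : ∀ u < 82388, (fun u => chkFix tab mwordsA u) u = true := ext_range (a := 82345) (len := 43) h1915 m2_1915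
  have h1917 : ∀ u < 82431, (fun u => chkFix tab mwordsA u) u = true := ext_range (a := 82388) (len := 43) h1916 m2_1916
  have h1918 : ∀ u < 82474, (fun u => chkFix tab mwordsA u) u = true := ext_range (a := 82431) (len := 43) h1917 m2_1917
  have h1919 : ∀ u < 82517, (fun u => chkFix tab mwordsA u) u = true := ext_range (a := 82474) (len := 43) h1918 m2_1918
  have h1920 : ∀ u < 82560, (fun u => chkFix tab mwordsA u) u = true := ext_range (a := 82517) (len := 43) h1919 m2_1919
  have h1921 : ∀ u < 82603, (fun u => chkFix tab mwordsA u) u = true := ext_range (a := 82560) (len := 43) h1920 m2_1920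
  have h1922 : ∀ u < 82646, (fun u => chkFix tab mwordsA u) u = true := ext_range (a := 82603) (len := 43) h1921 m2_1921
  have h1923 : ∀ u < 82689, (fun u => chkFix tab mwordsA u) u = true := ext_range (a := 82646) (len := 43) h1922 m2_1922
  have h1924 : ∀ u < 82732, (fun u => chkFix tab mwordsA u) u = true := ext_range (a := 82689) (len := 43) h1923 m2_1923
  have h1925 : ∀ u < 82775, (fun u => chkFix tab mwordsA u) u = true := ext_range (a := 82732) (len := 43) h1924 m2_1924
  have h1926 : ∀ u < 82818, (fun u => chkFix tab mwordsA u) u = true := ext_range (a := 82775) (len := 43) h1925 m2_1925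
  have h1927 : ∀ u < 82861, (fun u => chkFix tab mwordsA u) u = true := ext_range (a := 82818) (len := 43) h1926 m2_1926
  have h1928 : ∀ u < 82904, (fun u => chkFix tab mwordsA u) u = true := ext_range (a := 82861) (len := 43) h1927 m2_1927
  have h1929 : ∀ u < 82947, (fun u => chkFix tab mwordsA u) u = true := ext_range (a := 82904) (len := 43) h1928 m2_1928
  have h1930 : ∀ u < 82990, (fun u => chkFix tab mwordsA u) u = true := ext_range (a := 82947) (len := 43) h1929 m2_1929
  have h1931 : ∀ u < 83033, (fun u => chkFix tab mwordsA u) u = true := ext_range (a := 82990) (len := 43) h1930 m2_1930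
  have h1932 : ∀ u < 83076, (fun u => chkFix tab mwordsA u) u = true := ext_range (a := 83033) (len := 43) h1931 m2_1931
  have h1933 : ∀ u < 83119, (fun u => chkFix tab mwordsA u) u = true := ext_range (a := 83076) (len := 43) h1932 m2_1932
  have h1934 : ∀ u < 83162, (fun u => chkFix tab mwordsA u) u = true := ext_range (a := 83119) (len := 43) h1933 m2_1933
  have h1935 : ∀ u < 83205, (fun u => chkFix tab mwordsA u) u = true := ext_range (a := 83162) (len := 43) h1934 m2_1934
  have h1936 : ∀ u < 83248, (fun u => chkFix tab mwordsA u) u = true := ext_range (a := 83205) (len := 43) h1935 m2_1935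
  have h1937 : ∀ u < 83291, (fun u => chkFix tab mwordsA u) u = true := ext_range (a := 83248) (len := 43) h1936 m2_1936
  have h1938 : ∀ u < 83334, (fun u => chkFix tab mwordsA u) u = true := ext_range (a := 83291) (len := 43) h1937 m2_1937
  have h1939 : ∀ u < 83377, (fun u => chkFix tab mwordsA u) u = true := ext_range (a := 83334) (len := 43) h1938 m2_1938
  have h1940 : ∀ u < 83420, (fun u => chkFix tab mwordsA u) u = true := ext_range (a := 83377) (len := 43) h1939 m2_1939
  have h1941 : ∀ u < 83463, (fun u => chkFix tab mwordsA u) u = true := ext_range (a := 83420) (len := 43) h1940 m2_1940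
  have h1942 : ∀ u < 83506, (fun u => chkFix tab mwordsA u) u = true := ext_range (a := 83463) (len := 43) h1941 m2_1941
  have h1943 : ∀ u < 83549, (fun u => chkFix tab mwordsA u) u = true := ext_range (a := 83506) (len := 43) h1942 m2_1942
  have h1944 : ∀ u < 83592, (fun u => chkFix tab mwordsA u) u = true := ext_range (a := 83549) (len := 43) h1943 m2_1943
  have h1945 : ∀ u < 83635, (fun u => chkFix tab mwordsA u) u = true := ext_range (a := 83592) (len := 43) h1944 m2_1944
  have h1946 : ∀ u < 83678, (fun u => chkFix tab mwordsA u) u = true := ext_range (a := 83635) (len := 43) h1945 m2_1945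
  have h1947 : ∀ u < 83721, (fun u => chkFix tab mwordsA u) u = true := ext_range (a := 83678) (len := 43) h1946 m2_1946
  have h1948 : ∀ u < 83764, (fun u => chkFix tab mwordsA u) u = true := ext_range (a := 83721) (len := 43) h1947 m2_1947
  have h1949 : ∀ u < 83807, (fun u => chkFix tab mwordsA u) u = true := ext_range (a := 83764) (len := 43) h1948 m2_1948
  have h1950 : ∀ u < 83850, (fun u => chkFix tab mwordsA u) u = true := ext_range (a := 83807) (len := 43) h1949 m2_1949
  have h1951 : ∀ u < 83893, (fun u => chkFix tab mwordsA u) u = true := ext_range (a := 83850) (len := 43) h1950 m2_1950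
  have h1952 : ∀ u < 83936, (fun u => chkFix tab mwordsA u) u = true := ext_range (a := 83893) (len := 43) h1951 m2_1951
  have h1953 : ∀ u < 83979, (fun u => chkFix tab mwordsA u) u = true := ext_range (a := 83936) (len := 43) h1952 m2_1952
  have h1954 : ∀ u < 84022, (fun u => chkFix tab mwordsA u) u = true := ext_range (a := 83979) (len := 43) h1953 m2_1953
  have h1955 : ∀ u < 84065, (fun u => chkFix tab mwordsA u) u = true := ext_range (a := 84022) (len := 43) h1954 m2_1954
  have h1956 : ∀ u < 84108, (fun u => chkFix tab mwordsA u) u = true := ext_range (a := 84065) (len := 43) h1955 m2_1955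
  have h1957 : ∀ u < 84151, (fun u => chkFix tab mwordsA u) u = true := ext_range (a := 84108) (len := 43) h1956 m2_1956
  have h1958 : ∀ u < 84194, (fun u => chkFix tab mwordsA u) u = true := ext_range (a := 84151) (len := 43) h1957 m2_1957
  have h1959 : ∀ u < 84237, (fun u => chkFix tab mwordsA u) u = true := ext_range (a := 84194) (len := 43) h1958 m2_1958
  have h1960 : ∀ u < 84280, (fun u => chkFix tab mwordsA u) u = true := ext_range (a := 84237) (len := 43) h1959 m2_1959
  have h1961 : ∀ u < 84323, (fun u => chkFix tab mwordsA u) u = true := ext_range (a := 84280) (len := 43) h1960 m2_1960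
  have h1962 : ∀ u < 84366, (fun u => chkFix tab mwordsA u) u = true := ext_range (a := 84323) (len := 43) h1961 m2_1961
  have h1963 : ∀ u < 84409, (fun u => chkFix tab mwordsA u) u = true := ext_range (a := 84366) (len := 43) h1962 m2_1962
  have h1964 : ∀ u < 84452, (fun u => chkFix tab mwordsA u) u = true := ext_range (a := 84409) (len := 43) h1963 m2_1963
  have h1965 : ∀ u < 84495, (fun u => chkFix tab mwordsA u) u = true := ext_range (a := 84452) (len := 43) h1964 m2_1964
  have h1966 : ∀ u < 84538, (fun u => chkFix tab mwordsA u) u = true := ext_range (a := 84495) (len := 43) h1965 m2_1965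
  have h1967 : ∀ u < 84581, (fun u => chkFix tab mwordsA u) u = true := ext_range (a := 84538) (len := 43) h1966 m2_1966
  have h1968 : ∀ u < 84624, (fun u => chkFix tab mwordsA u) u = true := ext_range (a := 84581) (len := 43) h1967 m2_1967
  have h1969 : ∀ u < 84667, (fun u => chkFix tab mwordsA u) u = true := ext_range (a := 84624) (len := 43) h1968 m2_1968
  have h1970 : ∀ u < 84710, (fun u => chkFix tab mwordsA u) u = true := ext_range (a := 84667) (len := 43) h1969 m2_1969
  have h1971 : ∀ u < 84753, (fun u => chkFix tab mwordsA u) u = true := ext_range (a := 84710) (len := 43) h1970 m2_1970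
  have h1972 : ∀ u < 84796, (fun u => chkFix tab mwordsA u) u = true := ext_range (a := 84753) (len := 43) h1971 m2_1971
  have h1973 : ∀ u < 84839, (fun u => chkFix tab mwordsA u) u = true := ext_range (a := 84796) (len := 43) h1972 m2_1972
  have h1974 : ∀ u < 84882, (fun u => chkFix tab mwordsA u) u = true := ext_range (a := 84839) (len := 43) h1973 m2_1973
  have h1975 : ∀ u < 84925, (fun u => chkFix tab mwordsA u) u = true := ext_range (a := 84882) (len := 43) h1974 m2_1974
  have h1976 : ∀ u < 84968, (fun u => chkFix tab mwordsA u) u = true := ext_range (a := 84925) (len := 43) h1975 m2_1975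
  have h1977 : ∀ u < 85011, (fun u => chkFix tab mwordsA u) u = true := ext_range (a := 84968) (len := 43) h1976 m2_1976
  have h1978 : ∀ u < 85054, (fun u => chkFix tab mwordsA u) u = true := ext_range (a := 85011) (len := 43) h1977 m2_1977
  have h1979 : ∀ u < 85097, (fun u => chkFix tab mwordsA u) u = true := ext_range (a := 85054) (len := 43) h1978 m2_1978
  have h1980 : ∀ u < 85140, (fun u => chkFix tab mwordsA u) u = true := ext_range (a := 85097) (len := 43) h1979 m2_1979
  have h1981 : ∀ u < 85183, (fun u => chkFix tab mwordsA u) u = true := ext_range (a := 85140) (len := 43) h1980 m2_1980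
  have h1982 : ∀ u < 85226, (fun u => chkFix tab mwordsA u) u = true := ext_range (a := 85183) (len := 43) h1981 m2_1981
  have h1983 : ∀ u < 85269, (fun u => chkFix tab mwordsA u) u = true := ext_range (a := 85226) (len := 43) h1982 m2_1982
  have h1984 : ∀ u < 85312, (fun u => chkFix tab mwordsA u) u = true := ext_range (a := 85269) (len := 43) h1983 m2_1983
  have h1985 : ∀ u < 85355, (fun u => chkFix tab mwordsA u) u = true := ext_range (a := 85312) (len := 43) h1984 m2_1984
  have h1986 : ∀ u < 85398, (fun u => chkFix tab mwordsA u) u = true := ext_range (a := 85355) (len := 43) h1985 m2_1985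
  have h1987 : ∀ u < 85441, (fun u => chkFix tab mwordsA u) u = true := ext_range (a := 85398) (len := 43) h1986 m2_1986
  have h1988 : ∀ u < 85484, (fun u => chkFix tab mwordsA u) u = true := ext_range (a := 85441) (len := 43) h1987 m2_1987
  have h1989 : ∀ u < 85527, (fun u => chkFix tab mwordsA u) u = true := ext_range (a := 85484) (len := 43) h1988 m2_1988
  have h1990 : ∀ u < 85570, (fun u => chkFix tab mwordsA u) u = true := ext_range (a := 85527) (len := 43) h1989 m2_1989
  have h1991 : ∀ u < 85613, (fun u => chkFix tab mwordsA u) u = true := ext_range (a := 85570) (len := 43) h1990 m2_1990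
  have h1992 : ∀ u < 85656, (fun u => chkFix tab mwordsA u) u = true := ext_range (a := 85613) (len := 43) h1991 m2_1991
  have h1993 : ∀ u < 85699, (fun u => chkFix tab mwordsA u) u = true := ext_range (a := 85656) (len := 43) h1992 m2_1992
  have h1994 : ∀ u < 85742, (fun u => chkFix tab mwordsA u) u = true := ext_range (a := 85699) (len := 43) h1993 m2_1993
  have h1995 : ∀ u < 85785, (fun u => chkFix tab mwordsA u) u = true := ext_range (a := 85742) (len := 43) h1994 m2_1994
  have h1996 : ∀ u < 85828, (fun u => chkFix tab mwordsA u) u = true := ext_range (a := 85785) (len := 43) h1995 m2_1995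
  have h1997 : ∀ u < 85871, (fun u => chkFix tab mwordsA u) u = true := ext_range (a := 85828) (len := 43) h1996 m2_1996
  have h1998 : ∀ u < 85914, (fun u => chkFix tab mwordsA u) u = true := ext_range (a := 85871) (len := 43) h1997 m2_1997
  have h1999 : ∀ u < 85957, (fun u => chkFix tab mwordsA u) u = true := ext_range (a := 85914) (len := 43) h1998 m2_1998
  have h2000 : ∀ u < 86000, (fun u => chkFix tab mwordsA u) u = true := ext_range (a := 85957) (len := 43) h1999 m2_1999
  have h2001 : ∀ u < 86043, (fun u => chkFix tab mwordsA u) u = true := ext_range (a := 86000) (len := 43) h2000 m2_2000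
  have h2002 : ∀ u < 86086, (fun u => chkFix tab mwordsA u) u = true := ext_range (a := 86043) (len := 43) h2001 m2_2001
  have h2003 : ∀ u < 86129, (fun u => chkFix tab mwordsA u) u = true := ext_range (a := 86086) (len := 43) h2002 m2_2002
  have h2004 : ∀ u < 86172, (fun u => chkFix tab mwordsA u) u = true := ext_range (a := 86129) (len := 43) h2003 m2_2003
  have h2005 : ∀ u < 86215, (fun u => chkFix tab mwordsA u) u = true := ext_range (a := 86172) (len := 43) h2004 m2_2004
  have h2006 : ∀ u < 86258, (fun u => chkFix tab mwordsA u) u = true := ext_range (a := 86215) (len := 43) h2005 m2_2005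
  have h2007 : ∀ u < 86301, (fun u => chkFix tab mwordsA u) u = true := ext_range (a := 86258) (len := 43) h2006 m2_2006
  have h2008 : ∀ u < 86344, (fun u => chkFix tab mwordsA u) u = true := ext_range (a := 86301) (len := 43) h2007 m2_2007
  have h2009 : ∀ u < 86387, (fun u => chkFix tab mwordsA u) u = true := ext_range (a := 86344) (len := 43) h2008 m2_2008
  have h2010 : ∀ u < 86430, (fun u => chkFix tab mwordsA u) u = true := ext_range (a := 86387) (len := 43) h2009 m2_2009
  have h2011 : ∀ u < 86473, (fun u => chkFix tab mwordsA u) u = true := ext_range (a := 86430) (len := 43) h2010 m2_2010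
  have h2012 : ∀ u < 86516, (fun u => chkFix tab mwordsA u) u = true := ext_range (a := 86473) (len := 43) h2011 m2_2011
  have h2013 : ∀ u < 86559, (fun u => chkFix tab mwordsA u) u = true := ext_range (a := 86516) (len := 43) h2012 m2_2012
  have h2014 : ∀ u < 86602, (fun u => chkFix tab mwordsA u) u = true := ext_range (a := 86559) (len := 43) h2013 m2_2013
  have h2015 : ∀ u < 86645, (fun u => chkFix tab mwordsA u) u = true := ext_range (a := 86602) (len := 43) h2014 m2_2014
  have h2016 : ∀ u < 86688, (fun u => chkFix tab mwordsA u) u = true := ext_range (a := 86645) (len := 43) h2015 m2_2015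
  have h2017 : ∀ u < 86731, (fun u => chkFix tab mwordsA u) u = true := ext_range (a := 86688) (len := 43) h2016 m2_2016
  have h2018 : ∀ u < 86774, (fun u => chkFix tab mwordsA u) u = true := ext_range (a := 86731) (len := 43) h2017 m2_2017
  have h2019 : ∀ u < 86817, (fun u => chkFix tab mwordsA u) u = true := ext_range (a := 86774) (len := 43) h2018 m2_2018
  have h2020 : ∀ u < 86860, (fun u => chkFix tab mwordsA u) u = true := ext_range (a := 86817) (len := 43) h2019 m2_2019
  have h2021 : ∀ u < 86903, (fun u => chkFix tab mwordsA u) u = true := ext_range (a := 86860) (len := 43) h2020 m2_2020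
  have h2022 : ∀ u < 86946, (fun u => chkFix tab mwordsA u) u = true := ext_range (a := 86903) (len := 43) h2021 m2_2021
  have h2023 : ∀ u < 86989, (fun u => chkFix tab mwordsA u) u = true := ext_range (a := 86946) (len := 43) h2022 m2_2022
  have h2024 : ∀ u < 87032, (fun u => chkFix tab mwordsA u) u = true := ext_range (a := 86989) (len := 43) h2023 m2_2023
  have h2025 : ∀ u < 87075, (fun u => chkFix tab mwordsA u) u = true := ext_range (a := 87032) (len := 43) h2024 m2_2024
  have h2026 : ∀ u < 87118, (fun u => chkFix tab mwordsA u) u = true := ext_range (a := 87075) (len := 43) h2025 m2_2025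
  have h2027 : ∀ u < 87161, (fun u => chkFix tab mwordsA u) u = true := ext_range (a := 87118) (len := 43) h2026 m2_2026
  have h2028 : ∀ u < 87204, (fun u => chkFix tab mwordsA u) u = true := ext_range (a := 87161) (len := 43) h2027 m2_2027
  have h2029 : ∀ u < 87247, (fun u => chkFix tab mwordsA u) u = true := ext_range (a := 87204) (len := 43) h2028 m2_2028
  have h2030 : ∀ u < 87290, (fun u => chkFix tab mwordsA u) u = true := ext_range (a := 87247) (len := 43) h2029 m2_2029
  have h2031 : ∀ u < 87333, (fun u => chkFix tab mwordsA u) u = true := ext_range (a := 87290) (len := 43) h2030 m2_2030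
  have h2032 : ∀ u < 87376, (fun u => chkFix tab mwordsA u) u = true := ext_range (a := 87333) (len := 43) h2031 m2_2031
  have h2033 : ∀ u < 87419, (fun u => chkFix tab mwordsA u) u = true := ext_range (a := 87376) (len := 43) h2032 m2_2032
  have h2034 : ∀ u < 87462, (fun u => chkFix tab mwordsA u) u = true := ext_range (a := 87419) (len := 43) h2033 m2_2033
  have h2035 : ∀ u < 87505, (fun u => chkFix tab mwordsA u) u = true := ext_range (a := 87462) (len := 43) h2034 m2_2034
  have h2036 : ∀ u < 87548, (fun u => chkFix tab mwordsA u) u = true := ext_range (a := 87505) (len := 43) h2035 m2_2035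
  have h2037 : ∀ u < 87591, (fun u => chkFix tab mwordsA u) u = true := ext_range (a := 87548) (len := 43) h2036 m2_2036
  have h2038 : ∀ u < 87634, (fun u => chkFix tab mwordsA u) u = true := ext_range (a := 87591) (len := 43) h2037 m2_2037
  have h2039 : ∀ u < 87677, (fun u => chkFix tab mwordsA u) u = true := ext_range (a := 87634) (len := 43) h2038 m2_2038
  have h2040 : ∀ u < 87720, (fun u => chkFix tab mwordsA u) u = true := ext_range (a := 87677) (len := 43) h2039 m2_2039
  have h2041 : ∀ u < 87763, (fun u => chkFix tab mwordsA u) u = true := ext_range (a := 87720) (len := 43) h2040 m2_2040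
  have h2042 : ∀ u < 87806, (fun u => chkFix tab mwordsA u) u = true := ext_range (a := 87763) (len := 43) h2041 m2_2041
  have h2043 : ∀ u < 87849, (fun u => chkFix tab mwordsA u) u = true := ext_range (a := 87806) (len := 43) h2042 m2_2042
  have h2044 : ∀ u < 87892, (fun u => chkFix tab mwordsA u) u = true := ext_range (a := 87849) (len := 43) h2043 m2_2043
  have h2045 : ∀ u < 87935, (fun u => chkFix tab mwordsA u) u = true := ext_range (a := 87892) (len := 43) h2044 m2_2044
  have h2046 : ∀ u < 87978, (fun u => chkFix tab mwordsA u) u = true := ext_range (a := 87935) (len := 43) h2045 m2_2045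
  have h2047 : ∀ u < 88021, (fun u => chkFix tab mwordsA u) u = true := ext_range (a := 87978) (len := 43) h2046 m2_2046
  have h2048 : ∀ u < 88064, (fun u => chkFix tab mwordsA u) u = true := ext_range (a := 88021) (len := 43) h2047 m2_2047
  have h2049 : ∀ u < 88107, (fun u => chkFix tab mwordsA u) u = true := ext_range (a := 88064) (len := 43) h2048 m2_2048
  have h2050 : ∀ u < 88150, (fun u => chkFix tab mwordsA u) u = true := ext_range (a := 88107) (len := 43) h2049 m2_2049
  have h2051 : ∀ u < 88193, (fun u => chkFix tab mwordsA u) u = true := ext_range (a := 88150) (len := 43) h2050 m2_2050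
  have h2052 : ∀ u < 88236, (fun u => chkFix tab mwordsA u) u = true := ext_range (a := 88193) (len := 43) h2051 m2_2051
  have h2053 : ∀ u < 88279, (fun u => chkFix tab mwordsA u) u = true := ext_range (a := 88236) (len := 43) h2052 m2_2052
  have h2054 : ∀ u < 88322, (fun u => chkFix tab mwordsA u) u = true := ext_range (a := 88279) (len := 43) h2053 m2_2053
  have h2055 : ∀ u < 88365, (fun u => chkFix tab mwordsA u) u = true := ext_range (a := 88322) (len := 43) h2054 m2_2054
  have h2056 : ∀ u < 88408, (fun u => chkFix tab mwordsA u) u = true := ext_range (a := 88365) (len := 43) h2055 m2_2055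
  have h2057 : ∀ u < 88451, (fun u => chkFix tab mwordsA u) u = true := ext_range (a := 88408) (len := 43) h2056 m2_2056
  have h2058 : ∀ u < 88494, (fun u => chkFix tab mwordsA u) u = true := ext_range (a := 88451) (len := 43) h2057 m2_2057
  have h2059 : ∀ u < 88537, (fun u => chkFix tab mwordsA u) u = true := ext_range (a := 88494) (len := 43) h2058 m2_2058
  have h2060 : ∀ u < 88580, (fun u => chkFix tab mwordsA u) u = true := ext_range (a := 88537) (len := 43) h2059 m2_2059
  have h2061 : ∀ u < 88623, (fun u => chkFix tab mwordsA u) u = true := ext_range (a := 88580) (len := 43) h2060 m2_2060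
  have h2062 : ∀ u < 88666, (fun u => chkFix tab mwordsA u) u = true := ext_range (a := 88623) (len := 43) h2061 m2_2061
  have h2063 : ∀ u < 88709, (fun u => chkFix tab mwordsA u) u = true := ext_range (a := 88666) (len := 43) h2062 m2_2062
  have h2064 : ∀ u < 88752, (fun u => chkFix tab mwordsA u) u = true := ext_range (a := 88709) (len := 43) h2063 m2_2063
  have h2065 : ∀ u < 88795, (fun u => chkFix tab mwordsA u) u = true := ext_range (a := 88752) (len := 43) h2064 m2_2064
  have h2066 : ∀ u < 88838, (fun u => chkFix tab mwordsA u) u = true := ext_range (a := 88795) (len := 43) h2065 m2_2065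
  have h2067 : ∀ u < 88881, (fun u => chkFix tab mwordsA u) u = true := ext_range (a := 88838) (len := 43) h2066 m2_2066
  have h2068 : ∀ u < 88924, (fun u => chkFix tab mwordsA u) u = true := ext_range (a := 88881) (len := 43) h2067 m2_2067
  have h2069 : ∀ u < 88967, (fun u => chkFix tab mwordsA u) u = true := ext_range (a := 88924) (len := 43) h2068 m2_2068
  have h2070 : ∀ u < 89010, (fun u => chkFix tab mwordsA u) u = true := ext_range (a := 88967) (len := 43) h2069 m2_2069
  have h2071 : ∀ u < 89053, (fun u => chkFix tab mwordsA u) u = true := ext_range (a := 89010) (len := 43) h2070 m2_2070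
  have h2072 : ∀ u < 89096, (fun u => chkFix tab mwordsA u) u = true := ext_range (a := 89053) (len := 43) h2071 m2_2071
  have h2073 : ∀ u < 89139, (fun u => chkFix tab mwordsA u) u = true := ext_range (a := 89096) (len := 43) h2072 m2_2072
  have h2074 : ∀ u < 89182, (fun u => chkFix tab mwordsA u) u = true := ext_range (a := 89139) (len := 43) h2073 m2_2073
  have h2075 : ∀ u < 89225, (fun u => chkFix tab mwordsA u) u = true := ext_range (a := 89182) (len := 43) h2074 m2_2074
  have h2076 : ∀ u < 89268, (fun u => chkFix tab mwordsA u) u = true := ext_range (a := 89225) (len := 43) h2075 m2_2075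
  have h2077 : ∀ u < 89311, (fun u => chkFix tab mwordsA u) u = true := ext_range (a := 89268) (len := 43) h2076 m2_2076
  have h2078 : ∀ u < 89354, (fun u => chkFix tab mwordsA u) u = true := ext_range (a := 89311) (len := 43) h2077 m2_2077
  have h2079 : ∀ u < 89397, (fun u => chkFix tab mwordsA u) u = true := ext_range (a := 89354) (len := 43) h2078 m2_2078
  have h2080 : ∀ u < 89440, (fun u => chkFix tab mwordsA u) u = true := ext_range (a := 89397) (len := 43) h2079 m2_2079
  have h2081 : ∀ u < 89483, (fun u => chkFix tab mwordsA u) u = true := ext_range (a := 89440) (len := 43) h2080 m2_2080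
  have h2082 : ∀ u < 89526, (fun u => chkFix tab mwordsA u) u = true := ext_range (a := 89483) (len := 43) h2081 m2_2081
  have h2083 : ∀ u < 89569, (fun u => chkFix tab mwordsA u) u = true := ext_range (a := 89526) (len := 43) h2082 m2_2082
  have h2084 : ∀ u < 89612, (fun u => chkFix tab mwordsA u) u = true := ext_range (a := 89569) (len := 43) h2083 m2_2083
  have h2085 : ∀ u < 89655, (fun u => chkFix tab mwordsA u) u = true := ext_range (a := 89612) (len := 43) h2084 m2_2084
  have h2086 : ∀ u < 89698, (fun u => chkFix tab mwordsA u) u = true := ext_range (a := 89655) (len := 43) h2085 m2_2085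
  have h2087 : ∀ u < 89741, (fun u => chkFix tab mwordsA u) u = true := ext_range (a := 89698) (len := 43) h2086 m2_2086
  have h2088 : ∀ u < 89784, (fun u => chkFix tab mwordsA u) u = true := ext_range (a := 89741) (len := 43) h2087 m2_2087
  have h2089 : ∀ u < 89827, (fun u => chkFix tab mwordsA u) u = true := ext_range (a := 89784) (len := 43) h2088 m2_2088
  have h2090 : ∀ u < 89870, (fun u => chkFix tab mwordsA u) u = true := ext_range (a := 89827) (len := 43) h2089 m2_2089
  have h2091 : ∀ u < 89913, (fun u => chkFix tab mwordsA u) u = true := ext_range (a := 89870) (len := 43) h2090 m2_2090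
  have h2092 : ∀ u < 89956, (fun u => chkFix tab mwordsA u) u = true := ext_range (a := 89913) (len := 43) h2091 m2_2091
  have h2093 : ∀ u < 89999, (fun u => chkFix tab mwordsA u) u = true := ext_range (a := 89956) (len := 43) h2092 m2_2092
  have h2094 : ∀ u < 90042, (fun u => chkFix tab mwordsA u) u = true := ext_range (a := 89999) (len := 43) h2093 m2_2093
  have h2095 : ∀ u < 90085, (fun u => chkFix tab mwordsA u) u = true := ext_range (a := 90042) (len := 43) h2094 m2_2094
  have h2096 : ∀ u < 90128, (fun u => chkFix tab mwordsA u) u = true := ext_range (a := 90085) (len := 43) h2095 m2_2095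
  have h2097 : ∀ u < 90171, (fun u => chkFix tab mwordsA u) u = true := ext_range (a := 90128) (len := 43) h2096 m2_2096
  have h2098 : ∀ u < 90214, (fun u => chkFix tab mwordsA u) u = true := ext_range (a := 90171) (len := 43) h2097 m2_2097
  have h2099 : ∀ u < 90257, (fun u => chkFix tab mwordsA u) u = true := ext_range (a := 90214) (len := 43) h2098 m2_2098
  have h2100 : ∀ u < 90300, (fun u => chkFix tab mwordsA u) u = true := ext_range (a := 90257) (len := 43) h2099 m2_2099
  have h2101 : ∀ u < 90343, (fun u => chkFix tab mwordsA u) u = true := ext_range (a := 90300) (len := 43) h2100 m2_2100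
  have h2102 : ∀ u < 90386, (fun u => chkFix tab mwordsA u) u = true := ext_range (a := 90343) (len := 43) h2101 m2_2101
  have h2103 : ∀ u < 90429, (fun u => chkFix tab mwordsA u) u = true := ext_range (a := 90386) (len := 43) h2102 m2_2102
  have h2104 : ∀ u < 90472, (fun u => chkFix tab mwordsA u) u = true := ext_range (a := 90429) (len := 43) h2103 m2_2103
  have h2105 : ∀ u < 90515, (fun u => chkFix tab mwordsA u) u = true := ext_range (a := 90472) (len := 43) h2104 m2_2104
  have h2106 : ∀ u < 90558, (fun u => chkFix tab mwordsA u) u = true := ext_range (a := 90515) (len := 43) h2105 m2_2105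
  have h2107 : ∀ u < 90601, (fun u => chkFix tab mwordsA u) u = true := ext_range (a := 90558) (len := 43) h2106 m2_2106
  have h2108 : ∀ u < 90644, (fun u => chkFix tab mwordsA u) u = true := ext_range (a := 90601) (len := 43) h2107 m2_2107
  have h2109 : ∀ u < 90687, (fun u => chkFix tab mwordsA u) u = true := ext_range (a := 90644) (len := 43) h2108 m2_2108
  have h2110 : ∀ u < 90730, (fun u => chkFix tab mwordsA u) u = true := ext_range (a := 90687) (len := 43) h2109 m2_2109
  have h2111 : ∀ u < 90773, (fun u => chkFix tab mwordsA u) u = true := ext_range (a := 90730) (len := 43) h2110 m2_2110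
  have h2112 : ∀ u < 90816, (fun u => chkFix tab mwordsA u) u = true := ext_range (a := 90773) (len := 43) h2111 m2_2111
  have h2113 : ∀ u < 90859, (fun u => chkFix tab mwordsA u) u = true := ext_range (a := 90816) (len := 43) h2112 m2_2112
  have h2114 : ∀ u < 90902, (fun u => chkFix tab mwordsA u) u = true := ext_range (a := 90859) (len := 43) h2113 m2_2113
  have h2115 : ∀ u < 90945, (fun u => chkFix tab mwordsA u) u = true := ext_range (a := 90902) (len := 43) h2114 m2_2114
  have h2116 : ∀ u < 90988, (fun u => chkFix tab mwordsA u) u = true := ext_range (a := 90945) (len := 43) h2115 m2_2115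
  have h2117 : ∀ u < 91031, (fun u => chkFix tab mwordsA u) u = true := ext_range (a := 90988) (len := 43) h2116 m2_2116
  have h2118 : ∀ u < 91074, (fun u => chkFix tab mwordsA u) u = true := ext_range (a := 91031) (len := 43) h2117 m2_2117
  have h2119 : ∀ u < 91117, (fun u => chkFix tab mwordsA u) u = true := ext_range (a := 91074) (len := 43) h2118 m2_2118
  have h2120 : ∀ u < 91160, (fun u => chkFix tab mwordsA u) u = true := ext_range (a := 91117) (len := 43) h2119 m2_2119
  have h2121 : ∀ u < 91203, (fun u => chkFix tab mwordsA u) u = true := ext_range (a := 91160) (len := 43) h2120 m2_2120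
  have h2122 : ∀ u < 91246, (fun u => chkFix tab mwordsA u) u = true := ext_range (a := 91203) (len := 43) h2121 m2_2121
  have h2123 : ∀ u < 91289, (fun u => chkFix tab mwordsA u) u = true := ext_range (a := 91246) (len := 43) h2122 m2_2122
  have h2124 : ∀ u < 91332, (fun u => chkFix tab mwordsA u) u = true := ext_range (a := 91289) (len := 43) h2123 m2_2123
  have h2125 : ∀ u < 91375, (fun u => chkFix tab mwordsA u) u = true := ext_range (a := 91332) (len := 43) h2124 m2_2124
  have h2126 : ∀ u < 91418, (fun u => chkFix tab mwordsA u) u = true := ext_range (a := 91375) (len := 43) h2125 m2_2125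
  have h2127 : ∀ u < 91461, (fun u => chkFix tab mwordsA u) u = true := ext_range (a := 91418) (len := 43) h2126 m2_2126
  have h2128 : ∀ u < 91504, (fun u => chkFix tab mwordsA u) u = true := ext_range (a := 91461) (len := 43) h2127 m2_2127
  have h2129 : ∀ u < 91547, (fun u => chkFix tab mwordsA u) u = true := ext_range (a := 91504) (len := 43) h2128 m2_2128
  have h2130 : ∀ u < 91590, (fun u => chkFix tab mwordsA u) u = true := ext_range (a := 91547) (len := 43) h2129 m2_2129
  have h2131 : ∀ u < 91633, (fun u => chkFix tab mwordsA u) u = true := ext_range (a := 91590) (len := 43) h2130 m2_2130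
  have h2132 : ∀ u < 91676, (fun u => chkFix tab mwordsA u) u = true := ext_range (a := 91633) (len := 43) h2131 m2_2131
  have h2133 : ∀ u < 91719, (fun u => chkFix tab mwordsA u) u = true := ext_range (a := 91676) (len := 43) h2132 m2_2132
  have h2134 : ∀ u < 91762, (fun u => chkFix tab mwordsA u) u = true := ext_range (a := 91719) (len := 43) h2133 m2_2133
  have h2135 : ∀ u < 91805, (fun u => chkFix tab mwordsA u) u = true := ext_range (a := 91762) (len := 43) h2134 m2_2134
  have h2136 : ∀ u < 91848, (fun u => chkFix tab mwordsA u) u = true := ext_range (a := 91805) (len := 43) h2135 m2_2135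
  have h2137 : ∀ u < 91891, (fun u => chkFix tab mwordsA u) u = true := ext_range (a := 91848) (len := 43) h2136 m2_2136
  have h2138 : ∀ u < 91934, (fun u => chkFix tab mwordsA u) u = true := ext_range (a := 91891) (len := 43) h2137 m2_2137
  have h2139 : ∀ u < 91977, (fun u => chkFix tab mwordsA u) u = true := ext_range (a := 91934) (len := 43) h2138 m2_2138
  have h2140 : ∀ u < 92020, (fun u => chkFix tab mwordsA u) u = true := ext_range (a := 91977) (len := 43) h2139 m2_2139
  have h2141 : ∀ u < 92063, (fun u => chkFix tab mwordsA u) u = true := ext_range (a := 92020) (len := 43) h2140 m2_2140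
  have h2142 : ∀ u < 92106, (fun u => chkFix tab mwordsA u) u = true := ext_range (a := 92063) (len := 43) h2141 m2_2141
  have h2143 : ∀ u < 92149, (fun u => chkFix tab mwordsA u) u = true := ext_range (a := 92106) (len := 43) h2142 m2_2142
  have h2144 : ∀ u < 92192, (fun u => chkFix tab mwordsA u) u = true := ext_range (a := 92149) (len := 43) h2143 m2_2143
  have h2145 : ∀ u < 92235, (fun u => chkFix tab mwordsA u) u = true := ext_range (a := 92192) (len := 43) h2144 m2_2144
  have h2146 : ∀ u < 92278, (fun u => chkFix tab mwordsA u) u = true := ext_range (a := 92235) (len := 43) h2145 m2_2145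
  have h2147 : ∀ u < 92321, (fun u => chkFix tab mwordsA u) u = true := ext_range (a := 92278) (len := 43) h2146 m2_2146
  have h2148 : ∀ u < 92364, (fun u => chkFix tab mwordsA u) u = true := ext_range (a := 92321) (len := 43) h2147 m2_2147
  have h2149 : ∀ u < 92407, (fun u => chkFix tab mwordsA u) u = true := ext_range (a := 92364) (len := 43) h2148 m2_2148
  have h2150 : ∀ u < 92450, (fun u => chkFix tab mwordsA u) u = true := ext_range (a := 92407) (len := 43) h2149 m2_2149
  have h2151 : ∀ u < 92493, (fun u => chkFix tab mwordsA u) u = true := ext_range (a := 92450) (len := 43) h2150 m2_2150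
  have h2152 : ∀ u < 92536, (fun u => chkFix tab mwordsA u) u = true := ext_range (a := 92493) (len := 43) h2151 m2_2151
  have h2153 : ∀ u < 92579, (fun u => chkFix tab mwordsA u) u = true := ext_range (a := 92536) (len := 43) h2152 m2_2152
  have h2154 : ∀ u < 92622, (fun u => chkFix tab mwordsA u) u = true := ext_range (a := 92579) (len := 43) h2153 m2_2153
  have h2155 : ∀ u < 92665, (fun u => chkFix tab mwordsA u) u = true := ext_range (a := 92622) (len := 43) h2154 m2_2154
  have h2156 : ∀ u < 92708, (fun u => chkFix tab mwordsA u) u = true := ext_range (a := 92665) (len := 43) h2155 m2_2155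
  have h2157 : ∀ u < 92751, (fun u => chkFix tab mwordsA u) u = true := ext_range (a := 92708) (len := 43) h2156 m2_2156
  have h2158 : ∀ u < 92794, (fun u => chkFix tab mwordsA u) u = true := ext_range (a := 92751) (len := 43) h2157 m2_2157
  have h2159 : ∀ u < 92837, (fun u => chkFix tab mwordsA u) u = true := ext_range (a := 92794) (len := 43) h2158 m2_2158
  have h2160 : ∀ u < 92880, (fun u => chkFix tab mwordsA u) u = true := ext_range (a := 92837) (len := 43) h2159 m2_2159
  have h2161 : ∀ u < 92923, (fun u => chkFix tab mwordsA u) u = true := ext_range (a := 92880) (len := 43) h2160 m2_2160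
  have h2162 : ∀ u < 92966, (fun u => chkFix tab mwordsA u) u = true := ext_range (a := 92923) (len := 43) h2161 m2_2161
  have h2163 : ∀ u < 93009, (fun u => chkFix tab mwordsA u) u = true := ext_range (a := 92966) (len := 43) h2162 m2_2162
  have h2164 : ∀ u < 93052, (fun u => chkFix tab mwordsA u) u = true := ext_range (a := 93009) (len := 43) h2163 m2_2163
  have h2165 : ∀ u < 93095, (fun u => chkFix tab mwordsA u) u = true := ext_range (a := 93052) (len := 43) h2164 m2_2164
  have h2166 : ∀ u < 93138, (fun u => chkFix tab mwordsA u) u = true := ext_range (a := 93095) (len := 43) h2165 m2_2165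
  have h2167 : ∀ u < 93181, (fun u => chkFix tab mwordsA u) u = true := ext_range (a := 93138) (len := 43) h2166 m2_2166
  have h2168 : ∀ u < 93224, (fun u => chkFix tab mwordsA u) u = true := ext_range (a := 93181) (len := 43) h2167 m2_2167
  have h2169 : ∀ u < 93267, (fun u => chkFix tab mwordsA u) u = true := ext_range (a := 93224) (len := 43) h2168 m2_2168
  have h2170 : ∀ u < 93310, (fun u => chkFix tab mwordsA u) u = true := ext_range (a := 93267) (len := 43) h2169 m2_2169
  have h2171 : ∀ u < 93353, (fun u => chkFix tab mwordsA u) u = true := ext_range (a := 93310) (len := 43) h2170 m2_2170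
  have h2172 : ∀ u < 93396, (fun u => chkFix tab mwordsA u) u = true := ext_range (a := 93353) (len := 43) h2171 m2_2171
  have h2173 : ∀ u < 93439, (fun u => chkFix tab mwordsA u) u = true := ext_range (a := 93396) (len := 43) h2172 m2_2172
  have h2174 : ∀ u < 93482, (fun u => chkFix tab mwordsA u) u = true := ext_range (a := 93439) (len := 43) h2173 m2_2173
  have h2175 : ∀ u < 93525, (fun u => chkFix tab mwordsA u) u = true := ext_range (a := 93482) (len := 43) h2174 m2_2174
  have h2176 : ∀ u < 93568, (fun u => chkFix tab mwordsA u) u = true := ext_range (a := 93525) (len := 43) h2175 m2_2175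
  have h2177 : ∀ u < 93611, (fun u => chkFix tab mwordsA u) u = true := ext_range (a := 93568) (len := 43) h2176 m2_2176
  have h2178 : ∀ u < 93654, (fun u => chkFix tab mwordsA u) u = true := ext_range (a := 93611) (len := 43) h2177 m2_2177
  have h2179 : ∀ u < 93697, (fun u => chkFix tab mwordsA u) u = true := ext_range (a := 93654) (len := 43) h2178 m2_2178
  have h2180 : ∀ u < 93740, (fun u => chkFix tab mwordsA u) u = true := ext_range (a := 93697) (len := 43) h2179 m2_2179
  have h2181 : ∀ u < 93783, (fun u => chkFix tab mwordsA u) u = true := ext_range (a := 93740) (len := 43) h2180 m2_2180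
  have h2182 : ∀ u < 93826, (fun u => chkFix tab mwordsA u) u = true := ext_range (a := 93783) (len := 43) h2181 m2_2181
  have h2183 : ∀ u < 93869, (fun u => chkFix tab mwordsA u) u = true := ext_range (a := 93826) (len := 43) h2182 m2_2182
  have h2184 : ∀ u < 93912, (fun u => chkFix tab mwordsA u) u = true := ext_range (a := 93869) (len := 43) h2183 m2_2183
  have h2185 : ∀ u < 93955, (fun u => chkFix tab mwordsA u) u = true := ext_range (a := 93912) (len := 43) h2184 m2_2184
  have h2186 : ∀ u < 93998, (fun u => chkFix tab mwordsA u) u = true := ext_range (a := 93955) (len := 43) h2185 m2_2185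
  have h2187 : ∀ u < 94041, (fun u => chkFix tab mwordsA u) u = true := ext_range (a := 93998) (len := 43) h2186 m2_2186
  have h2188 : ∀ u < 94084, (fun u => chkFix tab mwordsA u) u = true := ext_range (a := 94041) (len := 43) h2187 m2_2187
  have h2189 : ∀ u < 94127, (fun u => chkFix tab mwordsA u) u = true := ext_range (a := 94084) (len := 43) h2188 m2_2188
  have h2190 : ∀ u < 94170, (fun u => chkFix tab mwordsA u) u = true := ext_range (a := 94127) (len := 43) h2189 m2_2189
  have h2191 : ∀ u < 94213, (fun u => chkFix tab mwordsA u) u = true := ext_range (a := 94170) (len := 43) h2190 m2_2190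
  have h2192 : ∀ u < 94256, (fun u => chkFix tab mwordsA u) u = true := ext_range (a := 94213) (len := 43) h2191 m2_2191
  have h2193 : ∀ u < 94299, (fun u => chkFix tab mwordsA u) u = true := ext_range (a := 94256) (len := 43) h2192 m2_2192
  have h2194 : ∀ u < 94342, (fun u => chkFix tab mwordsA u) u = true := ext_range (a := 94299) (len := 43) h2193 m2_2193
  have h2195 : ∀ u < 94385, (fun u => chkFix tab mwordsA u) u = true := ext_range (a := 94342) (len := 43) h2194 m2_2194
  have h2196 : ∀ u < 94428, (fun u => chkFix tab mwordsA u) u = true := ext_range (a := 94385) (len := 43) h2195 m2_2195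
  have h2197 : ∀ u < 94471, (fun u => chkFix tab mwordsA u) u = true := ext_range (a := 94428) (len := 43) h2196 m2_2196
  have h2198 : ∀ u < 94514, (fun u => chkFix tab mwordsA u) u = true := ext_range (a := 94471) (len := 43) h2197 m2_2197
  have h2199 : ∀ u < 94557, (fun u => chkFix tab mwordsA u) u = true := ext_range (a := 94514) (len := 43) h2198 m2_2198
  have h2200 : ∀ u < 94600, (fun u => chkFix tab mwordsA u) u = true := ext_range (a := 94557) (len := 43) h2199 m2_2199
  have h2201 : ∀ u < 94643, (fun u => chkFix tab mwordsA u) u = true := ext_range (a := 94600) (len := 43) h2200 m2_2200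
  have h2202 : ∀ u < 94686, (fun u => chkFix tab mwordsA u) u = true := ext_range (a := 94643) (len := 43) h2201 m2_2201
  have h2203 : ∀ u < 94729, (fun u => chkFix tab mwordsA u) u = true := ext_range (a := 94686) (len := 43) h2202 m2_2202
  have h2204 : ∀ u < 94772, (fun u => chkFix tab mwordsA u) u = true := ext_range (a := 94729) (len := 43) h2203 m2_2203
  have h2205 : ∀ u < 94815, (fun u => chkFix tab mwordsA u) u = true := ext_range (a := 94772) (len := 43) h2204 m2_2204
  have h2206 : ∀ u < 94858, (fun u => chkFix tab mwordsA u) u = true := ext_range (a := 94815) (len := 43) h2205 m2_2205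
  have h2207 : ∀ u < 94901, (fun u => chkFix tab mwordsA u) u = true := ext_range (a := 94858) (len := 43) h2206 m2_2206
  have h2208 : ∀ u < 94944, (fun u => chkFix tab mwordsA u) u = true := ext_range (a := 94901) (len := 43) h2207 m2_2207
  have h2209 : ∀ u < 94987, (fun u => chkFix tab mwordsA u) u = true := ext_range (a := 94944) (len := 43) h2208 m2_2208
  have h2210 : ∀ u < 95030, (fun u => chkFix tab mwordsA u) u = true := ext_range (a := 94987) (len := 43) h2209 m2_2209
  have h2211 : ∀ u < 95073, (fun u => chkFix tab mwordsA u) u = true := ext_range (a := 95030) (len := 43) h2210 m2_2210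
  have h2212 : ∀ u < 95116, (fun u => chkFix tab mwordsA u) u = true := ext_range (a := 95073) (len := 43) h2211 m2_2211
  have h2213 : ∀ u < 95159, (fun u => chkFix tab mwordsA u) u = true := ext_range (a := 95116) (len := 43) h2212 m2_2212
  have h2214 : ∀ u < 95202, (fun u => chkFix tab mwordsA u) u = true := ext_range (a := 95159) (len := 43) h2213 m2_2213
  have h2215 : ∀ u < 95245, (fun u => chkFix tab mwordsA u) u = true := ext_range (a := 95202) (len := 43) h2214 m2_2214
  have h2216 : ∀ u < 95288, (fun u => chkFix tab mwordsA u) u = true := ext_range (a := 95245) (len := 43) h2215 m2_2215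
  have h2217 : ∀ u < 95331, (fun u => chkFix tab mwordsA u) u = true := ext_range (a := 95288) (len := 43) h2216 m2_2216
  have h2218 : ∀ u < 95374, (fun u => chkFix tab mwordsA u) u = true := ext_range (a := 95331) (len := 43) h2217 m2_2217
  have h2219 : ∀ u < 95417, (fun u => chkFix tab mwordsA u) u = true := ext_range (a := 95374) (len := 43) h2218 m2_2218
  have h2220 : ∀ u < 95460, (fun u => chkFix tab mwordsA u) u = true := ext_range (a := 95417) (len := 43) h2219 m2_2219
  have h2221 : ∀ u < 95503, (fun u => chkFix tab mwordsA u) u = true := ext_range (a := 95460) (len := 43) h2220 m2_2220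
  have h2222 : ∀ u < 95546, (fun u => chkFix tab mwordsA u) u = true := ext_range (a := 95503) (len := 43) h2221 m2_2221
  have h2223 : ∀ u < 95589, (fun u => chkFix tab mwordsA u) u = true := ext_range (a := 95546) (len := 43) h2222 m2_2222
  have h2224 : ∀ u < 95632, (fun u => chkFix tab mwordsA u) u = true := ext_range (a := 95589) (len := 43) h2223 m2_2223
  have h2225 : ∀ u < 95675, (fun u => chkFix tab mwordsA u) u = true := ext_range (a := 95632) (len := 43) h2224 m2_2224
  have h2226 : ∀ u < 95718, (fun u => chkFix tab mwordsA u) u = true := ext_range (a := 95675) (len := 43) h2225 m2_2225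
  have h2227 : ∀ u < 95761, (fun u => chkFix tab mwordsA u) u = true := ext_range (a := 95718) (len := 43) h2226 m2_2226
  have h2228 : ∀ u < 95804, (fun u => chkFix tab mwordsA u) u = true := ext_range (a := 95761) (len := 43) h2227 m2_2227
  have h2229 : ∀ u < 95847, (fun u => chkFix tab mwordsA u) u = true := ext_range (a := 95804) (len := 43) h2228 m2_2228
  have h2230 : ∀ u < 95890, (fun u => chkFix tab mwordsA u) u = true := ext_range (a := 95847) (len := 43) h2229 m2_2229
  have h2231 : ∀ u < 95933, (fun u => chkFix tab mwordsA u) u = true := ext_range (a := 95890) (len := 43) h2230 m2_2230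
  have h2232 : ∀ u < 95976, (fun u => chkFix tab mwordsA u) u = true := ext_range (a := 95933) (len := 43) h2231 m2_2231
  have h2233 : ∀ u < 96019, (fun u => chkFix tab mwordsA u) u = true := ext_range (a := 95976) (len := 43) h2232 m2_2232
  have h2234 : ∀ u < 96062, (fun u => chkFix tab mwordsA u) u = true := ext_range (a := 96019) (len := 43) h2233 m2_2233
  have h2235 : ∀ u < 96105, (fun u => chkFix tab mwordsA u) u = true := ext_range (a := 96062) (len := 43) h2234 m2_2234
  have h2236 : ∀ u < 96148, (fun u => chkFix tab mwordsA u) u = true := ext_range (a := 96105) (len := 43) h2235 m2_2235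
  have h2237 : ∀ u < 96191, (fun u => chkFix tab mwordsA u) u = true := ext_range (a := 96148) (len := 43) h2236 m2_2236
  have h2238 : ∀ u < 96234, (fun u => chkFix tab mwordsA u) u = true := ext_range (a := 96191) (len := 43) h2237 m2_2237
  have h2239 : ∀ u < 96277, (fun u => chkFix tab mwordsA u) u = true := ext_range (a := 96234) (len := 43) h2238 m2_2238
  have h2240 : ∀ u < 96320, (fun u => chkFix tab mwordsA u) u = true := ext_range (a := 96277) (len := 43) h2239 m2_2239
  have h2241 : ∀ u < 96363, (fun u => chkFix tab mwordsA u) u = true := ext_range (a := 96320) (len := 43) h2240 m2_2240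
  have h2242 : ∀ u < 96406, (fun u => chkFix tab mwordsA u) u = true := ext_range (a := 96363) (len := 43) h2241 m2_2241
  have h2243 : ∀ u < 96449, (fun u => chkFix tab mwordsA u) u = true := ext_range (a := 96406) (len := 43) h2242 m2_2242
  have h2244 : ∀ u < 96492, (fun u => chkFix tab mwordsA u) u = true := ext_range (a := 96449) (len := 43) h2243 m2_2243
  have h2245 : ∀ u < 96535, (fun u => chkFix tab mwordsA u) u = true := ext_range (a := 96492) (len := 43) h2244 m2_2244
  have h2246 : ∀ u < 96578, (fun u => chkFix tab mwordsA u) u = true := ext_range (a := 96535) (len := 43) h2245 m2_2245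
  have h2247 : ∀ u < 96621, (fun u => chkFix tab mwordsA u) u = true := ext_range (a := 96578) (len := 43) h2246 m2_2246
  have h2248 : ∀ u < 96664, (fun u => chkFix tab mwordsA u) u = true := ext_range (a := 96621) (len := 43) h2247 m2_2247
  have h2249 : ∀ u < 96707, (fun u => chkFix tab mwordsA u) u = true := ext_range (a := 96664) (len := 43) h2248 m2_2248
  have h2250 : ∀ u < 96750, (fun u => chkFix tab mwordsA u) u = true := ext_range (a := 96707) (len := 43) h2249 m2_2249
  have h2251 : ∀ u < 96793, (fun u => chkFix tab mwordsA u) u = true := ext_range (a := 96750) (len := 43) h2250 m2_2250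
  have h2252 : ∀ u < 96836, (fun u => chkFix tab mwordsA u) u = true := ext_range (a := 96793) (len := 43) h2251 m2_2251
  have h2253 : ∀ u < 96879, (fun u => chkFix tab mwordsA u) u = true := ext_range (a := 96836) (len := 43) h2252 m2_2252
  have h2254 : ∀ u < 96922, (fun u => chkFix tab mwordsA u) u = true := ext_range (a := 96879) (len := 43) h2253 m2_2253
  have h2255 : ∀ u < 96965, (fun u => chkFix tab mwordsA u) u = true := ext_range (a := 96922) (len := 43) h2254 m2_2254
  have h2256 : ∀ u < 97008, (fun u => chkFix tab mwordsA u) u = true := ext_range (a := 96965) (len := 43) h2255 m2_2255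
  have h2257 : ∀ u < 97051, (fun u => chkFix tab mwordsA u) u = true := ext_range (a := 97008) (len := 43) h2256 m2_2256
  have h2258 : ∀ u < 97094, (fun u => chkFix tab mwordsA u) u = true := ext_range (a := 97051) (len := 43) h2257 m2_2257
  have h2259 : ∀ u < 97137, (fun u => chkFix tab mwordsA u) u = true := ext_range (a := 97094) (len := 43) h2258 m2_2258
  have h2260 : ∀ u < 97180, (fun u => chkFix tab mwordsA u) u = true := ext_range (a := 97137) (len := 43) h2259 m2_2259
  have h2261 : ∀ u < 97223, (fun u => chkFix tab mwordsA u) u = true := ext_range (a := 97180) (len := 43) h2260 m2_2260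
  have h2262 : ∀ u < 97266, (fun u => chkFix tab mwordsA u) u = true := ext_range (a := 97223) (len := 43) h2261 m2_2261
  have h2263 : ∀ u < 97309, (fun u => chkFix tab mwordsA u) u = true := ext_range (a := 97266) (len := 43) h2262 m2_2262
  have h2264 : ∀ u < 97352, (fun u => chkFix tab mwordsA u) u = true := ext_range (a := 97309) (len := 43) h2263 m2_2263
  have h2265 : ∀ u < 97395, (fun u => chkFix tab mwordsA u) u = true := ext_range (a := 97352) (len := 43) h2264 m2_2264
  have h2266 : ∀ u < 97438, (fun u => chkFix tab mwordsA u) u = true := ext_range (a := 97395) (len := 43) h2265 m2_2265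
  have h2267 : ∀ u < 97481, (fun u => chkFix tab mwordsA u) u = true := ext_range (a := 97438) (len := 43) h2266 m2_2266
  have h2268 : ∀ u < 97524, (fun u => chkFix tab mwordsA u) u = true := ext_range (a := 97481) (len := 43) h2267 m2_2267
  have h2269 : ∀ u < 97567, (fun u => chkFix tab mwordsA u) u = true := ext_range (a := 97524) (len := 43) h2268 m2_2268
  have h2270 : ∀ u < 97610, (fun u => chkFix tab mwordsA u) u = true := ext_range (a := 97567) (len := 43) h2269 m2_2269
  have h2271 : ∀ u < 97653, (fun u => chkFix tab mwordsA u) u = true := ext_range (a := 97610) (len := 43) h2270 m2_2270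
  have h2272 : ∀ u < 97696, (fun u => chkFix tab mwordsA u) u = true := ext_range (a := 97653) (len := 43) h2271 m2_2271
  have h2273 : ∀ u < 97739, (fun u => chkFix tab mwordsA u) u = true := ext_range (a := 97696) (len := 43) h2272 m2_2272
  have h2274 : ∀ u < 97782, (fun u => chkFix tab mwordsA u) u = true := ext_range (a := 97739) (len := 43) h2273 m2_2273
  have h2275 : ∀ u < 97825, (fun u => chkFix tab mwordsA u) u = true := ext_range (a := 97782) (len := 43) h2274 m2_2274
  have h2276 : ∀ u < 97868, (fun u => chkFix tab mwordsA u) u = true := ext_range (a := 97825) (len := 43) h2275 m2_2275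
  have h2277 : ∀ u < 97911, (fun u => chkFix tab mwordsA u) u = true := ext_range (a := 97868) (len := 43) h2276 m2_2276
  have h2278 : ∀ u < 97954, (fun u => chkFix tab mwordsA u) u = true := ext_range (a := 97911) (len := 43) h2277 m2_2277
  have h2279 : ∀ u < 97997, (fun u => chkFix tab mwordsA u) u = true := ext_range (a := 97954) (len := 43) h2278 m2_2278
  have h2280 : ∀ u < 98040, (fun u => chkFix tab mwordsA u) u = true := ext_range (a := 97997) (len := 43) h2279 m2_2279
  have h2281 : ∀ u < 98083, (fun u => chkFix tab mwordsA u) u = true := ext_range (a := 98040) (len := 43) h2280 m2_2280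
  have h2282 : ∀ u < 98126, (fun u => chkFix tab mwordsA u) u = true := ext_range (a := 98083) (len := 43) h2281 m2_2281
  have h2283 : ∀ u < 98169, (fun u => chkFix tab mwordsA u) u = true := ext_range (a := 98126) (len := 43) h2282 m2_2282
  have h2284 : ∀ u < 98212, (fun u => chkFix tab mwordsA u) u = true := ext_range (a := 98169) (len := 43) h2283 m2_2283
  have h2285 : ∀ u < 98255, (fun u => chkFix tab mwordsA u) u = true := ext_range (a := 98212) (len := 43) h2284 m2_2284
  have h2286 : ∀ u < 98298, (fun u => chkFix tab mwordsA u) u = true := ext_range (a := 98255) (len := 43) h2285 m2_2285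
  have h2287 : ∀ u < 98341, (fun u => chkFix tab mwordsA u) u = true := ext_range (a := 98298) (len := 43) h2286 m2_2286
  have h2288 : ∀ u < 98384, (fun u => chkFix tab mwordsA u) u = true := ext_range (a := 98341) (len := 43) h2287 m2_2287
  have h2289 : ∀ u < 98427, (fun u => chkFix tab mwordsA u) u = true := ext_range (a := 98384) (len := 43) h2288 m2_2288
  have h2290 : ∀ u < 98470, (fun u => chkFix tab mwordsA u) u = true := ext_range (a := 98427) (len := 43) h2289 m2_2289
  have h2291 : ∀ u < 98513, (fun u => chkFix tab mwordsA u) u = true := ext_range (a := 98470) (len := 43) h2290 m2_2290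
  have h2292 : ∀ u < 98556, (fun u => chkFix tab mwordsA u) u = true := ext_range (a := 98513) (len := 43) h2291 m2_2291
  have h2293 : ∀ u < 98599, (fun u => chkFix tab mwordsA u) u = true := ext_range (a := 98556) (len := 43) h2292 m2_2292
  have h2294 : ∀ u < 98642, (fun u => chkFix tab mwordsA u) u = true := ext_range (a := 98599) (len := 43) h2293 m2_2293
  have h2295 : ∀ u < 98685, (fun u => chkFix tab mwordsA u) u = true := ext_range (a := 98642) (len := 43) h2294 m2_2294
  have h2296 : ∀ u < 98728, (fun u => chkFix tab mwordsA u) u = true := ext_range (a := 98685) (len := 43) h2295 m2_2295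
  have h2297 : ∀ u < 98771, (fun u => chkFix tab mwordsA u) u = true := ext_range (a := 98728) (len := 43) h2296 m2_2296
  have h2298 : ∀ u < 98814, (fun u => chkFix tab mwordsA u) u = true := ext_range (a := 98771) (len := 43) h2297 m2_2297
  have h2299 : ∀ u < 98857, (fun u => chkFix tab mwordsA u) u = true := ext_range (a := 98814) (len := 43) h2298 m2_2298
  have h2300 : ∀ u < 98900, (fun u => chkFix tab mwordsA u) u = true := ext_range (a := 98857) (len := 43) h2299 m2_2299
  have h2301 : ∀ u < 98943, (fun u => chkFix tab mwordsA u) u = true := ext_range (a := 98900) (len := 43) h2300 m2_2300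
  have h2302 : ∀ u < 98986, (fun u => chkFix tab mwordsA u) u = true := ext_range (a := 98943) (len := 43) h2301 m2_2301
  have h2303 : ∀ u < 99029, (fun u => chkFix tab mwordsA u) u = true := ext_range (a := 98986) (len := 43) h2302 m2_2302
  have h2304 : ∀ u < 99072, (fun u => chkFix tab mwordsA u) u = true := ext_range (a := 99029) (len := 43) h2303 m2_2303
  have h2305 : ∀ u < 99115, (fun u => chkFix tab mwordsA u) u = true := ext_range (a := 99072) (len := 43) h2304 m2_2304
  have h2306 : ∀ u < 99158, (fun u => chkFix tab mwordsA u) u = true := ext_range (a := 99115) (len := 43) h2305 m2_2305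
  have h2307 : ∀ u < 99201, (fun u => chkFix tab mwordsA u) u = true := ext_range (a := 99158) (len := 43) h2306 m2_2306
  have h2308 : ∀ u < 99244, (fun u => chkFix tab mwordsA u) u = true := ext_range (a := 99201) (len := 43) h2307 m2_2307
  have h2309 : ∀ u < 99287, (fun u => chkFix tab mwordsA u) u = true := ext_range (a := 99244) (len := 43) h2308 m2_2308
  have h2310 : ∀ u < 99330, (fun u => chkFix tab mwordsA u) u = true := ext_range (a := 99287) (len := 43) h2309 m2_2309
  have h2311 : ∀ u < 99373, (fun u => chkFix tab mwordsA u) u = true := ext_range (a := 99330) (len := 43) h2310 m2_2310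
  have h2312 : ∀ u < 99416, (fun u => chkFix tab mwordsA u) u = true := ext_range (a := 99373) (len := 43) h2311 m2_2311
  have h2313 : ∀ u < 99459, (fun u => chkFix tab mwordsA u) u = true := ext_range (a := 99416) (len := 43) h2312 m2_2312
  have h2314 : ∀ u < 99502, (fun u => chkFix tab mwordsA u) u = true := ext_range (a := 99459) (len := 43) h2313 m2_2313
  have h2315 : ∀ u < 99545, (fun u => chkFix tab mwordsA u) u = true := ext_range (a := 99502) (len := 43) h2314 m2_2314
  have h2316 : ∀ u < 99588, (fun u => chkFix tab mwordsA u) u = true := ext_range (a := 99545) (len := 43) h2315 m2_2315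
  have h2317 : ∀ u < 99631, (fun u => chkFix tab mwordsA u) u = true := ext_range (a := 99588) (len := 43) h2316 m2_2316
  have h2318 : ∀ u < 99674, (fun u => chkFix tab mwordsA u) u = true := ext_range (a := 99631) (len := 43) h2317 m2_2317
  have h2319 : ∀ u < 99717, (fun u => chkFix tab mwordsA u) u = true := ext_range (a := 99674) (len := 43) h2318 m2_2318
  have h2320 : ∀ u < 99760, (fun u => chkFix tab mwordsA u) u = true := ext_range (a := 99717) (len := 43) h2319 m2_2319
  have h2321 : ∀ u < 99803, (fun u => chkFix tab mwordsA u) u = true := ext_range (a := 99760) (len := 43) h2320 m2_2320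
  have h2322 : ∀ u < 99846, (fun u => chkFix tab mwordsA u) u = true := ext_range (a := 99803) (len := 43) h2321 m2_2321
  have h2323 : ∀ u < 99889, (fun u => chkFix tab mwordsA u) u = true := ext_range (a := 99846) (len := 43) h2322 m2_2322
  have h2324 : ∀ u < 99932, (fun u => chkFix tab mwordsA u) u = true := ext_range (a := 99889) (len := 43) h2323 m2_2323
  have h2325 : ∀ u < 99975, (fun u => chkFix tab mwordsA u) u = true := ext_range (a := 99932) (len := 43) h2324 m2_2324
  have h2326 : ∀ u < 100018, (fun u => chkFix tab mwordsA u) u = true := ext_range (a := 99975) (len := 43) h2325 m2_2325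
  have h2327 : ∀ u < 100061, (fun u => chkFix tab mwordsA u) u = true := ext_range (a := 100018) (len := 43) h2326 m2_2326
  have h2328 : ∀ u < 100104, (fun u => chkFix tab mwordsA u) u = true := ext_range (a := 100061) (len := 43) h2327 m2_2327
  have h2329 : ∀ u < 100147, (fun u => chkFix tab mwordsA u) u = true := ext_range (a := 100104) (len := 43) h2328 m2_2328
  have h2330 : ∀ u < 100190, (fun u => chkFix tab mwordsA u) u = true := ext_range (a := 100147) (len := 43) h2329 m2_2329
  have h2331 : ∀ u < 100233, (fun u => chkFix tab mwordsA u) u = true := ext_range (a := 100190) (len := 43) h2330 m2_2330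
  have h2332 : ∀ u < 100276, (fun u => chkFix tab mwordsA u) u = true := ext_range (a := 100233) (len := 43) h2331 m2_2331
  have h2333 : ∀ u < 100319, (fun u => chkFix tab mwordsA u) u = true := ext_range (a := 100276) (len := 43) h2332 m2_2332
  have h2334 : ∀ u < 100362, (fun u => chkFix tab mwordsA u) u = true := ext_range (a := 100319) (len := 43) h2333 m2_2333
  have h2335 : ∀ u < 100405, (fun u => chkFix tab mwordsA u) u = true := ext_range (a := 100362) (len := 43) h2334 m2_2334
  have h2336 : ∀ u < 100448, (fun u => chkFix tab mwordsA u) u = true := ext_range (a := 100405) (len := 43) h2335 m2_2335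
  have h2337 : ∀ u < 100491, (fun u => chkFix tab mwordsA u) u = true := ext_range (a := 100448) (len := 43) h2336 m2_2336
  have h2338 : ∀ u < 100534, (fun u => chkFix tab mwordsA u) u = true := ext_range (a := 100491) (len := 43) h2337 m2_2337
  have h2339 : ∀ u < 100577, (fun u => chkFix tab mwordsA u) u = true := ext_range (a := 100534) (len := 43) h2338 m2_2338
  have h2340 : ∀ u < 100620, (fun u => chkFix tab mwordsA u) u = true := ext_range (a := 100577) (len := 43) h2339 m2_2339
  have h2341 : ∀ u < 100663, (fun u => chkFix tab mwordsA u) u = true := ext_range (a := 100620) (len := 43) h2340 m2_2340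
  have h2342 : ∀ u < 100706, (fun u => chkFix tab mwordsA u) u = true := ext_range (a := 100663) (len := 43) h2341 m2_2341
  have h2343 : ∀ u < 100749, (fun u => chkFix tab mwordsA u) u = true := ext_range (a := 100706) (len := 43) h2342 m2_2342
  have h2344 : ∀ u < 100792, (fun u => chkFix tab mwordsA u) u = true := ext_range (a := 100749) (len := 43) h2343 m2_2343
  have h2345 : ∀ u < 100835, (fun u => chkFix tab mwordsA u) u = true := ext_range (a := 100792) (len := 43) h2344 m2_2344
  have h2346 : ∀ u < 100878, (fun u => chkFix tab mwordsA u) u = true := ext_range (a := 100835) (len := 43) h2345 m2_2345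
  have h2347 : ∀ u < 100921, (fun u => chkFix tab mwordsA u) u = true := ext_range (a := 100878) (len := 43) h2346 m2_2346
  have h2348 : ∀ u < 100964, (fun u => chkFix tab mwordsA u) u = true := ext_range (a := 100921) (len := 43) h2347 m2_2347
  have h2349 : ∀ u < 101007, (fun u => chkFix tab mwordsA u) u = true := ext_range (a := 100964) (len := 43) h2348 m2_2348
  have h2350 : ∀ u < 101050, (fun u => chkFix tab mwordsA u) u = true := ext_range (a := 101007) (len := 43) h2349 m2_2349
  have h2351 : ∀ u < 101093, (fun u => chkFix tab mwordsA u) u = true := ext_range (a := 101050) (len := 43) h2350 m2_2350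
  have h2352 : ∀ u < 101136, (fun u => chkFix tab mwordsA u) u = true := ext_range (a := 101093) (len := 43) h2351 m2_2351
  have h2353 : ∀ u < 101179, (fun u => chkFix tab mwordsA u) u = true := ext_range (a := 101136) (len := 43) h2352 m2_2352
  have h2354 : ∀ u < 101222, (fun u => chkFix tab mwordsA u) u = true := ext_range (a := 101179) (len := 43) h2353 m2_2353
  have h2355 : ∀ u < 101265, (fun u => chkFix tab mwordsA u) u = true := ext_range (a := 101222) (len := 43) h2354 m2_2354
  have h2356 : ∀ u < 101308, (fun u => chkFix tab mwordsA u) u = true := ext_range (a := 101265) (len := 43) h2355 m2_2355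
  have h2357 : ∀ u < 101351, (fun u => chkFix tab mwordsA u) u = true := ext_range (a := 101308) (len := 43) h2356 m2_2356
  have h2358 : ∀ u < 101394, (fun u => chkFix tab mwordsA u) u = true := ext_range (a := 101351) (len := 43) h2357 m2_2357
  have h2359 : ∀ u < 101437, (fun u => chkFix tab mwordsA u) u = true := ext_range (a := 101394) (len := 43) h2358 m2_2358
  have h2360 : ∀ u < 101480, (fun u => chkFix tab mwordsA u) u = true := ext_range (a := 101437) (len := 43) h2359 m2_2359
  have h2361 : ∀ u < 101523, (fun u => chkFix tab mwordsA u) u = true := ext_range (a := 101480) (len := 43) h2360 m2_2360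
  have h2362 : ∀ u < 101566, (fun u => chkFix tab mwordsA u) u = true := ext_range (a := 101523) (len := 43) h2361 m2_2361
  have h2363 : ∀ u < 101609, (fun u => chkFix tab mwordsA u) u = true := ext_range (a := 101566) (len := 43) h2362 m2_2362
  have h2364 : ∀ u < 101652, (fun u => chkFix tab mwordsA u) u = true := ext_range (a := 101609) (len := 43) h2363 m2_2363
  have h2365 : ∀ u < 101695, (fun u => chkFix tab mwordsA u) u = true := ext_range (a := 101652) (len := 43) h2364 m2_2364
  have h2366 : ∀ u < 101738, (fun u => chkFix tab mwordsA u) u = true := ext_range (a := 101695) (len := 43) h2365 m2_2365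
  have h2367 : ∀ u < 101781, (fun u => chkFix tab mwordsA u) u = true := ext_range (a := 101738) (len := 43) h2366 m2_2366
  have h2368 : ∀ u < 101824, (fun u => chkFix tab mwordsA u) u = true := ext_range (a := 101781) (len := 43) h2367 m2_2367
  have h2369 : ∀ u < 101867, (fun u => chkFix tab mwordsA u) u = true := ext_range (a := 101824) (len := 43) h2368 m2_2368
  have h2370 : ∀ u < 101910, (fun u => chkFix tab mwordsA u) u = true := ext_range (a := 101867) (len := 43) h2369 m2_2369
  have h2371 : ∀ u < 101953, (fun u => chkFix tab mwordsA u) u = true := ext_range (a := 101910) (len := 43) h2370 m2_2370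
  have h2372 : ∀ u < 101996, (fun u => chkFix tab mwordsA u) u = true := ext_range (a := 101953) (len := 43) h2371 m2_2371
  have h2373 : ∀ u < 102039, (fun u => chkFix tab mwordsA u) u = true := ext_range (a := 101996) (len := 43) h2372 m2_2372
  have h2374 : ∀ u < 102082, (fun u => chkFix tab mwordsA u) u = true := ext_range (a := 102039) (len := 43) h2373 m2_2373
  have h2375 : ∀ u < 102125, (fun u => chkFix tab mwordsA u) u = true := ext_range (a := 102082) (len := 43) h2374 m2_2374
  have h2376 : ∀ u < 102168, (fun u => chkFix tab mwordsA u) u = true := ext_range (a := 102125) (len := 43) h2375 m2_2375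
  have h2377 : ∀ u < 102211, (fun u => chkFix tab mwordsA u) u = true := ext_range (a := 102168) (len := 43) h2376 m2_2376
  have h2378 : ∀ u < 102254, (fun u => chkFix tab mwordsA u) u = true := ext_range (a := 102211) (len := 43) h2377 m2_2377
  have h2379 : ∀ u < 102297, (fun u => chkFix tab mwordsA u) u = true := ext_range (a := 102254) (len := 43) h2378 m2_2378
  have h2380 : ∀ u < 102340, (fun u => chkFix tab mwordsA u) u = true := ext_range (a := 102297) (len := 43) h2379 m2_2379
  have h2381 : ∀ u < 102383, (fun u => chkFix tab mwordsA u) u = true := ext_range (a := 102340) (len := 43) h2380 m2_2380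
  have h2382 : ∀ u < 102426, (fun u => chkFix tab mwordsA u) u = true := ext_range (a := 102383) (len := 43) h2381 m2_2381
  have h2383 : ∀ u < 102469, (fun u => chkFix tab mwordsA u) u = true := ext_range (a := 102426) (len := 43) h2382 m2_2382
  have h2384 : ∀ u < 102512, (fun u => chkFix tab mwordsA u) u = true := ext_range (a := 102469) (len := 43) h2383 m2_2383
  have h2385 : ∀ u < 102555, (fun u => chkFix tab mwordsA u) u = true := ext_range (a := 102512) (len := 43) h2384 m2_2384
  have h2386 : ∀ u < 102598, (fun u => chkFix tab mwordsA u) u = true := ext_range (a := 102555) (len := 43) h2385 m2_2385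
  have h2387 : ∀ u < 102641, (fun u => chkFix tab mwordsA u) u = true := ext_range (a := 102598) (len := 43) h2386 m2_2386
  have h2388 : ∀ u < 102684, (fun u => chkFix tab mwordsA u) u = true := ext_range (a := 102641) (len := 43) h2387 m2_2387
  have h2389 : ∀ u < 102727, (fun u => chkFix tab mwordsA u) u = true := ext_range (a := 102684) (len := 43) h2388 m2_2388
  have h2390 : ∀ u < 102770, (fun u => chkFix tab mwordsA u) u = true := ext_range (a := 102727) (len := 43) h2389 m2_2389
  have h2391 : ∀ u < 102813, (fun u => chkFix tab mwordsA u) u = true := ext_range (a := 102770) (len := 43) h2390 m2_2390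
  have h2392 : ∀ u < 102856, (fun u => chkFix tab mwordsA u) u = true := ext_range (a := 102813) (len := 43) h2391 m2_2391
  have h2393 : ∀ u < 102899, (fun u => chkFix tab mwordsA u) u = true := ext_range (a := 102856) (len := 43) h2392 m2_2392
  have h2394 : ∀ u < 102942, (fun u => chkFix tab mwordsA u) u = true := ext_range (a := 102899) (len := 43) h2393 m2_2393
  have h2395 : ∀ u < 102985, (fun u => chkFix tab mwordsA u) u = true := ext_range (a := 102942) (len := 43) h2394 m2_2394
  have h2396 : ∀ u < 103028, (fun u => chkFix tab mwordsA u) u = true := ext_range (a := 102985) (len := 43) h2395 m2_2395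
  have h2397 : ∀ u < 103071, (fun u => chkFix tab mwordsA u) u = true := ext_range (a := 103028) (len := 43) h2396 m2_2396
  have h2398 : ∀ u < 103114, (fun u => chkFix tab mwordsA u) u = true := ext_range (a := 103071) (len := 43) h2397 m2_2397
  have h2399 : ∀ u < 103157, (fun u => chkFix tab mwordsA u) u = true := ext_range (a := 103114) (len := 43) h2398 m2_2398
  have h2400 : ∀ u < 103200, (fun u => chkFix tab mwordsA u) u = true := ext_range (a := 103157) (len := 43) h2399 m2_2399
  have h2401 : ∀ u < 103243, (fun u => chkFix tab mwordsA u) u = true := ext_range (a := 103200) (len := 43) h2400 m2_2400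
  have h2402 : ∀ u < 103286, (fun u => chkFix tab mwordsA u) u = true := ext_range (a := 103243) (len := 43) h2401 m2_2401
  have h2403 : ∀ u < 103329, (fun u => chkFix tab mwordsA u) u = true := ext_range (a := 103286) (len := 43) h2402 m2_2402
  have h2404 : ∀ u < 103372, (fun u => chkFix tab mwordsA u) u = true := ext_range (a := 103329) (len := 43) h2403 m2_2403
  have h2405 : ∀ u < 103415, (fun u => chkFix tab mwordsA u) u = true := ext_range (a := 103372) (len := 43) h2404 m2_2404
  have h2406 : ∀ u < 103458, (fun u => chkFix tab mwordsA u) u = true := ext_range (a := 103415) (len := 43) h2405 m2_2405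
  have h2407 : ∀ u < 103501, (fun u => chkFix tab mwordsA u) u = true := ext_range (a := 103458) (len := 43) h2406 m2_2406
  have h2408 : ∀ u < 103544, (fun u => chkFix tab mwordsA u) u = true := ext_range (a := 103501) (len := 43) h2407 m2_2407
  have h2409 : ∀ u < 103587, (fun u => chkFix tab mwordsA u) u = true := ext_range (a := 103544) (len := 43) h2408 m2_2408
  have h2410 : ∀ u < 103630, (fun u => chkFix tab mwordsA u) u = true := ext_range (a := 103587) (len := 43) h2409 m2_2409
  have h2411 : ∀ u < 103673, (fun u => chkFix tab mwordsA u) u = true := ext_range (a := 103630) (len := 43) h2410 m2_2410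
  have h2412 : ∀ u < 103716, (fun u => chkFix tab mwordsA u) u = true := ext_range (a := 103673) (len := 43) h2411 m2_2411
  have h2413 : ∀ u < 103759, (fun u => chkFix tab mwordsA u) u = true := ext_range (a := 103716) (len := 43) h2412 m2_2412
  have h2414 : ∀ u < 103802, (fun u => chkFix tab mwordsA u) u = true := ext_range (a := 103759) (len := 43) h2413 m2_2413
  have h2415 : ∀ u < 103845, (fun u => chkFix tab mwordsA u) u = true := ext_range (a := 103802) (len := 43) h2414 m2_2414
  have h2416 : ∀ u < 103888, (fun u => chkFix tab mwordsA u) u = true := ext_range (a := 103845) (len := 43) h2415 m2_2415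
  have h2417 : ∀ u < 103931, (fun u => chkFix tab mwordsA u) u = true := ext_range (a := 103888) (len := 43) h2416 m2_2416
  have h2418 : ∀ u < 103974, (fun u => chkFix tab mwordsA u) u = true := ext_range (a := 103931) (len := 43) h2417 m2_2417
  have h2419 : ∀ u < 104017, (fun u => chkFix tab mwordsA u) u = true := ext_range (a := 103974) (len := 43) h2418 m2_2418
  have h2420 : ∀ u < 104060, (fun u => chkFix tab mwordsA u) u = true := ext_range (a := 104017) (len := 43) h2419 m2_2419
  have h2421 : ∀ u < 104103, (fun u => chkFix tab mwordsA u) u = true := ext_range (a := 104060) (len := 43) h2420 m2_2420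
  have h2422 : ∀ u < 104146, (fun u => chkFix tab mwordsA u) u = true := ext_range (a := 104103) (len := 43) h2421 m2_2421
  have h2423 : ∀ u < 104189, (fun u => chkFix tab mwordsA u) u = true := ext_range (a := 104146) (len := 43) h2422 m2_2422
  have h2424 : ∀ u < 104232, (fun u => chkFix tab mwordsA u) u = true := ext_range (a := 104189) (len := 43) h2423 m2_2423
  have h2425 : ∀ u < 104275, (fun u => chkFix tab mwordsA u) u = true := ext_range (a := 104232) (len := 43) h2424 m2_2424
  have h2426 : ∀ u < 104318, (fun u => chkFix tab mwordsA u) u = true := ext_range (a := 104275) (len := 43) h2425 m2_2425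
  have h2427 : ∀ u < 104361, (fun u => chkFix tab mwordsA u) u = true := ext_range (a := 104318) (len := 43) h2426 m2_2426
  have h2428 : ∀ u < 104404, (fun u => chkFix tab mwordsA u) u = true := ext_range (a := 104361) (len := 43) h2427 m2_2427
  have h2429 : ∀ u < 104447, (fun u => chkFix tab mwordsA u) u = true := ext_range (a := 104404) (len := 43) h2428 m2_2428
  have h2430 : ∀ u < 104490, (fun u => chkFix tab mwordsA u) u = true := ext_range (a := 104447) (len := 43) h2429 m2_2429
  have h2431 : ∀ u < 104533, (fun u => chkFix tab mwordsA u) u = true := ext_range (a := 104490) (len := 43) h2430 m2_2430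
  have h2432 : ∀ u < 104576, (fun u => chkFix tab mwordsA u) u = true := ext_range (a := 104533) (len := 43) h2431 m2_2431
  have h2433 : ∀ u < 104619, (fun u => chkFix tab mwordsA u) u = true := ext_range (a := 104576) (len := 43) h2432 m2_2432
  have h2434 : ∀ u < 104662, (fun u => chkFix tab mwordsA u) u = true := ext_range (a := 104619) (len := 43) h2433 m2_2433
  have h2435 : ∀ u < 104705, (fun u => chkFix tab mwordsA u) u = true := ext_range (a := 104662) (len := 43) h2434 m2_2434
  have h2436 : ∀ u < 104748, (fun u => chkFix tab mwordsA u) u = true := ext_range (a := 104705) (len := 43) h2435 m2_2435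
  have h2437 : ∀ u < 104791, (fun u => chkFix tab mwordsA u) u = true := ext_range (a := 104748) (len := 43) h2436 m2_2436
  have h2438 : ∀ u < 104834, (fun u => chkFix tab mwordsA u) u = true := ext_range (a := 104791) (len := 43) h2437 m2_2437
  have h2439 : ∀ u < 104877, (fun u => chkFix tab mwordsA u) u = true := ext_range (a := 104834) (len := 43) h2438 m2_2438
  have h2440 : ∀ u < 104920, (fun u => chkFix tab mwordsA u) u = true := ext_range (a := 104877) (len := 43) h2439 m2_2439
  have h2441 : ∀ u < 104963, (fun u => chkFix tab mwordsA u) u = true := ext_range (a := 104920) (len := 43) h2440 m2_2440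
  have h2442 : ∀ u < 105006, (fun u => chkFix tab mwordsA u) u = true := ext_range (a := 104963) (len := 43) h2441 m2_2441
  have h2443 : ∀ u < 105049, (fun u => chkFix tab mwordsA u) u = true := ext_range (a := 105006) (len := 43) h2442 m2_2442
  have h2444 : ∀ u < 105092, (fun u => chkFix tab mwordsA u) u = true := ext_range (a := 105049) (len := 43) h2443 m2_2443
  have h2445 : ∀ u < 105135, (fun u => chkFix tab mwordsA u) u = true := ext_range (a := 105092) (len := 43) h2444 m2_2444
  have h2446 : ∀ u < 105178, (fun u => chkFix tab mwordsA u) u = true := ext_range (a := 105135) (len := 43) h2445 m2_2445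
  have h2447 : ∀ u < 105221, (fun u => chkFix tab mwordsA u) u = true := ext_range (a := 105178) (len := 43) h2446 m2_2446
  have h2448 : ∀ u < 105264, (fun u => chkFix tab mwordsA u) u = true := ext_range (a := 105221) (len := 43) h2447 m2_2447
  have h2449 : ∀ u < 105307, (fun u => chkFix tab mwordsA u) u = true := ext_range (a := 105264) (len := 43) h2448 m2_2448
  have h2450 : ∀ u < 105350, (fun u => chkFix tab mwordsA u) u = true := ext_range (a := 105307) (len := 43) h2449 m2_2449
  have h2451 : ∀ u < 105393, (fun u => chkFix tab mwordsA u) u = true := ext_range (a := 105350) (len := 43) h2450 m2_2450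
  have h2452 : ∀ u < 105436, (fun u => chkFix tab mwordsA u) u = true := ext_range (a := 105393) (len := 43) h2451 m2_2451
  have h2453 : ∀ u < 105479, (fun u => chkFix tab mwordsA u) u = true := ext_range (a := 105436) (len := 43) h2452 m2_2452
  have h2454 : ∀ u < 105522, (fun u => chkFix tab mwordsA u) u = true := ext_range (a := 105479) (len := 43) h2453 m2_2453
  have h2455 : ∀ u < 105565, (fun u => chkFix tab mwordsA u) u = true := ext_range (a := 105522) (len := 43) h2454 m2_2454
  have h2456 : ∀ u < 105608, (fun u => chkFix tab mwordsA u) u = true := ext_range (a := 105565) (len := 43) h2455 m2_2455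
  have h2457 : ∀ u < 105651, (fun u => chkFix tab mwordsA u) u = true := ext_range (a := 105608) (len := 43) h2456 m2_2456
  have h2458 : ∀ u < 105694, (fun u => chkFix tab mwordsA u) u = true := ext_range (a := 105651) (len := 43) h2457 m2_2457
  have h2459 : ∀ u < 105737, (fun u => chkFix tab mwordsA u) u = true := ext_range (a := 105694) (len := 43) h2458 m2_2458
  have h2460 : ∀ u < 105780, (fun u => chkFix tab mwordsA u) u = true := ext_range (a := 105737) (len := 43) h2459 m2_2459
  have h2461 : ∀ u < 105823, (fun u => chkFix tab mwordsA u) u = true := ext_range (a := 105780) (len := 43) h2460 m2_2460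
  have h2462 : ∀ u < 105866, (fun u => chkFix tab mwordsA u) u = true := ext_range (a := 105823) (len := 43) h2461 m2_2461
  have h2463 : ∀ u < 105909, (fun u => chkFix tab mwordsA u) u = true := ext_range (a := 105866) (len := 43) h2462 m2_2462
  have h2464 : ∀ u < 105952, (fun u => chkFix tab mwordsA u) u = true := ext_range (a := 105909) (len := 43) h2463 m2_2463
  have h2465 : ∀ u < 105995, (fun u => chkFix tab mwordsA u) u = true := ext_range (a := 105952) (len := 43) h2464 m2_2464
  have h2466 : ∀ u < 106038, (fun u => chkFix tab mwordsA u) u = true := ext_range (a := 105995) (len := 43) h2465 m2_2465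
  have h2467 : ∀ u < 106081, (fun u => chkFix tab mwordsA u) u = true := ext_range (a := 106038) (len := 43) h2466 m2_2466
  have h2468 : ∀ u < 106124, (fun u => chkFix tab mwordsA u) u = true := ext_range (a := 106081) (len := 43) h2467 m2_2467
  have h2469 : ∀ u < 106167, (fun u => chkFix tab mwordsA u) u = true := ext_range (a := 106124) (len := 43) h2468 m2_2468
  have h2470 : ∀ u < 106210, (fun u => chkFix tab mwordsA u) u = true := ext_range (a := 106167) (len := 43) h2469 m2_2469
  have h2471 : ∀ u < 106253, (fun u => chkFix tab mwordsA u) u = true := ext_range (a := 106210) (len := 43) h2470 m2_2470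
  have h2472 : ∀ u < 106296, (fun u => chkFix tab mwordsA u) u = true := ext_range (a := 106253) (len := 43) h2471 m2_2471
  have h2473 : ∀ u < 106339, (fun u => chkFix tab mwordsA u) u = true := ext_range (a := 106296) (len := 43) h2472 m2_2472
  have h2474 : ∀ u < 106382, (fun u => chkFix tab mwordsA u) u = true := ext_range (a := 106339) (len := 43) h2473 m2_2473
  have h2475 : ∀ u < 106425, (fun u => chkFix tab mwordsA u) u = true := ext_range (a := 106382) (len := 43) h2474 m2_2474
  have h2476 : ∀ u < 106468, (fun u => chkFix tab mwordsA u) u = true := ext_range (a := 106425) (len := 43) h2475 m2_2475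
  have h2477 : ∀ u < 106511, (fun u => chkFix tab mwordsA u) u = true := ext_range (a := 106468) (len := 43) h2476 m2_2476
  have h2478 : ∀ u < 106554, (fun u => chkFix tab mwordsA u) u = true := ext_range (a := 106511) (len := 43) h2477 m2_2477
  have h2479 : ∀ u < 106597, (fun u => chkFix tab mwordsA u) u = true := ext_range (a := 106554) (len := 43) h2478 m2_2478
  have h2480 : ∀ u < 106640, (fun u => chkFix tab mwordsA u) u = true := ext_range (a := 106597) (len := 43) h2479 m2_2479
  have h2481 : ∀ u < 106683, (fun u => chkFix tab mwordsA u) u = true := ext_range (a := 106640) (len := 43) h2480 m2_2480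
  have h2482 : ∀ u < 106726, (fun u => chkFix tab mwordsA u) u = true := ext_range (a := 106683) (len := 43) h2481 m2_2481
  have h2483 : ∀ u < 106769, (fun u => chkFix tab mwordsA u) u = true := ext_range (a := 106726) (len := 43) h2482 m2_2482
  have h2484 : ∀ u < 106812, (fun u => chkFix tab mwordsA u) u = true := ext_range (a := 106769) (len := 43) h2483 m2_2483
  have h2485 : ∀ u < 106855, (fun u => chkFix tab mwordsA u) u = true := ext_range (a := 106812) (len := 43) h2484 m2_2484
  have h2486 : ∀ u < 106898, (fun u => chkFix tab mwordsA u) u = true := ext_range (a := 106855) (len := 43) h2485 m2_2485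
  have h2487 : ∀ u < 106941, (fun u => chkFix tab mwordsA u) u = true := ext_range (a := 106898) (len := 43) h2486 m2_2486
  have h2488 : ∀ u < 106984, (fun u => chkFix tab mwordsA u) u = true := ext_range (a := 106941) (len := 43) h2487 m2_2487
  have h2489 : ∀ u < 107027, (fun u => chkFix tab mwordsA u) u = true := ext_range (a := 106984) (len := 43) h2488 m2_2488
  have h2490 : ∀ u < 107070, (fun u => chkFix tab mwordsA u) u = true := ext_range (a := 107027) (len := 43) h2489 m2_2489
  have h2491 : ∀ u < 107113, (fun u => chkFix tab mwordsA u) u = true := ext_range (a := 107070) (len := 43) h2490 m2_2490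
  have h2492 : ∀ u < 107156, (fun u => chkFix tab mwordsA u) u = true := ext_range (a := 107113) (len := 43) h2491 m2_2491
  have h2493 : ∀ u < 107199, (fun u => chkFix tab mwordsA u) u = true := ext_range (a := 107156) (len := 43) h2492 m2_2492
  have h2494 : ∀ u < 107242, (fun u => chkFix tab mwordsA u) u = true := ext_range (a := 107199) (len := 43) h2493 m2_2493
  have h2495 : ∀ u < 107285, (fun u => chkFix tab mwordsA u) u = true := ext_range (a := 107242) (len := 43) h2494 m2_2494
  have h2496 : ∀ u < 107328, (fun u => chkFix tab mwordsA u) u = true := ext_range (a := 107285) (len := 43) h2495 m2_2495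
  have h2497 : ∀ u < 107371, (fun u => chkFix tab mwordsA u) u = true := ext_range (a := 107328) (len := 43) h2496 m2_2496
  have h2498 : ∀ u < 107414, (fun u => chkFix tab mwordsA u) u = true := ext_range (a := 107371) (len := 43) h2497 m2_2497
  have h2499 : ∀ u < 107457, (fun u => chkFix tab mwordsA u) u = true := ext_range (a := 107414) (len := 43) h2498 m2_2498
  have h2500 : ∀ u < 107500, (fun u => chkFix tab mwordsA u) u = true := ext_range (a := 107457) (len := 43) h2499 m2_2499
  have h2501 : ∀ u < 107543, (fun u => chkFix tab mwordsA u) u = true := ext_range (a := 107500) (len := 43) h2500 m2_2500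
  have h2502 : ∀ u < 107586, (fun u => chkFix tab mwordsA u) u = true := ext_range (a := 107543) (len := 43) h2501 m2_2501
  have h2503 : ∀ u < 107629, (fun u => chkFix tab mwordsA u) u = true := ext_range (a := 107586) (len := 43) h2502 m2_2502
  have h2504 : ∀ u < 107672, (fun u => chkFix tab mwordsA u) u = true := ext_range (a := 107629) (len := 43) h2503 m2_2503
  have h2505 : ∀ u < 107715, (fun u => chkFix tab mwordsA u) u = true := ext_range (a := 107672) (len := 43) h2504 m2_2504
  have h2506 : ∀ u < 107758, (fun u => chkFix tab mwordsA u) u = true := ext_range (a := 107715) (len := 43) h2505 m2_2505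
  have h2507 : ∀ u < 107801, (fun u => chkFix tab mwordsA u) u = true := ext_range (a := 107758) (len := 43) h2506 m2_2506
  have h2508 : ∀ u < 107844, (fun u => chkFix tab mwordsA u) u = true := ext_range (a := 107801) (len := 43) h2507 m2_2507
  have h2509 : ∀ u < 107887, (fun u => chkFix tab mwordsA u) u = true := ext_range (a := 107844) (len := 43) h2508 m2_2508
  have h2510 : ∀ u < 107930, (fun u => chkFix tab mwordsA u) u = true := ext_range (a := 107887) (len := 43) h2509 m2_2509
  have h2511 : ∀ u < 107973, (fun u => chkFix tab mwordsA u) u = true := ext_range (a := 107930) (len := 43) h2510 m2_2510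
  have h2512 : ∀ u < 108016, (fun u => chkFix tab mwordsA u) u = true := ext_range (a := 107973) (len := 43) h2511 m2_2511
  have h2513 : ∀ u < 108059, (fun u => chkFix tab mwordsA u) u = true := ext_range (a := 108016) (len := 43) h2512 m2_2512
  have h2514 : ∀ u < 108102, (fun u => chkFix tab mwordsA u) u = true := ext_range (a := 108059) (len := 43) h2513 m2_2513
  have h2515 : ∀ u < 108145, (fun u => chkFix tab mwordsA u) u = true := ext_range (a := 108102) (len := 43) h2514 m2_2514
  have h2516 : ∀ u < 108188, (fun u => chkFix tab mwordsA u) u = true := ext_range (a := 108145) (len := 43) h2515 m2_2515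
  have h2517 : ∀ u < 108231, (fun u => chkFix tab mwordsA u) u = true := ext_range (a := 108188) (len := 43) h2516 m2_2516
  have h2518 : ∀ u < 108274, (fun u => chkFix tab mwordsA u) u = true := ext_range (a := 108231) (len := 43) h2517 m2_2517
  have h2519 : ∀ u < 108317, (fun u => chkFix tab mwordsA u) u = true := ext_range (a := 108274) (len := 43) h2518 m2_2518
  have h2520 : ∀ u < 108360, (fun u => chkFix tab mwordsA u) u = true := ext_range (a := 108317) (len := 43) h2519 m2_2519
  have h2521 : ∀ u < 108403, (fun u => chkFix tab mwordsA u) u = true := ext_range (a := 108360) (len := 43) h2520 m2_2520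
  have h2522 : ∀ u < 108446, (fun u => chkFix tab mwordsA u) u = true := ext_range (a := 108403) (len := 43) h2521 m2_2521
  have h2523 : ∀ u < 108489, (fun u => chkFix tab mwordsA u) u = true := ext_range (a := 108446) (len := 43) h2522 m2_2522
  have h2524 : ∀ u < 108532, (fun u => chkFix tab mwordsA u) u = true := ext_range (a := 108489) (len := 43) h2523 m2_2523
  have h2525 : ∀ u < 108575, (fun u => chkFix tab mwordsA u) u = true := ext_range (a := 108532) (len := 43) h2524 m2_2524
  have h2526 : ∀ u < 108618, (fun u => chkFix tab mwordsA u) u = true := ext_range (a := 108575) (len := 43) h2525 m2_2525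
  have h2527 : ∀ u < 108661, (fun u => chkFix tab mwordsA u) u = true := ext_range (a := 108618) (len := 43) h2526 m2_2526
  have h2528 : ∀ u < 108704, (fun u => chkFix tab mwordsA u) u = true := ext_range (a := 108661) (len := 43) h2527 m2_2527
  have h2529 : ∀ u < 108747, (fun u => chkFix tab mwordsA u) u = true := ext_range (a := 108704) (len := 43) h2528 m2_2528
  have h2530 : ∀ u < 108790, (fun u => chkFix tab mwordsA u) u = true := ext_range (a := 108747) (len := 43) h2529 m2_2529
  have h2531 : ∀ u < 108833, (fun u => chkFix tab mwordsA u) u = true := ext_range (a := 108790) (len := 43) h2530 m2_2530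
  have h2532 : ∀ u < 108876, (fun u => chkFix tab mwordsA u) u = true := ext_range (a := 108833) (len := 43) h2531 m2_2531
  have h2533 : ∀ u < 108919, (fun u => chkFix tab mwordsA u) u = true := ext_range (a := 108876) (len := 43) h2532 m2_2532
  have h2534 : ∀ u < 108962, (fun u => chkFix tab mwordsA u) u = true := ext_range (a := 108919) (len := 43) h2533 m2_2533
  have h2535 : ∀ u < 109005, (fun u => chkFix tab mwordsA u) u = true := ext_range (a := 108962) (len := 43) h2534 m2_2534
  have h2536 : ∀ u < 109048, (fun u => chkFix tab mwordsA u) u = true := ext_range (a := 109005) (len := 43) h2535 m2_2535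
  have h2537 : ∀ u < 109091, (fun u => chkFix tab mwordsA u) u = true := ext_range (a := 109048) (len := 43) h2536 m2_2536
  have h2538 : ∀ u < 109134, (fun u => chkFix tab mwordsA u) u = true := ext_range (a := 109091) (len := 43) h2537 m2_2537
  have h2539 : ∀ u < 109177, (fun u => chkFix tab mwordsA u) u = true := ext_range (a := 109134) (len := 43) h2538 m2_2538
  have h2540 : ∀ u < 109220, (fun u => chkFix tab mwordsA u) u = true := ext_range (a := 109177) (len := 43) h2539 m2_2539
  have h2541 : ∀ u < 109263, (fun u => chkFix tab mwordsA u) u = true := ext_range (a := 109220) (len := 43) h2540 m2_2540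
  have h2542 : ∀ u < 109306, (fun u => chkFix tab mwordsA u) u = true := ext_range (a := 109263) (len := 43) h2541 m2_2541
  have h2543 : ∀ u < 109349, (fun u => chkFix tab mwordsA u) u = true := ext_range (a := 109306) (len := 43) h2542 m2_2542
  have h2544 : ∀ u < 109392, (fun u => chkFix tab mwordsA u) u = true := ext_range (a := 109349) (len := 43) h2543 m2_2543
  have h2545 : ∀ u < 109435, (fun u => chkFix tab mwordsA u) u = true := ext_range (a := 109392) (len := 43) h2544 m2_2544
  have h2546 : ∀ u < 109478, (fun u => chkFix tab mwordsA u) u = true := ext_range (a := 109435) (len := 43) h2545 m2_2545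
  have h2547 : ∀ u < 109521, (fun u => chkFix tab mwordsA u) u = true := ext_range (a := 109478) (len := 43) h2546 m2_2546
  have h2548 : ∀ u < 109564, (fun u => chkFix tab mwordsA u) u = true := ext_range (a := 109521) (len := 43) h2547 m2_2547
  have h2549 : ∀ u < 109607, (fun u => chkFix tab mwordsA u) u = true := ext_range (a := 109564) (len := 43) h2548 m2_2548
  have h2550 : ∀ u < 109650, (fun u => chkFix tab mwordsA u) u = true := ext_range (a := 109607) (len := 43) h2549 m2_2549
  have h2551 : ∀ u < 109693, (fun u => chkFix tab mwordsA u) u = true := ext_range (a := 109650) (len := 43) h2550 m2_2550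
  have h2552 : ∀ u < 109736, (fun u => chkFix tab mwordsA u) u = true := ext_range (a := 109693) (len := 43) h2551 m2_2551
  have h2553 : ∀ u < 109779, (fun u => chkFix tab mwordsA u) u = true := ext_range (a := 109736) (len := 43) h2552 m2_2552
  have h2554 : ∀ u < 109822, (fun u => chkFix tab mwordsA u) u = true := ext_range (a := 109779) (len := 43) h2553 m2_2553
  have h2555 : ∀ u < 109865, (fun u => chkFix tab mwordsA u) u = true := ext_range (a := 109822) (len := 43) h2554 m2_2554
  have h2556 : ∀ u < 109908, (fun u => chkFix tab mwordsA u) u = true := ext_range (a := 109865) (len := 43) h2555 m2_2555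
  have h2557 : ∀ u < 109951, (fun u => chkFix tab mwordsA u) u = true := ext_range (a := 109908) (len := 43) h2556 m2_2556
  have h2558 : ∀ u < 109994, (fun u => chkFix tab mwordsA u) u = true := ext_range (a := 109951) (len := 43) h2557 m2_2557
  have h2559 : ∀ u < 110037, (fun u => chkFix tab mwordsA u) u = true := ext_range (a := 109994) (len := 43) h2558 m2_2558
  have h2560 : ∀ u < 110080, (fun u => chkFix tab mwordsA u) u = true := ext_range (a := 110037) (len := 43) h2559 m2_2559
  have h2561 : ∀ u < 110123, (fun u => chkFix tab mwordsA u) u = true := ext_range (a := 110080) (len := 43) h2560 m2_2560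
  have h2562 : ∀ u < 110166, (fun u => chkFix tab mwordsA u) u = true := ext_range (a := 110123) (len := 43) h2561 m2_2561
  have h2563 : ∀ u < 110209, (fun u => chkFix tab mwordsA u) u = true := ext_range (a := 110166) (len := 43) h2562 m2_2562
  have h2564 : ∀ u < 110252, (fun u => chkFix tab mwordsA u) u = true := ext_range (a := 110209) (len := 43) h2563 m2_2563
  have h2565 : ∀ u < 110295, (fun u => chkFix tab mwordsA u) u = true := ext_range (a := 110252) (len := 43) h2564 m2_2564
  have h2566 : ∀ u < 110338, (fun u => chkFix tab mwordsA u) u = true := ext_range (a := 110295) (len := 43) h2565 m2_2565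
  have h2567 : ∀ u < 110381, (fun u => chkFix tab mwordsA u) u = true := ext_range (a := 110338) (len := 43) h2566 m2_2566
  have h2568 : ∀ u < 110424, (fun u => chkFix tab mwordsA u) u = true := ext_range (a := 110381) (len := 43) h2567 m2_2567
  have h2569 : ∀ u < 110467, (fun u => chkFix tab mwordsA u) u = true := ext_range (a := 110424) (len := 43) h2568 m2_2568
  have h2570 : ∀ u < 110510, (fun u => chkFix tab mwordsA u) u = true := ext_range (a := 110467) (len := 43) h2569 m2_2569
  have h2571 : ∀ u < 110553, (fun u => chkFix tab mwordsA u) u = true := ext_range (a := 110510) (len := 43) h2570 m2_2570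
  have h2572 : ∀ u < 110596, (fun u => chkFix tab mwordsA u) u = true := ext_range (a := 110553) (len := 43) h2571 m2_2571
  have h2573 : ∀ u < 110639, (fun u => chkFix tab mwordsA u) u = true := ext_range (a := 110596) (len := 43) h2572 m2_2572
  have h2574 : ∀ u < 110682, (fun u => chkFix tab mwordsA u) u = true := ext_range (a := 110639) (len := 43) h2573 m2_2573
  have h2575 : ∀ u < 110725, (fun u => chkFix tab mwordsA u) u = true := ext_range (a := 110682) (len := 43) h2574 m2_2574
  have h2576 : ∀ u < 110768, (fun u => chkFix tab mwordsA u) u = true := ext_range (a := 110725) (len := 43) h2575 m2_2575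
  have h2577 : ∀ u < 110811, (fun u => chkFix tab mwordsA u) u = true := ext_range (a := 110768) (len := 43) h2576 m2_2576
  have h2578 : ∀ u < 110854, (fun u => chkFix tab mwordsA u) u = true := ext_range (a := 110811) (len := 43) h2577 m2_2577
  have h2579 : ∀ u < 110897, (fun u => chkFix tab mwordsA u) u = true := ext_range (a := 110854) (len := 43) h2578 m2_2578
  have h2580 : ∀ u < 110940, (fun u => chkFix tab mwordsA u) u = true := ext_range (a := 110897) (len := 43) h2579 m2_2579
  have h2581 : ∀ u < 110983, (fun u => chkFix tab mwordsA u) u = true := ext_range (a := 110940) (len := 43) h2580 m2_2580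
  have h2582 : ∀ u < 111026, (fun u => chkFix tab mwordsA u) u = true := ext_range (a := 110983) (len := 43) h2581 m2_2581
  have h2583 : ∀ u < 111069, (fun u => chkFix tab mwordsA u) u = true := ext_range (a := 111026) (len := 43) h2582 m2_2582
  have h2584 : ∀ u < 111112, (fun u => chkFix tab mwordsA u) u = true := ext_range (a := 111069) (len := 43) h2583 m2_2583
  have h2585 : ∀ u < 111155, (fun u => chkFix tab mwordsA u) u = true := ext_range (a := 111112) (len := 43) h2584 m2_2584
  have h2586 : ∀ u < 111198, (fun u => chkFix tab mwordsA u) u = true := ext_range (a := 111155) (len := 43) h2585 m2_2585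
  have h2587 : ∀ u < 111241, (fun u => chkFix tab mwordsA u) u = true := ext_range (a := 111198) (len := 43) h2586 m2_2586
  have h2588 : ∀ u < 111284, (fun u => chkFix tab mwordsA u) u = true := ext_range (a := 111241) (len := 43) h2587 m2_2587
  have h2589 : ∀ u < 111327, (fun u => chkFix tab mwordsA u) u = true := ext_range (a := 111284) (len := 43) h2588 m2_2588
  have h2590 : ∀ u < 111370, (fun u => chkFix tab mwordsA u) u = true := ext_range (a := 111327) (len := 43) h2589 m2_2589
  have h2591 : ∀ u < 111413, (fun u => chkFix tab mwordsA u) u = true := ext_range (a := 111370) (len := 43) h2590 m2_2590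
  have h2592 : ∀ u < 111456, (fun u => chkFix tab mwordsA u) u = true := ext_range (a := 111413) (len := 43) h2591 m2_2591
  have h2593 : ∀ u < 111499, (fun u => chkFix tab mwordsA u) u = true := ext_range (a := 111456) (len := 43) h2592 m2_2592
  have h2594 : ∀ u < 111542, (fun u => chkFix tab mwordsA u) u = true := ext_range (a := 111499) (len := 43) h2593 m2_2593
  have h2595 : ∀ u < 111585, (fun u => chkFix tab mwordsA u) u = true := ext_range (a := 111542) (len := 43) h2594 m2_2594
  have h2596 : ∀ u < 111628, (fun u => chkFix tab mwordsA u) u = true := ext_range (a := 111585) (len := 43) h2595 m2_2595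
  have h2597 : ∀ u < 111671, (fun u => chkFix tab mwordsA u) u = true := ext_range (a := 111628) (len := 43) h2596 m2_2596
  have h2598 : ∀ u < 111714, (fun u => chkFix tab mwordsA u) u = true := ext_range (a := 111671) (len := 43) h2597 m2_2597
  have h2599 : ∀ u < 111757, (fun u => chkFix tab mwordsA u) u = true := ext_range (a := 111714) (len := 43) h2598 m2_2598
  have h2600 : ∀ u < 111800, (fun u => chkFix tab mwordsA u) u = true := ext_range (a := 111757) (len := 43) h2599 m2_2599
  have h2601 : ∀ u < 111843, (fun u => chkFix tab mwordsA u) u = true := ext_range (a := 111800) (len := 43) h2600 m2_2600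
  have h2602 : ∀ u < 111886, (fun u => chkFix tab mwordsA u) u = true := ext_range (a := 111843) (len := 43) h2601 m2_2601
  have h2603 : ∀ u < 111929, (fun u => chkFix tab mwordsA u) u = true := ext_range (a := 111886) (len := 43) h2602 m2_2602
  have h2604 : ∀ u < 111972, (fun u => chkFix tab mwordsA u) u = true := ext_range (a := 111929) (len := 43) h2603 m2_2603
  have h2605 : ∀ u < 112015, (fun u => chkFix tab mwordsA u) u = true := ext_range (a := 111972) (len := 43) h2604 m2_2604
  have h2606 : ∀ u < 112058, (fun u => chkFix tab mwordsA u) u = true := ext_range (a := 112015) (len := 43) h2605 m2_2605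
  have h2607 : ∀ u < 112101, (fun u => chkFix tab mwordsA u) u = true := ext_range (a := 112058) (len := 43) h2606 m2_2606
  have h2608 : ∀ u < 112144, (fun u => chkFix tab mwordsA u) u = true := ext_range (a := 112101) (len := 43) h2607 m2_2607
  have h2609 : ∀ u < 112187, (fun u => chkFix tab mwordsA u) u = true := ext_range (a := 112144) (len := 43) h2608 m2_2608
  have h2610 : ∀ u < 112230, (fun u => chkFix tab mwordsA u) u = true := ext_range (a := 112187) (len := 43) h2609 m2_2609
  have h2611 : ∀ u < 112273, (fun u => chkFix tab mwordsA u) u = true := ext_range (a := 112230) (len := 43) h2610 m2_2610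
  have h2612 : ∀ u < 112316, (fun u => chkFix tab mwordsA u) u = true := ext_range (a := 112273) (len := 43) h2611 m2_2611
  have h2613 : ∀ u < 112359, (fun u => chkFix tab mwordsA u) u = true := ext_range (a := 112316) (len := 43) h2612 m2_2612
  have h2614 : ∀ u < 112402, (fun u => chkFix tab mwordsA u) u = true := ext_range (a := 112359) (len := 43) h2613 m2_2613
  have h2615 : ∀ u < 112445, (fun u => chkFix tab mwordsA u) u = true := ext_range (a := 112402) (len := 43) h2614 m2_2614
  have h2616 : ∀ u < 112488, (fun u => chkFix tab mwordsA u) u = true := ext_range (a := 112445) (len := 43) h2615 m2_2615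
  have h2617 : ∀ u < 112531, (fun u => chkFix tab mwordsA u) u = true := ext_range (a := 112488) (len := 43) h2616 m2_2616
  have h2618 : ∀ u < 112574, (fun u => chkFix tab mwordsA u) u = true := ext_range (a := 112531) (len := 43) h2617 m2_2617
  have h2619 : ∀ u < 112617, (fun u => chkFix tab mwordsA u) u = true := ext_range (a := 112574) (len := 43) h2618 m2_2618
  have h2620 : ∀ u < 112660, (fun u => chkFix tab mwordsA u) u = true := ext_range (a := 112617) (len := 43) h2619 m2_2619
  have h2621 : ∀ u < 112703, (fun u => chkFix tab mwordsA u) u = true := ext_range (a := 112660) (len := 43) h2620 m2_2620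
  have h2622 : ∀ u < 112746, (fun u => chkFix tab mwordsA u) u = true := ext_range (a := 112703) (len := 43) h2621 m2_2621
  have h2623 : ∀ u < 112789, (fun u => chkFix tab mwordsA u) u = true := ext_range (a := 112746) (len := 43) h2622 m2_2622
  have h2624 : ∀ u < 112832, (fun u => chkFix tab mwordsA u) u = true := ext_range (a := 112789) (len := 43) h2623 m2_2623
  have h2625 : ∀ u < 112875, (fun u => chkFix tab mwordsA u) u = true := ext_range (a := 112832) (len := 43) h2624 m2_2624
  have h2626 : ∀ u < 112918, (fun u => chkFix tab mwordsA u) u = true := ext_range (a := 112875) (len := 43) h2625 m2_2625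
  have h2627 : ∀ u < 112961, (fun u => chkFix tab mwordsA u) u = true := ext_range (a := 112918) (len := 43) h2626 m2_2626
  have h2628 : ∀ u < 113004, (fun u => chkFix tab mwordsA u) u = true := ext_range (a := 112961) (len := 43) h2627 m2_2627
  have h2629 : ∀ u < 113047, (fun u => chkFix tab mwordsA u) u = true := ext_range (a := 113004) (len := 43) h2628 m2_2628
  have h2630 : ∀ u < 113090, (fun u => chkFix tab mwordsA u) u = true := ext_range (a := 113047) (len := 43) h2629 m2_2629
  have h2631 : ∀ u < 113133, (fun u => chkFix tab mwordsA u) u = true := ext_range (a := 113090) (len := 43) h2630 m2_2630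
  have h2632 : ∀ u < 113176, (fun u => chkFix tab mwordsA u) u = true := ext_range (a := 113133) (len := 43) h2631 m2_2631
  have h2633 : ∀ u < 113219, (fun u => chkFix tab mwordsA u) u = true := ext_range (a := 113176) (len := 43) h2632 m2_2632
  have h2634 : ∀ u < 113262, (fun u => chkFix tab mwordsA u) u = true := ext_range (a := 113219) (len := 43) h2633 m2_2633
  have h2635 : ∀ u < 113305, (fun u => chkFix tab mwordsA u) u = true := ext_range (a := 113262) (len := 43) h2634 m2_2634
  have h2636 : ∀ u < 113348, (fun u => chkFix tab mwordsA u) u = true := ext_range (a := 113305) (len := 43) h2635 m2_2635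
  have h2637 : ∀ u < 113391, (fun u => chkFix tab mwordsA u) u = true := ext_range (a := 113348) (len := 43) h2636 m2_2636
  have h2638 : ∀ u < 113434, (fun u => chkFix tab mwordsA u) u = true := ext_range (a := 113391) (len := 43) h2637 m2_2637
  have h2639 : ∀ u < 113477, (fun u => chkFix tab mwordsA u) u = true := ext_range (a := 113434) (len := 43) h2638 m2_2638
  have h2640 : ∀ u < 113520, (fun u => chkFix tab mwordsA u) u = true := ext_range (a := 113477) (len := 43) h2639 m2_2639
  have h2641 : ∀ u < 113563, (fun u => chkFix tab mwordsA u) u = true := ext_range (a := 113520) (len := 43) h2640 m2_2640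
  have h2642 : ∀ u < 113606, (fun u => chkFix tab mwordsA u) u = true := ext_range (a := 113563) (len := 43) h2641 m2_2641
  have h2643 : ∀ u < 113649, (fun u => chkFix tab mwordsA u) u = true := ext_range (a := 113606) (len := 43) h2642 m2_2642
  have h2644 : ∀ u < 113692, (fun u => chkFix tab mwordsA u) u = true := ext_range (a := 113649) (len := 43) h2643 m2_2643
  have h2645 : ∀ u < 113735, (fun u => chkFix tab mwordsA u) u = true := ext_range (a := 113692) (len := 43) h2644 m2_2644
  have h2646 : ∀ u < 113778, (fun u => chkFix tab mwordsA u) u = true := ext_range (a := 113735) (len := 43) h2645 m2_2645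
  have h2647 : ∀ u < 113821, (fun u => chkFix tab mwordsA u) u = true := ext_range (a := 113778) (len := 43) h2646 m2_2646
  have h2648 : ∀ u < 113864, (fun u => chkFix tab mwordsA u) u = true := ext_range (a := 113821) (len := 43) h2647 m2_2647
  have h2649 : ∀ u < 113907, (fun u => chkFix tab mwordsA u) u = true := ext_range (a := 113864) (len := 43) h2648 m2_2648
  have h2650 : ∀ u < 113950, (fun u => chkFix tab mwordsA u) u = true := ext_range (a := 113907) (len := 43) h2649 m2_2649
  have h2651 : ∀ u < 113993, (fun u => chkFix tab mwordsA u) u = true := ext_range (a := 113950) (len := 43) h2650 m2_2650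
  have h2652 : ∀ u < 114036, (fun u => chkFix tab mwordsA u) u = true := ext_range (a := 113993) (len := 43) h2651 m2_2651
  have h2653 : ∀ u < 114079, (fun u => chkFix tab mwordsA u) u = true := ext_range (a := 114036) (len := 43) h2652 m2_2652
  have h2654 : ∀ u < 114122, (fun u => chkFix tab mwordsA u) u = true := ext_range (a := 114079) (len := 43) h2653 m2_2653
  have h2655 : ∀ u < 114165, (fun u => chkFix tab mwordsA u) u = true := ext_range (a := 114122) (len := 43) h2654 m2_2654
  have h2656 : ∀ u < 114208, (fun u => chkFix tab mwordsA u) u = true := ext_range (a := 114165) (len := 43) h2655 m2_2655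
  have h2657 : ∀ u < 114251, (fun u => chkFix tab mwordsA u) u = true := ext_range (a := 114208) (len := 43) h2656 m2_2656
  have h2658 : ∀ u < 114294, (fun u => chkFix tab mwordsA u) u = true := ext_range (a := 114251) (len := 43) h2657 m2_2657
  have h2659 : ∀ u < 114337, (fun u => chkFix tab mwordsA u) u = true := ext_range (a := 114294) (len := 43) h2658 m2_2658
  have h2660 : ∀ u < 114380, (fun u => chkFix tab mwordsA u) u = true := ext_range (a := 114337) (len := 43) h2659 m2_2659
  have h2661 : ∀ u < 114423, (fun u => chkFix tab mwordsA u) u = true := ext_range (a := 114380) (len := 43) h2660 m2_2660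
  have h2662 : ∀ u < 114466, (fun u => chkFix tab mwordsA u) u = true := ext_range (a := 114423) (len := 43) h2661 m2_2661
  have h2663 : ∀ u < 114509, (fun u => chkFix tab mwordsA u) u = true := ext_range (a := 114466) (len := 43) h2662 m2_2662
  have h2664 : ∀ u < 114552, (fun u => chkFix tab mwordsA u) u = true := ext_range (a := 114509) (len := 43) h2663 m2_2663
  have h2665 : ∀ u < 114595, (fun u => chkFix tab mwordsA u) u = true := ext_range (a := 114552) (len := 43) h2664 m2_2664
  have h2666 : ∀ u < 114638, (fun u => chkFix tab mwordsA u) u = true := ext_range (a := 114595) (len := 43) h2665 m2_2665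
  have h2667 : ∀ u < 114681, (fun u => chkFix tab mwordsA u) u = true := ext_range (a := 114638) (len := 43) h2666 m2_2666
  have h2668 : ∀ u < 114724, (fun u => chkFix tab mwordsA u) u = true := ext_range (a := 114681) (len := 43) h2667 m2_2667
  have h2669 : ∀ u < 114767, (fun u => chkFix tab mwordsA u) u = true := ext_range (a := 114724) (len := 43) h2668 m2_2668
  have h2670 : ∀ u < 114810, (fun u => chkFix tab mwordsA u) u = true := ext_range (a := 114767) (len := 43) h2669 m2_2669
  have h2671 : ∀ u < 114853, (fun u => chkFix tab mwordsA u) u = true := ext_range (a := 114810) (len := 43) h2670 m2_2670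
  have h2672 : ∀ u < 114896, (fun u => chkFix tab mwordsA u) u = true := ext_range (a := 114853) (len := 43) h2671 m2_2671
  have h2673 : ∀ u < 114939, (fun u => chkFix tab mwordsA u) u = true := ext_range (a := 114896) (len := 43) h2672 m2_2672
  have h2674 : ∀ u < 114982, (fun u => chkFix tab mwordsA u) u = true := ext_range (a := 114939) (len := 43) h2673 m2_2673
  have h2675 : ∀ u < 115025, (fun u => chkFix tab mwordsA u) u = true := ext_range (a := 114982) (len := 43) h2674 m2_2674
  have h2676 : ∀ u < 115068, (fun u => chkFix tab mwordsA u) u = true := ext_range (a := 115025) (len := 43) h2675 m2_2675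
  have h2677 : ∀ u < 115111, (fun u => chkFix tab mwordsA u) u = true := ext_range (a := 115068) (len := 43) h2676 m2_2676
  have h2678 : ∀ u < 115154, (fun u => chkFix tab mwordsA u) u = true := ext_range (a := 115111) (len := 43) h2677 m2_2677
  have h2679 : ∀ u < 115197, (fun u => chkFix tab mwordsA u) u = true := ext_range (a := 115154) (len := 43) h2678 m2_2678
  have h2680 : ∀ u < 115240, (fun u => chkFix tab mwordsA u) u = true := ext_range (a := 115197) (len := 43) h2679 m2_2679
  have h2681 : ∀ u < 115283, (fun u => chkFix tab mwordsA u) u = true := ext_range (a := 115240) (len := 43) h2680 m2_2680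
  have h2682 : ∀ u < 115326, (fun u => chkFix tab mwordsA u) u = true := ext_range (a := 115283) (len := 43) h2681 m2_2681
  have h2683 : ∀ u < 115369, (fun u => chkFix tab mwordsA u) u = true := ext_range (a := 115326) (len := 43) h2682 m2_2682
  have h2684 : ∀ u < 115412, (fun u => chkFix tab mwordsA u) u = true := ext_range (a := 115369) (len := 43) h2683 m2_2683
  have h2685 : ∀ u < 115455, (fun u => chkFix tab mwordsA u) u = true := ext_range (a := 115412) (len := 43) h2684 m2_2684
  have h2686 : ∀ u < 115498, (fun u => chkFix tab mwordsA u) u = true := ext_range (a := 115455) (len := 43) h2685 m2_2685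
  have h2687 : ∀ u < 115541, (fun u => chkFix tab mwordsA u) u = true := ext_range (a := 115498) (len := 43) h2686 m2_2686
  have h2688 : ∀ u < 115584, (fun u => chkFix tab mwordsA u) u = true := ext_range (a := 115541) (len := 43) h2687 m2_2687
  have h2689 : ∀ u < 115627, (fun u => chkFix tab mwordsA u) u = true := ext_range (a := 115584) (len := 43) h2688 m2_2688
  have h2690 : ∀ u < 115670, (fun u => chkFix tab mwordsA u) u = true := ext_range (a := 115627) (len := 43) h2689 m2_2689
  have h2691 : ∀ u < 115713, (fun u => chkFix tab mwordsA u) u = true := ext_range (a := 115670) (len := 43) h2690 m2_2690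
  have h2692 : ∀ u < 115756, (fun u => chkFix tab mwordsA u) u = true := ext_range (a := 115713) (len := 43) h2691 m2_2691
  have h2693 : ∀ u < 115799, (fun u => chkFix tab mwordsA u) u = true := ext_range (a := 115756) (len := 43) h2692 m2_2692
  have h2694 : ∀ u < 115842, (fun u => chkFix tab mwordsA u) u = true := ext_range (a := 115799) (len := 43) h2693 m2_2693
  have h2695 : ∀ u < 115885, (fun u => chkFix tab mwordsA u) u = true := ext_range (a := 115842) (len := 43) h2694 m2_2694
  have h2696 : ∀ u < 115928, (fun u => chkFix tab mwordsA u) u = true := ext_range (a := 115885) (len := 43) h2695 m2_2695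
  have h2697 : ∀ u < 115971, (fun u => chkFix tab mwordsA u) u = true := ext_range (a := 115928) (len := 43) h2696 m2_2696
  have h2698 : ∀ u < 116014, (fun u => chkFix tab mwordsA u) u = true := ext_range (a := 115971) (len := 43) h2697 m2_2697
  have h2699 : ∀ u < 116057, (fun u => chkFix tab mwordsA u) u = true := ext_range (a := 116014) (len := 43) h2698 m2_2698
  have h2700 : ∀ u < 116100, (fun u => chkFix tab mwordsA u) u = true := ext_range (a := 116057) (len := 43) h2699 m2_2699
  have h2701 : ∀ u < 116143, (fun u => chkFix tab mwordsA u) u = true := ext_range (a := 116100) (len := 43) h2700 m2_2700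
  have h2702 : ∀ u < 116186, (fun u => chkFix tab mwordsA u) u = true := ext_range (a := 116143) (len := 43) h2701 m2_2701
  have h2703 : ∀ u < 116229, (fun u => chkFix tab mwordsA u) u = true := ext_range (a := 116186) (len := 43) h2702 m2_2702
  have h2704 : ∀ u < 116272, (fun u => chkFix tab mwordsA u) u = true := ext_range (a := 116229) (len := 43) h2703 m2_2703
  have h2705 : ∀ u < 116315, (fun u => chkFix tab mwordsA u) u = true := ext_range (a := 116272) (len := 43) h2704 m2_2704
  have h2706 : ∀ u < 116358, (fun u => chkFix tab mwordsA u) u = true := ext_range (a := 116315) (len := 43) h2705 m2_2705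
  have h2707 : ∀ u < 116401, (fun u => chkFix tab mwordsA u) u = true := ext_range (a := 116358) (len := 43) h2706 m2_2706
  have h2708 : ∀ u < 116444, (fun u => chkFix tab mwordsA u) u = true := ext_range (a := 116401) (len := 43) h2707 m2_2707
  have h2709 : ∀ u < 116487, (fun u => chkFix tab mwordsA u) u = true := ext_range (a := 116444) (len := 43) h2708 m2_2708
  have h2710 : ∀ u < 116530, (fun u => chkFix tab mwordsA u) u = true := ext_range (a := 116487) (len := 43) h2709 m2_2709
  have h2711 : ∀ u < 116573, (fun u => chkFix tab mwordsA u) u = true := ext_range (a := 116530) (len := 43) h2710 m2_2710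
  have h2712 : ∀ u < 116616, (fun u => chkFix tab mwordsA u) u = true := ext_range (a := 116573) (len := 43) h2711 m2_2711
  have h2713 : ∀ u < 116659, (fun u => chkFix tab mwordsA u) u = true := ext_range (a := 116616) (len := 43) h2712 m2_2712
  have h2714 : ∀ u < 116702, (fun u => chkFix tab mwordsA u) u = true := ext_range (a := 116659) (len := 43) h2713 m2_2713
  have h2715 : ∀ u < 116745, (fun u => chkFix tab mwordsA u) u = true := ext_range (a := 116702) (len := 43) h2714 m2_2714
  have h2716 : ∀ u < 116788, (fun u => chkFix tab mwordsA u) u = true := ext_range (a := 116745) (len := 43) h2715 m2_2715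
  have h2717 : ∀ u < 116831, (fun u => chkFix tab mwordsA u) u = true := ext_range (a := 116788) (len := 43) h2716 m2_2716
  have h2718 : ∀ u < 116874, (fun u => chkFix tab mwordsA u) u = true := ext_range (a := 116831) (len := 43) h2717 m2_2717
  have h2719 : ∀ u < 116917, (fun u => chkFix tab mwordsA u) u = true := ext_range (a := 116874) (len := 43) h2718 m2_2718
  have h2720 : ∀ u < 116960, (fun u => chkFix tab mwordsA u) u = true := ext_range (a := 116917) (len := 43) h2719 m2_2719
  have h2721 : ∀ u < 117003, (fun u => chkFix tab mwordsA u) u = true := ext_range (a := 116960) (len := 43) h2720 m2_2720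
  have h2722 : ∀ u < 117046, (fun u => chkFix tab mwordsA u) u = true := ext_range (a := 117003) (len := 43) h2721 m2_2721
  have h2723 : ∀ u < 117089, (fun u => chkFix tab mwordsA u) u = true := ext_range (a := 117046) (len := 43) h2722 m2_2722
  have h2724 : ∀ u < 117132, (fun u => chkFix tab mwordsA u) u = true := ext_range (a := 117089) (len := 43) h2723 m2_2723
  have h2725 : ∀ u < 117175, (fun u => chkFix tab mwordsA u) u = true := ext_range (a := 117132) (len := 43) h2724 m2_2724
  have h2726 : ∀ u < 117218, (fun u => chkFix tab mwordsA u) u = true := ext_range (a := 117175) (len := 43) h2725 m2_2725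
  have h2727 : ∀ u < 117261, (fun u => chkFix tab mwordsA u) u = true := ext_range (a := 117218) (len := 43) h2726 m2_2726
  have h2728 : ∀ u < 117304, (fun u => chkFix tab mwordsA u) u = true := ext_range (a := 117261) (len := 43) h2727 m2_2727
  have h2729 : ∀ u < 117347, (fun u => chkFix tab mwordsA u) u = true := ext_range (a := 117304) (len := 43) h2728 m2_2728
  have h2730 : ∀ u < 117390, (fun u => chkFix tab mwordsA u) u = true := ext_range (a := 117347) (len := 43) h2729 m2_2729
  have h2731 : ∀ u < 117433, (fun u => chkFix tab mwordsA u) u = true := ext_range (a := 117390) (len := 43) h2730 m2_2730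
  have h2732 : ∀ u < 117476, (fun u => chkFix tab mwordsA u) u = true := ext_range (a := 117433) (len := 43) h2731 m2_2731
  have h2733 : ∀ u < 117519, (fun u => chkFix tab mwordsA u) u = true := ext_range (a := 117476) (len := 43) h2732 m2_2732
  have h2734 : ∀ u < 117562, (fun u => chkFix tab mwordsA u) u = true := ext_range (a := 117519) (len := 43) h2733 m2_2733
  have h2735 : ∀ u < 117605, (fun u => chkFix tab mwordsA u) u = true := ext_range (a := 117562) (len := 43) h2734 m2_2734
  have h2736 : ∀ u < 117648, (fun u => chkFix tab mwordsA u) u = true := ext_range (a := 117605) (len := 43) h2735 m2_2735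
  have h2737 : ∀ u < 117691, (fun u => chkFix tab mwordsA u) u = true := ext_range (a := 117648) (len := 43) h2736 m2_2736
  have h2738 : ∀ u < 117734, (fun u => chkFix tab mwordsA u) u = true := ext_range (a := 117691) (len := 43) h2737 m2_2737
  have h2739 : ∀ u < 117777, (fun u => chkFix tab mwordsA u) u = true := ext_range (a := 117734) (len := 43) h2738 m2_2738
  have h2740 : ∀ u < 117820, (fun u => chkFix tab mwordsA u) u = true := ext_range (a := 117777) (len := 43) h2739 m2_2739
  have h2741 : ∀ u < 117863, (fun u => chkFix tab mwordsA u) u = true := ext_range (a := 117820) (len := 43) h2740 m2_2740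
  have h2742 : ∀ u < 117906, (fun u => chkFix tab mwordsA u) u = true := ext_range (a := 117863) (len := 43) h2741 m2_2741
  have h2743 : ∀ u < 117949, (fun u => chkFix tab mwordsA u) u = true := ext_range (a := 117906) (len := 43) h2742 m2_2742
  have h2744 : ∀ u < 117992, (fun u => chkFix tab mwordsA u) u = true := ext_range (a := 117949) (len := 43) h2743 m2_2743
  have h2745 : ∀ u < 118035, (fun u => chkFix tab mwordsA u) u = true := ext_range (a := 117992) (len := 43) h2744 m2_2744
  have h2746 : ∀ u < 118078, (fun u => chkFix tab mwordsA u) u = true := ext_range (a := 118035) (len := 43) h2745 m2_2745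
  have h2747 : ∀ u < 118121, (fun u => chkFix tab mwordsA u) u = true := ext_range (a := 118078) (len := 43) h2746 m2_2746
  have h2748 : ∀ u < 118164, (fun u => chkFix tab mwordsA u) u = true := ext_range (a := 118121) (len := 43) h2747 m2_2747
  have h2749 : ∀ u < 118207, (fun u => chkFix tab mwordsA u) u = true := ext_range (a := 118164) (len := 43) h2748 m2_2748
  have h2750 : ∀ u < 118250, (fun u => chkFix tab mwordsA u) u = true := ext_range (a := 118207) (len := 43) h2749 m2_2749
  have h2751 : ∀ u < 118293, (fun u => chkFix tab mwordsA u) u = true := ext_range (a := 118250) (len := 43) h2750 m2_2750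
  have h2752 : ∀ u < 118336, (fun u => chkFix tab mwordsA u) u = true := ext_range (a := 118293) (len := 43) h2751 m2_2751
  have h2753 : ∀ u < 118379, (fun u => chkFix tab mwordsA u) u = true := ext_range (a := 118336) (len := 43) h2752 m2_2752
  have h2754 : ∀ u < 118422, (fun u => chkFix tab mwordsA u) u = true := ext_range (a := 118379) (len := 43) h2753 m2_2753
  have h2755 : ∀ u < 118465, (fun u => chkFix tab mwordsA u) u = true := ext_range (a := 118422) (len := 43) h2754 m2_2754
  have h2756 : ∀ u < 118508, (fun u => chkFix tab mwordsA u) u = true := ext_range (a := 118465) (len := 43) h2755 m2_2755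
  have h2757 : ∀ u < 118551, (fun u => chkFix tab mwordsA u) u = true := ext_range (a := 118508) (len := 43) h2756 m2_2756
  have h2758 : ∀ u < 118594, (fun u => chkFix tab mwordsA u) u = true := ext_range (a := 118551) (len := 43) h2757 m2_2757
  have h2759 : ∀ u < 118637, (fun u => chkFix tab mwordsA u) u = true := ext_range (a := 118594) (len := 43) h2758 m2_2758
  have h2760 : ∀ u < 118680, (fun u => chkFix tab mwordsA u) u = true := ext_range (a := 118637) (len := 43) h2759 m2_2759
  have h2761 : ∀ u < 118723, (fun u => chkFix tab mwordsA u) u = true := ext_range (a := 118680) (len := 43) h2760 m2_2760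
  have h2762 : ∀ u < 118766, (fun u => chkFix tab mwordsA u) u = true := ext_range (a := 118723) (len := 43) h2761 m2_2761
  have h2763 : ∀ u < 118809, (fun u => chkFix tab mwordsA u) u = true := ext_range (a := 118766) (len := 43) h2762 m2_2762
  have h2764 : ∀ u < 118852, (fun u => chkFix tab mwordsA u) u = true := ext_range (a := 118809) (len := 43) h2763 m2_2763
  have h2765 : ∀ u < 118895, (fun u => chkFix tab mwordsA u) u = true := ext_range (a := 118852) (len := 43) h2764 m2_2764
  have h2766 : ∀ u < 118938, (fun u => chkFix tab mwordsA u) u = true := ext_range (a := 118895) (len := 43) h2765 m2_2765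
  have h2767 : ∀ u < 118981, (fun u => chkFix tab mwordsA u) u = true := ext_range (a := 118938) (len := 43) h2766 m2_2766
  have h2768 : ∀ u < 119024, (fun u => chkFix tab mwordsA u) u = true := ext_range (a := 118981) (len := 43) h2767 m2_2767
  have h2769 : ∀ u < 119067, (fun u => chkFix tab mwordsA u) u = true := ext_range (a := 119024) (len := 43) h2768 m2_2768
  have h2770 : ∀ u < 119110, (fun u => chkFix tab mwordsA u) u = true := ext_range (a := 119067) (len := 43) h2769 m2_2769
  have h2771 : ∀ u < 119153, (fun u => chkFix tab mwordsA u) u = true := ext_range (a := 119110) (len := 43) h2770 m2_2770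
  have h2772 : ∀ u < 119196, (fun u => chkFix tab mwordsA u) u = true := ext_range (a := 119153) (len := 43) h2771 m2_2771
  have h2773 : ∀ u < 119239, (fun u => chkFix tab mwordsA u) u = true := ext_range (a := 119196) (len := 43) h2772 m2_2772
  have h2774 : ∀ u < 119282, (fun u => chkFix tab mwordsA u) u = true := ext_range (a := 119239) (len := 43) h2773 m2_2773
  have h2775 : ∀ u < 119325, (fun u => chkFix tab mwordsA u) u = true := ext_range (a := 119282) (len := 43) h2774 m2_2774
  have h2776 : ∀ u < 119368, (fun u => chkFix tab mwordsA u) u = true := ext_range (a := 119325) (len := 43) h2775 m2_2775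
  have h2777 : ∀ u < 119411, (fun u => chkFix tab mwordsA u) u = true := ext_range (a := 119368) (len := 43) h2776 m2_2776
  have h2778 : ∀ u < 119454, (fun u => chkFix tab mwordsA u) u = true := ext_range (a := 119411) (len := 43) h2777 m2_2777
  have h2779 : ∀ u < 119497, (fun u => chkFix tab mwordsA u) u = true := ext_range (a := 119454) (len := 43) h2778 m2_2778
  have h2780 : ∀ u < 119540, (fun u => chkFix tab mwordsA u) u = true := ext_range (a := 119497) (len := 43) h2779 m2_2779
  have h2781 : ∀ u < 119583, (fun u => chkFix tab mwordsA u) u = true := ext_range (a := 119540) (len := 43) h2780 m2_2780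
  have h2782 : ∀ u < 119626, (fun u => chkFix tab mwordsA u) u = true := ext_range (a := 119583) (len := 43) h2781 m2_2781
  have h2783 : ∀ u < 119669, (fun u => chkFix tab mwordsA u) u = true := ext_range (a := 119626) (len := 43) h2782 m2_2782
  have h2784 : ∀ u < 119712, (fun u => chkFix tab mwordsA u) u = true := ext_range (a := 119669) (len := 43) h2783 m2_2783
  have h2785 : ∀ u < 119755, (fun u => chkFix tab mwordsA u) u = true := ext_range (a := 119712) (len := 43) h2784 m2_2784
  have h2786 : ∀ u < 119798, (fun u => chkFix tab mwordsA u) u = true := ext_range (a := 119755) (len := 43) h2785 m2_2785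
  have h2787 : ∀ u < 119841, (fun u => chkFix tab mwordsA u) u = true := ext_range (a := 119798) (len := 43) h2786 m2_2786
  have h2788 : ∀ u < 119884, (fun u => chkFix tab mwordsA u) u = true := ext_range (a := 119841) (len := 43) h2787 m2_2787
  have h2789 : ∀ u < 119927, (fun u => chkFix tab mwordsA u) u = true := ext_range (a := 119884) (len := 43) h2788 m2_2788
  have h2790 : ∀ u < 119970, (fun u => chkFix tab mwordsA u) u = true := ext_range (a := 119927) (len := 43) h2789 m2_2789
  have h2791 : ∀ u < 120013, (fun u => chkFix tab mwordsA u) u = true := ext_range (a := 119970) (len := 43) h2790 m2_2790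
  have h2792 : ∀ u < 120056, (fun u => chkFix tab mwordsA u) u = true := ext_range (a := 120013) (len := 43) h2791 m2_2791
  have h2793 : ∀ u < 120099, (fun u => chkFix tab mwordsA u) u = true := ext_range (a := 120056) (len := 43) h2792 m2_2792
  have h2794 : ∀ u < 120142, (fun u => chkFix tab mwordsA u) u = true := ext_range (a := 120099) (len := 43) h2793 m2_2793
  have h2795 : ∀ u < 120185, (fun u => chkFix tab mwordsA u) u = true := ext_range (a := 120142) (len := 43) h2794 m2_2794
  have h2796 : ∀ u < 120228, (fun u => chkFix tab mwordsA u) u = true := ext_range (a := 120185) (len := 43) h2795 m2_2795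
  have h2797 : ∀ u < 120271, (fun u => chkFix tab mwordsA u) u = true := ext_range (a := 120228) (len := 43) h2796 m2_2796
  have h2798 : ∀ u < 120314, (fun u => chkFix tab mwordsA u) u = true := ext_range (a := 120271) (len := 43) h2797 m2_2797
  have h2799 : ∀ u < 120357, (fun u => chkFix tab mwordsA u) u = true := ext_range (a := 120314) (len := 43) h2798 m2_2798
  have h2800 : ∀ u < 120400, (fun u => chkFix tab mwordsA u) u = true := ext_range (a := 120357) (len := 43) h2799 m2_2799
  have h2801 : ∀ u < 120443, (fun u => chkFix tab mwordsA u) u = true := ext_range (a := 120400) (len := 43) h2800 m2_2800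
  have h2802 : ∀ u < 120486, (fun u => chkFix tab mwordsA u) u = true := ext_range (a := 120443) (len := 43) h2801 m2_2801
  have h2803 : ∀ u < 120529, (fun u => chkFix tab mwordsA u) u = true := ext_range (a := 120486) (len := 43) h2802 m2_2802
  have h2804 : ∀ u < 120572, (fun u => chkFix tab mwordsA u) u = true := ext_range (a := 120529) (len := 43) h2803 m2_2803
  have h2805 : ∀ u < 120615, (fun u => chkFix tab mwordsA u) u = true := ext_range (a := 120572) (len := 43) h2804 m2_2804
  have h2806 : ∀ u < 120658, (fun u => chkFix tab mwordsA u) u = true := ext_range (a := 120615) (len := 43) h2805 m2_2805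
  have h2807 : ∀ u < 120701, (fun u => chkFix tab mwordsA u) u = true := ext_range (a := 120658) (len := 43) h2806 m2_2806
  have h2808 : ∀ u < 120744, (fun u => chkFix tab mwordsA u) u = true := ext_range (a := 120701) (len := 43) h2807 m2_2807
  have h2809 : ∀ u < 120787, (fun u => chkFix tab mwordsA u) u = true := ext_range (a := 120744) (len := 43) h2808 m2_2808
  have h2810 : ∀ u < 120830, (fun u => chkFix tab mwordsA u) u = true := ext_range (a := 120787) (len := 43) h2809 m2_2809
  have h2811 : ∀ u < 120873, (fun u => chkFix tab mwordsA u) u = true := ext_range (a := 120830) (len := 43) h2810 m2_2810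
  have h2812 : ∀ u < 120916, (fun u => chkFix tab mwordsA u) u = true := ext_range (a := 120873) (len := 43) h2811 m2_2811
  have h2813 : ∀ u < 120959, (fun u => chkFix tab mwordsA u) u = true := ext_range (a := 120916) (len := 43) h2812 m2_2812
  have h2814 : ∀ u < 121002, (fun u => chkFix tab mwordsA u) u = true := ext_range (a := 120959) (len := 43) h2813 m2_2813
  have h2815 : ∀ u < 121045, (fun u => chkFix tab mwordsA u) u = true := ext_range (a := 121002) (len := 43) h2814 m2_2814
  have h2816 : ∀ u < 121088, (fun u => chkFix tab mwordsA u) u = true := ext_range (a := 121045) (len := 43) h2815 m2_2815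
  have h2817 : ∀ u < 121131, (fun u => chkFix tab mwordsA u) u = true := ext_range (a := 121088) (len := 43) h2816 m2_2816
  have h2818 : ∀ u < 121174, (fun u => chkFix tab mwordsA u) u = true := ext_range (a := 121131) (len := 43) h2817 m2_2817
  have h2819 : ∀ u < 121217, (fun u => chkFix tab mwordsA u) u = true := ext_range (a := 121174) (len := 43) h2818 m2_2818
  have h2820 : ∀ u < 121260, (fun u => chkFix tab mwordsA u) u = true := ext_range (a := 121217) (len := 43) h2819 m2_2819
  have h2821 : ∀ u < 121303, (fun u => chkFix tab mwordsA u) u = true := ext_range (a := 121260) (len := 43) h2820 m2_2820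
  have h2822 : ∀ u < 121346, (fun u => chkFix tab mwordsA u) u = true := ext_range (a := 121303) (len := 43) h2821 m2_2821
  have h2823 : ∀ u < 121389, (fun u => chkFix tab mwordsA u) u = true := ext_range (a := 121346) (len := 43) h2822 m2_2822
  have h2824 : ∀ u < 121432, (fun u => chkFix tab mwordsA u) u = true := ext_range (a := 121389) (len := 43) h2823 m2_2823
  have h2825 : ∀ u < 121475, (fun u => chkFix tab mwordsA u) u = true := ext_range (a := 121432) (len := 43) h2824 m2_2824
  have h2826 : ∀ u < 121518, (fun u => chkFix tab mwordsA u) u = true := ext_range (a := 121475) (len := 43) h2825 m2_2825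
  have h2827 : ∀ u < 121561, (fun u => chkFix tab mwordsA u) u = true := ext_range (a := 121518) (len := 43) h2826 m2_2826
  have h2828 : ∀ u < 121604, (fun u => chkFix tab mwordsA u) u = true := ext_range (a := 121561) (len := 43) h2827 m2_2827
  have h2829 : ∀ u < 121647, (fun u => chkFix tab mwordsA u) u = true := ext_range (a := 121604) (len := 43) h2828 m2_2828
  have h2830 : ∀ u < 121690, (fun u => chkFix tab mwordsA u) u = true := ext_range (a := 121647) (len := 43) h2829 m2_2829
  have h2831 : ∀ u < 121733, (fun u => chkFix tab mwordsA u) u = true := ext_range (a := 121690) (len := 43) h2830 m2_2830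
  have h2832 : ∀ u < 121776, (fun u => chkFix tab mwordsA u) u = true := ext_range (a := 121733) (len := 43) h2831 m2_2831
  have h2833 : ∀ u < 121819, (fun u => chkFix tab mwordsA u) u = true := ext_range (a := 121776) (len := 43) h2832 m2_2832
  have h2834 : ∀ u < 121862, (fun u => chkFix tab mwordsA u) u = true := ext_range (a := 121819) (len := 43) h2833 m2_2833
  have h2835 : ∀ u < 121905, (fun u => chkFix tab mwordsA u) u = true := ext_range (a := 121862) (len := 43) h2834 m2_2834
  have h2836 : ∀ u < 121948, (fun u => chkFix tab mwordsA u) u = true := ext_range (a := 121905) (len := 43) h2835 m2_2835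
  have h2837 : ∀ u < 121991, (fun u => chkFix tab mwordsA u) u = true := ext_range (a := 121948) (len := 43) h2836 m2_2836
  have h2838 : ∀ u < 122034, (fun u => chkFix tab mwordsA u) u = true := ext_range (a := 121991) (len := 43) h2837 m2_2837
  have h2839 : ∀ u < 122077, (fun u => chkFix tab mwordsA u) u = true := ext_range (a := 122034) (len := 43) h2838 m2_2838
  have h2840 : ∀ u < 122120, (fun u => chkFix tab mwordsA u) u = true := ext_range (a := 122077) (len := 43) h2839 m2_2839
  have h2841 : ∀ u < 122163, (fun u => chkFix tab mwordsA u) u = true := ext_range (a := 122120) (len := 43) h2840 m2_2840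
  have h2842 : ∀ u < 122206, (fun u => chkFix tab mwordsA u) u = true := ext_range (a := 122163) (len := 43) h2841 m2_2841
  have h2843 : ∀ u < 122249, (fun u => chkFix tab mwordsA u) u = true := ext_range (a := 122206) (len := 43) h2842 m2_2842
  have h2844 : ∀ u < 122292, (fun u => chkFix tab mwordsA u) u = true := ext_range (a := 122249) (len := 43) h2843 m2_2843
  have h2845 : ∀ u < 122335, (fun u => chkFix tab mwordsA u) u = true := ext_range (a := 122292) (len := 43) h2844 m2_2844
  have h2846 : ∀ u < 122378, (fun u => chkFix tab mwordsA u) u = true := ext_range (a := 122335) (len := 43) h2845 m2_2845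
  have h2847 : ∀ u < 122421, (fun u => chkFix tab mwordsA u) u = true := ext_range (a := 122378) (len := 43) h2846 m2_2846
  have h2848 : ∀ u < 122464, (fun u => chkFix tab mwordsA u) u = true := ext_range (a := 122421) (len := 43) h2847 m2_2847
  have h2849 : ∀ u < 122507, (fun u => chkFix tab mwordsA u) u = true := ext_range (a := 122464) (len := 43) h2848 m2_2848
  have h2850 : ∀ u < 122550, (fun u => chkFix tab mwordsA u) u = true := ext_range (a := 122507) (len := 43) h2849 m2_2849
  have h2851 : ∀ u < 122593, (fun u => chkFix tab mwordsA u) u = true := ext_range (a := 122550) (len := 43) h2850 m2_2850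
  have h2852 : ∀ u < 122636, (fun u => chkFix tab mwordsA u) u = true := ext_range (a := 122593) (len := 43) h2851 m2_2851
  have h2853 : ∀ u < 122679, (fun u => chkFix tab mwordsA u) u = true := ext_range (a := 122636) (len := 43) h2852 m2_2852
  have h2854 : ∀ u < 122722, (fun u => chkFix tab mwordsA u) u = true := ext_range (a := 122679) (len := 43) h2853 m2_2853
  have h2855 : ∀ u < 122765, (fun u => chkFix tab mwordsA u) u = true := ext_range (a := 122722) (len := 43) h2854 m2_2854
  have h2856 : ∀ u < 122808, (fun u => chkFix tab mwordsA u) u = true := ext_range (a := 122765) (len := 43) h2855 m2_2855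
  have h2857 : ∀ u < 122851, (fun u => chkFix tab mwordsA u) u = true := ext_range (a := 122808) (len := 43) h2856 m2_2856
  have h2858 : ∀ u < 122894, (fun u => chkFix tab mwordsA u) u = true := ext_range (a := 122851) (len := 43) h2857 m2_2857
  have h2859 : ∀ u < 122937, (fun u => chkFix tab mwordsA u) u = true := ext_range (a := 122894) (len := 43) h2858 m2_2858
  have h2860 : ∀ u < 122980, (fun u => chkFix tab mwordsA u) u = true := ext_range (a := 122937) (len := 43) h2859 m2_2859
  have h2861 : ∀ u < 123023, (fun u => chkFix tab mwordsA u) u = true := ext_range (a := 122980) (len := 43) h2860 m2_2860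
  have h2862 : ∀ u < 123066, (fun u => chkFix tab mwordsA u) u = true := ext_range (a := 123023) (len := 43) h2861 m2_2861
  have h2863 : ∀ u < 123109, (fun u => chkFix tab mwordsA u) u = true := ext_range (a := 123066) (len := 43) h2862 m2_2862
  have h2864 : ∀ u < 123152, (fun u => chkFix tab mwordsA u) u = true := ext_range (a := 123109) (len := 43) h2863 m2_2863
  have h2865 : ∀ u < 123195, (fun u => chkFix tab mwordsA u) u = true := ext_range (a := 123152) (len := 43) h2864 m2_2864
  have h2866 : ∀ u < 123238, (fun u => chkFix tab mwordsA u) u = true := ext_range (a := 123195) (len := 43) h2865 m2_2865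
  have h2867 : ∀ u < 123281, (fun u => chkFix tab mwordsA u) u = true := ext_range (a := 123238) (len := 43) h2866 m2_2866
  have h2868 : ∀ u < 123324, (fun u => chkFix tab mwordsA u) u = true := ext_range (a := 123281) (len := 43) h2867 m2_2867
  have h2869 : ∀ u < 123367, (fun u => chkFix tab mwordsA u) u = true := ext_range (a := 123324) (len := 43) h2868 m2_2868
  have h2870 : ∀ u < 123410, (fun u => chkFix tab mwordsA u) u = true := ext_range (a := 123367) (len := 43) h2869 m2_2869
  have h2871 : ∀ u < 123453, (fun u => chkFix tab mwordsA u) u = true := ext_range (a := 123410) (len := 43) h2870 m2_2870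
  have h2872 : ∀ u < 123496, (fun u => chkFix tab mwordsA u) u = true := ext_range (a := 123453) (len := 43) h2871 m2_2871
  have h2873 : ∀ u < 123539, (fun u => chkFix tab mwordsA u) u = true := ext_range (a := 123496) (len := 43) h2872 m2_2872
  have h2874 : ∀ u < 123582, (fun u => chkFix tab mwordsA u) u = true := ext_range (a := 123539) (len := 43) h2873 m2_2873
  have h2875 : ∀ u < 123625, (fun u => chkFix tab mwordsA u) u = true := ext_range (a := 123582) (len := 43) h2874 m2_2874
  have h2876 : ∀ u < 123668, (fun u => chkFix tab mwordsA u) u = true := ext_range (a := 123625) (len := 43) h2875 m2_2875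
  have h2877 : ∀ u < 123711, (fun u => chkFix tab mwordsA u) u = true := ext_range (a := 123668) (len := 43) h2876 m2_2876
  have h2878 : ∀ u < 123754, (fun u => chkFix tab mwordsA u) u = true := ext_range (a := 123711) (len := 43) h2877 m2_2877
  have h2879 : ∀ u < 123797, (fun u => chkFix tab mwordsA u) u = true := ext_range (a := 123754) (len := 43) h2878 m2_2878
  have h2880 : ∀ u < 123840, (fun u => chkFix tab mwordsA u) u = true := ext_range (a := 123797) (len := 43) h2879 m2_2879
  have h2881 : ∀ u < 123883, (fun u => chkFix tab mwordsA u) u = true := ext_range (a := 123840) (len := 43) h2880 m2_2880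
  have h2882 : ∀ u < 123926, (fun u => chkFix tab mwordsA u) u = true := ext_range (a := 123883) (len := 43) h2881 m2_2881
  have h2883 : ∀ u < 123969, (fun u => chkFix tab mwordsA u) u = true := ext_range (a := 123926) (len := 43) h2882 m2_2882
  have h2884 : ∀ u < 124012, (fun u => chkFix tab mwordsA u) u = true := ext_range (a := 123969) (len := 43) h2883 m2_2883
  have h2885 : ∀ u < 124055, (fun u => chkFix tab mwordsA u) u = true := ext_range (a := 124012) (len := 43) h2884 m2_2884
  have h2886 : ∀ u < 124098, (fun u => chkFix tab mwordsA u) u = true := ext_range (a := 124055) (len := 43) h2885 m2_2885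
  have h2887 : ∀ u < 124141, (fun u => chkFix tab mwordsA u) u = true := ext_range (a := 124098) (len := 43) h2886 m2_2886
  have h2888 : ∀ u < 124184, (fun u => chkFix tab mwordsA u) u = true := ext_range (a := 124141) (len := 43) h2887 m2_2887
  have h2889 : ∀ u < 124227, (fun u => chkFix tab mwordsA u) u = true := ext_range (a := 124184) (len := 43) h2888 m2_2888
  have h2890 : ∀ u < 124270, (fun u => chkFix tab mwordsA u) u = true := ext_range (a := 124227) (len := 43) h2889 m2_2889
  have h2891 : ∀ u < 124313, (fun u => chkFix tab mwordsA u) u = true := ext_range (a := 124270) (len := 43) h2890 m2_2890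
  have h2892 : ∀ u < 124356, (fun u => chkFix tab mwordsA u) u = true := ext_range (a := 124313) (len := 43) h2891 m2_2891
  have h2893 : ∀ u < 124399, (fun u => chkFix tab mwordsA u) u = true := ext_range (a := 124356) (len := 43) h2892 m2_2892
  have h2894 : ∀ u < 124442, (fun u => chkFix tab mwordsA u) u = true := ext_range (a := 124399) (len := 43) h2893 m2_2893
  have h2895 : ∀ u < 124485, (fun u => chkFix tab mwordsA u) u = true := ext_range (a := 124442) (len := 43) h2894 m2_2894
  have h2896 : ∀ u < 124528, (fun u => chkFix tab mwordsA u) u = true := ext_range (a := 124485) (len := 43) h2895 m2_2895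
  have h2897 : ∀ u < 124571, (fun u => chkFix tab mwordsA u) u = true := ext_range (a := 124528) (len := 43) h2896 m2_2896
  have h2898 : ∀ u < 124614, (fun u => chkFix tab mwordsA u) u = true := ext_range (a := 124571) (len := 43) h2897 m2_2897
  have h2899 : ∀ u < 124657, (fun u => chkFix tab mwordsA u) u = true := ext_range (a := 124614) (len := 43) h2898 m2_2898
  have h2900 : ∀ u < 124700, (fun u => chkFix tab mwordsA u) u = true := ext_range (a := 124657) (len := 43) h2899 m2_2899
  have h2901 : ∀ u < 124743, (fun u => chkFix tab mwordsA u) u = true := ext_range (a := 124700) (len := 43) h2900 m2_2900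
  have h2902 : ∀ u < 124786, (fun u => chkFix tab mwordsA u) u = true := ext_range (a := 124743) (len := 43) h2901 m2_2901
  have h2903 : ∀ u < 124829, (fun u => chkFix tab mwordsA u) u = true := ext_range (a := 124786) (len := 43) h2902 m2_2902
  have h2904 : ∀ u < 124872, (fun u => chkFix tab mwordsA u) u = true := ext_range (a := 124829) (len := 43) h2903 m2_2903
  have h2905 : ∀ u < 124915, (fun u => chkFix tab mwordsA u) u = true := ext_range (a := 124872) (len := 43) h2904 m2_2904
  have h2906 : ∀ u < 124958, (fun u => chkFix tab mwordsA u) u = true := ext_range (a := 124915) (len := 43) h2905 m2_2905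
  have h2907 : ∀ u < 125001, (fun u => chkFix tab mwordsA u) u = true := ext_range (a := 124958) (len := 43) h2906 m2_2906
  have h2908 : ∀ u < 125044, (fun u => chkFix tab mwordsA u) u = true := ext_range (a := 125001) (len := 43) h2907 m2_2907
  have h2909 : ∀ u < 125087, (fun u => chkFix tab mwordsA u) u = true := ext_range (a := 125044) (len := 43) h2908 m2_2908
  have h2910 : ∀ u < 125130, (fun u => chkFix tab mwordsA u) u = true := ext_range (a := 125087) (len := 43) h2909 m2_2909
  have h2911 : ∀ u < 125173, (fun u => chkFix tab mwordsA u) u = true := ext_range (a := 125130) (len := 43) h2910 m2_2910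
  have h2912 : ∀ u < 125216, (fun u => chkFix tab mwordsA u) u = true := ext_range (a := 125173) (len := 43) h2911 m2_2911
  have h2913 : ∀ u < 125259, (fun u => chkFix tab mwordsA u) u = true := ext_range (a := 125216) (len := 43) h2912 m2_2912
  have h2914 : ∀ u < 125302, (fun u => chkFix tab mwordsA u) u = true := ext_range (a := 125259) (len := 43) h2913 m2_2913
  have h2915 : ∀ u < 125345, (fun u => chkFix tab mwordsA u) u = true := ext_range (a := 125302) (len := 43) h2914 m2_2914
  have h2916 : ∀ u < 125388, (fun u => chkFix tab mwordsA u) u = true := ext_range (a := 125345) (len := 43) h2915 m2_2915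
  have h2917 : ∀ u < 125431, (fun u => chkFix tab mwordsA u) u = true := ext_range (a := 125388) (len := 43) h2916 m2_2916
  have h2918 : ∀ u < 125474, (fun u => chkFix tab mwordsA u) u = true := ext_range (a := 125431) (len := 43) h2917 m2_2917
  have h2919 : ∀ u < 125517, (fun u => chkFix tab mwordsA u) u = true := ext_range (a := 125474) (len := 43) h2918 m2_2918
  have h2920 : ∀ u < 125560, (fun u => chkFix tab mwordsA u) u = true := ext_range (a := 125517) (len := 43) h2919 m2_2919
  have h2921 : ∀ u < 125603, (fun u => chkFix tab mwordsA u) u = true := ext_range (a := 125560) (len := 43) h2920 m2_2920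
  have h2922 : ∀ u < 125646, (fun u => chkFix tab mwordsA u) u = true := ext_range (a := 125603) (len := 43) h2921 m2_2921
  have h2923 : ∀ u < 125689, (fun u => chkFix tab mwordsA u) u = true := ext_range (a := 125646) (len := 43) h2922 m2_2922
  have h2924 : ∀ u < 125732, (fun u => chkFix tab mwordsA u) u = true := ext_range (a := 125689) (len := 43) h2923 m2_2923
  have h2925 : ∀ u < 125775, (fun u => chkFix tab mwordsA u) u = true := ext_range (a := 125732) (len := 43) h2924 m2_2924
  have h2926 : ∀ u < 125818, (fun u => chkFix tab mwordsA u) u = true := ext_range (a := 125775) (len := 43) h2925 m2_2925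
  have h2927 : ∀ u < 125861, (fun u => chkFix tab mwordsA u) u = true := ext_range (a := 125818) (len := 43) h2926 m2_2926
  have h2928 : ∀ u < 125904, (fun u => chkFix tab mwordsA u) u = true := ext_range (a := 125861) (len := 43) h2927 m2_2927
  have h2929 : ∀ u < 125947, (fun u => chkFix tab mwordsA u) u = true := ext_range (a := 125904) (len := 43) h2928 m2_2928
  have h2930 : ∀ u < 125990, (fun u => chkFix tab mwordsA u) u = true := ext_range (a := 125947) (len := 43) h2929 m2_2929
  have h2931 : ∀ u < 126033, (fun u => chkFix tab mwordsA u) u = true := ext_range (a := 125990) (len := 43) h2930 m2_2930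
  have h2932 : ∀ u < 126076, (fun u => chkFix tab mwordsA u) u = true := ext_range (a := 126033) (len := 43) h2931 m2_2931
  have h2933 : ∀ u < 126119, (fun u => chkFix tab mwordsA u) u = true := ext_range (a := 126076) (len := 43) h2932 m2_2932
  have h2934 : ∀ u < 126162, (fun u => chkFix tab mwordsA u) u = true := ext_range (a := 126119) (len := 43) h2933 m2_2933
  have h2935 : ∀ u < 126205, (fun u => chkFix tab mwordsA u) u = true := ext_range (a := 126162) (len := 43) h2934 m2_2934
  have h2936 : ∀ u < 126248, (fun u => chkFix tab mwordsA u) u = true := ext_range (a := 126205) (len := 43) h2935 m2_2935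
  have h2937 : ∀ u < 126291, (fun u => chkFix tab mwordsA u) u = true := ext_range (a := 126248) (len := 43) h2936 m2_2936
  have h2938 : ∀ u < 126334, (fun u => chkFix tab mwordsA u) u = true := ext_range (a := 126291) (len := 43) h2937 m2_2937
  have h2939 : ∀ u < 126377, (fun u => chkFix tab mwordsA u) u = true := ext_range (a := 126334) (len := 43) h2938 m2_2938
  have h2940 : ∀ u < 126420, (fun u => chkFix tab mwordsA u) u = true := ext_range (a := 126377) (len := 43) h2939 m2_2939
  have h2941 : ∀ u < 126463, (fun u => chkFix tab mwordsA u) u = true := ext_range (a := 126420) (len := 43) h2940 m2_2940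
  have h2942 : ∀ u < 126506, (fun u => chkFix tab mwordsA u) u = true := ext_range (a := 126463) (len := 43) h2941 m2_2941
  have h2943 : ∀ u < 126549, (fun u => chkFix tab mwordsA u) u = true := ext_range (a := 126506) (len := 43) h2942 m2_2942
  have h2944 : ∀ u < 126592, (fun u => chkFix tab mwordsA u) u = true := ext_range (a := 126549) (len := 43) h2943 m2_2943
  have h2945 : ∀ u < 126635, (fun u => chkFix tab mwordsA u) u = true := ext_range (a := 126592) (len := 43) h2944 m2_2944
  have h2946 : ∀ u < 126678, (fun u => chkFix tab mwordsA u) u = true := ext_range (a := 126635) (len := 43) h2945 m2_2945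
  have h2947 : ∀ u < 126721, (fun u => chkFix tab mwordsA u) u = true := ext_range (a := 126678) (len := 43) h2946 m2_2946
  have h2948 : ∀ u < 126764, (fun u => chkFix tab mwordsA u) u = true := ext_range (a := 126721) (len := 43) h2947 m2_2947
  have h2949 : ∀ u < 126807, (fun u => chkFix tab mwordsA u) u = true := ext_range (a := 126764) (len := 43) h2948 m2_2948
  have h2950 : ∀ u < 126850, (fun u => chkFix tab mwordsA u) u = true := ext_range (a := 126807) (len := 43) h2949 m2_2949
  have h2951 : ∀ u < 126893, (fun u => chkFix tab mwordsA u) u = true := ext_range (a := 126850) (len := 43) h2950 m2_2950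
  have h2952 : ∀ u < 126936, (fun u => chkFix tab mwordsA u) u = true := ext_range (a := 126893) (len := 43) h2951 m2_2951
  have h2953 : ∀ u < 126979, (fun u => chkFix tab mwordsA u) u = true := ext_range (a := 126936) (len := 43) h2952 m2_2952
  have h2954 : ∀ u < 127022, (fun u => chkFix tab mwordsA u) u = true := ext_range (a := 126979) (len := 43) h2953 m2_2953
  have h2955 : ∀ u < 127065, (fun u => chkFix tab mwordsA u) u = true := ext_range (a := 127022) (len := 43) h2954 m2_2954
  have h2956 : ∀ u < 127108, (fun u => chkFix tab mwordsA u) u = true := ext_range (a := 127065) (len := 43) h2955 m2_2955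
  have h2957 : ∀ u < 127151, (fun u => chkFix tab mwordsA u) u = true := ext_range (a := 127108) (len := 43) h2956 m2_2956
  have h2958 : ∀ u < 127194, (fun u => chkFix tab mwordsA u) u = true := ext_range (a := 127151) (len := 43) h2957 m2_2957
  have h2959 : ∀ u < 127237, (fun u => chkFix tab mwordsA u) u = true := ext_range (a := 127194) (len := 43) h2958 m2_2958
  have h2960 : ∀ u < 127280, (fun u => chkFix tab mwordsA u) u = true := ext_range (a := 127237) (len := 43) h2959 m2_2959
  have h2961 : ∀ u < 127323, (fun u => chkFix tab mwordsA u) u = true := ext_range (a := 127280) (len := 43) h2960 m2_2960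
  have h2962 : ∀ u < 127366, (fun u => chkFix tab mwordsA u) u = true := ext_range (a := 127323) (len := 43) h2961 m2_2961
  have h2963 : ∀ u < 127409, (fun u => chkFix tab mwordsA u) u = true := ext_range (a := 127366) (len := 43) h2962 m2_2962
  have h2964 : ∀ u < 127452, (fun u => chkFix tab mwordsA u) u = true := ext_range (a := 127409) (len := 43) h2963 m2_2963
  have h2965 : ∀ u < 127495, (fun u => chkFix tab mwordsA u) u = true := ext_range (a := 127452) (len := 43) h2964 m2_2964
  have h2966 : ∀ u < 127538, (fun u => chkFix tab mwordsA u) u = true := ext_range (a := 127495) (len := 43) h2965 m2_2965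
  have h2967 : ∀ u < 127581, (fun u => chkFix tab mwordsA u) u = true := ext_range (a := 127538) (len := 43) h2966 m2_2966
  have h2968 : ∀ u < 127624, (fun u => chkFix tab mwordsA u) u = true := ext_range (a := 127581) (len := 43) h2967 m2_2967
  have h2969 : ∀ u < 127667, (fun u => chkFix tab mwordsA u) u = true := ext_range (a := 127624) (len := 43) h2968 m2_2968
  have h2970 : ∀ u < 127710, (fun u => chkFix tab mwordsA u) u = true := ext_range (a := 127667) (len := 43) h2969 m2_2969
  have h2971 : ∀ u < 127753, (fun u => chkFix tab mwordsA u) u = true := ext_range (a := 127710) (len := 43) h2970 m2_2970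
  have h2972 : ∀ u < 127796, (fun u => chkFix tab mwordsA u) u = true := ext_range (a := 127753) (len := 43) h2971 m2_2971
  have h2973 : ∀ u < 127839, (fun u => chkFix tab mwordsA u) u = true := ext_range (a := 127796) (len := 43) h2972 m2_2972
  have h2974 : ∀ u < 127882, (fun u => chkFix tab mwordsA u) u = true := ext_range (a := 127839) (len := 43) h2973 m2_2973
  have h2975 : ∀ u < 127925, (fun u => chkFix tab mwordsA u) u = true := ext_range (a := 127882) (len := 43) h2974 m2_2974
  have h2976 : ∀ u < 127968, (fun u => chkFix tab mwordsA u) u = true := ext_range (a := 127925) (len := 43) h2975 m2_2975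
  have h2977 : ∀ u < 128011, (fun u => chkFix tab mwordsA u) u = true := ext_range (a := 127968) (len := 43) h2976 m2_2976
  have h2978 : ∀ u < 128054, (fun u => chkFix tab mwordsA u) u = true := ext_range (a := 128011) (len := 43) h2977 m2_2977
  have h2979 : ∀ u < 128097, (fun u => chkFix tab mwordsA u) u = true := ext_range (a := 128054) (len := 43) h2978 m2_2978
  have h2980 : ∀ u < 128140, (fun u => chkFix tab mwordsA u) u = true := ext_range (a := 128097) (len := 43) h2979 m2_2979
  have h2981 : ∀ u < 128183, (fun u => chkFix tab mwordsA u) u = true := ext_range (a := 128140) (len := 43) h2980 m2_2980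
  have h2982 : ∀ u < 128226, (fun u => chkFix tab mwordsA u) u = true := ext_range (a := 128183) (len := 43) h2981 m2_2981
  have h2983 : ∀ u < 128269, (fun u => chkFix tab mwordsA u) u = true := ext_range (a := 128226) (len := 43) h2982 m2_2982
  have h2984 : ∀ u < 128312, (fun u => chkFix tab mwordsA u) u = true := ext_range (a := 128269) (len := 43) h2983 m2_2983
  have h2985 : ∀ u < 128355, (fun u => chkFix tab mwordsA u) u = true := ext_range (a := 128312) (len := 43) h2984 m2_2984
  have h2986 : ∀ u < 128398, (fun u => chkFix tab mwordsA u) u = true := ext_range (a := 128355) (len := 43) h2985 m2_2985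
  have h2987 : ∀ u < 128441, (fun u => chkFix tab mwordsA u) u = true := ext_range (a := 128398) (len := 43) h2986 m2_2986
  have h2988 : ∀ u < 128484, (fun u => chkFix tab mwordsA u) u = true := ext_range (a := 128441) (len := 43) h2987 m2_2987
  have h2989 : ∀ u < 128527, (fun u => chkFix tab mwordsA u) u = true := ext_range (a := 128484) (len := 43) h2988 m2_2988
  have h2990 : ∀ u < 128570, (fun u => chkFix tab mwordsA u) u = true := ext_range (a := 128527) (len := 43) h2989 m2_2989
  have h2991 : ∀ u < 128613, (fun u => chkFix tab mwordsA u) u = true := ext_range (a := 128570) (len := 43) h2990 m2_2990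
  have h2992 : ∀ u < 128656, (fun u => chkFix tab mwordsA u) u = true := ext_range (a := 128613) (len := 43) h2991 m2_2991
  have h2993 : ∀ u < 128699, (fun u => chkFix tab mwordsA u) u = true := ext_range (a := 128656) (len := 43) h2992 m2_2992
  have h2994 : ∀ u < 128742, (fun u => chkFix tab mwordsA u) u = true := ext_range (a := 128699) (len := 43) h2993 m2_2993
  have h2995 : ∀ u < 128785, (fun u => chkFix tab mwordsA u) u = true := ext_range (a := 128742) (len := 43) h2994 m2_2994
  have h2996 : ∀ u < 128828, (fun u => chkFix tab mwordsA u) u = true := ext_range (a := 128785) (len := 43) h2995 m2_2995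
  have h2997 : ∀ u < 128871, (fun u => chkFix tab mwordsA u) u = true := ext_range (a := 128828) (len := 43) h2996 m2_2996
  have h2998 : ∀ u < 128914, (fun u => chkFix tab mwordsA u) u = true := ext_range (a := 128871) (len := 43) h2997 m2_2997
  have h2999 : ∀ u < 128957, (fun u => chkFix tab mwordsA u) u = true := ext_range (a := 128914) (len := 43) h2998 m2_2998
  have h3000 : ∀ u < 129000, (fun u => chkFix tab mwordsA u) u = true := ext_range (a := 128957) (len := 43) h2999 m2_2999
  have h3001 : ∀ u < 129043, (fun u => chkFix tab mwordsA u) u = true := ext_range (a := 129000) (len := 43) h3000 m2_3000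
  have h3002 : ∀ u < 129086, (fun u => chkFix tab mwordsA u) u = true := ext_range (a := 129043) (len := 43) h3001 m2_3001
  have h3003 : ∀ u < 129129, (fun u => chkFix tab mwordsA u) u = true := ext_range (a := 129086) (len := 43) h3002 m2_3002
  have h3004 : ∀ u < 129172, (fun u => chkFix tab mwordsA u) u = true := ext_range (a := 129129) (len := 43) h3003 m2_3003
  have h3005 : ∀ u < 129215, (fun u => chkFix tab mwordsA u) u = true := ext_range (a := 129172) (len := 43) h3004 m2_3004
  have h3006 : ∀ u < 129258, (fun u => chkFix tab mwordsA u) u = true := ext_range (a := 129215) (len := 43) h3005 m2_3005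
  have h3007 : ∀ u < 129301, (fun u => chkFix tab mwordsA u) u = true := ext_range (a := 129258) (len := 43) h3006 m2_3006
  have h3008 : ∀ u < 129344, (fun u => chkFix tab mwordsA u) u = true := ext_range (a := 129301) (len := 43) h3007 m2_3007
  have h3009 : ∀ u < 129387, (fun u => chkFix tab mwordsA u) u = true := ext_range (a := 129344) (len := 43) h3008 m2_3008
  have h3010 : ∀ u < 129430, (fun u => chkFix tab mwordsA u) u = true := ext_range (a := 129387) (len := 43) h3009 m2_3009
  have h3011 : ∀ u < 129473, (fun u => chkFix tab mwordsA u) u = true := ext_range (a := 129430) (len := 43) h3010 m2_3010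
  have h3012 : ∀ u < 129516, (fun u => chkFix tab mwordsA u) u = true := ext_range (a := 129473) (len := 43) h3011 m2_3011
  have h3013 : ∀ u < 129559, (fun u => chkFix tab mwordsA u) u = true := ext_range (a := 129516) (len := 43) h3012 m2_3012
  have h3014 : ∀ u < 129602, (fun u => chkFix tab mwordsA u) u = true := ext_range (a := 129559) (len := 43) h3013 m2_3013
  have h3015 : ∀ u < 129645, (fun u => chkFix tab mwordsA u) u = true := ext_range (a := 129602) (len := 43) h3014 m2_3014
  have h3016 : ∀ u < 129688, (fun u => chkFix tab mwordsA u) u = true := ext_range (a := 129645) (len := 43) h3015 m2_3015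
  have h3017 : ∀ u < 129731, (fun u => chkFix tab mwordsA u) u = true := ext_range (a := 129688) (len := 43) h3016 m2_3016
  have h3018 : ∀ u < 129774, (fun u => chkFix tab mwordsA u) u = true := ext_range (a := 129731) (len := 43) h3017 m2_3017
  have h3019 : ∀ u < 129817, (fun u => chkFix tab mwordsA u) u = true := ext_range (a := 129774) (len := 43) h3018 m2_3018
  have h3020 : ∀ u < 129860, (fun u => chkFix tab mwordsA u) u = true := ext_range (a := 129817) (len := 43) h3019 m2_3019
  have h3021 : ∀ u < 129903, (fun u => chkFix tab mwordsA u) u = true := ext_range (a := 129860) (len := 43) h3020 m2_3020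
  have h3022 : ∀ u < 129946, (fun u => chkFix tab mwordsA u) u = true := ext_range (a := 129903) (len := 43) h3021 m2_3021
  have h3023 : ∀ u < 129989, (fun u => chkFix tab mwordsA u) u = true := ext_range (a := 129946) (len := 43) h3022 m2_3022
  have h3024 : ∀ u < 130032, (fun u => chkFix tab mwordsA u) u = true := ext_range (a := 129989) (len := 43) h3023 m2_3023
  have h3025 : ∀ u < 130075, (fun u => chkFix tab mwordsA u) u = true := ext_range (a := 130032) (len := 43) h3024 m2_3024
  have h3026 : ∀ u < 130118, (fun u => chkFix tab mwordsA u) u = true := ext_range (a := 130075) (len := 43) h3025 m2_3025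
  have h3027 : ∀ u < 130161, (fun u => chkFix tab mwordsA u) u = true := ext_range (a := 130118) (len := 43) h3026 m2_3026
  have h3028 : ∀ u < 130204, (fun u => chkFix tab mwordsA u) u = true := ext_range (a := 130161) (len := 43) h3027 m2_3027
  have h3029 : ∀ u < 130247, (fun u => chkFix tab mwordsA u) u = true := ext_range (a := 130204) (len := 43) h3028 m2_3028
  have h3030 : ∀ u < 130290, (fun u => chkFix tab mwordsA u) u = true := ext_range (a := 130247) (len := 43) h3029 m2_3029
  have h3031 : ∀ u < 130333, (fun u => chkFix tab mwordsA u) u = true := ext_range (a := 130290) (len := 43) h3030 m2_3030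
  have h3032 : ∀ u < 130376, (fun u => chkFix tab mwordsA u) u = true := ext_range (a := 130333) (len := 43) h3031 m2_3031
  have h3033 : ∀ u < 130419, (fun u => chkFix tab mwordsA u) u = true := ext_range (a := 130376) (len := 43) h3032 m2_3032
  have h3034 : ∀ u < 130462, (fun u => chkFix tab mwordsA u) u = true := ext_range (a := 130419) (len := 43) h3033 m2_3033
  have h3035 : ∀ u < 130505, (fun u => chkFix tab mwordsA u) u = true := ext_range (a := 130462) (len := 43) h3034 m2_3034
  have h3036 : ∀ u < 130548, (fun u => chkFix tab mwordsA u) u = true := ext_range (a := 130505) (len := 43) h3035 m2_3035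
  have h3037 : ∀ u < 130591, (fun u => chkFix tab mwordsA u) u = true := ext_range (a := 130548) (len := 43) h3036 m2_3036
  have h3038 : ∀ u < 130634, (fun u => chkFix tab mwordsA u) u = true := ext_range (a := 130591) (len := 43) h3037 m2_3037
  have h3039 : ∀ u < 130677, (fun u => chkFix tab mwordsA u) u = true := ext_range (a := 130634) (len := 43) h3038 m2_3038
  have h3040 : ∀ u < 130720, (fun u => chkFix tab mwordsA u) u = true := ext_range (a := 130677) (len := 43) h3039 m2_3039
  have h3041 : ∀ u < 130763, (fun u => chkFix tab mwordsA u) u = true := ext_range (a := 130720) (len := 43) h3040 m2_3040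
  have h3042 : ∀ u < 130806, (fun u => chkFix tab mwordsA u) u = true := ext_range (a := 130763) (len := 43) h3041 m2_3041
  have h3043 : ∀ u < 130849, (fun u => chkFix tab mwordsA u) u = true := ext_range (a := 130806) (len := 43) h3042 m2_3042
  have h3044 : ∀ u < 130892, (fun u => chkFix tab mwordsA u) u = true := ext_range (a := 130849) (len := 43) h3043 m2_3043
  have h3045 : ∀ u < 130935, (fun u => chkFix tab mwordsA u) u = true := ext_range (a := 130892) (len := 43) h3044 m2_3044
  have h3046 : ∀ u < 130978, (fun u => chkFix tab mwordsA u) u = true := ext_range (a := 130935) (len := 43) h3045 m2_3045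
  have h3047 : ∀ u < 131021, (fun u => chkFix tab mwordsA u) u = true := ext_range (a := 130978) (len := 43) h3046 m2_3046
  have h3048 : ∀ u < 131064, (fun u => chkFix tab mwordsA u) u = true := ext_range (a := 131021) (len := 43) h3047 m2_3047
  have h3049 : ∀ u < 131107, (fun u => chkFix tab mwordsA u) u = true := ext_range (a := 131064) (len := 43) h3048 m2_3048
  have h3050 : ∀ u < 131150, (fun u => chkFix tab mwordsA u) u = true := ext_range (a := 131107) (len := 43) h3049 m2_3049
  have h3051 : ∀ u < 131193, (fun u => chkFix tab mwordsA u) u = true := ext_range (a := 131150) (len := 43) h3050 m2_3050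
  have h3052 : ∀ u < 131236, (fun u => chkFix tab mwordsA u) u = true := ext_range (a := 131193) (len := 43) h3051 m2_3051
  have h3053 : ∀ u < 131279, (fun u => chkFix tab mwordsA u) u = true := ext_range (a := 131236) (len := 43) h3052 m2_3052
  have h3054 : ∀ u < 131322, (fun u => chkFix tab mwordsA u) u = true := ext_range (a := 131279) (len := 43) h3053 m2_3053
  have h3055 : ∀ u < 131365, (fun u => chkFix tab mwordsA u) u = true := ext_range (a := 131322) (len := 43) h3054 m2_3054
  have h3056 : ∀ u < 131408, (fun u => chkFix tab mwordsA u) u = true := ext_range (a := 131365) (len := 43) h3055 m2_3055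
  have h3057 : ∀ u < 131451, (fun u => chkFix tab mwordsA u) u = true := ext_range (a := 131408) (len := 43) h3056 m2_3056
  have h3058 : ∀ u < 131494, (fun u => chkFix tab mwordsA u) u = true := ext_range (a := 131451) (len := 43) h3057 m2_3057
  have h3059 : ∀ u < 131537, (fun u => chkFix tab mwordsA u) u = true := ext_range (a := 131494) (len := 43) h3058 m2_3058
  have h3060 : ∀ u < 131580, (fun u => chkFix tab mwordsA u) u = true := ext_range (a := 131537) (len := 43) h3059 m2_3059
  have h3061 : ∀ u < 131623, (fun u => chkFix tab mwordsA u) u = true := ext_range (a := 131580) (len := 43) h3060 m2_3060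
  have h3062 : ∀ u < 131666, (fun u => chkFix tab mwordsA u) u = true := ext_range (a := 131623) (len := 43) h3061 m2_3061
  have h3063 : ∀ u < 131709, (fun u => chkFix tab mwordsA u) u = true := ext_range (a := 131666) (len := 43) h3062 m2_3062
  have h3064 : ∀ u < 131752, (fun u => chkFix tab mwordsA u) u = true := ext_range (a := 131709) (len := 43) h3063 m2_3063
  have h3065 : ∀ u < 131795, (fun u => chkFix tab mwordsA u) u = true := ext_range (a := 131752) (len := 43) h3064 m2_3064
  have h3066 : ∀ u < 131838, (fun u => chkFix tab mwordsA u) u = true := ext_range (a := 131795) (len := 43) h3065 m2_3065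
  have h3067 : ∀ u < 131881, (fun u => chkFix tab mwordsA u) u = true := ext_range (a := 131838) (len := 43) h3066 m2_3066
  have h3068 : ∀ u < 131924, (fun u => chkFix tab mwordsA u) u = true := ext_range (a := 131881) (len := 43) h3067 m2_3067
  have h3069 : ∀ u < 131967, (fun u => chkFix tab mwordsA u) u = true := ext_range (a := 131924) (len := 43) h3068 m2_3068
  have h3070 : ∀ u < 132010, (fun u => chkFix tab mwordsA u) u = true := ext_range (a := 131967) (len := 43) h3069 m2_3069
  have h3071 : ∀ u < 132053, (fun u => chkFix tab mwordsA u) u = true := ext_range (a := 132010) (len := 43) h3070 m2_3070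
  have h3072 : ∀ u < 132096, (fun u => chkFix tab mwordsA u) u = true := ext_range (a := 132053) (len := 43) h3071 m2_3071
  have h3073 : ∀ u < 132139, (fun u => chkFix tab mwordsA u) u = true := ext_range (a := 132096) (len := 43) h3072 m2_3072
  have h3074 : ∀ u < 132182, (fun u => chkFix tab mwordsA u) u = true := ext_range (a := 132139) (len := 43) h3073 m2_3073
  have h3075 : ∀ u < 132225, (fun u => chkFix tab mwordsA u) u = true := ext_range (a := 132182) (len := 43) h3074 m2_3074
  have h3076 : ∀ u < 132268, (fun u => chkFix tab mwordsA u) u = true := ext_range (a := 132225) (len := 43) h3075 m2_3075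
  have h3077 : ∀ u < 132311, (fun u => chkFix tab mwordsA u) u = true := ext_range (a := 132268) (len := 43) h3076 m2_3076
  have h3078 : ∀ u < 132354, (fun u => chkFix tab mwordsA u) u = true := ext_range (a := 132311) (len := 43) h3077 m2_3077
  have h3079 : ∀ u < 132397, (fun u => chkFix tab mwordsA u) u = true := ext_range (a := 132354) (len := 43) h3078 m2_3078
  have h3080 : ∀ u < 132440, (fun u => chkFix tab mwordsA u) u = true := ext_range (a := 132397) (len := 43) h3079 m2_3079
  have h3081 : ∀ u < 132483, (fun u => chkFix tab mwordsA u) u = true := ext_range (a := 132440) (len := 43) h3080 m2_3080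
  have h3082 : ∀ u < 132526, (fun u => chkFix tab mwordsA u) u = true := ext_range (a := 132483) (len := 43) h3081 m2_3081
  have h3083 : ∀ u < 132569, (fun u => chkFix tab mwordsA u) u = true := ext_range (a := 132526) (len := 43) h3082 m2_3082
  have h3084 : ∀ u < 132612, (fun u => chkFix tab mwordsA u) u = true := ext_range (a := 132569) (len := 43) h3083 m2_3083
  have h3085 : ∀ u < 132655, (fun u => chkFix tab mwordsA u) u = true := ext_range (a := 132612) (len := 43) h3084 m2_3084
  have h3086 : ∀ u < 132698, (fun u => chkFix tab mwordsA u) u = true := ext_range (a := 132655) (len := 43) h3085 m2_3085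
  have h3087 : ∀ u < 132741, (fun u => chkFix tab mwordsA u) u = true := ext_range (a := 132698) (len := 43) h3086 m2_3086
  have h3088 : ∀ u < 132784, (fun u => chkFix tab mwordsA u) u = true := ext_range (a := 132741) (len := 43) h3087 m2_3087
  have h3089 : ∀ u < 132827, (fun u => chkFix tab mwordsA u) u = true := ext_range (a := 132784) (len := 43) h3088 m2_3088
  have h3090 : ∀ u < 132870, (fun u => chkFix tab mwordsA u) u = true := ext_range (a := 132827) (len := 43) h3089 m2_3089
  have h3091 : ∀ u < 132913, (fun u => chkFix tab mwordsA u) u = true := ext_range (a := 132870) (len := 43) h3090 m2_3090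
  have h3092 : ∀ u < 132956, (fun u => chkFix tab mwordsA u) u = true := ext_range (a := 132913) (len := 43) h3091 m2_3091
  have h3093 : ∀ u < 132999, (fun u => chkFix tab mwordsA u) u = true := ext_range (a := 132956) (len := 43) h3092 m2_3092
  have h3094 : ∀ u < 133042, (fun u => chkFix tab mwordsA u) u = true := ext_range (a := 132999) (len := 43) h3093 m2_3093
  have h3095 : ∀ u < 133085, (fun u => chkFix tab mwordsA u) u = true := ext_range (a := 133042) (len := 43) h3094 m2_3094
  have h3096 : ∀ u < 133128, (fun u => chkFix tab mwordsA u) u = true := ext_range (a := 133085) (len := 43) h3095 m2_3095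
  have h3097 : ∀ u < 133171, (fun u => chkFix tab mwordsA u) u = true := ext_range (a := 133128) (len := 43) h3096 m2_3096
  have h3098 : ∀ u < 133214, (fun u => chkFix tab mwordsA u) u = true := ext_range (a := 133171) (len := 43) h3097 m2_3097
  have h3099 : ∀ u < 133257, (fun u => chkFix tab mwordsA u) u = true := ext_range (a := 133214) (len := 43) h3098 m2_3098
  have h3100 : ∀ u < 133300, (fun u => chkFix tab mwordsA u) u = true := ext_range (a := 133257) (len := 43) h3099 m2_3099
  have h3101 : ∀ u < 133343, (fun u => chkFix tab mwordsA u) u = true := ext_range (a := 133300) (len := 43) h3100 m2_3100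
  have h3102 : ∀ u < 133386, (fun u => chkFix tab mwordsA u) u = true := ext_range (a := 133343) (len := 43) h3101 m2_3101
  have h3103 : ∀ u < 133429, (fun u => chkFix tab mwordsA u) u = true := ext_range (a := 133386) (len := 43) h3102 m2_3102
  have h3104 : ∀ u < 133472, (fun u => chkFix tab mwordsA u) u = true := ext_range (a := 133429) (len := 43) h3103 m2_3103
  have h3105 : ∀ u < 133515, (fun u => chkFix tab mwordsA u) u = true := ext_range (a := 133472) (len := 43) h3104 m2_3104
  have h3106 : ∀ u < 133558, (fun u => chkFix tab mwordsA u) u = true := ext_range (a := 133515) (len := 43) h3105 m2_3105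
  have h3107 : ∀ u < 133601, (fun u => chkFix tab mwordsA u) u = true := ext_range (a := 133558) (len := 43) h3106 m2_3106
  have h3108 : ∀ u < 133644, (fun u => chkFix tab mwordsA u) u = true := ext_range (a := 133601) (len := 43) h3107 m2_3107
  have h3109 : ∀ u < 133687, (fun u => chkFix tab mwordsA u) u = true := ext_range (a := 133644) (len := 43) h3108 m2_3108
  have h3110 : ∀ u < 133730, (fun u => chkFix tab mwordsA u) u = true := ext_range (a := 133687) (len := 43) h3109 m2_3109
  have h3111 : ∀ u < 133773, (fun u => chkFix tab mwordsA u) u = true := ext_range (a := 133730) (len := 43) h3110 m2_3110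
  have h3112 : ∀ u < 133816, (fun u => chkFix tab mwordsA u) u = true := ext_range (a := 133773) (len := 43) h3111 m2_3111
  have h3113 : ∀ u < 133859, (fun u => chkFix tab mwordsA u) u = true := ext_range (a := 133816) (len := 43) h3112 m2_3112
  have h3114 : ∀ u < 133902, (fun u => chkFix tab mwordsA u) u = true := ext_range (a := 133859) (len := 43) h3113 m2_3113
  have h3115 : ∀ u < 133945, (fun u => chkFix tab mwordsA u) u = true := ext_range (a := 133902) (len := 43) h3114 m2_3114
  have h3116 : ∀ u < 133988, (fun u => chkFix tab mwordsA u) u = true := ext_range (a := 133945) (len := 43) h3115 m2_3115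
  have h3117 : ∀ u < 134031, (fun u => chkFix tab mwordsA u) u = true := ext_range (a := 133988) (len := 43) h3116 m2_3116
  have h3118 : ∀ u < 134074, (fun u => chkFix tab mwordsA u) u = true := ext_range (a := 134031) (len := 43) h3117 m2_3117
  have h3119 : ∀ u < 134117, (fun u => chkFix tab mwordsA u) u = true := ext_range (a := 134074) (len := 43) h3118 m2_3118
  have h3120 : ∀ u < 134160, (fun u => chkFix tab mwordsA u) u = true := ext_range (a := 134117) (len := 43) h3119 m2_3119
  have h3121 : ∀ u < 134203, (fun u => chkFix tab mwordsA u) u = true := ext_range (a := 134160) (len := 43) h3120 m2_3120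
  have h3122 : ∀ u < 134246, (fun u => chkFix tab mwordsA u) u = true := ext_range (a := 134203) (len := 43) h3121 m2_3121
  have h3123 : ∀ u < 134289, (fun u => chkFix tab mwordsA u) u = true := ext_range (a := 134246) (len := 43) h3122 m2_3122
  have h3124 : ∀ u < 134332, (fun u => chkFix tab mwordsA u) u = true := ext_range (a := 134289) (len := 43) h3123 m2_3123
  have h3125 : ∀ u < 134375, (fun u => chkFix tab mwordsA u) u = true := ext_range (a := 134332) (len := 43) h3124 m2_3124
  have h3126 : ∀ u < 134418, (fun u => chkFix tab mwordsA u) u = true := ext_range (a := 134375) (len := 43) h3125 m2_3125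
  have h3127 : ∀ u < 134461, (fun u => chkFix tab mwordsA u) u = true := ext_range (a := 134418) (len := 43) h3126 m2_3126
  have h3128 : ∀ u < 134504, (fun u => chkFix tab mwordsA u) u = true := ext_range (a := 134461) (len := 43) h3127 m2_3127
  have h3129 : ∀ u < 134547, (fun u => chkFix tab mwordsA u) u = true := ext_range (a := 134504) (len := 43) h3128 m2_3128
  have h3130 : ∀ u < 134590, (fun u => chkFix tab mwordsA u) u = true := ext_range (a := 134547) (len := 43) h3129 m2_3129
  have h3131 : ∀ u < 134633, (fun u => chkFix tab mwordsA u) u = true := ext_range (a := 134590) (len := 43) h3130 m2_3130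
  have h3132 : ∀ u < 134676, (fun u => chkFix tab mwordsA u) u = true := ext_range (a := 134633) (len := 43) h3131 m2_3131
  have h3133 : ∀ u < 134719, (fun u => chkFix tab mwordsA u) u = true := ext_range (a := 134676) (len := 43) h3132 m2_3132
  have h3134 : ∀ u < 134762, (fun u => chkFix tab mwordsA u) u = true := ext_range (a := 134719) (len := 43) h3133 m2_3133
  have h3135 : ∀ u < 134805, (fun u => chkFix tab mwordsA u) u = true := ext_range (a := 134762) (len := 43) h3134 m2_3134
  have h3136 : ∀ u < 134848, (fun u => chkFix tab mwordsA u) u = true := ext_range (a := 134805) (len := 43) h3135 m2_3135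
  have h3137 : ∀ u < 134891, (fun u => chkFix tab mwordsA u) u = true := ext_range (a := 134848) (len := 43) h3136 m2_3136
  have h3138 : ∀ u < 134934, (fun u => chkFix tab mwordsA u) u = true := ext_range (a := 134891) (len := 43) h3137 m2_3137
  have h3139 : ∀ u < 134977, (fun u => chkFix tab mwordsA u) u = true := ext_range (a := 134934) (len := 43) h3138 m2_3138
  have h3140 : ∀ u < 135020, (fun u => chkFix tab mwordsA u) u = true := ext_range (a := 134977) (len := 43) h3139 m2_3139
  have h3141 : ∀ u < 135063, (fun u => chkFix tab mwordsA u) u = true := ext_range (a := 135020) (len := 43) h3140 m2_3140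
  have h3142 : ∀ u < 135106, (fun u => chkFix tab mwordsA u) u = true := ext_range (a := 135063) (len := 43) h3141 m2_3141
  have h3143 : ∀ u < 135149, (fun u => chkFix tab mwordsA u) u = true := ext_range (a := 135106) (len := 43) h3142 m2_3142
  have h3144 : ∀ u < 135192, (fun u => chkFix tab mwordsA u) u = true := ext_range (a := 135149) (len := 43) h3143 m2_3143
  have h3145 : ∀ u < 135235, (fun u => chkFix tab mwordsA u) u = true := ext_range (a := 135192) (len := 43) h3144 m2_3144
  have h3146 : ∀ u < 135278, (fun u => chkFix tab mwordsA u) u = true := ext_range (a := 135235) (len := 43) h3145 m2_3145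
  have h3147 : ∀ u < 135321, (fun u => chkFix tab mwordsA u) u = true := ext_range (a := 135278) (len := 43) h3146 m2_3146
  have h3148 : ∀ u < 135364, (fun u => chkFix tab mwordsA u) u = true := ext_range (a := 135321) (len := 43) h3147 m2_3147
  have h3149 : ∀ u < 135407, (fun u => chkFix tab mwordsA u) u = true := ext_range (a := 135364) (len := 43) h3148 m2_3148
  have h3150 : ∀ u < 135450, (fun u => chkFix tab mwordsA u) u = true := ext_range (a := 135407) (len := 43) h3149 m2_3149
  have h3151 : ∀ u < 135493, (fun u => chkFix tab mwordsA u) u = true := ext_range (a := 135450) (len := 43) h3150 m2_3150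
  have h3152 : ∀ u < 135536, (fun u => chkFix tab mwordsA u) u = true := ext_range (a := 135493) (len := 43) h3151 m2_3151
  have h3153 : ∀ u < 135579, (fun u => chkFix tab mwordsA u) u = true := ext_range (a := 135536) (len := 43) h3152 m2_3152
  have h3154 : ∀ u < 135622, (fun u => chkFix tab mwordsA u) u = true := ext_range (a := 135579) (len := 43) h3153 m2_3153
  have h3155 : ∀ u < 135665, (fun u => chkFix tab mwordsA u) u = true := ext_range (a := 135622) (len := 43) h3154 m2_3154
  have h3156 : ∀ u < 135708, (fun u => chkFix tab mwordsA u) u = true := ext_range (a := 135665) (len := 43) h3155 m2_3155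
  have h3157 : ∀ u < 135751, (fun u => chkFix tab mwordsA u) u = true := ext_range (a := 135708) (len := 43) h3156 m2_3156
  have h3158 : ∀ u < 135794, (fun u => chkFix tab mwordsA u) u = true := ext_range (a := 135751) (len := 43) h3157 m2_3157
  have h3159 : ∀ u < 135837, (fun u => chkFix tab mwordsA u) u = true := ext_range (a := 135794) (len := 43) h3158 m2_3158
  have h3160 : ∀ u < 135880, (fun u => chkFix tab mwordsA u) u = true := ext_range (a := 135837) (len := 43) h3159 m2_3159
  have h3161 : ∀ u < 135923, (fun u => chkFix tab mwordsA u) u = true := ext_range (a := 135880) (len := 43) h3160 m2_3160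
  have h3162 : ∀ u < 135966, (fun u => chkFix tab mwordsA u) u = true := ext_range (a := 135923) (len := 43) h3161 m2_3161
  have h3163 : ∀ u < 136009, (fun u => chkFix tab mwordsA u) u = true := ext_range (a := 135966) (len := 43) h3162 m2_3162
  have h3164 : ∀ u < 136052, (fun u => chkFix tab mwordsA u) u = true := ext_range (a := 136009) (len := 43) h3163 m2_3163
  have h3165 : ∀ u < 136095, (fun u => chkFix tab mwordsA u) u = true := ext_range (a := 136052) (len := 43) h3164 m2_3164
  have h3166 : ∀ u < 136138, (fun u => chkFix tab mwordsA u) u = true := ext_range (a := 136095) (len := 43) h3165 m2_3165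
  have h3167 : ∀ u < 136181, (fun u => chkFix tab mwordsA u) u = true := ext_range (a := 136138) (len := 43) h3166 m2_3166
  have h3168 : ∀ u < 136224, (fun u => chkFix tab mwordsA u) u = true := ext_range (a := 136181) (len := 43) h3167 m2_3167
  have h3169 : ∀ u < 136267, (fun u => chkFix tab mwordsA u) u = true := ext_range (a := 136224) (len := 43) h3168 m2_3168
  have h3170 : ∀ u < 136310, (fun u => chkFix tab mwordsA u) u = true := ext_range (a := 136267) (len := 43) h3169 m2_3169
  have h3171 : ∀ u < 136353, (fun u => chkFix tab mwordsA u) u = true := ext_range (a := 136310) (len := 43) h3170 m2_3170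
  have h3172 : ∀ u < 136396, (fun u => chkFix tab mwordsA u) u = true := ext_range (a := 136353) (len := 43) h3171 m2_3171
  have h3173 : ∀ u < 136439, (fun u => chkFix tab mwordsA u) u = true := ext_range (a := 136396) (len := 43) h3172 m2_3172
  have h3174 : ∀ u < 136482, (fun u => chkFix tab mwordsA u) u = true := ext_range (a := 136439) (len := 43) h3173 m2_3173
  have h3175 : ∀ u < 136525, (fun u => chkFix tab mwordsA u) u = true := ext_range (a := 136482) (len := 43) h3174 m2_3174
  have h3176 : ∀ u < 136568, (fun u => chkFix tab mwordsA u) u = true := ext_range (a := 136525) (len := 43) h3175 m2_3175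
  have h3177 : ∀ u < 136611, (fun u => chkFix tab mwordsA u) u = true := ext_range (a := 136568) (len := 43) h3176 m2_3176
  have h3178 : ∀ u < 136654, (fun u => chkFix tab mwordsA u) u = true := ext_range (a := 136611) (len := 43) h3177 m2_3177
  have h3179 : ∀ u < 136697, (fun u => chkFix tab mwordsA u) u = true := ext_range (a := 136654) (len := 43) h3178 m2_3178
  have h3180 : ∀ u < 136740, (fun u => chkFix tab mwordsA u) u = true := ext_range (a := 136697) (len := 43) h3179 m2_3179
  have h3181 : ∀ u < 136783, (fun u => chkFix tab mwordsA u) u = true := ext_range (a := 136740) (len := 43) h3180 m2_3180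
  have h3182 : ∀ u < 136826, (fun u => chkFix tab mwordsA u) u = true := ext_range (a := 136783) (len := 43) h3181 m2_3181
  have h3183 : ∀ u < 136869, (fun u => chkFix tab mwordsA u) u = true := ext_range (a := 136826) (len := 43) h3182 m2_3182
  have h3184 : ∀ u < 136912, (fun u => chkFix tab mwordsA u) u = true := ext_range (a := 136869) (len := 43) h3183 m2_3183
  have h3185 : ∀ u < 136955, (fun u => chkFix tab mwordsA u) u = true := ext_range (a := 136912) (len := 43) h3184 m2_3184
  have h3186 : ∀ u < 136998, (fun u => chkFix tab mwordsA u) u = true := ext_range (a := 136955) (len := 43) h3185 m2_3185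
  have h3187 : ∀ u < 137041, (fun u => chkFix tab mwordsA u) u = true := ext_range (a := 136998) (len := 43) h3186 m2_3186
  have h3188 : ∀ u < 137084, (fun u => chkFix tab mwordsA u) u = true := ext_range (a := 137041) (len := 43) h3187 m2_3187
  have h3189 : ∀ u < 137127, (fun u => chkFix tab mwordsA u) u = true := ext_range (a := 137084) (len := 43) h3188 m2_3188
  have h3190 : ∀ u < 137170, (fun u => chkFix tab mwordsA u) u = true := ext_range (a := 137127) (len := 43) h3189 m2_3189
  have h3191 : ∀ u < 137213, (fun u => chkFix tab mwordsA u) u = true := ext_range (a := 137170) (len := 43) h3190 m2_3190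
  have h3192 : ∀ u < 137256, (fun u => chkFix tab mwordsA u) u = true := ext_range (a := 137213) (len := 43) h3191 m2_3191
  have h3193 : ∀ u < 137299, (fun u => chkFix tab mwordsA u) u = true := ext_range (a := 137256) (len := 43) h3192 m2_3192
  have h3194 : ∀ u < 137342, (fun u => chkFix tab mwordsA u) u = true := ext_range (a := 137299) (len := 43) h3193 m2_3193
  have h3195 : ∀ u < 137385, (fun u => chkFix tab mwordsA u) u = true := ext_range (a := 137342) (len := 43) h3194 m2_3194
  have h3196 : ∀ u < 137428, (fun u => chkFix tab mwordsA u) u = true := ext_range (a := 137385) (len := 43) h3195 m2_3195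
  have h3197 : ∀ u < 137471, (fun u => chkFix tab mwordsA u) u = true := ext_range (a := 137428) (len := 43) h3196 m2_3196
  have h3198 : ∀ u < 137514, (fun u => chkFix tab mwordsA u) u = true := ext_range (a := 137471) (len := 43) h3197 m2_3197
  have h3199 : ∀ u < 137557, (fun u => chkFix tab mwordsA u) u = true := ext_range (a := 137514) (len := 43) h3198 m2_3198
  have h3200 : ∀ u < 137600, (fun u => chkFix tab mwordsA u) u = true := ext_range (a := 137557) (len := 43) h3199 m2_3199
  have h3201 : ∀ u < 137643, (fun u => chkFix tab mwordsA u) u = true := ext_range (a := 137600) (len := 43) h3200 m2_3200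
  have h3202 : ∀ u < 137686, (fun u => chkFix tab mwordsA u) u = true := ext_range (a := 137643) (len := 43) h3201 m2_3201
  have h3203 : ∀ u < 137729, (fun u => chkFix tab mwordsA u) u = true := ext_range (a := 137686) (len := 43) h3202 m2_3202
  have h3204 : ∀ u < 137772, (fun u => chkFix tab mwordsA u) u = true := ext_range (a := 137729) (len := 43) h3203 m2_3203
  have h3205 : ∀ u < 137815, (fun u => chkFix tab mwordsA u) u = true := ext_range (a := 137772) (len := 43) h3204 m2_3204
  have h3206 : ∀ u < 137858, (fun u => chkFix tab mwordsA u) u = true := ext_range (a := 137815) (len := 43) h3205 m2_3205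
  have h3207 : ∀ u < 137901, (fun u => chkFix tab mwordsA u) u = true := ext_range (a := 137858) (len := 43) h3206 m2_3206
  have h3208 : ∀ u < 137944, (fun u => chkFix tab mwordsA u) u = true := ext_range (a := 137901) (len := 43) h3207 m2_3207
  have h3209 : ∀ u < 137987, (fun u => chkFix tab mwordsA u) u = true := ext_range (a := 137944) (len := 43) h3208 m2_3208
  have h3210 : ∀ u < 138030, (fun u => chkFix tab mwordsA u) u = true := ext_range (a := 137987) (len := 43) h3209 m2_3209
  have h3211 : ∀ u < 138073, (fun u => chkFix tab mwordsA u) u = true := ext_range (a := 138030) (len := 43) h3210 m2_3210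
  have h3212 : ∀ u < 138116, (fun u => chkFix tab mwordsA u) u = true := ext_range (a := 138073) (len := 43) h3211 m2_3211
  have h3213 : ∀ u < 138159, (fun u => chkFix tab mwordsA u) u = true := ext_range (a := 138116) (len := 43) h3212 m2_3212
  have h3214 : ∀ u < 138202, (fun u => chkFix tab mwordsA u) u = true := ext_range (a := 138159) (len := 43) h3213 m2_3213
  have h3215 : ∀ u < 138245, (fun u => chkFix tab mwordsA u) u = true := ext_range (a := 138202) (len := 43) h3214 m2_3214
  have h3216 : ∀ u < 138288, (fun u => chkFix tab mwordsA u) u = true := ext_range (a := 138245) (len := 43) h3215 m2_3215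
  have h3217 : ∀ u < 138331, (fun u => chkFix tab mwordsA u) u = true := ext_range (a := 138288) (len := 43) h3216 m2_3216
  have h3218 : ∀ u < 138374, (fun u => chkFix tab mwordsA u) u = true := ext_range (a := 138331) (len := 43) h3217 m2_3217
  have h3219 : ∀ u < 138417, (fun u => chkFix tab mwordsA u) u = true := ext_range (a := 138374) (len := 43) h3218 m2_3218
  have h3220 : ∀ u < 138460, (fun u => chkFix tab mwordsA u) u = true := ext_range (a := 138417) (len := 43) h3219 m2_3219
  have h3221 : ∀ u < 138503, (fun u => chkFix tab mwordsA u) u = true := ext_range (a := 138460) (len := 43) h3220 m2_3220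
  have h3222 : ∀ u < 138546, (fun u => chkFix tab mwordsA u) u = true := ext_range (a := 138503) (len := 43) h3221 m2_3221
  have h3223 : ∀ u < 138589, (fun u => chkFix tab mwordsA u) u = true := ext_range (a := 138546) (len := 43) h3222 m2_3222
  have h3224 : ∀ u < 138632, (fun u => chkFix tab mwordsA u) u = true := ext_range (a := 138589) (len := 43) h3223 m2_3223
  have h3225 : ∀ u < 138675, (fun u => chkFix tab mwordsA u) u = true := ext_range (a := 138632) (len := 43) h3224 m2_3224
  have h3226 : ∀ u < 138718, (fun u => chkFix tab mwordsA u) u = true := ext_range (a := 138675) (len := 43) h3225 m2_3225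
  have h3227 : ∀ u < 138761, (fun u => chkFix tab mwordsA u) u = true := ext_range (a := 138718) (len := 43) h3226 m2_3226
  have h3228 : ∀ u < 138804, (fun u => chkFix tab mwordsA u) u = true := ext_range (a := 138761) (len := 43) h3227 m2_3227
  have h3229 : ∀ u < 138847, (fun u => chkFix tab mwordsA u) u = true := ext_range (a := 138804) (len := 43) h3228 m2_3228
  have h3230 : ∀ u < 138890, (fun u => chkFix tab mwordsA u) u = true := ext_range (a := 138847) (len := 43) h3229 m2_3229
  have h3231 : ∀ u < 138933, (fun u => chkFix tab mwordsA u) u = true := ext_range (a := 138890) (len := 43) h3230 m2_3230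
  have h3232 : ∀ u < 138976, (fun u => chkFix tab mwordsA u) u = true := ext_range (a := 138933) (len := 43) h3231 m2_3231
  have h3233 : ∀ u < 139019, (fun u => chkFix tab mwordsA u) u = true := ext_range (a := 138976) (len := 43) h3232 m2_3232
  have h3234 : ∀ u < 139062, (fun u => chkFix tab mwordsA u) u = true := ext_range (a := 139019) (len := 43) h3233 m2_3233
  have h3235 : ∀ u < 139105, (fun u => chkFix tab mwordsA u) u = true := ext_range (a := 139062) (len := 43) h3234 m2_3234
  have h3236 : ∀ u < 139148, (fun u => chkFix tab mwordsA u) u = true := ext_range (a := 139105) (len := 43) h3235 m2_3235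
  have h3237 : ∀ u < 139191, (fun u => chkFix tab mwordsA u) u = true := ext_range (a := 139148) (len := 43) h3236 m2_3236
  have h3238 : ∀ u < 139234, (fun u => chkFix tab mwordsA u) u = true := ext_range (a := 139191) (len := 43) h3237 m2_3237
  have h3239 : ∀ u < 139277, (fun u => chkFix tab mwordsA u) u = true := ext_range (a := 139234) (len := 43) h3238 m2_3238
  have h3240 : ∀ u < 139320, (fun u => chkFix tab mwordsA u) u = true := ext_range (a := 139277) (len := 43) h3239 m2_3239
  have h3241 : ∀ u < 139363, (fun u => chkFix tab mwordsA u) u = true := ext_range (a := 139320) (len := 43) h3240 m2_3240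
  have h3242 : ∀ u < 139406, (fun u => chkFix tab mwordsA u) u = true := ext_range (a := 139363) (len := 43) h3241 m2_3241
  have h3243 : ∀ u < 139449, (fun u => chkFix tab mwordsA u) u = true := ext_range (a := 139406) (len := 43) h3242 m2_3242
  have h3244 : ∀ u < 139492, (fun u => chkFix tab mwordsA u) u = true := ext_range (a := 139449) (len := 43) h3243 m2_3243
  have h3245 : ∀ u < 139535, (fun u => chkFix tab mwordsA u) u = true := ext_range (a := 139492) (len := 43) h3244 m2_3244
  have h3246 : ∀ u < 139578, (fun u => chkFix tab mwordsA u) u = true := ext_range (a := 139535) (len := 43) h3245 m2_3245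
  have h3247 : ∀ u < 139621, (fun u => chkFix tab mwordsA u) u = true := ext_range (a := 139578) (len := 43) h3246 m2_3246
  have h3248 : ∀ u < 139664, (fun u => chkFix tab mwordsA u) u = true := ext_range (a := 139621) (len := 43) h3247 m2_3247
  have h3249 : ∀ u < 139707, (fun u => chkFix tab mwordsA u) u = true := ext_range (a := 139664) (len := 43) h3248 m2_3248
  have h3250 : ∀ u < 139750, (fun u => chkFix tab mwordsA u) u = true := ext_range (a := 139707) (len := 43) h3249 m2_3249
  have h3251 : ∀ u < 139793, (fun u => chkFix tab mwordsA u) u = true := ext_range (a := 139750) (len := 43) h3250 m2_3250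
  have h3252 : ∀ u < 139836, (fun u => chkFix tab mwordsA u) u = true := ext_range (a := 139793) (len := 43) h3251 m2_3251
  have h3253 : ∀ u < 139879, (fun u => chkFix tab mwordsA u) u = true := ext_range (a := 139836) (len := 43) h3252 m2_3252
  have h3254 : ∀ u < 139922, (fun u => chkFix tab mwordsA u) u = true := ext_range (a := 139879) (len := 43) h3253 m2_3253
  have h3255 : ∀ u < 139965, (fun u => chkFix tab mwordsA u) u = true := ext_range (a := 139922) (len := 43) h3254 m2_3254
  have h3256 : ∀ u < 140008, (fun u => chkFix tab mwordsA u) u = true := ext_range (a := 139965) (len := 43) h3255 m2_3255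
  have h3257 : ∀ u < 140051, (fun u => chkFix tab mwordsA u) u = true := ext_range (a := 140008) (len := 43) h3256 m2_3256
  have h3258 : ∀ u < 140094, (fun u => chkFix tab mwordsA u) u = true := ext_range (a := 140051) (len := 43) h3257 m2_3257
  have h3259 : ∀ u < 140137, (fun u => chkFix tab mwordsA u) u = true := ext_range (a := 140094) (len := 43) h3258 m2_3258
  have h3260 : ∀ u < 140180, (fun u => chkFix tab mwordsA u) u = true := ext_range (a := 140137) (len := 43) h3259 m2_3259
  have h3261 : ∀ u < 140223, (fun u => chkFix tab mwordsA u) u = true := ext_range (a := 140180) (len := 43) h3260 m2_3260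
  have h3262 : ∀ u < 140266, (fun u => chkFix tab mwordsA u) u = true := ext_range (a := 140223) (len := 43) h3261 m2_3261
  have h3263 : ∀ u < 140309, (fun u => chkFix tab mwordsA u) u = true := ext_range (a := 140266) (len := 43) h3262 m2_3262
  have h3264 : ∀ u < 140352, (fun u => chkFix tab mwordsA u) u = true := ext_range (a := 140309) (len := 43) h3263 m2_3263
  have h3265 : ∀ u < 140395, (fun u => chkFix tab mwordsA u) u = true := ext_range (a := 140352) (len := 43) h3264 m2_3264
  have h3266 : ∀ u < 140438, (fun u => chkFix tab mwordsA u) u = true := ext_range (a := 140395) (len := 43) h3265 m2_3265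
  have h3267 : ∀ u < 140481, (fun u => chkFix tab mwordsA u) u = true := ext_range (a := 140438) (len := 43) h3266 m2_3266
  have h3268 : ∀ u < 140524, (fun u => chkFix tab mwordsA u) u = true := ext_range (a := 140481) (len := 43) h3267 m2_3267
  have h3269 : ∀ u < 140567, (fun u => chkFix tab mwordsA u) u = true := ext_range (a := 140524) (len := 43) h3268 m2_3268
  have h3270 : ∀ u < 140610, (fun u => chkFix tab mwordsA u) u = true := ext_range (a := 140567) (len := 43) h3269 m2_3269
  have h3271 : ∀ u < 140653, (fun u => chkFix tab mwordsA u) u = true := ext_range (a := 140610) (len := 43) h3270 m2_3270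
  have h3272 : ∀ u < 140696, (fun u => chkFix tab mwordsA u) u = true := ext_range (a := 140653) (len := 43) h3271 m2_3271
  have h3273 : ∀ u < 140739, (fun u => chkFix tab mwordsA u) u = true := ext_range (a := 140696) (len := 43) h3272 m2_3272
  have h3274 : ∀ u < 140782, (fun u => chkFix tab mwordsA u) u = true := ext_range (a := 140739) (len := 43) h3273 m2_3273
  have h3275 : ∀ u < 140825, (fun u => chkFix tab mwordsA u) u = true := ext_range (a := 140782) (len := 43) h3274 m2_3274
  have h3276 : ∀ u < 140868, (fun u => chkFix tab mwordsA u) u = true := ext_range (a := 140825) (len := 43) h3275 m2_3275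
  have h3277 : ∀ u < 140911, (fun u => chkFix tab mwordsA u) u = true := ext_range (a := 140868) (len := 43) h3276 m2_3276
  have h3278 : ∀ u < 140954, (fun u => chkFix tab mwordsA u) u = true := ext_range (a := 140911) (len := 43) h3277 m2_3277
  have h3279 : ∀ u < 140997, (fun u => chkFix tab mwordsA u) u = true := ext_range (a := 140954) (len := 43) h3278 m2_3278
  have h3280 : ∀ u < 141040, (fun u => chkFix tab mwordsA u) u = true := ext_range (a := 140997) (len := 43) h3279 m2_3279
  have h3281 : ∀ u < 141083, (fun u => chkFix tab mwordsA u) u = true := ext_range (a := 141040) (len := 43) h3280 m2_3280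
  have h3282 : ∀ u < 141126, (fun u => chkFix tab mwordsA u) u = true := ext_range (a := 141083) (len := 43) h3281 m2_3281
  have h3283 : ∀ u < 141169, (fun u => chkFix tab mwordsA u) u = true := ext_range (a := 141126) (len := 43) h3282 m2_3282
  have h3284 : ∀ u < 141212, (fun u => chkFix tab mwordsA u) u = true := ext_range (a := 141169) (len := 43) h3283 m2_3283
  have h3285 : ∀ u < 141255, (fun u => chkFix tab mwordsA u) u = true := ext_range (a := 141212) (len := 43) h3284 m2_3284
  have h3286 : ∀ u < 141298, (fun u => chkFix tab mwordsA u) u = true := ext_range (a := 141255) (len := 43) h3285 m2_3285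
  have h3287 : ∀ u < 141341, (fun u => chkFix tab mwordsA u) u = true := ext_range (a := 141298) (len := 43) h3286 m2_3286
  have h3288 : ∀ u < 141384, (fun u => chkFix tab mwordsA u) u = true := ext_range (a := 141341) (len := 43) h3287 m2_3287
  have h3289 : ∀ u < 141427, (fun u => chkFix tab mwordsA u) u = true := ext_range (a := 141384) (len := 43) h3288 m2_3288
  have h3290 : ∀ u < 141470, (fun u => chkFix tab mwordsA u) u = true := ext_range (a := 141427) (len := 43) h3289 m2_3289
  have h3291 : ∀ u < 141513, (fun u => chkFix tab mwordsA u) u = true := ext_range (a := 141470) (len := 43) h3290 m2_3290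
  have h3292 : ∀ u < 141556, (fun u => chkFix tab mwordsA u) u = true := ext_range (a := 141513) (len := 43) h3291 m2_3291
  have h3293 : ∀ u < 141599, (fun u => chkFix tab mwordsA u) u = true := ext_range (a := 141556) (len := 43) h3292 m2_3292
  have h3294 : ∀ u < 141642, (fun u => chkFix tab mwordsA u) u = true := ext_range (a := 141599) (len := 43) h3293 m2_3293
  have h3295 : ∀ u < 141685, (fun u => chkFix tab mwordsA u) u = true := ext_range (a := 141642) (len := 43) h3294 m2_3294
  have h3296 : ∀ u < 141728, (fun u => chkFix tab mwordsA u) u = true := ext_range (a := 141685) (len := 43) h3295 m2_3295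
  have h3297 : ∀ u < 141771, (fun u => chkFix tab mwordsA u) u = true := ext_range (a := 141728) (len := 43) h3296 m2_3296
  have h3298 : ∀ u < 141814, (fun u => chkFix tab mwordsA u) u = true := ext_range (a := 141771) (len := 43) h3297 m2_3297
  have h3299 : ∀ u < 141857, (fun u => chkFix tab mwordsA u) u = true := ext_range (a := 141814) (len := 43) h3298 m2_3298
  have h3300 : ∀ u < 141900, (fun u => chkFix tab mwordsA u) u = true := ext_range (a := 141857) (len := 43) h3299 m2_3299
  have h3301 : ∀ u < 141943, (fun u => chkFix tab mwordsA u) u = true := ext_range (a := 141900) (len := 43) h3300 m2_3300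
  have h3302 : ∀ u < 141986, (fun u => chkFix tab mwordsA u) u = true := ext_range (a := 141943) (len := 43) h3301 m2_3301
  have h3303 : ∀ u < 142029, (fun u => chkFix tab mwordsA u) u = true := ext_range (a := 141986) (len := 43) h3302 m2_3302
  have h3304 : ∀ u < 142072, (fun u => chkFix tab mwordsA u) u = true := ext_range (a := 142029) (len := 43) h3303 m2_3303
  have h3305 : ∀ u < 142115, (fun u => chkFix tab mwordsA u) u = true := ext_range (a := 142072) (len := 43) h3304 m2_3304
  have h3306 : ∀ u < 142158, (fun u => chkFix tab mwordsA u) u = true := ext_range (a := 142115) (len := 43) h3305 m2_3305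
  have h3307 : ∀ u < 142201, (fun u => chkFix tab mwordsA u) u = true := ext_range (a := 142158) (len := 43) h3306 m2_3306
  have h3308 : ∀ u < 142244, (fun u => chkFix tab mwordsA u) u = true := ext_range (a := 142201) (len := 43) h3307 m2_3307
  have h3309 : ∀ u < 142287, (fun u => chkFix tab mwordsA u) u = true := ext_range (a := 142244) (len := 43) h3308 m2_3308
  have h3310 : ∀ u < 142330, (fun u => chkFix tab mwordsA u) u = true := ext_range (a := 142287) (len := 43) h3309 m2_3309
  have h3311 : ∀ u < 142373, (fun u => chkFix tab mwordsA u) u = true := ext_range (a := 142330) (len := 43) h3310 m2_3310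
  have h3312 : ∀ u < 142416, (fun u => chkFix tab mwordsA u) u = true := ext_range (a := 142373) (len := 43) h3311 m2_3311
  have h3313 : ∀ u < 142459, (fun u => chkFix tab mwordsA u) u = true := ext_range (a := 142416) (len := 43) h3312 m2_3312
  have h3314 : ∀ u < 142502, (fun u => chkFix tab mwordsA u) u = true := ext_range (a := 142459) (len := 43) h3313 m2_3313
  have h3315 : ∀ u < 142545, (fun u => chkFix tab mwordsA u) u = true := ext_range (a := 142502) (len := 43) h3314 m2_3314
  have h3316 : ∀ u < 142588, (fun u => chkFix tab mwordsA u) u = true := ext_range (a := 142545) (len := 43) h3315 m2_3315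
  have h3317 : ∀ u < 142631, (fun u => chkFix tab mwordsA u) u = true := ext_range (a := 142588) (len := 43) h3316 m2_3316
  have h3318 : ∀ u < 142674, (fun u => chkFix tab mwordsA u) u = true := ext_range (a := 142631) (len := 43) h3317 m2_3317
  have h3319 : ∀ u < 142717, (fun u => chkFix tab mwordsA u) u = true := ext_range (a := 142674) (len := 43) h3318 m2_3318
  have h3320 : ∀ u < 142760, (fun u => chkFix tab mwordsA u) u = true := ext_range (a := 142717) (len := 43) h3319 m2_3319
  have h3321 : ∀ u < 142803, (fun u => chkFix tab mwordsA u) u = true := ext_range (a := 142760) (len := 43) h3320 m2_3320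
  have h3322 : ∀ u < 142846, (fun u => chkFix tab mwordsA u) u = true := ext_range (a := 142803) (len := 43) h3321 m2_3321
  have h3323 : ∀ u < 142889, (fun u => chkFix tab mwordsA u) u = true := ext_range (a := 142846) (len := 43) h3322 m2_3322
  have h3324 : ∀ u < 142932, (fun u => chkFix tab mwordsA u) u = true := ext_range (a := 142889) (len := 43) h3323 m2_3323
  have h3325 : ∀ u < 142975, (fun u => chkFix tab mwordsA u) u = true := ext_range (a := 142932) (len := 43) h3324 m2_3324
  have h3326 : ∀ u < 143018, (fun u => chkFix tab mwordsA u) u = true := ext_range (a := 142975) (len := 43) h3325 m2_3325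
  have h3327 : ∀ u < 143061, (fun u => chkFix tab mwordsA u) u = true := ext_range (a := 143018) (len := 43) h3326 m2_3326
  have h3328 : ∀ u < 143104, (fun u => chkFix tab mwordsA u) u = true := ext_range (a := 143061) (len := 43) h3327 m2_3327
  have h3329 : ∀ u < 143147, (fun u => chkFix tab mwordsA u) u = true := ext_range (a := 143104) (len := 43) h3328 m2_3328
  have h3330 : ∀ u < 143190, (fun u => chkFix tab mwordsA u) u = true := ext_range (a := 143147) (len := 43) h3329 m2_3329
  have h3331 : ∀ u < 143233, (fun u => chkFix tab mwordsA u) u = true := ext_range (a := 143190) (len := 43) h3330 m2_3330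
  have h3332 : ∀ u < 143276, (fun u => chkFix tab mwordsA u) u = true := ext_range (a := 143233) (len := 43) h3331 m2_3331
  have h3333 : ∀ u < 143319, (fun u => chkFix tab mwordsA u) u = true := ext_range (a := 143276) (len := 43) h3332 m2_3332
  have h3334 : ∀ u < 143362, (fun u => chkFix tab mwordsA u) u = true := ext_range (a := 143319) (len := 43) h3333 m2_3333
  have h3335 : ∀ u < 143405, (fun u => chkFix tab mwordsA u) u = true := ext_range (a := 143362) (len := 43) h3334 m2_3334
  have h3336 : ∀ u < 143448, (fun u => chkFix tab mwordsA u) u = true := ext_range (a := 143405) (len := 43) h3335 m2_3335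
  have h3337 : ∀ u < 143491, (fun u => chkFix tab mwordsA u) u = true := ext_range (a := 143448) (len := 43) h3336 m2_3336
  have h3338 : ∀ u < 143534, (fun u => chkFix tab mwordsA u) u = true := ext_range (a := 143491) (len := 43) h3337 m2_3337
  have h3339 : ∀ u < 143577, (fun u => chkFix tab mwordsA u) u = true := ext_range (a := 143534) (len := 43) h3338 m2_3338
  have h3340 : ∀ u < 143620, (fun u => chkFix tab mwordsA u) u = true := ext_range (a := 143577) (len := 43) h3339 m2_3339
  have h3341 : ∀ u < 143663, (fun u => chkFix tab mwordsA u) u = true := ext_range (a := 143620) (len := 43) h3340 m2_3340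
  have h3342 : ∀ u < 143706, (fun u => chkFix tab mwordsA u) u = true := ext_range (a := 143663) (len := 43) h3341 m2_3341
  have h3343 : ∀ u < 143749, (fun u => chkFix tab mwordsA u) u = true := ext_range (a := 143706) (len := 43) h3342 m2_3342
  have h3344 : ∀ u < 143792, (fun u => chkFix tab mwordsA u) u = true := ext_range (a := 143749) (len := 43) h3343 m2_3343
  have h3345 : ∀ u < 143835, (fun u => chkFix tab mwordsA u) u = true := ext_range (a := 143792) (len := 43) h3344 m2_3344
  have h3346 : ∀ u < 143878, (fun u => chkFix tab mwordsA u) u = true := ext_range (a := 143835) (len := 43) h3345 m2_3345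
  have h3347 : ∀ u < 143921, (fun u => chkFix tab mwordsA u) u = true := ext_range (a := 143878) (len := 43) h3346 m2_3346
  have h3348 : ∀ u < 143964, (fun u => chkFix tab mwordsA u) u = true := ext_range (a := 143921) (len := 43) h3347 m2_3347
  have h3349 : ∀ u < 144007, (fun u => chkFix tab mwordsA u) u = true := ext_range (a := 143964) (len := 43) h3348 m2_3348
  have h3350 : ∀ u < 144050, (fun u => chkFix tab mwordsA u) u = true := ext_range (a := 144007) (len := 43) h3349 m2_3349
  have h3351 : ∀ u < 144093, (fun u => chkFix tab mwordsA u) u = true := ext_range (a := 144050) (len := 43) h3350 m2_3350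
  have h3352 : ∀ u < 144136, (fun u => chkFix tab mwordsA u) u = true := ext_range (a := 144093) (len := 43) h3351 m2_3351
  have h3353 : ∀ u < 144179, (fun u => chkFix tab mwordsA u) u = true := ext_range (a := 144136) (len := 43) h3352 m2_3352
  have h3354 : ∀ u < 144222, (fun u => chkFix tab mwordsA u) u = true := ext_range (a := 144179) (len := 43) h3353 m2_3353
  have h3355 : ∀ u < 144265, (fun u => chkFix tab mwordsA u) u = true := ext_range (a := 144222) (len := 43) h3354 m2_3354
  have h3356 : ∀ u < 144308, (fun u => chkFix tab mwordsA u) u = true := ext_range (a := 144265) (len := 43) h3355 m2_3355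
  have h3357 : ∀ u < 144351, (fun u => chkFix tab mwordsA u) u = true := ext_range (a := 144308) (len := 43) h3356 m2_3356
  have h3358 : ∀ u < 144394, (fun u => chkFix tab mwordsA u) u = true := ext_range (a := 144351) (len := 43) h3357 m2_3357
  have h3359 : ∀ u < 144437, (fun u => chkFix tab mwordsA u) u = true := ext_range (a := 144394) (len := 43) h3358 m2_3358
  have h3360 : ∀ u < 144480, (fun u => chkFix tab mwordsA u) u = true := ext_range (a := 144437) (len := 43) h3359 m2_3359
  have h3361 : ∀ u < 144523, (fun u => chkFix tab mwordsA u) u = true := ext_range (a := 144480) (len := 43) h3360 m2_3360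
  have h3362 : ∀ u < 144566, (fun u => chkFix tab mwordsA u) u = true := ext_range (a := 144523) (len := 43) h3361 m2_3361
  have h3363 : ∀ u < 144609, (fun u => chkFix tab mwordsA u) u = true := ext_range (a := 144566) (len := 43) h3362 m2_3362
  have h3364 : ∀ u < 144652, (fun u => chkFix tab mwordsA u) u = true := ext_range (a := 144609) (len := 43) h3363 m2_3363
  have h3365 : ∀ u < 144695, (fun u => chkFix tab mwordsA u) u = true := ext_range (a := 144652) (len := 43) h3364 m2_3364
  have h3366 : ∀ u < 144738, (fun u => chkFix tab mwordsA u) u = true := ext_range (a := 144695) (len := 43) h3365 m2_3365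
  have h3367 : ∀ u < 144781, (fun u => chkFix tab mwordsA u) u = true := ext_range (a := 144738) (len := 43) h3366 m2_3366
  have h3368 : ∀ u < 144824, (fun u => chkFix tab mwordsA u) u = true := ext_range (a := 144781) (len := 43) h3367 m2_3367
  have h3369 : ∀ u < 144867, (fun u => chkFix tab mwordsA u) u = true := ext_range (a := 144824) (len := 43) h3368 m2_3368
  have h3370 : ∀ u < 144910, (fun u => chkFix tab mwordsA u) u = true := ext_range (a := 144867) (len := 43) h3369 m2_3369
  have h3371 : ∀ u < 144953, (fun u => chkFix tab mwordsA u) u = true := ext_range (a := 144910) (len := 43) h3370 m2_3370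
  have h3372 : ∀ u < 144996, (fun u => chkFix tab mwordsA u) u = true := ext_range (a := 144953) (len := 43) h3371 m2_3371
  have h3373 : ∀ u < 145039, (fun u => chkFix tab mwordsA u) u = true := ext_range (a := 144996) (len := 43) h3372 m2_3372
  have h3374 : ∀ u < 145082, (fun u => chkFix tab mwordsA u) u = true := ext_range (a := 145039) (len := 43) h3373 m2_3373
  have h3375 : ∀ u < 145125, (fun u => chkFix tab mwordsA u) u = true := ext_range (a := 145082) (len := 43) h3374 m2_3374
  have h3376 : ∀ u < 145168, (fun u => chkFix tab mwordsA u) u = true := ext_range (a := 145125) (len := 43) h3375 m2_3375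
  have h3377 : ∀ u < 145211, (fun u => chkFix tab mwordsA u) u = true := ext_range (a := 145168) (len := 43) h3376 m2_3376
  have h3378 : ∀ u < 145254, (fun u => chkFix tab mwordsA u) u = true := ext_range (a := 145211) (len := 43) h3377 m2_3377
  have h3379 : ∀ u < 145297, (fun u => chkFix tab mwordsA u) u = true := ext_range (a := 145254) (len := 43) h3378 m2_3378
  have h3380 : ∀ u < 145340, (fun u => chkFix tab mwordsA u) u = true := ext_range (a := 145297) (len := 43) h3379 m2_3379
  have h3381 : ∀ u < 145383, (fun u => chkFix tab mwordsA u) u = true := ext_range (a := 145340) (len := 43) h3380 m2_3380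
  have h3382 : ∀ u < 145426, (fun u => chkFix tab mwordsA u) u = true := ext_range (a := 145383) (len := 43) h3381 m2_3381
  have h3383 : ∀ u < 145469, (fun u => chkFix tab mwordsA u) u = true := ext_range (a := 145426) (len := 43) h3382 m2_3382
  have h3384 : ∀ u < 145512, (fun u => chkFix tab mwordsA u) u = true := ext_range (a := 145469) (len := 43) h3383 m2_3383
  have h3385 : ∀ u < 145555, (fun u => chkFix tab mwordsA u) u = true := ext_range (a := 145512) (len := 43) h3384 m2_3384
  have h3386 : ∀ u < 145598, (fun u => chkFix tab mwordsA u) u = true := ext_range (a := 145555) (len := 43) h3385 m2_3385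
  have h3387 : ∀ u < 145641, (fun u => chkFix tab mwordsA u) u = true := ext_range (a := 145598) (len := 43) h3386 m2_3386
  have h3388 : ∀ u < 145684, (fun u => chkFix tab mwordsA u) u = true := ext_range (a := 145641) (len := 43) h3387 m2_3387
  have h3389 : ∀ u < 145727, (fun u => chkFix tab mwordsA u) u = true := ext_range (a := 145684) (len := 43) h3388 m2_3388
  have h3390 : ∀ u < 145770, (fun u => chkFix tab mwordsA u) u = true := ext_range (a := 145727) (len := 43) h3389 m2_3389
  have h3391 : ∀ u < 145813, (fun u => chkFix tab mwordsA u) u = true := ext_range (a := 145770) (len := 43) h3390 m2_3390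
  have h3392 : ∀ u < 145856, (fun u => chkFix tab mwordsA u) u = true := ext_range (a := 145813) (len := 43) h3391 m2_3391
  have h3393 : ∀ u < 145899, (fun u => chkFix tab mwordsA u) u = true := ext_range (a := 145856) (len := 43) h3392 m2_3392
  have h3394 : ∀ u < 145942, (fun u => chkFix tab mwordsA u) u = true := ext_range (a := 145899) (len := 43) h3393 m2_3393
  have h3395 : ∀ u < 145985, (fun u => chkFix tab mwordsA u) u = true := ext_range (a := 145942) (len := 43) h3394 m2_3394
  have h3396 : ∀ u < 146028, (fun u => chkFix tab mwordsA u) u = true := ext_range (a := 145985) (len := 43) h3395 m2_3395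
  have h3397 : ∀ u < 146071, (fun u => chkFix tab mwordsA u) u = true := ext_range (a := 146028) (len := 43) h3396 m2_3396
  have h3398 : ∀ u < 146114, (fun u => chkFix tab mwordsA u) u = true := ext_range (a := 146071) (len := 43) h3397 m2_3397
  have h3399 : ∀ u < 146157, (fun u => chkFix tab mwordsA u) u = true := ext_range (a := 146114) (len := 43) h3398 m2_3398
  have h3400 : ∀ u < 146200, (fun u => chkFix tab mwordsA u) u = true := ext_range (a := 146157) (len := 43) h3399 m2_3399
  have h3401 : ∀ u < 146243, (fun u => chkFix tab mwordsA u) u = true := ext_range (a := 146200) (len := 43) h3400 m2_3400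
  have h3402 : ∀ u < 146286, (fun u => chkFix tab mwordsA u) u = true := ext_range (a := 146243) (len := 43) h3401 m2_3401
  have h3403 : ∀ u < 146329, (fun u => chkFix tab mwordsA u) u = true := ext_range (a := 146286) (len := 43) h3402 m2_3402
  have h3404 : ∀ u < 146372, (fun u => chkFix tab mwordsA u) u = true := ext_range (a := 146329) (len := 43) h3403 m2_3403
  have h3405 : ∀ u < 146415, (fun u => chkFix tab mwordsA u) u = true := ext_range (a := 146372) (len := 43) h3404 m2_3404
  have h3406 : ∀ u < 146458, (fun u => chkFix tab mwordsA u) u = true := ext_range (a := 146415) (len := 43) h3405 m2_3405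
  have h3407 : ∀ u < 146501, (fun u => chkFix tab mwordsA u) u = true := ext_range (a := 146458) (len := 43) h3406 m2_3406
  have h3408 : ∀ u < 146544, (fun u => chkFix tab mwordsA u) u = true := ext_range (a := 146501) (len := 43) h3407 m2_3407
  have h3409 : ∀ u < 146587, (fun u => chkFix tab mwordsA u) u = true := ext_range (a := 146544) (len := 43) h3408 m2_3408
  have h3410 : ∀ u < 146630, (fun u => chkFix tab mwordsA u) u = true := ext_range (a := 146587) (len := 43) h3409 m2_3409
  have h3411 : ∀ u < 146673, (fun u => chkFix tab mwordsA u) u = true := ext_range (a := 146630) (len := 43) h3410 m2_3410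
  have h3412 : ∀ u < 146716, (fun u => chkFix tab mwordsA u) u = true := ext_range (a := 146673) (len := 43) h3411 m2_3411
  have h3413 : ∀ u < 146759, (fun u => chkFix tab mwordsA u) u = true := ext_range (a := 146716) (len := 43) h3412 m2_3412
  have h3414 : ∀ u < 146802, (fun u => chkFix tab mwordsA u) u = true := ext_range (a := 146759) (len := 43) h3413 m2_3413
  have h3415 : ∀ u < 146845, (fun u => chkFix tab mwordsA u) u = true := ext_range (a := 146802) (len := 43) h3414 m2_3414
  have h3416 : ∀ u < 146888, (fun u => chkFix tab mwordsA u) u = true := ext_range (a := 146845) (len := 43) h3415 m2_3415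
  have h3417 : ∀ u < 146931, (fun u => chkFix tab mwordsA u) u = true := ext_range (a := 146888) (len := 43) h3416 m2_3416
  have h3418 : ∀ u < 146974, (fun u => chkFix tab mwordsA u) u = true := ext_range (a := 146931) (len := 43) h3417 m2_3417
  have h3419 : ∀ u < 147017, (fun u => chkFix tab mwordsA u) u = true := ext_range (a := 146974) (len := 43) h3418 m2_3418
  have h3420 : ∀ u < 147060, (fun u => chkFix tab mwordsA u) u = true := ext_range (a := 147017) (len := 43) h3419 m2_3419
  have h3421 : ∀ u < 147103, (fun u => chkFix tab mwordsA u) u = true := ext_range (a := 147060) (len := 43) h3420 m2_3420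
  have h3422 : ∀ u < 147146, (fun u => chkFix tab mwordsA u) u = true := ext_range (a := 147103) (len := 43) h3421 m2_3421
  have h3423 : ∀ u < 147189, (fun u => chkFix tab mwordsA u) u = true := ext_range (a := 147146) (len := 43) h3422 m2_3422
  have h3424 : ∀ u < 147232, (fun u => chkFix tab mwordsA u) u = true := ext_range (a := 147189) (len := 43) h3423 m2_3423
  have h3425 : ∀ u < 147275, (fun u => chkFix tab mwordsA u) u = true := ext_range (a := 147232) (len := 43) h3424 m2_3424
  have h3426 : ∀ u < 147318, (fun u => chkFix tab mwordsA u) u = true := ext_range (a := 147275) (len := 43) h3425 m2_3425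
  have h3427 : ∀ u < 147361, (fun u => chkFix tab mwordsA u) u = true := ext_range (a := 147318) (len := 43) h3426 m2_3426
  have h3428 : ∀ u < 147404, (fun u => chkFix tab mwordsA u) u = true := ext_range (a := 147361) (len := 43) h3427 m2_3427
  have h3429 : ∀ u < 147447, (fun u => chkFix tab mwordsA u) u = true := ext_range (a := 147404) (len := 43) h3428 m2_3428
  have h3430 : ∀ u < 147490, (fun u => chkFix tab mwordsA u) u = true := ext_range (a := 147447) (len := 43) h3429 m2_3429
  have h3431 : ∀ u < 147533, (fun u => chkFix tab mwordsA u) u = true := ext_range (a := 147490) (len := 43) h3430 m2_3430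
  have h3432 : ∀ u < 147576, (fun u => chkFix tab mwordsA u) u = true := ext_range (a := 147533) (len := 43) h3431 m2_3431
  have h3433 : ∀ u < 147619, (fun u => chkFix tab mwordsA u) u = true := ext_range (a := 147576) (len := 43) h3432 m2_3432
  have h3434 : ∀ u < 147662, (fun u => chkFix tab mwordsA u) u = true := ext_range (a := 147619) (len := 43) h3433 m2_3433
  have h3435 : ∀ u < 147705, (fun u => chkFix tab mwordsA u) u = true := ext_range (a := 147662) (len := 43) h3434 m2_3434
  have h3436 : ∀ u < 147748, (fun u => chkFix tab mwordsA u) u = true := ext_range (a := 147705) (len := 43) h3435 m2_3435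
  have h3437 : ∀ u < 147791, (fun u => chkFix tab mwordsA u) u = true := ext_range (a := 147748) (len := 43) h3436 m2_3436
  have h3438 : ∀ u < 147834, (fun u => chkFix tab mwordsA u) u = true := ext_range (a := 147791) (len := 43) h3437 m2_3437
  have h3439 : ∀ u < 147877, (fun u => chkFix tab mwordsA u) u = true := ext_range (a := 147834) (len := 43) h3438 m2_3438
  have h3440 : ∀ u < 147920, (fun u => chkFix tab mwordsA u) u = true := ext_range (a := 147877) (len := 43) h3439 m2_3439
  have h3441 : ∀ u < 147963, (fun u => chkFix tab mwordsA u) u = true := ext_range (a := 147920) (len := 43) h3440 m2_3440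
  have h3442 : ∀ u < 148006, (fun u => chkFix tab mwordsA u) u = true := ext_range (a := 147963) (len := 43) h3441 m2_3441
  have h3443 : ∀ u < 148049, (fun u => chkFix tab mwordsA u) u = true := ext_range (a := 148006) (len := 43) h3442 m2_3442
  have h3444 : ∀ u < 148092, (fun u => chkFix tab mwordsA u) u = true := ext_range (a := 148049) (len := 43) h3443 m2_3443
  have h3445 : ∀ u < 148135, (fun u => chkFix tab mwordsA u) u = true := ext_range (a := 148092) (len := 43) h3444 m2_3444
  have h3446 : ∀ u < 148178, (fun u => chkFix tab mwordsA u) u = true := ext_range (a := 148135) (len := 43) h3445 m2_3445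
  have h3447 : ∀ u < 148221, (fun u => chkFix tab mwordsA u) u = true := ext_range (a := 148178) (len := 43) h3446 m2_3446
  have h3448 : ∀ u < 148264, (fun u => chkFix tab mwordsA u) u = true := ext_range (a := 148221) (len := 43) h3447 m2_3447
  have h3449 : ∀ u < 148307, (fun u => chkFix tab mwordsA u) u = true := ext_range (a := 148264) (len := 43) h3448 m2_3448
  have h3450 : ∀ u < 148350, (fun u => chkFix tab mwordsA u) u = true := ext_range (a := 148307) (len := 43) h3449 m2_3449
  have h3451 : ∀ u < 148393, (fun u => chkFix tab mwordsA u) u = true := ext_range (a := 148350) (len := 43) h3450 m2_3450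
  have h3452 : ∀ u < 148436, (fun u => chkFix tab mwordsA u) u = true := ext_range (a := 148393) (len := 43) h3451 m2_3451
  have h3453 : ∀ u < 148479, (fun u => chkFix tab mwordsA u) u = true := ext_range (a := 148436) (len := 43) h3452 m2_3452
  have h3454 : ∀ u < 148522, (fun u => chkFix tab mwordsA u) u = true := ext_range (a := 148479) (len := 43) h3453 m2_3453
  have h3455 : ∀ u < 148565, (fun u => chkFix tab mwordsA u) u = true := ext_range (a := 148522) (len := 43) h3454 m2_3454
  have h3456 : ∀ u < 148608, (fun u => chkFix tab mwordsA u) u = true := ext_range (a := 148565) (len := 43) h3455 m2_3455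
  have h3457 : ∀ u < 148651, (fun u => chkFix tab mwordsA u) u = true := ext_range (a := 148608) (len := 43) h3456 m2_3456
  have h3458 : ∀ u < 148694, (fun u => chkFix tab mwordsA u) u = true := ext_range (a := 148651) (len := 43) h3457 m2_3457
  have h3459 : ∀ u < 148737, (fun u => chkFix tab mwordsA u) u = true := ext_range (a := 148694) (len := 43) h3458 m2_3458
  have h3460 : ∀ u < 148780, (fun u => chkFix tab mwordsA u) u = true := ext_range (a := 148737) (len := 43) h3459 m2_3459
  have h3461 : ∀ u < 148823, (fun u => chkFix tab mwordsA u) u = true := ext_range (a := 148780) (len := 43) h3460 m2_3460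
  have h3462 : ∀ u < 148866, (fun u => chkFix tab mwordsA u) u = true := ext_range (a := 148823) (len := 43) h3461 m2_3461
  have h3463 : ∀ u < 148909, (fun u => chkFix tab mwordsA u) u = true := ext_range (a := 148866) (len := 43) h3462 m2_3462
  have h3464 : ∀ u < 148952, (fun u => chkFix tab mwordsA u) u = true := ext_range (a := 148909) (len := 43) h3463 m2_3463
  have h3465 : ∀ u < 148995, (fun u => chkFix tab mwordsA u) u = true := ext_range (a := 148952) (len := 43) h3464 m2_3464
  have h3466 : ∀ u < 149038, (fun u => chkFix tab mwordsA u) u = true := ext_range (a := 148995) (len := 43) h3465 m2_3465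
  have h3467 : ∀ u < 149081, (fun u => chkFix tab mwordsA u) u = true := ext_range (a := 149038) (len := 43) h3466 m2_3466
  have h3468 : ∀ u < 149124, (fun u => chkFix tab mwordsA u) u = true := ext_range (a := 149081) (len := 43) h3467 m2_3467
  have h3469 : ∀ u < 149167, (fun u => chkFix tab mwordsA u) u = true := ext_range (a := 149124) (len := 43) h3468 m2_3468
  have h3470 : ∀ u < 149210, (fun u => chkFix tab mwordsA u) u = true := ext_range (a := 149167) (len := 43) h3469 m2_3469
  have h3471 : ∀ u < 149253, (fun u => chkFix tab mwordsA u) u = true := ext_range (a := 149210) (len := 43) h3470 m2_3470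
  have h3472 : ∀ u < 149296, (fun u => chkFix tab mwordsA u) u = true := ext_range (a := 149253) (len := 43) h3471 m2_3471
  have h3473 : ∀ u < 149339, (fun u => chkFix tab mwordsA u) u = true := ext_range (a := 149296) (len := 43) h3472 m2_3472
  have h3474 : ∀ u < 149382, (fun u => chkFix tab mwordsA u) u = true := ext_range (a := 149339) (len := 43) h3473 m2_3473
  have h3475 : ∀ u < 149425, (fun u => chkFix tab mwordsA u) u = true := ext_range (a := 149382) (len := 43) h3474 m2_3474
  have h3476 : ∀ u < 149468, (fun u => chkFix tab mwordsA u) u = true := ext_range (a := 149425) (len := 43) h3475 m2_3475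
  have h3477 : ∀ u < 149511, (fun u => chkFix tab mwordsA u) u = true := ext_range (a := 149468) (len := 43) h3476 m2_3476
  have h3478 : ∀ u < 149554, (fun u => chkFix tab mwordsA u) u = true := ext_range (a := 149511) (len := 43) h3477 m2_3477
  have h3479 : ∀ u < 149597, (fun u => chkFix tab mwordsA u) u = true := ext_range (a := 149554) (len := 43) h3478 m2_3478
  have h3480 : ∀ u < 149640, (fun u => chkFix tab mwordsA u) u = true := ext_range (a := 149597) (len := 43) h3479 m2_3479
  have h3481 : ∀ u < 149683, (fun u => chkFix tab mwordsA u) u = true := ext_range (a := 149640) (len := 43) h3480 m2_3480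
  have h3482 : ∀ u < 149726, (fun u => chkFix tab mwordsA u) u = true := ext_range (a := 149683) (len := 43) h3481 m2_3481
  have h3483 : ∀ u < 149769, (fun u => chkFix tab mwordsA u) u = true := ext_range (a := 149726) (len := 43) h3482 m2_3482
  have h3484 : ∀ u < 149812, (fun u => chkFix tab mwordsA u) u = true := ext_range (a := 149769) (len := 43) h3483 m2_3483
  have h3485 : ∀ u < 149855, (fun u => chkFix tab mwordsA u) u = true := ext_range (a := 149812) (len := 43) h3484 m2_3484
  have h3486 : ∀ u < 149898, (fun u => chkFix tab mwordsA u) u = true := ext_range (a := 149855) (len := 43) h3485 m2_3485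
  have h3487 : ∀ u < 149941, (fun u => chkFix tab mwordsA u) u = true := ext_range (a := 149898) (len := 43) h3486 m2_3486
  have h3488 : ∀ u < 149984, (fun u => chkFix tab mwordsA u) u = true := ext_range (a := 149941) (len := 43) h3487 m2_3487
  have h3489 : ∀ u < 150027, (fun u => chkFix tab mwordsA u) u = true := ext_range (a := 149984) (len := 43) h3488 m2_3488
  have h3490 : ∀ u < 150070, (fun u => chkFix tab mwordsA u) u = true := ext_range (a := 150027) (len := 43) h3489 m2_3489
  have h3491 : ∀ u < 150113, (fun u => chkFix tab mwordsA u) u = true := ext_range (a := 150070) (len := 43) h3490 m2_3490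
  have h3492 : ∀ u < 150156, (fun u => chkFix tab mwordsA u) u = true := ext_range (a := 150113) (len := 43) h3491 m2_3491
  have h3493 : ∀ u < 150199, (fun u => chkFix tab mwordsA u) u = true := ext_range (a := 150156) (len := 43) h3492 m2_3492
  have h3494 : ∀ u < 150242, (fun u => chkFix tab mwordsA u) u = true := ext_range (a := 150199) (len := 43) h3493 m2_3493
  have h3495 : ∀ u < 150285, (fun u => chkFix tab mwordsA u) u = true := ext_range (a := 150242) (len := 43) h3494 m2_3494
  have h3496 : ∀ u < 150328, (fun u => chkFix tab mwordsA u) u = true := ext_range (a := 150285) (len := 43) h3495 m2_3495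
  have h3497 : ∀ u < 150371, (fun u => chkFix tab mwordsA u) u = true := ext_range (a := 150328) (len := 43) h3496 m2_3496
  have h3498 : ∀ u < 150414, (fun u => chkFix tab mwordsA u) u = true := ext_range (a := 150371) (len := 43) h3497 m2_3497
  have h3499 : ∀ u < 150457, (fun u => chkFix tab mwordsA u) u = true := ext_range (a := 150414) (len := 43) h3498 m2_3498
  have h3500 : ∀ u < 150500, (fun u => chkFix tab mwordsA u) u = true := ext_range (a := 150457) (len := 43) h3499 m2_3499
  have h3501 : ∀ u < 150543, (fun u => chkFix tab mwordsA u) u = true := ext_range (a := 150500) (len := 43) h3500 m2_3500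
  have h3502 : ∀ u < 150586, (fun u => chkFix tab mwordsA u) u = true := ext_range (a := 150543) (len := 43) h3501 m2_3501
  have h3503 : ∀ u < 150629, (fun u => chkFix tab mwordsA u) u = true := ext_range (a := 150586) (len := 43) h3502 m2_3502
  have h3504 : ∀ u < 150672, (fun u => chkFix tab mwordsA u) u = true := ext_range (a := 150629) (len := 43) h3503 m2_3503
  have h3505 : ∀ u < 150715, (fun u => chkFix tab mwordsA u) u = true := ext_range (a := 150672) (len := 43) h3504 m2_3504
  have h3506 : ∀ u < 150758, (fun u => chkFix tab mwordsA u) u = true := ext_range (a := 150715) (len := 43) h3505 m2_3505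
  have h3507 : ∀ u < 150801, (fun u => chkFix tab mwordsA u) u = true := ext_range (a := 150758) (len := 43) h3506 m2_3506
  have h3508 : ∀ u < 150844, (fun u => chkFix tab mwordsA u) u = true := ext_range (a := 150801) (len := 43) h3507 m2_3507
  have h3509 : ∀ u < 150887, (fun u => chkFix tab mwordsA u) u = true := ext_range (a := 150844) (len := 43) h3508 m2_3508
  have h3510 : ∀ u < 150930, (fun u => chkFix tab mwordsA u) u = true := ext_range (a := 150887) (len := 43) h3509 m2_3509
  have h3511 : ∀ u < 150973, (fun u => chkFix tab mwordsA u) u = true := ext_range (a := 150930) (len := 43) h3510 m2_3510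
  have h3512 : ∀ u < 151016, (fun u => chkFix tab mwordsA u) u = true := ext_range (a := 150973) (len := 43) h3511 m2_3511
  have h3513 : ∀ u < 151059, (fun u => chkFix tab mwordsA u) u = true := ext_range (a := 151016) (len := 43) h3512 m2_3512
  have h3514 : ∀ u < 151102, (fun u => chkFix tab mwordsA u) u = true := ext_range (a := 151059) (len := 43) h3513 m2_3513
  have h3515 : ∀ u < 151145, (fun u => chkFix tab mwordsA u) u = true := ext_range (a := 151102) (len := 43) h3514 m2_3514
  have h3516 : ∀ u < 151188, (fun u => chkFix tab mwordsA u) u = true := ext_range (a := 151145) (len := 43) h3515 m2_3515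
  have h3517 : ∀ u < 151231, (fun u => chkFix tab mwordsA u) u = true := ext_range (a := 151188) (len := 43) h3516 m2_3516
  have h3518 : ∀ u < 151274, (fun u => chkFix tab mwordsA u) u = true := ext_range (a := 151231) (len := 43) h3517 m2_3517
  have h3519 : ∀ u < 151317, (fun u => chkFix tab mwordsA u) u = true := ext_range (a := 151274) (len := 43) h3518 m2_3518
  have h3520 : ∀ u < 151360, (fun u => chkFix tab mwordsA u) u = true := ext_range (a := 151317) (len := 43) h3519 m2_3519
  have h3521 : ∀ u < 151403, (fun u => chkFix tab mwordsA u) u = true := ext_range (a := 151360) (len := 43) h3520 m2_3520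
  have h3522 : ∀ u < 151446, (fun u => chkFix tab mwordsA u) u = true := ext_range (a := 151403) (len := 43) h3521 m2_3521
  have h3523 : ∀ u < 151489, (fun u => chkFix tab mwordsA u) u = true := ext_range (a := 151446) (len := 43) h3522 m2_3522
  have h3524 : ∀ u < 151532, (fun u => chkFix tab mwordsA u) u = true := ext_range (a := 151489) (len := 43) h3523 m2_3523
  have h3525 : ∀ u < 151575, (fun u => chkFix tab mwordsA u) u = true := ext_range (a := 151532) (len := 43) h3524 m2_3524
  have h3526 : ∀ u < 151618, (fun u => chkFix tab mwordsA u) u = true := ext_range (a := 151575) (len := 43) h3525 m2_3525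
  have h3527 : ∀ u < 151661, (fun u => chkFix tab mwordsA u) u = true := ext_range (a := 151618) (len := 43) h3526 m2_3526
  have h3528 : ∀ u < 151704, (fun u => chkFix tab mwordsA u) u = true := ext_range (a := 151661) (len := 43) h3527 m2_3527
  have h3529 : ∀ u < 151747, (fun u => chkFix tab mwordsA u) u = true := ext_range (a := 151704) (len := 43) h3528 m2_3528
  have h3530 : ∀ u < 151790, (fun u => chkFix tab mwordsA u) u = true := ext_range (a := 151747) (len := 43) h3529 m2_3529
  have h3531 : ∀ u < 151833, (fun u => chkFix tab mwordsA u) u = true := ext_range (a := 151790) (len := 43) h3530 m2_3530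
  have h3532 : ∀ u < 151876, (fun u => chkFix tab mwordsA u) u = true := ext_range (a := 151833) (len := 43) h3531 m2_3531
  have h3533 : ∀ u < 151919, (fun u => chkFix tab mwordsA u) u = true := ext_range (a := 151876) (len := 43) h3532 m2_3532
  have h3534 : ∀ u < 151962, (fun u => chkFix tab mwordsA u) u = true := ext_range (a := 151919) (len := 43) h3533 m2_3533
  have h3535 : ∀ u < 152005, (fun u => chkFix tab mwordsA u) u = true := ext_range (a := 151962) (len := 43) h3534 m2_3534
  have h3536 : ∀ u < 152048, (fun u => chkFix tab mwordsA u) u = true := ext_range (a := 152005) (len := 43) h3535 m2_3535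
  have h3537 : ∀ u < 152091, (fun u => chkFix tab mwordsA u) u = true := ext_range (a := 152048) (len := 43) h3536 m2_3536
  have h3538 : ∀ u < 152134, (fun u => chkFix tab mwordsA u) u = true := ext_range (a := 152091) (len := 43) h3537 m2_3537
  have h3539 : ∀ u < 152177, (fun u => chkFix tab mwordsA u) u = true := ext_range (a := 152134) (len := 43) h3538 m2_3538
  have h3540 : ∀ u < 152220, (fun u => chkFix tab mwordsA u) u = true := ext_range (a := 152177) (len := 43) h3539 m2_3539
  have h3541 : ∀ u < 152263, (fun u => chkFix tab mwordsA u) u = true := ext_range (a := 152220) (len := 43) h3540 m2_3540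
  have h3542 : ∀ u < 152306, (fun u => chkFix tab mwordsA u) u = true := ext_range (a := 152263) (len := 43) h3541 m2_3541
  have h3543 : ∀ u < 152349, (fun u => chkFix tab mwordsA u) u = true := ext_range (a := 152306) (len := 43) h3542 m2_3542
  have h3544 : ∀ u < 152392, (fun u => chkFix tab mwordsA u) u = true := ext_range (a := 152349) (len := 43) h3543 m2_3543
  have h3545 : ∀ u < 152435, (fun u => chkFix tab mwordsA u) u = true := ext_range (a := 152392) (len := 43) h3544 m2_3544
  have h3546 : ∀ u < 152478, (fun u => chkFix tab mwordsA u) u = true := ext_range (a := 152435) (len := 43) h3545 m2_3545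
  have h3547 : ∀ u < 152521, (fun u => chkFix tab mwordsA u) u = true := ext_range (a := 152478) (len := 43) h3546 m2_3546
  have h3548 : ∀ u < 152564, (fun u => chkFix tab mwordsA u) u = true := ext_range (a := 152521) (len := 43) h3547 m2_3547
  have h3549 : ∀ u < 152607, (fun u => chkFix tab mwordsA u) u = true := ext_range (a := 152564) (len := 43) h3548 m2_3548
  have h3550 : ∀ u < 152650, (fun u => chkFix tab mwordsA u) u = true := ext_range (a := 152607) (len := 43) h3549 m2_3549
  have h3551 : ∀ u < 152693, (fun u => chkFix tab mwordsA u) u = true := ext_range (a := 152650) (len := 43) h3550 m2_3550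
  have h3552 : ∀ u < 152736, (fun u => chkFix tab mwordsA u) u = true := ext_range (a := 152693) (len := 43) h3551 m2_3551
  have h3553 : ∀ u < 152779, (fun u => chkFix tab mwordsA u) u = true := ext_range (a := 152736) (len := 43) h3552 m2_3552
  have h3554 : ∀ u < 152822, (fun u => chkFix tab mwordsA u) u = true := ext_range (a := 152779) (len := 43) h3553 m2_3553
  have h3555 : ∀ u < 152865, (fun u => chkFix tab mwordsA u) u = true := ext_range (a := 152822) (len := 43) h3554 m2_3554
  have h3556 : ∀ u < 152908, (fun u => chkFix tab mwordsA u) u = true := ext_range (a := 152865) (len := 43) h3555 m2_3555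
  have h3557 : ∀ u < 152951, (fun u => chkFix tab mwordsA u) u = true := ext_range (a := 152908) (len := 43) h3556 m2_3556
  have h3558 : ∀ u < 152994, (fun u => chkFix tab mwordsA u) u = true := ext_range (a := 152951) (len := 43) h3557 m2_3557
  have h3559 : ∀ u < 153037, (fun u => chkFix tab mwordsA u) u = true := ext_range (a := 152994) (len := 43) h3558 m2_3558
  have h3560 : ∀ u < 153080, (fun u => chkFix tab mwordsA u) u = true := ext_range (a := 153037) (len := 43) h3559 m2_3559
  have h3561 : ∀ u < 153123, (fun u => chkFix tab mwordsA u) u = true := ext_range (a := 153080) (len := 43) h3560 m2_3560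
  have h3562 : ∀ u < 153166, (fun u => chkFix tab mwordsA u) u = true := ext_range (a := 153123) (len := 43) h3561 m2_3561
  have h3563 : ∀ u < 153209, (fun u => chkFix tab mwordsA u) u = true := ext_range (a := 153166) (len := 43) h3562 m2_3562
  have h3564 : ∀ u < 153252, (fun u => chkFix tab mwordsA u) u = true := ext_range (a := 153209) (len := 43) h3563 m2_3563
  have h3565 : ∀ u < 153295, (fun u => chkFix tab mwordsA u) u = true := ext_range (a := 153252) (len := 43) h3564 m2_3564
  have h3566 : ∀ u < 153338, (fun u => chkFix tab mwordsA u) u = true := ext_range (a := 153295) (len := 43) h3565 m2_3565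
  have h3567 : ∀ u < 153381, (fun u => chkFix tab mwordsA u) u = true := ext_range (a := 153338) (len := 43) h3566 m2_3566
  have h3568 : ∀ u < 153424, (fun u => chkFix tab mwordsA u) u = true := ext_range (a := 153381) (len := 43) h3567 m2_3567
  have h3569 : ∀ u < 153467, (fun u => chkFix tab mwordsA u) u = true := ext_range (a := 153424) (len := 43) h3568 m2_3568
  have h3570 : ∀ u < 153510, (fun u => chkFix tab mwordsA u) u = true := ext_range (a := 153467) (len := 43) h3569 m2_3569
  have h3571 : ∀ u < 153553, (fun u => chkFix tab mwordsA u) u = true := ext_range (a := 153510) (len := 43) h3570 m2_3570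
  have h3572 : ∀ u < 153596, (fun u => chkFix tab mwordsA u) u = true := ext_range (a := 153553) (len := 43) h3571 m2_3571
  have h3573 : ∀ u < 153639, (fun u => chkFix tab mwordsA u) u = true := ext_range (a := 153596) (len := 43) h3572 m2_3572
  have h3574 : ∀ u < 153682, (fun u => chkFix tab mwordsA u) u = true := ext_range (a := 153639) (len := 43) h3573 m2_3573
  have h3575 : ∀ u < 153725, (fun u => chkFix tab mwordsA u) u = true := ext_range (a := 153682) (len := 43) h3574 m2_3574
  have h3576 : ∀ u < 153768, (fun u => chkFix tab mwordsA u) u = true := ext_range (a := 153725) (len := 43) h3575 m2_3575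
  have h3577 : ∀ u < 153811, (fun u => chkFix tab mwordsA u) u = true := ext_range (a := 153768) (len := 43) h3576 m2_3576
  have h3578 : ∀ u < 153854, (fun u => chkFix tab mwordsA u) u = true := ext_range (a := 153811) (len := 43) h3577 m2_3577
  have h3579 : ∀ u < 153897, (fun u => chkFix tab mwordsA u) u = true := ext_range (a := 153854) (len := 43) h3578 m2_3578
  have h3580 : ∀ u < 153940, (fun u => chkFix tab mwordsA u) u = true := ext_range (a := 153897) (len := 43) h3579 m2_3579
  have h3581 : ∀ u < 153983, (fun u => chkFix tab mwordsA u) u = true := ext_range (a := 153940) (len := 43) h3580 m2_3580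
  have h3582 : ∀ u < 154026, (fun u => chkFix tab mwordsA u) u = true := ext_range (a := 153983) (len := 43) h3581 m2_3581
  have h3583 : ∀ u < 154069, (fun u => chkFix tab mwordsA u) u = true := ext_range (a := 154026) (len := 43) h3582 m2_3582
  have h3584 : ∀ u < 154112, (fun u => chkFix tab mwordsA u) u = true := ext_range (a := 154069) (len := 43) h3583 m2_3583
  have h3585 : ∀ u < 154155, (fun u => chkFix tab mwordsA u) u = true := ext_range (a := 154112) (len := 43) h3584 m2_3584
  have h3586 : ∀ u < 154198, (fun u => chkFix tab mwordsA u) u = true := ext_range (a := 154155) (len := 43) h3585 m2_3585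
  have h3587 : ∀ u < 154241, (fun u => chkFix tab mwordsA u) u = true := ext_range (a := 154198) (len := 43) h3586 m2_3586
  have h3588 : ∀ u < 154284, (fun u => chkFix tab mwordsA u) u = true := ext_range (a := 154241) (len := 43) h3587 m2_3587
  have h3589 : ∀ u < 154327, (fun u => chkFix tab mwordsA u) u = true := ext_range (a := 154284) (len := 43) h3588 m2_3588
  have h3590 : ∀ u < 154370, (fun u => chkFix tab mwordsA u) u = true := ext_range (a := 154327) (len := 43) h3589 m2_3589
  have h3591 : ∀ u < 154413, (fun u => chkFix tab mwordsA u) u = true := ext_range (a := 154370) (len := 43) h3590 m2_3590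
  have h3592 : ∀ u < 154456, (fun u => chkFix tab mwordsA u) u = true := ext_range (a := 154413) (len := 43) h3591 m2_3591
  have h3593 : ∀ u < 154499, (fun u => chkFix tab mwordsA u) u = true := ext_range (a := 154456) (len := 43) h3592 m2_3592
  have h3594 : ∀ u < 154542, (fun u => chkFix tab mwordsA u) u = true := ext_range (a := 154499) (len := 43) h3593 m2_3593
  have h3595 : ∀ u < 154585, (fun u => chkFix tab mwordsA u) u = true := ext_range (a := 154542) (len := 43) h3594 m2_3594
  have h3596 : ∀ u < 154628, (fun u => chkFix tab mwordsA u) u = true := ext_range (a := 154585) (len := 43) h3595 m2_3595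
  have h3597 : ∀ u < 154671, (fun u => chkFix tab mwordsA u) u = true := ext_range (a := 154628) (len := 43) h3596 m2_3596
  have h3598 : ∀ u < 154714, (fun u => chkFix tab mwordsA u) u = true := ext_range (a := 154671) (len := 43) h3597 m2_3597
  have h3599 : ∀ u < 154757, (fun u => chkFix tab mwordsA u) u = true := ext_range (a := 154714) (len := 43) h3598 m2_3598
  have h3600 : ∀ u < 154800, (fun u => chkFix tab mwordsA u) u = true := ext_range (a := 154757) (len := 43) h3599 m2_3599
  have h3601 : ∀ u < 154843, (fun u => chkFix tab mwordsA u) u = true := ext_range (a := 154800) (len := 43) h3600 m2_3600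
  have h3602 : ∀ u < 154886, (fun u => chkFix tab mwordsA u) u = true := ext_range (a := 154843) (len := 43) h3601 m2_3601
  have h3603 : ∀ u < 154929, (fun u => chkFix tab mwordsA u) u = true := ext_range (a := 154886) (len := 43) h3602 m2_3602
  have h3604 : ∀ u < 154972, (fun u => chkFix tab mwordsA u) u = true := ext_range (a := 154929) (len := 43) h3603 m2_3603
  have h3605 : ∀ u < 155015, (fun u => chkFix tab mwordsA u) u = true := ext_range (a := 154972) (len := 43) h3604 m2_3604
  have h3606 : ∀ u < 155058, (fun u => chkFix tab mwordsA u) u = true := ext_range (a := 155015) (len := 43) h3605 m2_3605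
  have h3607 : ∀ u < 155101, (fun u => chkFix tab mwordsA u) u = true := ext_range (a := 155058) (len := 43) h3606 m2_3606
  have h3608 : ∀ u < 155144, (fun u => chkFix tab mwordsA u) u = true := ext_range (a := 155101) (len := 43) h3607 m2_3607
  have h3609 : ∀ u < 155187, (fun u => chkFix tab mwordsA u) u = true := ext_range (a := 155144) (len := 43) h3608 m2_3608
  have h3610 : ∀ u < 155230, (fun u => chkFix tab mwordsA u) u = true := ext_range (a := 155187) (len := 43) h3609 m2_3609
  have h3611 : ∀ u < 155273, (fun u => chkFix tab mwordsA u) u = true := ext_range (a := 155230) (len := 43) h3610 m2_3610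
  have h3612 : ∀ u < 155316, (fun u => chkFix tab mwordsA u) u = true := ext_range (a := 155273) (len := 43) h3611 m2_3611
  have h3613 : ∀ u < 155359, (fun u => chkFix tab mwordsA u) u = true := ext_range (a := 155316) (len := 43) h3612 m2_3612
  have h3614 : ∀ u < 155402, (fun u => chkFix tab mwordsA u) u = true := ext_range (a := 155359) (len := 43) h3613 m2_3613
  have h3615 : ∀ u < 155445, (fun u => chkFix tab mwordsA u) u = true := ext_range (a := 155402) (len := 43) h3614 m2_3614
  have h3616 : ∀ u < 155488, (fun u => chkFix tab mwordsA u) u = true := ext_range (a := 155445) (len := 43) h3615 m2_3615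
  have h3617 : ∀ u < 155531, (fun u => chkFix tab mwordsA u) u = true := ext_range (a := 155488) (len := 43) h3616 m2_3616
  have h3618 : ∀ u < 155574, (fun u => chkFix tab mwordsA u) u = true := ext_range (a := 155531) (len := 43) h3617 m2_3617
  have h3619 : ∀ u < 155617, (fun u => chkFix tab mwordsA u) u = true := ext_range (a := 155574) (len := 43) h3618 m2_3618
  have h3620 : ∀ u < 155660, (fun u => chkFix tab mwordsA u) u = true := ext_range (a := 155617) (len := 43) h3619 m2_3619
  have h3621 : ∀ u < 155703, (fun u => chkFix tab mwordsA u) u = true := ext_range (a := 155660) (len := 43) h3620 m2_3620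
  have h3622 : ∀ u < 155746, (fun u => chkFix tab mwordsA u) u = true := ext_range (a := 155703) (len := 43) h3621 m2_3621
  have h3623 : ∀ u < 155789, (fun u => chkFix tab mwordsA u) u = true := ext_range (a := 155746) (len := 43) h3622 m2_3622
  have h3624 : ∀ u < 155832, (fun u => chkFix tab mwordsA u) u = true := ext_range (a := 155789) (len := 43) h3623 m2_3623
  have h3625 : ∀ u < 155875, (fun u => chkFix tab mwordsA u) u = true := ext_range (a := 155832) (len := 43) h3624 m2_3624
  have h3626 : ∀ u < 155918, (fun u => chkFix tab mwordsA u) u = true := ext_range (a := 155875) (len := 43) h3625 m2_3625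
  have h3627 : ∀ u < 155961, (fun u => chkFix tab mwordsA u) u = true := ext_range (a := 155918) (len := 43) h3626 m2_3626
  have h3628 : ∀ u < 156004, (fun u => chkFix tab mwordsA u) u = true := ext_range (a := 155961) (len := 43) h3627 m2_3627
  have h3629 : ∀ u < 156047, (fun u => chkFix tab mwordsA u) u = true := ext_range (a := 156004) (len := 43) h3628 m2_3628
  have h3630 : ∀ u < 156090, (fun u => chkFix tab mwordsA u) u = true := ext_range (a := 156047) (len := 43) h3629 m2_3629
  have h3631 : ∀ u < 156133, (fun u => chkFix tab mwordsA u) u = true := ext_range (a := 156090) (len := 43) h3630 m2_3630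
  have h3632 : ∀ u < 156176, (fun u => chkFix tab mwordsA u) u = true := ext_range (a := 156133) (len := 43) h3631 m2_3631
  have h3633 : ∀ u < 156219, (fun u => chkFix tab mwordsA u) u = true := ext_range (a := 156176) (len := 43) h3632 m2_3632
  have h3634 : ∀ u < 156262, (fun u => chkFix tab mwordsA u) u = true := ext_range (a := 156219) (len := 43) h3633 m2_3633
  have h3635 : ∀ u < 156305, (fun u => chkFix tab mwordsA u) u = true := ext_range (a := 156262) (len := 43) h3634 m2_3634
  have h3636 : ∀ u < 156348, (fun u => chkFix tab mwordsA u) u = true := ext_range (a := 156305) (len := 43) h3635 m2_3635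
  have h3637 : ∀ u < 156391, (fun u => chkFix tab mwordsA u) u = true := ext_range (a := 156348) (len := 43) h3636 m2_3636
  have h3638 : ∀ u < 156434, (fun u => chkFix tab mwordsA u) u = true := ext_range (a := 156391) (len := 43) h3637 m2_3637
  have h3639 : ∀ u < 156477, (fun u => chkFix tab mwordsA u) u = true := ext_range (a := 156434) (len := 43) h3638 m2_3638
  have h3640 : ∀ u < 156520, (fun u => chkFix tab mwordsA u) u = true := ext_range (a := 156477) (len := 43) h3639 m2_3639
  have h3641 : ∀ u < 156563, (fun u => chkFix tab mwordsA u) u = true := ext_range (a := 156520) (len := 43) h3640 m2_3640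
  have h3642 : ∀ u < 156606, (fun u => chkFix tab mwordsA u) u = true := ext_range (a := 156563) (len := 43) h3641 m2_3641
  have h3643 : ∀ u < 156649, (fun u => chkFix tab mwordsA u) u = true := ext_range (a := 156606) (len := 43) h3642 m2_3642
  have h3644 : ∀ u < 156692, (fun u => chkFix tab mwordsA u) u = true := ext_range (a := 156649) (len := 43) h3643 m2_3643
  have h3645 : ∀ u < 156735, (fun u => chkFix tab mwordsA u) u = true := ext_range (a := 156692) (len := 43) h3644 m2_3644
  have h3646 : ∀ u < 156778, (fun u => chkFix tab mwordsA u) u = true := ext_range (a := 156735) (len := 43) h3645 m2_3645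
  have h3647 : ∀ u < 156821, (fun u => chkFix tab mwordsA u) u = true := ext_range (a := 156778) (len := 43) h3646 m2_3646
  have h3648 : ∀ u < 156864, (fun u => chkFix tab mwordsA u) u = true := ext_range (a := 156821) (len := 43) h3647 m2_3647
  have h3649 : ∀ u < 156907, (fun u => chkFix tab mwordsA u) u = true := ext_range (a := 156864) (len := 43) h3648 m2_3648
  have h3650 : ∀ u < 156950, (fun u => chkFix tab mwordsA u) u = true := ext_range (a := 156907) (len := 43) h3649 m2_3649
  have h3651 : ∀ u < 156993, (fun u => chkFix tab mwordsA u) u = true := ext_range (a := 156950) (len := 43) h3650 m2_3650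
  have h3652 : ∀ u < 157036, (fun u => chkFix tab mwordsA u) u = true := ext_range (a := 156993) (len := 43) h3651 m2_3651
  have h3653 : ∀ u < 157079, (fun u => chkFix tab mwordsA u) u = true := ext_range (a := 157036) (len := 43) h3652 m2_3652
  have h3654 : ∀ u < 157122, (fun u => chkFix tab mwordsA u) u = true := ext_range (a := 157079) (len := 43) h3653 m2_3653
  have h3655 : ∀ u < 157165, (fun u => chkFix tab mwordsA u) u = true := ext_range (a := 157122) (len := 43) h3654 m2_3654
  have h3656 : ∀ u < 157208, (fun u => chkFix tab mwordsA u) u = true := ext_range (a := 157165) (len := 43) h3655 m2_3655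
  have h3657 : ∀ u < 157251, (fun u => chkFix tab mwordsA u) u = true := ext_range (a := 157208) (len := 43) h3656 m2_3656
  have h3658 : ∀ u < 157294, (fun u => chkFix tab mwordsA u) u = true := ext_range (a := 157251) (len := 43) h3657 m2_3657
  have h3659 : ∀ u < 157337, (fun u => chkFix tab mwordsA u) u = true := ext_range (a := 157294) (len := 43) h3658 m2_3658
  have h3660 : ∀ u < 157380, (fun u => chkFix tab mwordsA u) u = true := ext_range (a := 157337) (len := 43) h3659 m2_3659
  have h3661 : ∀ u < 157423, (fun u => chkFix tab mwordsA u) u = true := ext_range (a := 157380) (len := 43) h3660 m2_3660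
  have h3662 : ∀ u < 157466, (fun u => chkFix tab mwordsA u) u = true := ext_range (a := 157423) (len := 43) h3661 m2_3661
  have h3663 : ∀ u < 157509, (fun u => chkFix tab mwordsA u) u = true := ext_range (a := 157466) (len := 43) h3662 m2_3662
  have h3664 : ∀ u < 157552, (fun u => chkFix tab mwordsA u) u = true := ext_range (a := 157509) (len := 43) h3663 m2_3663
  have h3665 : ∀ u < 157595, (fun u => chkFix tab mwordsA u) u = true := ext_range (a := 157552) (len := 43) h3664 m2_3664
  have h3666 : ∀ u < 157638, (fun u => chkFix tab mwordsA u) u = true := ext_range (a := 157595) (len := 43) h3665 m2_3665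
  have h3667 : ∀ u < 157681, (fun u => chkFix tab mwordsA u) u = true := ext_range (a := 157638) (len := 43) h3666 m2_3666
  have h3668 : ∀ u < 157724, (fun u => chkFix tab mwordsA u) u = true := ext_range (a := 157681) (len := 43) h3667 m2_3667
  have h3669 : ∀ u < 157767, (fun u => chkFix tab mwordsA u) u = true := ext_range (a := 157724) (len := 43) h3668 m2_3668
  have h3670 : ∀ u < 157810, (fun u => chkFix tab mwordsA u) u = true := ext_range (a := 157767) (len := 43) h3669 m2_3669
  have h3671 : ∀ u < 157853, (fun u => chkFix tab mwordsA u) u = true := ext_range (a := 157810) (len := 43) h3670 m2_3670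
  have h3672 : ∀ u < 157896, (fun u => chkFix tab mwordsA u) u = true := ext_range (a := 157853) (len := 43) h3671 m2_3671
  have h3673 : ∀ u < 157939, (fun u => chkFix tab mwordsA u) u = true := ext_range (a := 157896) (len := 43) h3672 m2_3672
  have h3674 : ∀ u < 157982, (fun u => chkFix tab mwordsA u) u = true := ext_range (a := 157939) (len := 43) h3673 m2_3673
  have h3675 : ∀ u < 158025, (fun u => chkFix tab mwordsA u) u = true := ext_range (a := 157982) (len := 43) h3674 m2_3674
  have h3676 : ∀ u < 158068, (fun u => chkFix tab mwordsA u) u = true := ext_range (a := 158025) (len := 43) h3675 m2_3675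
  have h3677 : ∀ u < 158111, (fun u => chkFix tab mwordsA u) u = true := ext_range (a := 158068) (len := 43) h3676 m2_3676
  have h3678 : ∀ u < 158154, (fun u => chkFix tab mwordsA u) u = true := ext_range (a := 158111) (len := 43) h3677 m2_3677
  have h3679 : ∀ u < 158197, (fun u => chkFix tab mwordsA u) u = true := ext_range (a := 158154) (len := 43) h3678 m2_3678
  have h3680 : ∀ u < 158240, (fun u => chkFix tab mwordsA u) u = true := ext_range (a := 158197) (len := 43) h3679 m2_3679
  have h3681 : ∀ u < 158283, (fun u => chkFix tab mwordsA u) u = true := ext_range (a := 158240) (len := 43) h3680 m2_3680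
  have h3682 : ∀ u < 158326, (fun u => chkFix tab mwordsA u) u = true := ext_range (a := 158283) (len := 43) h3681 m2_3681
  have h3683 : ∀ u < 158369, (fun u => chkFix tab mwordsA u) u = true := ext_range (a := 158326) (len := 43) h3682 m2_3682
  have h3684 : ∀ u < 158412, (fun u => chkFix tab mwordsA u) u = true := ext_range (a := 158369) (len := 43) h3683 m2_3683
  have h3685 : ∀ u < 158455, (fun u => chkFix tab mwordsA u) u = true := ext_range (a := 158412) (len := 43) h3684 m2_3684
  have h3686 : ∀ u < 158498, (fun u => chkFix tab mwordsA u) u = true := ext_range (a := 158455) (len := 43) h3685 m2_3685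
  have h3687 : ∀ u < 158541, (fun u => chkFix tab mwordsA u) u = true := ext_range (a := 158498) (len := 43) h3686 m2_3686
  have h3688 : ∀ u < 158584, (fun u => chkFix tab mwordsA u) u = true := ext_range (a := 158541) (len := 43) h3687 m2_3687
  have h3689 : ∀ u < 158627, (fun u => chkFix tab mwordsA u) u = true := ext_range (a := 158584) (len := 43) h3688 m2_3688
  have h3690 : ∀ u < 158670, (fun u => chkFix tab mwordsA u) u = true := ext_range (a := 158627) (len := 43) h3689 m2_3689
  have h3691 : ∀ u < 158713, (fun u => chkFix tab mwordsA u) u = true := ext_range (a := 158670) (len := 43) h3690 m2_3690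
  have h3692 : ∀ u < 158756, (fun u => chkFix tab mwordsA u) u = true := ext_range (a := 158713) (len := 43) h3691 m2_3691
  have h3693 : ∀ u < 158799, (fun u => chkFix tab mwordsA u) u = true := ext_range (a := 158756) (len := 43) h3692 m2_3692
  have h3694 : ∀ u < 158842, (fun u => chkFix tab mwordsA u) u = true := ext_range (a := 158799) (len := 43) h3693 m2_3693
  have h3695 : ∀ u < 158885, (fun u => chkFix tab mwordsA u) u = true := ext_range (a := 158842) (len := 43) h3694 m2_3694
  have h3696 : ∀ u < 158928, (fun u => chkFix tab mwordsA u) u = true := ext_range (a := 158885) (len := 43) h3695 m2_3695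
  have h3697 : ∀ u < 158971, (fun u => chkFix tab mwordsA u) u = true := ext_range (a := 158928) (len := 43) h3696 m2_3696
  have h3698 : ∀ u < 159014, (fun u => chkFix tab mwordsA u) u = true := ext_range (a := 158971) (len := 43) h3697 m2_3697
  have h3699 : ∀ u < 159057, (fun u => chkFix tab mwordsA u) u = true := ext_range (a := 159014) (len := 43) h3698 m2_3698
  have h3700 : ∀ u < 159100, (fun u => chkFix tab mwordsA u) u = true := ext_range (a := 159057) (len := 43) h3699 m2_3699
  have h3701 : ∀ u < 159143, (fun u => chkFix tab mwordsA u) u = true := ext_range (a := 159100) (len := 43) h3700 m2_3700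
  have h3702 : ∀ u < 159186, (fun u => chkFix tab mwordsA u) u = true := ext_range (a := 159143) (len := 43) h3701 m2_3701
  have h3703 : ∀ u < 159229, (fun u => chkFix tab mwordsA u) u = true := ext_range (a := 159186) (len := 43) h3702 m2_3702
  have h3704 : ∀ u < 159272, (fun u => chkFix tab mwordsA u) u = true := ext_range (a := 159229) (len := 43) h3703 m2_3703
  have h3705 : ∀ u < 159315, (fun u => chkFix tab mwordsA u) u = true := ext_range (a := 159272) (len := 43) h3704 m2_3704
  have h3706 : ∀ u < 159358, (fun u => chkFix tab mwordsA u) u = true := ext_range (a := 159315) (len := 43) h3705 m2_3705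
  have h3707 : ∀ u < 159401, (fun u => chkFix tab mwordsA u) u = true := ext_range (a := 159358) (len := 43) h3706 m2_3706
  have h3708 : ∀ u < 159444, (fun u => chkFix tab mwordsA u) u = true := ext_range (a := 159401) (len := 43) h3707 m2_3707
  have h3709 : ∀ u < 159487, (fun u => chkFix tab mwordsA u) u = true := ext_range (a := 159444) (len := 43) h3708 m2_3708
  have h3710 : ∀ u < 159530, (fun u => chkFix tab mwordsA u) u = true := ext_range (a := 159487) (len := 43) h3709 m2_3709
  have h3711 : ∀ u < 159573, (fun u => chkFix tab mwordsA u) u = true := ext_range (a := 159530) (len := 43) h3710 m2_3710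
  have h3712 : ∀ u < 159616, (fun u => chkFix tab mwordsA u) u = true := ext_range (a := 159573) (len := 43) h3711 m2_3711
  have h3713 : ∀ u < 159659, (fun u => chkFix tab mwordsA u) u = true := ext_range (a := 159616) (len := 43) h3712 m2_3712
  have h3714 : ∀ u < 159702, (fun u => chkFix tab mwordsA u) u = true := ext_range (a := 159659) (len := 43) h3713 m2_3713
  have h3715 : ∀ u < 159745, (fun u => chkFix tab mwordsA u) u = true := ext_range (a := 159702) (len := 43) h3714 m2_3714
  have h3716 : ∀ u < 159788, (fun u => chkFix tab mwordsA u) u = true := ext_range (a := 159745) (len := 43) h3715 m2_3715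
  have h3717 : ∀ u < 159831, (fun u => chkFix tab mwordsA u) u = true := ext_range (a := 159788) (len := 43) h3716 m2_3716
  have h3718 : ∀ u < 159874, (fun u => chkFix tab mwordsA u) u = true := ext_range (a := 159831) (len := 43) h3717 m2_3717
  have h3719 : ∀ u < 159917, (fun u => chkFix tab mwordsA u) u = true := ext_range (a := 159874) (len := 43) h3718 m2_3718
  have h3720 : ∀ u < 159960, (fun u => chkFix tab mwordsA u) u = true := ext_range (a := 159917) (len := 43) h3719 m2_3719
  have h3721 : ∀ u < 160003, (fun u => chkFix tab mwordsA u) u = true := ext_range (a := 159960) (len := 43) h3720 m2_3720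
  have h3722 : ∀ u < 160046, (fun u => chkFix tab mwordsA u) u = true := ext_range (a := 160003) (len := 43) h3721 m2_3721
  have h3723 : ∀ u < 160089, (fun u => chkFix tab mwordsA u) u = true := ext_range (a := 160046) (len := 43) h3722 m2_3722
  have h3724 : ∀ u < 160132, (fun u => chkFix tab mwordsA u) u = true := ext_range (a := 160089) (len := 43) h3723 m2_3723
  have h3725 : ∀ u < 160175, (fun u => chkFix tab mwordsA u) u = true := ext_range (a := 160132) (len := 43) h3724 m2_3724
  have h3726 : ∀ u < 160218, (fun u => chkFix tab mwordsA u) u = true := ext_range (a := 160175) (len := 43) h3725 m2_3725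
  have h3727 : ∀ u < 160261, (fun u => chkFix tab mwordsA u) u = true := ext_range (a := 160218) (len := 43) h3726 m2_3726
  have h3728 : ∀ u < 160304, (fun u => chkFix tab mwordsA u) u = true := ext_range (a := 160261) (len := 43) h3727 m2_3727
  have h3729 : ∀ u < 160347, (fun u => chkFix tab mwordsA u) u = true := ext_range (a := 160304) (len := 43) h3728 m2_3728
  have h3730 : ∀ u < 160390, (fun u => chkFix tab mwordsA u) u = true := ext_range (a := 160347) (len := 43) h3729 m2_3729
  have h3731 : ∀ u < 160433, (fun u => chkFix tab mwordsA u) u = true := ext_range (a := 160390) (len := 43) h3730 m2_3730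
  have h3732 : ∀ u < 160476, (fun u => chkFix tab mwordsA u) u = true := ext_range (a := 160433) (len := 43) h3731 m2_3731
  have h3733 : ∀ u < 160519, (fun u => chkFix tab mwordsA u) u = true := ext_range (a := 160476) (len := 43) h3732 m2_3732
  have h3734 : ∀ u < 160562, (fun u => chkFix tab mwordsA u) u = true := ext_range (a := 160519) (len := 43) h3733 m2_3733
  have h3735 : ∀ u < 160605, (fun u => chkFix tab mwordsA u) u = true := ext_range (a := 160562) (len := 43) h3734 m2_3734
  have h3736 : ∀ u < 160648, (fun u => chkFix tab mwordsA u) u = true := ext_range (a := 160605) (len := 43) h3735 m2_3735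
  have h3737 : ∀ u < 160691, (fun u => chkFix tab mwordsA u) u = true := ext_range (a := 160648) (len := 43) h3736 m2_3736
  have h3738 : ∀ u < 160734, (fun u => chkFix tab mwordsA u) u = true := ext_range (a := 160691) (len := 43) h3737 m2_3737
  have h3739 : ∀ u < 160777, (fun u => chkFix tab mwordsA u) u = true := ext_range (a := 160734) (len := 43) h3738 m2_3738
  have h3740 : ∀ u < 160820, (fun u => chkFix tab mwordsA u) u = true := ext_range (a := 160777) (len := 43) h3739 m2_3739
  have h3741 : ∀ u < 160863, (fun u => chkFix tab mwordsA u) u = true := ext_range (a := 160820) (len := 43) h3740 m2_3740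
  have h3742 : ∀ u < 160906, (fun u => chkFix tab mwordsA u) u = true := ext_range (a := 160863) (len := 43) h3741 m2_3741
  have h3743 : ∀ u < 160949, (fun u => chkFix tab mwordsA u) u = true := ext_range (a := 160906) (len := 43) h3742 m2_3742
  have h3744 : ∀ u < 160992, (fun u => chkFix tab mwordsA u) u = true := ext_range (a := 160949) (len := 43) h3743 m2_3743
  have h3745 : ∀ u < 161035, (fun u => chkFix tab mwordsA u) u = true := ext_range (a := 160992) (len := 43) h3744 m2_3744
  have h3746 : ∀ u < 161078, (fun u => chkFix tab mwordsA u) u = true := ext_range (a := 161035) (len := 43) h3745 m2_3745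
  have h3747 : ∀ u < 161121, (fun u => chkFix tab mwordsA u) u = true := ext_range (a := 161078) (len := 43) h3746 m2_3746
  have h3748 : ∀ u < 161164, (fun u => chkFix tab mwordsA u) u = true := ext_range (a := 161121) (len := 43) h3747 m2_3747
  have h3749 : ∀ u < 161207, (fun u => chkFix tab mwordsA u) u = true := ext_range (a := 161164) (len := 43) h3748 m2_3748
  have h3750 : ∀ u < 161250, (fun u => chkFix tab mwordsA u) u = true := ext_range (a := 161207) (len := 43) h3749 m2_3749
  have h3751 : ∀ u < 161293, (fun u => chkFix tab mwordsA u) u = true := ext_range (a := 161250) (len := 43) h3750 m2_3750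
  have h3752 : ∀ u < 161336, (fun u => chkFix tab mwordsA u) u = true := ext_range (a := 161293) (len := 43) h3751 m2_3751
  have h3753 : ∀ u < 161379, (fun u => chkFix tab mwordsA u) u = true := ext_range (a := 161336) (len := 43) h3752 m2_3752
  have h3754 : ∀ u < 161422, (fun u => chkFix tab mwordsA u) u = true := ext_range (a := 161379) (len := 43) h3753 m2_3753
  have h3755 : ∀ u < 161465, (fun u => chkFix tab mwordsA u) u = true := ext_range (a := 161422) (len := 43) h3754 m2_3754
  have h3756 : ∀ u < 161508, (fun u => chkFix tab mwordsA u) u = true := ext_range (a := 161465) (len := 43) h3755 m2_3755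
  have h3757 : ∀ u < 161551, (fun u => chkFix tab mwordsA u) u = true := ext_range (a := 161508) (len := 43) h3756 m2_3756
  have h3758 : ∀ u < 161594, (fun u => chkFix tab mwordsA u) u = true := ext_range (a := 161551) (len := 43) h3757 m2_3757
  have h3759 : ∀ u < 161637, (fun u => chkFix tab mwordsA u) u = true := ext_range (a := 161594) (len := 43) h3758 m2_3758
  have h3760 : ∀ u < 161680, (fun u => chkFix tab mwordsA u) u = true := ext_range (a := 161637) (len := 43) h3759 m2_3759
  have h3761 : ∀ u < 161723, (fun u => chkFix tab mwordsA u) u = true := ext_range (a := 161680) (len := 43) h3760 m2_3760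
  have h3762 : ∀ u < 161766, (fun u => chkFix tab mwordsA u) u = true := ext_range (a := 161723) (len := 43) h3761 m2_3761
  have h3763 : ∀ u < 161809, (fun u => chkFix tab mwordsA u) u = true := ext_range (a := 161766) (len := 43) h3762 m2_3762
  have h3764 : ∀ u < 161852, (fun u => chkFix tab mwordsA u) u = true := ext_range (a := 161809) (len := 43) h3763 m2_3763
  have h3765 : ∀ u < 161895, (fun u => chkFix tab mwordsA u) u = true := ext_range (a := 161852) (len := 43) h3764 m2_3764
  have h3766 : ∀ u < 161938, (fun u => chkFix tab mwordsA u) u = true := ext_range (a := 161895) (len := 43) h3765 m2_3765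
  have h3767 : ∀ u < 161981, (fun u => chkFix tab mwordsA u) u = true := ext_range (a := 161938) (len := 43) h3766 m2_3766
  have h3768 : ∀ u < 162024, (fun u => chkFix tab mwordsA u) u = true := ext_range (a := 161981) (len := 43) h3767 m2_3767
  have h3769 : ∀ u < 162067, (fun u => chkFix tab mwordsA u) u = true := ext_range (a := 162024) (len := 43) h3768 m2_3768
  have h3770 : ∀ u < 162110, (fun u => chkFix tab mwordsA u) u = true := ext_range (a := 162067) (len := 43) h3769 m2_3769
  have h3771 : ∀ u < 162153, (fun u => chkFix tab mwordsA u) u = true := ext_range (a := 162110) (len := 43) h3770 m2_3770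
  have h3772 : ∀ u < 162196, (fun u => chkFix tab mwordsA u) u = true := ext_range (a := 162153) (len := 43) h3771 m2_3771
  have h3773 : ∀ u < 162239, (fun u => chkFix tab mwordsA u) u = true := ext_range (a := 162196) (len := 43) h3772 m2_3772
  have h3774 : ∀ u < 162282, (fun u => chkFix tab mwordsA u) u = true := ext_range (a := 162239) (len := 43) h3773 m2_3773
  have h3775 : ∀ u < 162325, (fun u => chkFix tab mwordsA u) u = true := ext_range (a := 162282) (len := 43) h3774 m2_3774
  have h3776 : ∀ u < 162368, (fun u => chkFix tab mwordsA u) u = true := ext_range (a := 162325) (len := 43) h3775 m2_3775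
  have h3777 : ∀ u < 162411, (fun u => chkFix tab mwordsA u) u = true := ext_range (a := 162368) (len := 43) h3776 m2_3776
  have h3778 : ∀ u < 162454, (fun u => chkFix tab mwordsA u) u = true := ext_range (a := 162411) (len := 43) h3777 m2_3777
  have h3779 : ∀ u < 162497, (fun u => chkFix tab mwordsA u) u = true := ext_range (a := 162454) (len := 43) h3778 m2_3778
  have h3780 : ∀ u < 162540, (fun u => chkFix tab mwordsA u) u = true := ext_range (a := 162497) (len := 43) h3779 m2_3779
  have h3781 : ∀ u < 162583, (fun u => chkFix tab mwordsA u) u = true := ext_range (a := 162540) (len := 43) h3780 m2_3780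
  have h3782 : ∀ u < 162626, (fun u => chkFix tab mwordsA u) u = true := ext_range (a := 162583) (len := 43) h3781 m2_3781
  have h3783 : ∀ u < 162669, (fun u => chkFix tab mwordsA u) u = true := ext_range (a := 162626) (len := 43) h3782 m2_3782
  have h3784 : ∀ u < 162712, (fun u => chkFix tab mwordsA u) u = true := ext_range (a := 162669) (len := 43) h3783 m2_3783
  have h3785 : ∀ u < 162755, (fun u => chkFix tab mwordsA u) u = true := ext_range (a := 162712) (len := 43) h3784 m2_3784
  have h3786 : ∀ u < 162798, (fun u => chkFix tab mwordsA u) u = true := ext_range (a := 162755) (len := 43) h3785 m2_3785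
  have h3787 : ∀ u < 162841, (fun u => chkFix tab mwordsA u) u = true := ext_range (a := 162798) (len := 43) h3786 m2_3786
  have h3788 : ∀ u < 162884, (fun u => chkFix tab mwordsA u) u = true := ext_range (a := 162841) (len := 43) h3787 m2_3787
  have h3789 : ∀ u < 162927, (fun u => chkFix tab mwordsA u) u = true := ext_range (a := 162884) (len := 43) h3788 m2_3788
  have h3790 : ∀ u < 162970, (fun u => chkFix tab mwordsA u) u = true := ext_range (a := 162927) (len := 43) h3789 m2_3789
  have h3791 : ∀ u < 163013, (fun u => chkFix tab mwordsA u) u = true := ext_range (a := 162970) (len := 43) h3790 m2_3790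
  have h3792 : ∀ u < 163056, (fun u => chkFix tab mwordsA u) u = true := ext_range (a := 163013) (len := 43) h3791 m2_3791
  have h3793 : ∀ u < 163099, (fun u => chkFix tab mwordsA u) u = true := ext_range (a := 163056) (len := 43) h3792 m2_3792
  have h3794 : ∀ u < 163142, (fun u => chkFix tab mwordsA u) u = true := ext_range (a := 163099) (len := 43) h3793 m2_3793
  have h3795 : ∀ u < 163185, (fun u => chkFix tab mwordsA u) u = true := ext_range (a := 163142) (len := 43) h3794 m2_3794
  have h3796 : ∀ u < 163228, (fun u => chkFix tab mwordsA u) u = true := ext_range (a := 163185) (len := 43) h3795 m2_3795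
  have h3797 : ∀ u < 163271, (fun u => chkFix tab mwordsA u) u = true := ext_range (a := 163228) (len := 43) h3796 m2_3796
  have h3798 : ∀ u < 163314, (fun u => chkFix tab mwordsA u) u = true := ext_range (a := 163271) (len := 43) h3797 m2_3797
  have h3799 : ∀ u < 163357, (fun u => chkFix tab mwordsA u) u = true := ext_range (a := 163314) (len := 43) h3798 m2_3798
  have h3800 : ∀ u < 163400, (fun u => chkFix tab mwordsA u) u = true := ext_range (a := 163357) (len := 43) h3799 m2_3799
  have h3801 : ∀ u < 163443, (fun u => chkFix tab mwordsA u) u = true := ext_range (a := 163400) (len := 43) h3800 m2_3800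
  have h3802 : ∀ u < 163486, (fun u => chkFix tab mwordsA u) u = true := ext_range (a := 163443) (len := 43) h3801 m2_3801
  have h3803 : ∀ u < 163529, (fun u => chkFix tab mwordsA u) u = true := ext_range (a := 163486) (len := 43) h3802 m2_3802
  have h3804 : ∀ u < 163572, (fun u => chkFix tab mwordsA u) u = true := ext_range (a := 163529) (len := 43) h3803 m2_3803
  have h3805 : ∀ u < 163615, (fun u => chkFix tab mwordsA u) u = true := ext_range (a := 163572) (len := 43) h3804 m2_3804
  have h3806 : ∀ u < 163658, (fun u => chkFix tab mwordsA u) u = true := ext_range (a := 163615) (len := 43) h3805 m2_3805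
  have h3807 : ∀ u < 163701, (fun u => chkFix tab mwordsA u) u = true := ext_range (a := 163658) (len := 43) h3806 m2_3806
  have h3808 : ∀ u < 163744, (fun u => chkFix tab mwordsA u) u = true := ext_range (a := 163701) (len := 43) h3807 m2_3807
  have h3809 : ∀ u < 163787, (fun u => chkFix tab mwordsA u) u = true := ext_range (a := 163744) (len := 43) h3808 m2_3808
  have h3810 : ∀ u < 163830, (fun u => chkFix tab mwordsA u) u = true := ext_range (a := 163787) (len := 43) h3809 m2_3809
  have h3811 : ∀ u < 163873, (fun u => chkFix tab mwordsA u) u = true := ext_range (a := 163830) (len := 43) h3810 m2_3810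
  have h3812 : ∀ u < 163916, (fun u => chkFix tab mwordsA u) u = true := ext_range (a := 163873) (len := 43) h3811 m2_3811
  have h3813 : ∀ u < 163959, (fun u => chkFix tab mwordsA u) u = true := ext_range (a := 163916) (len := 43) h3812 m2_3812
  have h3814 : ∀ u < 164002, (fun u => chkFix tab mwordsA u) u = true := ext_range (a := 163959) (len := 43) h3813 m2_3813
  have h3815 : ∀ u < 164045, (fun u => chkFix tab mwordsA u) u = true := ext_range (a := 164002) (len := 43) h3814 m2_3814
  have h3816 : ∀ u < 164088, (fun u => chkFix tab mwordsA u) u = true := ext_range (a := 164045) (len := 43) h3815 m2_3815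
  have h3817 : ∀ u < 164131, (fun u => chkFix tab mwordsA u) u = true := ext_range (a := 164088) (len := 43) h3816 m2_3816
  have h3818 : ∀ u < 164174, (fun u => chkFix tab mwordsA u) u = true := ext_range (a := 164131) (len := 43) h3817 m2_3817
  have h3819 : ∀ u < 164217, (fun u => chkFix tab mwordsA u) u = true := ext_range (a := 164174) (len := 43) h3818 m2_3818
  have h3820 : ∀ u < 164260, (fun u => chkFix tab mwordsA u) u = true := ext_range (a := 164217) (len := 43) h3819 m2_3819
  have h3821 : ∀ u < 164303, (fun u => chkFix tab mwordsA u) u = true := ext_range (a := 164260) (len := 43) h3820 m2_3820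
  have h3822 : ∀ u < 164346, (fun u => chkFix tab mwordsA u) u = true := ext_range (a := 164303) (len := 43) h3821 m2_3821
  have h3823 : ∀ u < 164389, (fun u => chkFix tab mwordsA u) u = true := ext_range (a := 164346) (len := 43) h3822 m2_3822
  have h3824 : ∀ u < 164432, (fun u => chkFix tab mwordsA u) u = true := ext_range (a := 164389) (len := 43) h3823 m2_3823
  have h3825 : ∀ u < 164475, (fun u => chkFix tab mwordsA u) u = true := ext_range (a := 164432) (len := 43) h3824 m2_3824
  have h3826 : ∀ u < 164518, (fun u => chkFix tab mwordsA u) u = true := ext_range (a := 164475) (len := 43) h3825 m2_3825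
  have h3827 : ∀ u < 164561, (fun u => chkFix tab mwordsA u) u = true := ext_range (a := 164518) (len := 43) h3826 m2_3826
  have h3828 : ∀ u < 164604, (fun u => chkFix tab mwordsA u) u = true := ext_range (a := 164561) (len := 43) h3827 m2_3827
  have h3829 : ∀ u < 164647, (fun u => chkFix tab mwordsA u) u = true := ext_range (a := 164604) (len := 43) h3828 m2_3828
  have h3830 : ∀ u < 164690, (fun u => chkFix tab mwordsA u) u = true := ext_range (a := 164647) (len := 43) h3829 m2_3829
  have h3831 : ∀ u < 164733, (fun u => chkFix tab mwordsA u) u = true := ext_range (a := 164690) (len := 43) h3830 m2_3830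
  have h3832 : ∀ u < 164776, (fun u => chkFix tab mwordsA u) u = true := ext_range (a := 164733) (len := 43) h3831 m2_3831
  have h3833 : ∀ u < 164819, (fun u => chkFix tab mwordsA u) u = true := ext_range (a := 164776) (len := 43) h3832 m2_3832
  have h3834 : ∀ u < 164862, (fun u => chkFix tab mwordsA u) u = true := ext_range (a := 164819) (len := 43) h3833 m2_3833
  have h3835 : ∀ u < 164905, (fun u => chkFix tab mwordsA u) u = true := ext_range (a := 164862) (len := 43) h3834 m2_3834
  have h3836 : ∀ u < 164948, (fun u => chkFix tab mwordsA u) u = true := ext_range (a := 164905) (len := 43) h3835 m2_3835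
  have h3837 : ∀ u < 164991, (fun u => chkFix tab mwordsA u) u = true := ext_range (a := 164948) (len := 43) h3836 m2_3836
  have h3838 : ∀ u < 165034, (fun u => chkFix tab mwordsA u) u = true := ext_range (a := 164991) (len := 43) h3837 m2_3837
  have h3839 : ∀ u < 165077, (fun u => chkFix tab mwordsA u) u = true := ext_range (a := 165034) (len := 43) h3838 m2_3838
  have h3840 : ∀ u < 165120, (fun u => chkFix tab mwordsA u) u = true := ext_range (a := 165077) (len := 43) h3839 m2_3839
  have h3841 : ∀ u < 165163, (fun u => chkFix tab mwordsA u) u = true := ext_range (a := 165120) (len := 43) h3840 m2_3840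
  have h3842 : ∀ u < 165206, (fun u => chkFix tab mwordsA u) u = true := ext_range (a := 165163) (len := 43) h3841 m2_3841
  have h3843 : ∀ u < 165249, (fun u => chkFix tab mwordsA u) u = true := ext_range (a := 165206) (len := 43) h3842 m2_3842
  have h3844 : ∀ u < 165292, (fun u => chkFix tab mwordsA u) u = true := ext_range (a := 165249) (len := 43) h3843 m2_3843
  have h3845 : ∀ u < 165335, (fun u => chkFix tab mwordsA u) u = true := ext_range (a := 165292) (len := 43) h3844 m2_3844
  have h3846 : ∀ u < 165378, (fun u => chkFix tab mwordsA u) u = true := ext_range (a := 165335) (len := 43) h3845 m2_3845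
  have h3847 : ∀ u < 165421, (fun u => chkFix tab mwordsA u) u = true := ext_range (a := 165378) (len := 43) h3846 m2_3846
  have h3848 : ∀ u < 165464, (fun u => chkFix tab mwordsA u) u = true := ext_range (a := 165421) (len := 43) h3847 m2_3847
  have h3849 : ∀ u < 165507, (fun u => chkFix tab mwordsA u) u = true := ext_range (a := 165464) (len := 43) h3848 m2_3848
  have h3850 : ∀ u < 165550, (fun u => chkFix tab mwordsA u) u = true := ext_range (a := 165507) (len := 43) h3849 m2_3849
  have h3851 : ∀ u < 165593, (fun u => chkFix tab mwordsA u) u = true := ext_range (a := 165550) (len := 43) h3850 m2_3850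
  have h3852 : ∀ u < 165636, (fun u => chkFix tab mwordsA u) u = true := ext_range (a := 165593) (len := 43) h3851 m2_3851
  have h3853 : ∀ u < 165679, (fun u => chkFix tab mwordsA u) u = true := ext_range (a := 165636) (len := 43) h3852 m2_3852
  have h3854 : ∀ u < 165722, (fun u => chkFix tab mwordsA u) u = true := ext_range (a := 165679) (len := 43) h3853 m2_3853
  have h3855 : ∀ u < 165765, (fun u => chkFix tab mwordsA u) u = true := ext_range (a := 165722) (len := 43) h3854 m2_3854
  have h3856 : ∀ u < 165808, (fun u => chkFix tab mwordsA u) u = true := ext_range (a := 165765) (len := 43) h3855 m2_3855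
  have h3857 : ∀ u < 165851, (fun u => chkFix tab mwordsA u) u = true := ext_range (a := 165808) (len := 43) h3856 m2_3856
  have h3858 : ∀ u < 165894, (fun u => chkFix tab mwordsA u) u = true := ext_range (a := 165851) (len := 43) h3857 m2_3857
  have h3859 : ∀ u < 165937, (fun u => chkFix tab mwordsA u) u = true := ext_range (a := 165894) (len := 43) h3858 m2_3858
  have h3860 : ∀ u < 165980, (fun u => chkFix tab mwordsA u) u = true := ext_range (a := 165937) (len := 43) h3859 m2_3859
  have h3861 : ∀ u < 166023, (fun u => chkFix tab mwordsA u) u = true := ext_range (a := 165980) (len := 43) h3860 m2_3860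
  have h3862 : ∀ u < 166066, (fun u => chkFix tab mwordsA u) u = true := ext_range (a := 166023) (len := 43) h3861 m2_3861
  have h3863 : ∀ u < 166109, (fun u => chkFix tab mwordsA u) u = true := ext_range (a := 166066) (len := 43) h3862 m2_3862
  have h3864 : ∀ u < 166152, (fun u => chkFix tab mwordsA u) u = true := ext_range (a := 166109) (len := 43) h3863 m2_3863
  have h3865 : ∀ u < 166195, (fun u => chkFix tab mwordsA u) u = true := ext_range (a := 166152) (len := 43) h3864 m2_3864
  have h3866 : ∀ u < 166238, (fun u => chkFix tab mwordsA u) u = true := ext_range (a := 166195) (len := 43) h3865 m2_3865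
  have h3867 : ∀ u < 166281, (fun u => chkFix tab mwordsA u) u = true := ext_range (a := 166238) (len := 43) h3866 m2_3866
  have h3868 : ∀ u < 166324, (fun u => chkFix tab mwordsA u) u = true := ext_range (a := 166281) (len := 43) h3867 m2_3867
  have h3869 : ∀ u < 166367, (fun u => chkFix tab mwordsA u) u = true := ext_range (a := 166324) (len := 43) h3868 m2_3868
  have h3870 : ∀ u < 166410, (fun u => chkFix tab mwordsA u) u = true := ext_range (a := 166367) (len := 43) h3869 m2_3869
  have h3871 : ∀ u < 166453, (fun u => chkFix tab mwordsA u) u = true := ext_range (a := 166410) (len := 43) h3870 m2_3870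
  have h3872 : ∀ u < 166496, (fun u => chkFix tab mwordsA u) u = true := ext_range (a := 166453) (len := 43) h3871 m2_3871
  have h3873 : ∀ u < 166539, (fun u => chkFix tab mwordsA u) u = true := ext_range (a := 166496) (len := 43) h3872 m2_3872
  have h3874 : ∀ u < 166582, (fun u => chkFix tab mwordsA u) u = true := ext_range (a := 166539) (len := 43) h3873 m2_3873
  have h3875 : ∀ u < 166625, (fun u => chkFix tab mwordsA u) u = true := ext_range (a := 166582) (len := 43) h3874 m2_3874
  have h3876 : ∀ u < 166668, (fun u => chkFix tab mwordsA u) u = true := ext_range (a := 166625) (len := 43) h3875 m2_3875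
  have h3877 : ∀ u < 166711, (fun u => chkFix tab mwordsA u) u = true := ext_range (a := 166668) (len := 43) h3876 m2_3876
  have h3878 : ∀ u < 166754, (fun u => chkFix tab mwordsA u) u = true := ext_range (a := 166711) (len := 43) h3877 m2_3877
  have h3879 : ∀ u < 166797, (fun u => chkFix tab mwordsA u) u = true := ext_range (a := 166754) (len := 43) h3878 m2_3878
  have h3880 : ∀ u < 166840, (fun u => chkFix tab mwordsA u) u = true := ext_range (a := 166797) (len := 43) h3879 m2_3879
  have h3881 : ∀ u < 166883, (fun u => chkFix tab mwordsA u) u = true := ext_range (a := 166840) (len := 43) h3880 m2_3880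
  have h3882 : ∀ u < 166926, (fun u => chkFix tab mwordsA u) u = true := ext_range (a := 166883) (len := 43) h3881 m2_3881
  have h3883 : ∀ u < 166969, (fun u => chkFix tab mwordsA u) u = true := ext_range (a := 166926) (len := 43) h3882 m2_3882
  have h3884 : ∀ u < 167012, (fun u => chkFix tab mwordsA u) u = true := ext_range (a := 166969) (len := 43) h3883 m2_3883
  have h3885 : ∀ u < 167055, (fun u => chkFix tab mwordsA u) u = true := ext_range (a := 167012) (len := 43) h3884 m2_3884
  have h3886 : ∀ u < 167098, (fun u => chkFix tab mwordsA u) u = true := ext_range (a := 167055) (len := 43) h3885 m2_3885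
  have h3887 : ∀ u < 167141, (fun u => chkFix tab mwordsA u) u = true := ext_range (a := 167098) (len := 43) h3886 m2_3886
  have h3888 : ∀ u < 167184, (fun u => chkFix tab mwordsA u) u = true := ext_range (a := 167141) (len := 43) h3887 m2_3887
  have h3889 : ∀ u < 167227, (fun u => chkFix tab mwordsA u) u = true := ext_range (a := 167184) (len := 43) h3888 m2_3888
  have h3890 : ∀ u < 167270, (fun u => chkFix tab mwordsA u) u = true := ext_range (a := 167227) (len := 43) h3889 m2_3889
  have h3891 : ∀ u < 167313, (fun u => chkFix tab mwordsA u) u = true := ext_range (a := 167270) (len := 43) h3890 m2_3890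
  have h3892 : ∀ u < 167356, (fun u => chkFix tab mwordsA u) u = true := ext_range (a := 167313) (len := 43) h3891 m2_3891
  have h3893 : ∀ u < 167399, (fun u => chkFix tab mwordsA u) u = true := ext_range (a := 167356) (len := 43) h3892 m2_3892
  have h3894 : ∀ u < 167442, (fun u => chkFix tab mwordsA u) u = true := ext_range (a := 167399) (len := 43) h3893 m2_3893
  have h3895 : ∀ u < 167485, (fun u => chkFix tab mwordsA u) u = true := ext_range (a := 167442) (len := 43) h3894 m2_3894
  have h3896 : ∀ u < 167528, (fun u => chkFix tab mwordsA u) u = true := ext_range (a := 167485) (len := 43) h3895 m2_3895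
  have h3897 : ∀ u < 167571, (fun u => chkFix tab mwordsA u) u = true := ext_range (a := 167528) (len := 43) h3896 m2_3896
  have h3898 : ∀ u < 167614, (fun u => chkFix tab mwordsA u) u = true := ext_range (a := 167571) (len := 43) h3897 m2_3897
  have h3899 : ∀ u < 167657, (fun u => chkFix tab mwordsA u) u = true := ext_range (a := 167614) (len := 43) h3898 m2_3898
  have h3900 : ∀ u < 167700, (fun u => chkFix tab mwordsA u) u = true := ext_range (a := 167657) (len := 43) h3899 m2_3899
  have h3901 : ∀ u < 167743, (fun u => chkFix tab mwordsA u) u = true := ext_range (a := 167700) (len := 43) h3900 m2_3900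
  have h3902 : ∀ u < 167786, (fun u => chkFix tab mwordsA u) u = true := ext_range (a := 167743) (len := 43) h3901 m2_3901
  have h3903 : ∀ u < 167829, (fun u => chkFix tab mwordsA u) u = true := ext_range (a := 167786) (len := 43) h3902 m2_3902
  have h3904 : ∀ u < 167872, (fun u => chkFix tab mwordsA u) u = true := ext_range (a := 167829) (len := 43) h3903 m2_3903
  have h3905 : ∀ u < 167915, (fun u => chkFix tab mwordsA u) u = true := ext_range (a := 167872) (len := 43) h3904 m2_3904
  have h3906 : ∀ u < 167958, (fun u => chkFix tab mwordsA u) u = true := ext_range (a := 167915) (len := 43) h3905 m2_3905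
  have h3907 : ∀ u < 168001, (fun u => chkFix tab mwordsA u) u = true := ext_range (a := 167958) (len := 43) h3906 m2_3906
  have h3908 : ∀ u < 168044, (fun u => chkFix tab mwordsA u) u = true := ext_range (a := 168001) (len := 43) h3907 m2_3907
  have h3909 : ∀ u < 168087, (fun u => chkFix tab mwordsA u) u = true := ext_range (a := 168044) (len := 43) h3908 m2_3908
  have h3910 : ∀ u < 168130, (fun u => chkFix tab mwordsA u) u = true := ext_range (a := 168087) (len := 43) h3909 m2_3909
  have h3911 : ∀ u < 168173, (fun u => chkFix tab mwordsA u) u = true := ext_range (a := 168130) (len := 43) h3910 m2_3910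
  have h3912 : ∀ u < 168216, (fun u => chkFix tab mwordsA u) u = true := ext_range (a := 168173) (len := 43) h3911 m2_3911
  have h3913 : ∀ u < 168259, (fun u => chkFix tab mwordsA u) u = true := ext_range (a := 168216) (len := 43) h3912 m2_3912
  have h3914 : ∀ u < 168302, (fun u => chkFix tab mwordsA u) u = true := ext_range (a := 168259) (len := 43) h3913 m2_3913
  have h3915 : ∀ u < 168345, (fun u => chkFix tab mwordsA u) u = true := ext_range (a := 168302) (len := 43) h3914 m2_3914
  have h3916 : ∀ u < 168388, (fun u => chkFix tab mwordsA u) u = true := ext_range (a := 168345) (len := 43) h3915 m2_3915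
  have h3917 : ∀ u < 168431, (fun u => chkFix tab mwordsA u) u = true := ext_range (a := 168388) (len := 43) h3916 m2_3916
  have h3918 : ∀ u < 168474, (fun u => chkFix tab mwordsA u) u = true := ext_range (a := 168431) (len := 43) h3917 m2_3917
  have h3919 : ∀ u < 168517, (fun u => chkFix tab mwordsA u) u = true := ext_range (a := 168474) (len := 43) h3918 m2_3918
  have h3920 : ∀ u < 168560, (fun u => chkFix tab mwordsA u) u = true := ext_range (a := 168517) (len := 43) h3919 m2_3919
  have h3921 : ∀ u < 168603, (fun u => chkFix tab mwordsA u) u = true := ext_range (a := 168560) (len := 43) h3920 m2_3920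
  have h3922 : ∀ u < 168646, (fun u => chkFix tab mwordsA u) u = true := ext_range (a := 168603) (len := 43) h3921 m2_3921
  have h3923 : ∀ u < 168689, (fun u => chkFix tab mwordsA u) u = true := ext_range (a := 168646) (len := 43) h3922 m2_3922
  have h3924 : ∀ u < 168732, (fun u => chkFix tab mwordsA u) u = true := ext_range (a := 168689) (len := 43) h3923 m2_3923
  have h3925 : ∀ u < 168775, (fun u => chkFix tab mwordsA u) u = true := ext_range (a := 168732) (len := 43) h3924 m2_3924
  have h3926 : ∀ u < 168818, (fun u => chkFix tab mwordsA u) u = true := ext_range (a := 168775) (len := 43) h3925 m2_3925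
  have h3927 : ∀ u < 168861, (fun u => chkFix tab mwordsA u) u = true := ext_range (a := 168818) (len := 43) h3926 m2_3926
  have h3928 : ∀ u < 168904, (fun u => chkFix tab mwordsA u) u = true := ext_range (a := 168861) (len := 43) h3927 m2_3927
  have h3929 : ∀ u < 168947, (fun u => chkFix tab mwordsA u) u = true := ext_range (a := 168904) (len := 43) h3928 m2_3928
  have h3930 : ∀ u < 168990, (fun u => chkFix tab mwordsA u) u = true := ext_range (a := 168947) (len := 43) h3929 m2_3929
  have h3931 : ∀ u < 169033, (fun u => chkFix tab mwordsA u) u = true := ext_range (a := 168990) (len := 43) h3930 m2_3930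
  have h3932 : ∀ u < 169076, (fun u => chkFix tab mwordsA u) u = true := ext_range (a := 169033) (len := 43) h3931 m2_3931
  have h3933 : ∀ u < 169119, (fun u => chkFix tab mwordsA u) u = true := ext_range (a := 169076) (len := 43) h3932 m2_3932
  have h3934 : ∀ u < 169162, (fun u => chkFix tab mwordsA u) u = true := ext_range (a := 169119) (len := 43) h3933 m2_3933
  have h3935 : ∀ u < 169205, (fun u => chkFix tab mwordsA u) u = true := ext_range (a := 169162) (len := 43) h3934 m2_3934
  have h3936 : ∀ u < 169248, (fun u => chkFix tab mwordsA u) u = true := ext_range (a := 169205) (len := 43) h3935 m2_3935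
  have h3937 : ∀ u < 169291, (fun u => chkFix tab mwordsA u) u = true := ext_range (a := 169248) (len := 43) h3936 m2_3936
  have h3938 : ∀ u < 169334, (fun u => chkFix tab mwordsA u) u = true := ext_range (a := 169291) (len := 43) h3937 m2_3937
  have h3939 : ∀ u < 169377, (fun u => chkFix tab mwordsA u) u = true := ext_range (a := 169334) (len := 43) h3938 m2_3938
  have h3940 : ∀ u < 169420, (fun u => chkFix tab mwordsA u) u = true := ext_range (a := 169377) (len := 43) h3939 m2_3939
  have h3941 : ∀ u < 169463, (fun u => chkFix tab mwordsA u) u = true := ext_range (a := 169420) (len := 43) h3940 m2_3940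
  have h3942 : ∀ u < 169506, (fun u => chkFix tab mwordsA u) u = true := ext_range (a := 169463) (len := 43) h3941 m2_3941
  have h3943 : ∀ u < 169549, (fun u => chkFix tab mwordsA u) u = true := ext_range (a := 169506) (len := 43) h3942 m2_3942
  have h3944 : ∀ u < 169592, (fun u => chkFix tab mwordsA u) u = true := ext_range (a := 169549) (len := 43) h3943 m2_3943
  have h3945 : ∀ u < 169635, (fun u => chkFix tab mwordsA u) u = true := ext_range (a := 169592) (len := 43) h3944 m2_3944
  have h3946 : ∀ u < 169678, (fun u => chkFix tab mwordsA u) u = true := ext_range (a := 169635) (len := 43) h3945 m2_3945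
  have h3947 : ∀ u < 169721, (fun u => chkFix tab mwordsA u) u = true := ext_range (a := 169678) (len := 43) h3946 m2_3946
  have h3948 : ∀ u < 169764, (fun u => chkFix tab mwordsA u) u = true := ext_range (a := 169721) (len := 43) h3947 m2_3947
  have h3949 : ∀ u < 169807, (fun u => chkFix tab mwordsA u) u = true := ext_range (a := 169764) (len := 43) h3948 m2_3948
  have h3950 : ∀ u < 169850, (fun u => chkFix tab mwordsA u) u = true := ext_range (a := 169807) (len := 43) h3949 m2_3949
  have h3951 : ∀ u < 169893, (fun u => chkFix tab mwordsA u) u = true := ext_range (a := 169850) (len := 43) h3950 m2_3950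
  have h3952 : ∀ u < 169936, (fun u => chkFix tab mwordsA u) u = true := ext_range (a := 169893) (len := 43) h3951 m2_3951
  have h3953 : ∀ u < 169979, (fun u => chkFix tab mwordsA u) u = true := ext_range (a := 169936) (len := 43) h3952 m2_3952
  have h3954 : ∀ u < 170022, (fun u => chkFix tab mwordsA u) u = true := ext_range (a := 169979) (len := 43) h3953 m2_3953
  have h3955 : ∀ u < 170065, (fun u => chkFix tab mwordsA u) u = true := ext_range (a := 170022) (len := 43) h3954 m2_3954
  have h3956 : ∀ u < 170108, (fun u => chkFix tab mwordsA u) u = true := ext_range (a := 170065) (len := 43) h3955 m2_3955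
  have h3957 : ∀ u < 170151, (fun u => chkFix tab mwordsA u) u = true := ext_range (a := 170108) (len := 43) h3956 m2_3956
  have h3958 : ∀ u < 170194, (fun u => chkFix tab mwordsA u) u = true := ext_range (a := 170151) (len := 43) h3957 m2_3957
  have h3959 : ∀ u < 170237, (fun u => chkFix tab mwordsA u) u = true := ext_range (a := 170194) (len := 43) h3958 m2_3958
  have h3960 : ∀ u < 170280, (fun u => chkFix tab mwordsA u) u = true := ext_range (a := 170237) (len := 43) h3959 m2_3959
  have h3961 : ∀ u < 170323, (fun u => chkFix tab mwordsA u) u = true := ext_range (a := 170280) (len := 43) h3960 m2_3960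
  have h3962 : ∀ u < 170366, (fun u => chkFix tab mwordsA u) u = true := ext_range (a := 170323) (len := 43) h3961 m2_3961
  have h3963 : ∀ u < 170409, (fun u => chkFix tab mwordsA u) u = true := ext_range (a := 170366) (len := 43) h3962 m2_3962
  have h3964 : ∀ u < 170452, (fun u => chkFix tab mwordsA u) u = true := ext_range (a := 170409) (len := 43) h3963 m2_3963
  have h3965 : ∀ u < 170495, (fun u => chkFix tab mwordsA u) u = true := ext_range (a := 170452) (len := 43) h3964 m2_3964
  have h3966 : ∀ u < 170538, (fun u => chkFix tab mwordsA u) u = true := ext_range (a := 170495) (len := 43) h3965 m2_3965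
  have h3967 : ∀ u < 170581, (fun u => chkFix tab mwordsA u) u = true := ext_range (a := 170538) (len := 43) h3966 m2_3966
  have h3968 : ∀ u < 170624, (fun u => chkFix tab mwordsA u) u = true := ext_range (a := 170581) (len := 43) h3967 m2_3967
  have h3969 : ∀ u < 170667, (fun u => chkFix tab mwordsA u) u = true := ext_range (a := 170624) (len := 43) h3968 m2_3968
  have h3970 : ∀ u < 170710, (fun u => chkFix tab mwordsA u) u = true := ext_range (a := 170667) (len := 43) h3969 m2_3969
  have h3971 : ∀ u < 170753, (fun u => chkFix tab mwordsA u) u = true := ext_range (a := 170710) (len := 43) h3970 m2_3970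
  have h3972 : ∀ u < 170796, (fun u => chkFix tab mwordsA u) u = true := ext_range (a := 170753) (len := 43) h3971 m2_3971
  have h3973 : ∀ u < 170839, (fun u => chkFix tab mwordsA u) u = true := ext_range (a := 170796) (len := 43) h3972 m2_3972
  have h3974 : ∀ u < 170882, (fun u => chkFix tab mwordsA u) u = true := ext_range (a := 170839) (len := 43) h3973 m2_3973
  have h3975 : ∀ u < 170925, (fun u => chkFix tab mwordsA u) u = true := ext_range (a := 170882) (len := 43) h3974 m2_3974
  have h3976 : ∀ u < 170968, (fun u => chkFix tab mwordsA u) u = true := ext_range (a := 170925) (len := 43) h3975 m2_3975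
  have h3977 : ∀ u < 171011, (fun u => chkFix tab mwordsA u) u = true := ext_range (a := 170968) (len := 43) h3976 m2_3976
  have h3978 : ∀ u < 171054, (fun u => chkFix tab mwordsA u) u = true := ext_range (a := 171011) (len := 43) h3977 m2_3977
  have h3979 : ∀ u < 171097, (fun u => chkFix tab mwordsA u) u = true := ext_range (a := 171054) (len := 43) h3978 m2_3978
  have h3980 : ∀ u < 171140, (fun u => chkFix tab mwordsA u) u = true := ext_range (a := 171097) (len := 43) h3979 m2_3979
  have h3981 : ∀ u < 171183, (fun u => chkFix tab mwordsA u) u = true := ext_range (a := 171140) (len := 43) h3980 m2_3980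
  have h3982 : ∀ u < 171226, (fun u => chkFix tab mwordsA u) u = true := ext_range (a := 171183) (len := 43) h3981 m2_3981
  have h3983 : ∀ u < 171269, (fun u => chkFix tab mwordsA u) u = true := ext_range (a := 171226) (len := 43) h3982 m2_3982
  have h3984 : ∀ u < 171312, (fun u => chkFix tab mwordsA u) u = true := ext_range (a := 171269) (len := 43) h3983 m2_3983
  have h3985 : ∀ u < 171355, (fun u => chkFix tab mwordsA u) u = true := ext_range (a := 171312) (len := 43) h3984 m2_3984
  have h3986 : ∀ u < 171398, (fun u => chkFix tab mwordsA u) u = true := ext_range (a := 171355) (len := 43) h3985 m2_3985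
  have h3987 : ∀ u < 171441, (fun u => chkFix tab mwordsA u) u = true := ext_range (a := 171398) (len := 43) h3986 m2_3986
  have h3988 : ∀ u < 171484, (fun u => chkFix tab mwordsA u) u = true := ext_range (a := 171441) (len := 43) h3987 m2_3987
  have h3989 : ∀ u < 171527, (fun u => chkFix tab mwordsA u) u = true := ext_range (a := 171484) (len := 43) h3988 m2_3988
  have h3990 : ∀ u < 171570, (fun u => chkFix tab mwordsA u) u = true := ext_range (a := 171527) (len := 43) h3989 m2_3989
  have h3991 : ∀ u < 171613, (fun u => chkFix tab mwordsA u) u = true := ext_range (a := 171570) (len := 43) h3990 m2_3990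
  have h3992 : ∀ u < 171656, (fun u => chkFix tab mwordsA u) u = true := ext_range (a := 171613) (len := 43) h3991 m2_3991
  have h3993 : ∀ u < 171699, (fun u => chkFix tab mwordsA u) u = true := ext_range (a := 171656) (len := 43) h3992 m2_3992
  have h3994 : ∀ u < 171742, (fun u => chkFix tab mwordsA u) u = true := ext_range (a := 171699) (len := 43) h3993 m2_3993
  have h3995 : ∀ u < 171785, (fun u => chkFix tab mwordsA u) u = true := ext_range (a := 171742) (len := 43) h3994 m2_3994
  have h3996 : ∀ u < 171828, (fun u => chkFix tab mwordsA u) u = true := ext_range (a := 171785) (len := 43) h3995 m2_3995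
  have h3997 : ∀ u < 171871, (fun u => chkFix tab mwordsA u) u = true := ext_range (a := 171828) (len := 43) h3996 m2_3996
  have h3998 : ∀ u < 171914, (fun u => chkFix tab mwordsA u) u = true := ext_range (a := 171871) (len := 43) h3997 m2_3997
  have h3999 : ∀ u < 171957, (fun u => chkFix tab mwordsA u) u = true := ext_range (a := 171914) (len := 43) h3998 m2_3998
  have h4000 : ∀ u < 172000, (fun u => chkFix tab mwordsA u) u = true := ext_range (a := 171957) (len := 43) h3999 m2_3999
  have h4001 : ∀ u < 172043, (fun u => chkFix tab mwordsA u) u = true := ext_range (a := 172000) (len := 43) h4000 m2_4000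
  have h4002 : ∀ u < 172086, (fun u => chkFix tab mwordsA u) u = true := ext_range (a := 172043) (len := 43) h4001 m2_4001
  have h4003 : ∀ u < 172129, (fun u => chkFix tab mwordsA u) u = true := ext_range (a := 172086) (len := 43) h4002 m2_4002
  have h4004 : ∀ u < 172172, (fun u => chkFix tab mwordsA u) u = true := ext_range (a := 172129) (len := 43) h4003 m2_4003
  have h4005 : ∀ u < 172215, (fun u => chkFix tab mwordsA u) u = true := ext_range (a := 172172) (len := 43) h4004 m2_4004
  have h4006 : ∀ u < 172258, (fun u => chkFix tab mwordsA u) u = true := ext_range (a := 172215) (len := 43) h4005 m2_4005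
  have h4007 : ∀ u < 172301, (fun u => chkFix tab mwordsA u) u = true := ext_range (a := 172258) (len := 43) h4006 m2_4006
  have h4008 : ∀ u < 172344, (fun u => chkFix tab mwordsA u) u = true := ext_range (a := 172301) (len := 43) h4007 m2_4007
  have h4009 : ∀ u < 172387, (fun u => chkFix tab mwordsA u) u = true := ext_range (a := 172344) (len := 43) h4008 m2_4008
  have h4010 : ∀ u < 172430, (fun u => chkFix tab mwordsA u) u = true := ext_range (a := 172387) (len := 43) h4009 m2_4009
  have h4011 : ∀ u < 172473, (fun u => chkFix tab mwordsA u) u = true := ext_range (a := 172430) (len := 43) h4010 m2_4010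
  have h4012 : ∀ u < 172516, (fun u => chkFix tab mwordsA u) u = true := ext_range (a := 172473) (len := 43) h4011 m2_4011
  have h4013 : ∀ u < 172559, (fun u => chkFix tab mwordsA u) u = true := ext_range (a := 172516) (len := 43) h4012 m2_4012
  have h4014 : ∀ u < 172602, (fun u => chkFix tab mwordsA u) u = true := ext_range (a := 172559) (len := 43) h4013 m2_4013
  have h4015 : ∀ u < 172645, (fun u => chkFix tab mwordsA u) u = true := ext_range (a := 172602) (len := 43) h4014 m2_4014
  have h4016 : ∀ u < 172688, (fun u => chkFix tab mwordsA u) u = true := ext_range (a := 172645) (len := 43) h4015 m2_4015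
  have h4017 : ∀ u < 172731, (fun u => chkFix tab mwordsA u) u = true := ext_range (a := 172688) (len := 43) h4016 m2_4016
  have h4018 : ∀ u < 172774, (fun u => chkFix tab mwordsA u) u = true := ext_range (a := 172731) (len := 43) h4017 m2_4017
  have h4019 : ∀ u < 172817, (fun u => chkFix tab mwordsA u) u = true := ext_range (a := 172774) (len := 43) h4018 m2_4018
  have h4020 : ∀ u < 172860, (fun u => chkFix tab mwordsA u) u = true := ext_range (a := 172817) (len := 43) h4019 m2_4019
  have h4021 : ∀ u < 172903, (fun u => chkFix tab mwordsA u) u = true := ext_range (a := 172860) (len := 43) h4020 m2_4020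
  have h4022 : ∀ u < 172946, (fun u => chkFix tab mwordsA u) u = true := ext_range (a := 172903) (len := 43) h4021 m2_4021
  have h4023 : ∀ u < 172989, (fun u => chkFix tab mwordsA u) u = true := ext_range (a := 172946) (len := 43) h4022 m2_4022
  have h4024 : ∀ u < 173032, (fun u => chkFix tab mwordsA u) u = true := ext_range (a := 172989) (len := 43) h4023 m2_4023
  have h4025 : ∀ u < 173075, (fun u => chkFix tab mwordsA u) u = true := ext_range (a := 173032) (len := 43) h4024 m2_4024
  have h4026 : ∀ u < 173118, (fun u => chkFix tab mwordsA u) u = true := ext_range (a := 173075) (len := 43) h4025 m2_4025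
  have h4027 : ∀ u < 173161, (fun u => chkFix tab mwordsA u) u = true := ext_range (a := 173118) (len := 43) h4026 m2_4026
  have h4028 : ∀ u < 173204, (fun u => chkFix tab mwordsA u) u = true := ext_range (a := 173161) (len := 43) h4027 m2_4027
  have h4029 : ∀ u < 173247, (fun u => chkFix tab mwordsA u) u = true := ext_range (a := 173204) (len := 43) h4028 m2_4028
  have h4030 : ∀ u < 173290, (fun u => chkFix tab mwordsA u) u = true := ext_range (a := 173247) (len := 43) h4029 m2_4029
  have h4031 : ∀ u < 173333, (fun u => chkFix tab mwordsA u) u = true := ext_range (a := 173290) (len := 43) h4030 m2_4030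
  have h4032 : ∀ u < 173376, (fun u => chkFix tab mwordsA u) u = true := ext_range (a := 173333) (len := 43) h4031 m2_4031
  have h4033 : ∀ u < 173419, (fun u => chkFix tab mwordsA u) u = true := ext_range (a := 173376) (len := 43) h4032 m2_4032
  have h4034 : ∀ u < 173462, (fun u => chkFix tab mwordsA u) u = true := ext_range (a := 173419) (len := 43) h4033 m2_4033
  have h4035 : ∀ u < 173505, (fun u => chkFix tab mwordsA u) u = true := ext_range (a := 173462) (len := 43) h4034 m2_4034
  have h4036 : ∀ u < 173548, (fun u => chkFix tab mwordsA u) u = true := ext_range (a := 173505) (len := 43) h4035 m2_4035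
  have h4037 : ∀ u < 173591, (fun u => chkFix tab mwordsA u) u = true := ext_range (a := 173548) (len := 43) h4036 m2_4036
  have h4038 : ∀ u < 173634, (fun u => chkFix tab mwordsA u) u = true := ext_range (a := 173591) (len := 43) h4037 m2_4037
  have h4039 : ∀ u < 173677, (fun u => chkFix tab mwordsA u) u = true := ext_range (a := 173634) (len := 43) h4038 m2_4038
  have h4040 : ∀ u < 173720, (fun u => chkFix tab mwordsA u) u = true := ext_range (a := 173677) (len := 43) h4039 m2_4039
  have h4041 : ∀ u < 173763, (fun u => chkFix tab mwordsA u) u = true := ext_range (a := 173720) (len := 43) h4040 m2_4040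
  have h4042 : ∀ u < 173806, (fun u => chkFix tab mwordsA u) u = true := ext_range (a := 173763) (len := 43) h4041 m2_4041
  have h4043 : ∀ u < 173849, (fun u => chkFix tab mwordsA u) u = true := ext_range (a := 173806) (len := 43) h4042 m2_4042
  have h4044 : ∀ u < 173892, (fun u => chkFix tab mwordsA u) u = true := ext_range (a := 173849) (len := 43) h4043 m2_4043
  have h4045 : ∀ u < 173935, (fun u => chkFix tab mwordsA u) u = true := ext_range (a := 173892) (len := 43) h4044 m2_4044
  have h4046 : ∀ u < 173978, (fun u => chkFix tab mwordsA u) u = true := ext_range (a := 173935) (len := 43) h4045 m2_4045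
  have h4047 : ∀ u < 174021, (fun u => chkFix tab mwordsA u) u = true := ext_range (a := 173978) (len := 43) h4046 m2_4046
  have h4048 : ∀ u < 174064, (fun u => chkFix tab mwordsA u) u = true := ext_range (a := 174021) (len := 43) h4047 m2_4047
  have h4049 : ∀ u < 174107, (fun u => chkFix tab mwordsA u) u = true := ext_range (a := 174064) (len := 43) h4048 m2_4048
  have h4050 : ∀ u < 174150, (fun u => chkFix tab mwordsA u) u = true := ext_range (a := 174107) (len := 43) h4049 m2_4049
  have h4051 : ∀ u < 174193, (fun u => chkFix tab mwordsA u) u = true := ext_range (a := 174150) (len := 43) h4050 m2_4050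
  have h4052 : ∀ u < 174236, (fun u => chkFix tab mwordsA u) u = true := ext_range (a := 174193) (len := 43) h4051 m2_4051
  have h4053 : ∀ u < 174279, (fun u => chkFix tab mwordsA u) u = true := ext_range (a := 174236) (len := 43) h4052 m2_4052
  have h4054 : ∀ u < 174322, (fun u => chkFix tab mwordsA u) u = true := ext_range (a := 174279) (len := 43) h4053 m2_4053
  have h4055 : ∀ u < 174365, (fun u => chkFix tab mwordsA u) u = true := ext_range (a := 174322) (len := 43) h4054 m2_4054
  have h4056 : ∀ u < 174408, (fun u => chkFix tab mwordsA u) u = true := ext_range (a := 174365) (len := 43) h4055 m2_4055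
  have h4057 : ∀ u < 174451, (fun u => chkFix tab mwordsA u) u = true := ext_range (a := 174408) (len := 43) h4056 m2_4056
  have h4058 : ∀ u < 174494, (fun u => chkFix tab mwordsA u) u = true := ext_range (a := 174451) (len := 43) h4057 m2_4057
  have h4059 : ∀ u < 174537, (fun u => chkFix tab mwordsA u) u = true := ext_range (a := 174494) (len := 43) h4058 m2_4058
  have h4060 : ∀ u < 174580, (fun u => chkFix tab mwordsA u) u = true := ext_range (a := 174537) (len := 43) h4059 m2_4059
  have h4061 : ∀ u < 174623, (fun u => chkFix tab mwordsA u) u = true := ext_range (a := 174580) (len := 43) h4060 m2_4060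
  have h4062 : ∀ u < 174666, (fun u => chkFix tab mwordsA u) u = true := ext_range (a := 174623) (len := 43) h4061 m2_4061
  have h4063 : ∀ u < 174709, (fun u => chkFix tab mwordsA u) u = true := ext_range (a := 174666) (len := 43) h4062 m2_4062
  have h4064 : ∀ u < 174752, (fun u => chkFix tab mwordsA u) u = true := ext_range (a := 174709) (len := 43) h4063 m2_4063
  have h4065 : ∀ u < 174795, (fun u => chkFix tab mwordsA u) u = true := ext_range (a := 174752) (len := 43) h4064 m2_4064
  have h4066 : ∀ u < 174838, (fun u => chkFix tab mwordsA u) u = true := ext_range (a := 174795) (len := 43) h4065 m2_4065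
  have h4067 : ∀ u < 174881, (fun u => chkFix tab mwordsA u) u = true := ext_range (a := 174838) (len := 43) h4066 m2_4066
  have h4068 : ∀ u < 174924, (fun u => chkFix tab mwordsA u) u = true := ext_range (a := 174881) (len := 43) h4067 m2_4067
  have h4069 : ∀ u < 174967, (fun u => chkFix tab mwordsA u) u = true := ext_range (a := 174924) (len := 43) h4068 m2_4068
  have h4070 : ∀ u < 175010, (fun u => chkFix tab mwordsA u) u = true := ext_range (a := 174967) (len := 43) h4069 m2_4069
  have h4071 : ∀ u < 175053, (fun u => chkFix tab mwordsA u) u = true := ext_range (a := 175010) (len := 43) h4070 m2_4070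
  have h4072 : ∀ u < 175096, (fun u => chkFix tab mwordsA u) u = true := ext_range (a := 175053) (len := 43) h4071 m2_4071
  have h4073 : ∀ u < 175139, (fun u => chkFix tab mwordsA u) u = true := ext_range (a := 175096) (len := 43) h4072 m2_4072
  have h4074 : ∀ u < 175182, (fun u => chkFix tab mwordsA u) u = true := ext_range (a := 175139) (len := 43) h4073 m2_4073
  have h4075 : ∀ u < 175225, (fun u => chkFix tab mwordsA u) u = true := ext_range (a := 175182) (len := 43) h4074 m2_4074
  have h4076 : ∀ u < 175268, (fun u => chkFix tab mwordsA u) u = true := ext_range (a := 175225) (len := 43) h4075 m2_4075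
  have h4077 : ∀ u < 175311, (fun u => chkFix tab mwordsA u) u = true := ext_range (a := 175268) (len := 43) h4076 m2_4076
  have h4078 : ∀ u < 175354, (fun u => chkFix tab mwordsA u) u = true := ext_range (a := 175311) (len := 43) h4077 m2_4077
  have h4079 : ∀ u < 175397, (fun u => chkFix tab mwordsA u) u = true := ext_range (a := 175354) (len := 43) h4078 m2_4078
  have h4080 : ∀ u < 175440, (fun u => chkFix tab mwordsA u) u = true := ext_range (a := 175397) (len := 43) h4079 m2_4079
  have h4081 : ∀ u < 175483, (fun u => chkFix tab mwordsA u) u = true := ext_range (a := 175440) (len := 43) h4080 m2_4080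
  have h4082 : ∀ u < 175526, (fun u => chkFix tab mwordsA u) u = true := ext_range (a := 175483) (len := 43) h4081 m2_4081
  have h4083 : ∀ u < 175569, (fun u => chkFix tab mwordsA u) u = true := ext_range (a := 175526) (len := 43) h4082 m2_4082
  have h4084 : ∀ u < 175612, (fun u => chkFix tab mwordsA u) u = true := ext_range (a := 175569) (len := 43) h4083 m2_4083
  have h4085 : ∀ u < 175655, (fun u => chkFix tab mwordsA u) u = true := ext_range (a := 175612) (len := 43) h4084 m2_4084
  have h4086 : ∀ u < 175698, (fun u => chkFix tab mwordsA u) u = true := ext_range (a := 175655) (len := 43) h4085 m2_4085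
  have h4087 : ∀ u < 175741, (fun u => chkFix tab mwordsA u) u = true := ext_range (a := 175698) (len := 43) h4086 m2_4086
  have h4088 : ∀ u < 175784, (fun u => chkFix tab mwordsA u) u = true := ext_range (a := 175741) (len := 43) h4087 m2_4087
  have h4089 : ∀ u < 175827, (fun u => chkFix tab mwordsA u) u = true := ext_range (a := 175784) (len := 43) h4088 m2_4088
  have h4090 : ∀ u < 175870, (fun u => chkFix tab mwordsA u) u = true := ext_range (a := 175827) (len := 43) h4089 m2_4089
  have h4091 : ∀ u < 175913, (fun u => chkFix tab mwordsA u) u = true := ext_range (a := 175870) (len := 43) h4090 m2_4090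
  have h4092 : ∀ u < 175956, (fun u => chkFix tab mwordsA u) u = true := ext_range (a := 175913) (len := 43) h4091 m2_4091
  have h4093 : ∀ u < 175999, (fun u => chkFix tab mwordsA u) u = true := ext_range (a := 175956) (len := 43) h4092 m2_4092
  have h4094 : ∀ u < 176042, (fun u => chkFix tab mwordsA u) u = true := ext_range (a := 175999) (len := 43) h4093 m2_4093
  have h4095 : ∀ u < 176085, (fun u => chkFix tab mwordsA u) u = true := ext_range (a := 176042) (len := 43) h4094 m2_4094
  have h4096 : ∀ u < 176128, (fun u => chkFix tab mwordsA u) u = true := ext_range (a := 176085) (len := 43) h4095 m2_4095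
  have h4097 : ∀ u < 176171, (fun u => chkFix tab mwordsA u) u = true := ext_range (a := 176128) (len := 43) h4096 m2_4096
  have h4098 : ∀ u < 176214, (fun u => chkFix tab mwordsA u) u = true := ext_range (a := 176171) (len := 43) h4097 m2_4097
  have h4099 : ∀ u < 176257, (fun u => chkFix tab mwordsA u) u = true := ext_range (a := 176214) (len := 43) h4098 m2_4098
  have h4100 : ∀ u < 176300, (fun u => chkFix tab mwordsA u) u = true := ext_range (a := 176257) (len := 43) h4099 m2_4099
  have h4101 : ∀ u < 176343, (fun u => chkFix tab mwordsA u) u = true := ext_range (a := 176300) (len := 43) h4100 m2_4100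
  have h4102 : ∀ u < 176386, (fun u => chkFix tab mwordsA u) u = true := ext_range (a := 176343) (len := 43) h4101 m2_4101
  have h4103 : ∀ u < 176429, (fun u => chkFix tab mwordsA u) u = true := ext_range (a := 176386) (len := 43) h4102 m2_4102
  have h4104 : ∀ u < 176472, (fun u => chkFix tab mwordsA u) u = true := ext_range (a := 176429) (len := 43) h4103 m2_4103
  have h4105 : ∀ u < 176515, (fun u => chkFix tab mwordsA u) u = true := ext_range (a := 176472) (len := 43) h4104 m2_4104
  have h4106 : ∀ u < 176558, (fun u => chkFix tab mwordsA u) u = true := ext_range (a := 176515) (len := 43) h4105 m2_4105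
  have h4107 : ∀ u < 176601, (fun u => chkFix tab mwordsA u) u = true := ext_range (a := 176558) (len := 43) h4106 m2_4106
  have h4108 : ∀ u < 176644, (fun u => chkFix tab mwordsA u) u = true := ext_range (a := 176601) (len := 43) h4107 m2_4107
  have h4109 : ∀ u < 176687, (fun u => chkFix tab mwordsA u) u = true := ext_range (a := 176644) (len := 43) h4108 m2_4108
  have h4110 : ∀ u < 176730, (fun u => chkFix tab mwordsA u) u = true := ext_range (a := 176687) (len := 43) h4109 m2_4109
  have h4111 : ∀ u < 176773, (fun u => chkFix tab mwordsA u) u = true := ext_range (a := 176730) (len := 43) h4110 m2_4110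
  have h4112 : ∀ u < 176816, (fun u => chkFix tab mwordsA u) u = true := ext_range (a := 176773) (len := 43) h4111 m2_4111
  have h4113 : ∀ u < 176859, (fun u => chkFix tab mwordsA u) u = true := ext_range (a := 176816) (len := 43) h4112 m2_4112
  have h4114 : ∀ u < 176902, (fun u => chkFix tab mwordsA u) u = true := ext_range (a := 176859) (len := 43) h4113 m2_4113
  have h4115 : ∀ u < 176945, (fun u => chkFix tab mwordsA u) u = true := ext_range (a := 176902) (len := 43) h4114 m2_4114
  have h4116 : ∀ u < 176988, (fun u => chkFix tab mwordsA u) u = true := ext_range (a := 176945) (len := 43) h4115 m2_4115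
  have h4117 : ∀ u < 177031, (fun u => chkFix tab mwordsA u) u = true := ext_range (a := 176988) (len := 43) h4116 m2_4116
  have h4118 : ∀ u < 177074, (fun u => chkFix tab mwordsA u) u = true := ext_range (a := 177031) (len := 43) h4117 m2_4117
  have h4119 : ∀ u < 177117, (fun u => chkFix tab mwordsA u) u = true := ext_range (a := 177074) (len := 43) h4118 m2_4118
  have h4120 : ∀ u < 177160, (fun u => chkFix tab mwordsA u) u = true := ext_range (a := 177117) (len := 43) h4119 m2_4119
  have h4121 : ∀ u < 177203, (fun u => chkFix tab mwordsA u) u = true := ext_range (a := 177160) (len := 43) h4120 m2_4120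
  have h4122 : ∀ u < 177246, (fun u => chkFix tab mwordsA u) u = true := ext_range (a := 177203) (len := 43) h4121 m2_4121
  have h4123 : ∀ u < 177289, (fun u => chkFix tab mwordsA u) u = true := ext_range (a := 177246) (len := 43) h4122 m2_4122
  have h4124 : ∀ u < 177332, (fun u => chkFix tab mwordsA u) u = true := ext_range (a := 177289) (len := 43) h4123 m2_4123
  have h4125 : ∀ u < 177375, (fun u => chkFix tab mwordsA u) u = true := ext_range (a := 177332) (len := 43) h4124 m2_4124
  have h4126 : ∀ u < 177418, (fun u => chkFix tab mwordsA u) u = true := ext_range (a := 177375) (len := 43) h4125 m2_4125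
  have h4127 : ∀ u < 177461, (fun u => chkFix tab mwordsA u) u = true := ext_range (a := 177418) (len := 43) h4126 m2_4126
  have h4128 : ∀ u < 177504, (fun u => chkFix tab mwordsA u) u = true := ext_range (a := 177461) (len := 43) h4127 m2_4127
  have h4129 : ∀ u < 177547, (fun u => chkFix tab mwordsA u) u = true := ext_range (a := 177504) (len := 43) h4128 m2_4128
  have h4130 : ∀ u < 177590, (fun u => chkFix tab mwordsA u) u = true := ext_range (a := 177547) (len := 43) h4129 m2_4129
  have h4131 : ∀ u < 177633, (fun u => chkFix tab mwordsA u) u = true := ext_range (a := 177590) (len := 43) h4130 m2_4130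
  have h4132 : ∀ u < 177676, (fun u => chkFix tab mwordsA u) u = true := ext_range (a := 177633) (len := 43) h4131 m2_4131
  have h4133 : ∀ u < 177719, (fun u => chkFix tab mwordsA u) u = true := ext_range (a := 177676) (len := 43) h4132 m2_4132
  have h4134 : ∀ u < 177762, (fun u => chkFix tab mwordsA u) u = true := ext_range (a := 177719) (len := 43) h4133 m2_4133
  have h4135 : ∀ u < 177805, (fun u => chkFix tab mwordsA u) u = true := ext_range (a := 177762) (len := 43) h4134 m2_4134
  have h4136 : ∀ u < 177848, (fun u => chkFix tab mwordsA u) u = true := ext_range (a := 177805) (len := 43) h4135 m2_4135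
  have h4137 : ∀ u < 177891, (fun u => chkFix tab mwordsA u) u = true := ext_range (a := 177848) (len := 43) h4136 m2_4136
  have h4138 : ∀ u < 177934, (fun u => chkFix tab mwordsA u) u = true := ext_range (a := 177891) (len := 43) h4137 m2_4137
  have h4139 : ∀ u < 177977, (fun u => chkFix tab mwordsA u) u = true := ext_range (a := 177934) (len := 43) h4138 m2_4138
  have h4140 : ∀ u < 178020, (fun u => chkFix tab mwordsA u) u = true := ext_range (a := 177977) (len := 43) h4139 m2_4139
  have h4141 : ∀ u < 178063, (fun u => chkFix tab mwordsA u) u = true := ext_range (a := 178020) (len := 43) h4140 m2_4140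
  have h4142 : ∀ u < 178106, (fun u => chkFix tab mwordsA u) u = true := ext_range (a := 178063) (len := 43) h4141 m2_4141
  have h4143 : ∀ u < 178149, (fun u => chkFix tab mwordsA u) u = true := ext_range (a := 178106) (len := 43) h4142 m2_4142
  have h4144 : ∀ u < 178192, (fun u => chkFix tab mwordsA u) u = true := ext_range (a := 178149) (len := 43) h4143 m2_4143
  have h4145 : ∀ u < 178235, (fun u => chkFix tab mwordsA u) u = true := ext_range (a := 178192) (len := 43) h4144 m2_4144
  have h4146 : ∀ u < 178278, (fun u => chkFix tab mwordsA u) u = true := ext_range (a := 178235) (len := 43) h4145 m2_4145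
  have h4147 : ∀ u < 178321, (fun u => chkFix tab mwordsA u) u = true := ext_range (a := 178278) (len := 43) h4146 m2_4146
  have h4148 : ∀ u < 178364, (fun u => chkFix tab mwordsA u) u = true := ext_range (a := 178321) (len := 43) h4147 m2_4147
  have h4149 : ∀ u < 178407, (fun u => chkFix tab mwordsA u) u = true := ext_range (a := 178364) (len := 43) h4148 m2_4148
  have h4150 : ∀ u < 178450, (fun u => chkFix tab mwordsA u) u = true := ext_range (a := 178407) (len := 43) h4149 m2_4149
  have h4151 : ∀ u < 178493, (fun u => chkFix tab mwordsA u) u = true := ext_range (a := 178450) (len := 43) h4150 m2_4150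
  have h4152 : ∀ u < 178536, (fun u => chkFix tab mwordsA u) u = true := ext_range (a := 178493) (len := 43) h4151 m2_4151
  have h4153 : ∀ u < 178579, (fun u => chkFix tab mwordsA u) u = true := ext_range (a := 178536) (len := 43) h4152 m2_4152
  have h4154 : ∀ u < 178622, (fun u => chkFix tab mwordsA u) u = true := ext_range (a := 178579) (len := 43) h4153 m2_4153
  have h4155 : ∀ u < 178665, (fun u => chkFix tab mwordsA u) u = true := ext_range (a := 178622) (len := 43) h4154 m2_4154
  have h4156 : ∀ u < 178708, (fun u => chkFix tab mwordsA u) u = true := ext_range (a := 178665) (len := 43) h4155 m2_4155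
  have h4157 : ∀ u < 178751, (fun u => chkFix tab mwordsA u) u = true := ext_range (a := 178708) (len := 43) h4156 m2_4156
  have h4158 : ∀ u < 178794, (fun u => chkFix tab mwordsA u) u = true := ext_range (a := 178751) (len := 43) h4157 m2_4157
  have h4159 : ∀ u < 178837, (fun u => chkFix tab mwordsA u) u = true := ext_range (a := 178794) (len := 43) h4158 m2_4158
  have h4160 : ∀ u < 178880, (fun u => chkFix tab mwordsA u) u = true := ext_range (a := 178837) (len := 43) h4159 m2_4159
  have h4161 : ∀ u < 178923, (fun u => chkFix tab mwordsA u) u = true := ext_range (a := 178880) (len := 43) h4160 m2_4160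
  have h4162 : ∀ u < 178966, (fun u => chkFix tab mwordsA u) u = true := ext_range (a := 178923) (len := 43) h4161 m2_4161
  have h4163 : ∀ u < 179009, (fun u => chkFix tab mwordsA u) u = true := ext_range (a := 178966) (len := 43) h4162 m2_4162
  have h4164 : ∀ u < 179052, (fun u => chkFix tab mwordsA u) u = true := ext_range (a := 179009) (len := 43) h4163 m2_4163
  have h4165 : ∀ u < 179095, (fun u => chkFix tab mwordsA u) u = true := ext_range (a := 179052) (len := 43) h4164 m2_4164
  have h4166 : ∀ u < 179138, (fun u => chkFix tab mwordsA u) u = true := ext_range (a := 179095) (len := 43) h4165 m2_4165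
  have h4167 : ∀ u < 179181, (fun u => chkFix tab mwordsA u) u = true := ext_range (a := 179138) (len := 43) h4166 m2_4166
  have h4168 : ∀ u < 179224, (fun u => chkFix tab mwordsA u) u = true := ext_range (a := 179181) (len := 43) h4167 m2_4167
  have h4169 : ∀ u < 179267, (fun u => chkFix tab mwordsA u) u = true := ext_range (a := 179224) (len := 43) h4168 m2_4168
  have h4170 : ∀ u < 179310, (fun u => chkFix tab mwordsA u) u = true := ext_range (a := 179267) (len := 43) h4169 m2_4169
  have h4171 : ∀ u < 179353, (fun u => chkFix tab mwordsA u) u = true := ext_range (a := 179310) (len := 43) h4170 m2_4170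
  have h4172 : ∀ u < 179396, (fun u => chkFix tab mwordsA u) u = true := ext_range (a := 179353) (len := 43) h4171 m2_4171
  have h4173 : ∀ u < 179439, (fun u => chkFix tab mwordsA u) u = true := ext_range (a := 179396) (len := 43) h4172 m2_4172
  have h4174 : ∀ u < 179482, (fun u => chkFix tab mwordsA u) u = true := ext_range (a := 179439) (len := 43) h4173 m2_4173
  have h4175 : ∀ u < 179525, (fun u => chkFix tab mwordsA u) u = true := ext_range (a := 179482) (len := 43) h4174 m2_4174
  have h4176 : ∀ u < 179568, (fun u => chkFix tab mwordsA u) u = true := ext_range (a := 179525) (len := 43) h4175 m2_4175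
  have h4177 : ∀ u < 179611, (fun u => chkFix tab mwordsA u) u = true := ext_range (a := 179568) (len := 43) h4176 m2_4176
  have h4178 : ∀ u < 179654, (fun u => chkFix tab mwordsA u) u = true := ext_range (a := 179611) (len := 43) h4177 m2_4177
  have h4179 : ∀ u < 179697, (fun u => chkFix tab mwordsA u) u = true := ext_range (a := 179654) (len := 43) h4178 m2_4178
  have h4180 : ∀ u < 179740, (fun u => chkFix tab mwordsA u) u = true := ext_range (a := 179697) (len := 43) h4179 m2_4179
  have h4181 : ∀ u < 179783, (fun u => chkFix tab mwordsA u) u = true := ext_range (a := 179740) (len := 43) h4180 m2_4180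
  have h4182 : ∀ u < 179826, (fun u => chkFix tab mwordsA u) u = true := ext_range (a := 179783) (len := 43) h4181 m2_4181
  have h4183 : ∀ u < 179869, (fun u => chkFix tab mwordsA u) u = true := ext_range (a := 179826) (len := 43) h4182 m2_4182
  have h4184 : ∀ u < 179912, (fun u => chkFix tab mwordsA u) u = true := ext_range (a := 179869) (len := 43) h4183 m2_4183
  have h4185 : ∀ u < 179955, (fun u => chkFix tab mwordsA u) u = true := ext_range (a := 179912) (len := 43) h4184 m2_4184
  have h4186 : ∀ u < 179998, (fun u => chkFix tab mwordsA u) u = true := ext_range (a := 179955) (len := 43) h4185 m2_4185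
  have h4187 : ∀ u < 180041, (fun u => chkFix tab mwordsA u) u = true := ext_range (a := 179998) (len := 43) h4186 m2_4186
  have h4188 : ∀ u < 180084, (fun u => chkFix tab mwordsA u) u = true := ext_range (a := 180041) (len := 43) h4187 m2_4187
  have h4189 : ∀ u < 180127, (fun u => chkFix tab mwordsA u) u = true := ext_range (a := 180084) (len := 43) h4188 m2_4188
  have h4190 : ∀ u < 180170, (fun u => chkFix tab mwordsA u) u = true := ext_range (a := 180127) (len := 43) h4189 m2_4189
  have h4191 : ∀ u < 180213, (fun u => chkFix tab mwordsA u) u = true := ext_range (a := 180170) (len := 43) h4190 m2_4190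
  have h4192 : ∀ u < 180256, (fun u => chkFix tab mwordsA u) u = true := ext_range (a := 180213) (len := 43) h4191 m2_4191
  have h4193 : ∀ u < 180299, (fun u => chkFix tab mwordsA u) u = true := ext_range (a := 180256) (len := 43) h4192 m2_4192
  have h4194 : ∀ u < 180342, (fun u => chkFix tab mwordsA u) u = true := ext_range (a := 180299) (len := 43) h4193 m2_4193
  have h4195 : ∀ u < 180385, (fun u => chkFix tab mwordsA u) u = true := ext_range (a := 180342) (len := 43) h4194 m2_4194
  have h4196 : ∀ u < 180428, (fun u => chkFix tab mwordsA u) u = true := ext_range (a := 180385) (len := 43) h4195 m2_4195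
  have h4197 : ∀ u < 180471, (fun u => chkFix tab mwordsA u) u = true := ext_range (a := 180428) (len := 43) h4196 m2_4196
  have h4198 : ∀ u < 180514, (fun u => chkFix tab mwordsA u) u = true := ext_range (a := 180471) (len := 43) h4197 m2_4197
  have h4199 : ∀ u < 180557, (fun u => chkFix tab mwordsA u) u = true := ext_range (a := 180514) (len := 43) h4198 m2_4198
  have h4200 : ∀ u < 180600, (fun u => chkFix tab mwordsA u) u = true := ext_range (a := 180557) (len := 43) h4199 m2_4199
  have h4201 : ∀ u < 180643, (fun u => chkFix tab mwordsA u) u = true := ext_range (a := 180600) (len := 43) h4200 m2_4200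
  have h4202 : ∀ u < 180686, (fun u => chkFix tab mwordsA u) u = true := ext_range (a := 180643) (len := 43) h4201 m2_4201
  have h4203 : ∀ u < 180729, (fun u => chkFix tab mwordsA u) u = true := ext_range (a := 180686) (len := 43) h4202 m2_4202
  have h4204 : ∀ u < 180772, (fun u => chkFix tab mwordsA u) u = true := ext_range (a := 180729) (len := 43) h4203 m2_4203
  have h4205 : ∀ u < 180815, (fun u => chkFix tab mwordsA u) u = true := ext_range (a := 180772) (len := 43) h4204 m2_4204
  have h4206 : ∀ u < 180858, (fun u => chkFix tab mwordsA u) u = true := ext_range (a := 180815) (len := 43) h4205 m2_4205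
  have h4207 : ∀ u < 180901, (fun u => chkFix tab mwordsA u) u = true := ext_range (a := 180858) (len := 43) h4206 m2_4206
  have h4208 : ∀ u < 180944, (fun u => chkFix tab mwordsA u) u = true := ext_range (a := 180901) (len := 43) h4207 m2_4207
  have h4209 : ∀ u < 180987, (fun u => chkFix tab mwordsA u) u = true := ext_range (a := 180944) (len := 43) h4208 m2_4208
  have h4210 : ∀ u < 181030, (fun u => chkFix tab mwordsA u) u = true := ext_range (a := 180987) (len := 43) h4209 m2_4209
  have h4211 : ∀ u < 181073, (fun u => chkFix tab mwordsA u) u = true := ext_range (a := 181030) (len := 43) h4210 m2_4210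
  have h4212 : ∀ u < 181116, (fun u => chkFix tab mwordsA u) u = true := ext_range (a := 181073) (len := 43) h4211 m2_4211
  have h4213 : ∀ u < 181159, (fun u => chkFix tab mwordsA u) u = true := ext_range (a := 181116) (len := 43) h4212 m2_4212
  have h4214 : ∀ u < 181202, (fun u => chkFix tab mwordsA u) u = true := ext_range (a := 181159) (len := 43) h4213 m2_4213
  have h4215 : ∀ u < 181245, (fun u => chkFix tab mwordsA u) u = true := ext_range (a := 181202) (len := 43) h4214 m2_4214
  have h4216 : ∀ u < 181288, (fun u => chkFix tab mwordsA u) u = true := ext_range (a := 181245) (len := 43) h4215 m2_4215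
  have h4217 : ∀ u < 181331, (fun u => chkFix tab mwordsA u) u = true := ext_range (a := 181288) (len := 43) h4216 m2_4216
  have h4218 : ∀ u < 181374, (fun u => chkFix tab mwordsA u) u = true := ext_range (a := 181331) (len := 43) h4217 m2_4217
  have h4219 : ∀ u < 181417, (fun u => chkFix tab mwordsA u) u = true := ext_range (a := 181374) (len := 43) h4218 m2_4218
  have h4220 : ∀ u < 181460, (fun u => chkFix tab mwordsA u) u = true := ext_range (a := 181417) (len := 43) h4219 m2_4219
  have h4221 : ∀ u < 181503, (fun u => chkFix tab mwordsA u) u = true := ext_range (a := 181460) (len := 43) h4220 m2_4220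
  have h4222 : ∀ u < 181546, (fun u => chkFix tab mwordsA u) u = true := ext_range (a := 181503) (len := 43) h4221 m2_4221
  have h4223 : ∀ u < 181589, (fun u => chkFix tab mwordsA u) u = true := ext_range (a := 181546) (len := 43) h4222 m2_4222
  have h4224 : ∀ u < 181632, (fun u => chkFix tab mwordsA u) u = true := ext_range (a := 181589) (len := 43) h4223 m2_4223
  have h4225 : ∀ u < 181675, (fun u => chkFix tab mwordsA u) u = true := ext_range (a := 181632) (len := 43) h4224 m2_4224
  have h4226 : ∀ u < 181718, (fun u => chkFix tab mwordsA u) u = true := ext_range (a := 181675) (len := 43) h4225 m2_4225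
  have h4227 : ∀ u < 181761, (fun u => chkFix tab mwordsA u) u = true := ext_range (a := 181718) (len := 43) h4226 m2_4226
  have h4228 : ∀ u < 181804, (fun u => chkFix tab mwordsA u) u = true := ext_range (a := 181761) (len := 43) h4227 m2_4227
  have h4229 : ∀ u < 181847, (fun u => chkFix tab mwordsA u) u = true := ext_range (a := 181804) (len := 43) h4228 m2_4228
  have h4230 : ∀ u < 181890, (fun u => chkFix tab mwordsA u) u = true := ext_range (a := 181847) (len := 43) h4229 m2_4229
  have h4231 : ∀ u < 181933, (fun u => chkFix tab mwordsA u) u = true := ext_range (a := 181890) (len := 43) h4230 m2_4230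
  have h4232 : ∀ u < 181976, (fun u => chkFix tab mwordsA u) u = true := ext_range (a := 181933) (len := 43) h4231 m2_4231
  have h4233 : ∀ u < 182019, (fun u => chkFix tab mwordsA u) u = true := ext_range (a := 181976) (len := 43) h4232 m2_4232
  have h4234 : ∀ u < 182062, (fun u => chkFix tab mwordsA u) u = true := ext_range (a := 182019) (len := 43) h4233 m2_4233
  have h4235 : ∀ u < 182105, (fun u => chkFix tab mwordsA u) u = true := ext_range (a := 182062) (len := 43) h4234 m2_4234
  have h4236 : ∀ u < 182148, (fun u => chkFix tab mwordsA u) u = true := ext_range (a := 182105) (len := 43) h4235 m2_4235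
  have h4237 : ∀ u < 182191, (fun u => chkFix tab mwordsA u) u = true := ext_range (a := 182148) (len := 43) h4236 m2_4236
  have h4238 : ∀ u < 182234, (fun u => chkFix tab mwordsA u) u = true := ext_range (a := 182191) (len := 43) h4237 m2_4237
  have h4239 : ∀ u < 182277, (fun u => chkFix tab mwordsA u) u = true := ext_range (a := 182234) (len := 43) h4238 m2_4238
  have h4240 : ∀ u < 182320, (fun u => chkFix tab mwordsA u) u = true := ext_range (a := 182277) (len := 43) h4239 m2_4239
  have h4241 : ∀ u < 182363, (fun u => chkFix tab mwordsA u) u = true := ext_range (a := 182320) (len := 43) h4240 m2_4240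
  have h4242 : ∀ u < 182406, (fun u => chkFix tab mwordsA u) u = true := ext_range (a := 182363) (len := 43) h4241 m2_4241
  have h4243 : ∀ u < 182449, (fun u => chkFix tab mwordsA u) u = true := ext_range (a := 182406) (len := 43) h4242 m2_4242
  have h4244 : ∀ u < 182492, (fun u => chkFix tab mwordsA u) u = true := ext_range (a := 182449) (len := 43) h4243 m2_4243
  have h4245 : ∀ u < 182535, (fun u => chkFix tab mwordsA u) u = true := ext_range (a := 182492) (len := 43) h4244 m2_4244
  have h4246 : ∀ u < 182578, (fun u => chkFix tab mwordsA u) u = true := ext_range (a := 182535) (len := 43) h4245 m2_4245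
  have h4247 : ∀ u < 182621, (fun u => chkFix tab mwordsA u) u = true := ext_range (a := 182578) (len := 43) h4246 m2_4246
  have h4248 : ∀ u < 182664, (fun u => chkFix tab mwordsA u) u = true := ext_range (a := 182621) (len := 43) h4247 m2_4247
  have h4249 : ∀ u < 182707, (fun u => chkFix tab mwordsA u) u = true := ext_range (a := 182664) (len := 43) h4248 m2_4248
  have h4250 : ∀ u < 182750, (fun u => chkFix tab mwordsA u) u = true := ext_range (a := 182707) (len := 43) h4249 m2_4249
  have h4251 : ∀ u < 182793, (fun u => chkFix tab mwordsA u) u = true := ext_range (a := 182750) (len := 43) h4250 m2_4250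
  have h4252 : ∀ u < 182836, (fun u => chkFix tab mwordsA u) u = true := ext_range (a := 182793) (len := 43) h4251 m2_4251
  have h4253 : ∀ u < 182879, (fun u => chkFix tab mwordsA u) u = true := ext_range (a := 182836) (len := 43) h4252 m2_4252
  have h4254 : ∀ u < 182922, (fun u => chkFix tab mwordsA u) u = true := ext_range (a := 182879) (len := 43) h4253 m2_4253
  have h4255 : ∀ u < 182965, (fun u => chkFix tab mwordsA u) u = true := ext_range (a := 182922) (len := 43) h4254 m2_4254
  have h4256 : ∀ u < 183008, (fun u => chkFix tab mwordsA u) u = true := ext_range (a := 182965) (len := 43) h4255 m2_4255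
  have h4257 : ∀ u < 183051, (fun u => chkFix tab mwordsA u) u = true := ext_range (a := 183008) (len := 43) h4256 m2_4256
  have h4258 : ∀ u < 183094, (fun u => chkFix tab mwordsA u) u = true := ext_range (a := 183051) (len := 43) h4257 m2_4257
  have h4259 : ∀ u < 183137, (fun u => chkFix tab mwordsA u) u = true := ext_range (a := 183094) (len := 43) h4258 m2_4258
  have h4260 : ∀ u < 183180, (fun u => chkFix tab mwordsA u) u = true := ext_range (a := 183137) (len := 43) h4259 m2_4259
  have h4261 : ∀ u < 183223, (fun u => chkFix tab mwordsA u) u = true := ext_range (a := 183180) (len := 43) h4260 m2_4260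
  have h4262 : ∀ u < 183266, (fun u => chkFix tab mwordsA u) u = true := ext_range (a := 183223) (len := 43) h4261 m2_4261
  have h4263 : ∀ u < 183309, (fun u => chkFix tab mwordsA u) u = true := ext_range (a := 183266) (len := 43) h4262 m2_4262
  have h4264 : ∀ u < 183352, (fun u => chkFix tab mwordsA u) u = true := ext_range (a := 183309) (len := 43) h4263 m2_4263
  have h4265 : ∀ u < 183395, (fun u => chkFix tab mwordsA u) u = true := ext_range (a := 183352) (len := 43) h4264 m2_4264
  have h4266 : ∀ u < 183438, (fun u => chkFix tab mwordsA u) u = true := ext_range (a := 183395) (len := 43) h4265 m2_4265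
  have h4267 : ∀ u < 183481, (fun u => chkFix tab mwordsA u) u = true := ext_range (a := 183438) (len := 43) h4266 m2_4266
  have h4268 : ∀ u < 183524, (fun u => chkFix tab mwordsA u) u = true := ext_range (a := 183481) (len := 43) h4267 m2_4267
  have h4269 : ∀ u < 183567, (fun u => chkFix tab mwordsA u) u = true := ext_range (a := 183524) (len := 43) h4268 m2_4268
  have h4270 : ∀ u < 183610, (fun u => chkFix tab mwordsA u) u = true := ext_range (a := 183567) (len := 43) h4269 m2_4269
  have h4271 : ∀ u < 183653, (fun u => chkFix tab mwordsA u) u = true := ext_range (a := 183610) (len := 43) h4270 m2_4270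
  have h4272 : ∀ u < 183696, (fun u => chkFix tab mwordsA u) u = true := ext_range (a := 183653) (len := 43) h4271 m2_4271
  have h4273 : ∀ u < 183739, (fun u => chkFix tab mwordsA u) u = true := ext_range (a := 183696) (len := 43) h4272 m2_4272
  have h4274 : ∀ u < 183782, (fun u => chkFix tab mwordsA u) u = true := ext_range (a := 183739) (len := 43) h4273 m2_4273
  have h4275 : ∀ u < 183825, (fun u => chkFix tab mwordsA u) u = true := ext_range (a := 183782) (len := 43) h4274 m2_4274
  have h4276 : ∀ u < 183868, (fun u => chkFix tab mwordsA u) u = true := ext_range (a := 183825) (len := 43) h4275 m2_4275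
  have h4277 : ∀ u < 183911, (fun u => chkFix tab mwordsA u) u = true := ext_range (a := 183868) (len := 43) h4276 m2_4276
  have h4278 : ∀ u < 183954, (fun u => chkFix tab mwordsA u) u = true := ext_range (a := 183911) (len := 43) h4277 m2_4277
  have h4279 : ∀ u < 183997, (fun u => chkFix tab mwordsA u) u = true := ext_range (a := 183954) (len := 43) h4278 m2_4278
  have h4280 : ∀ u < 184040, (fun u => chkFix tab mwordsA u) u = true := ext_range (a := 183997) (len := 43) h4279 m2_4279
  have h4281 : ∀ u < 184083, (fun u => chkFix tab mwordsA u) u = true := ext_range (a := 184040) (len := 43) h4280 m2_4280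
  have h4282 : ∀ u < 184126, (fun u => chkFix tab mwordsA u) u = true := ext_range (a := 184083) (len := 43) h4281 m2_4281
  have h4283 : ∀ u < 184169, (fun u => chkFix tab mwordsA u) u = true := ext_range (a := 184126) (len := 43) h4282 m2_4282
  have h4284 : ∀ u < 184212, (fun u => chkFix tab mwordsA u) u = true := ext_range (a := 184169) (len := 43) h4283 m2_4283
  have h4285 : ∀ u < 184255, (fun u => chkFix tab mwordsA u) u = true := ext_range (a := 184212) (len := 43) h4284 m2_4284
  have h4286 : ∀ u < 184298, (fun u => chkFix tab mwordsA u) u = true := ext_range (a := 184255) (len := 43) h4285 m2_4285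
  have h4287 : ∀ u < 184341, (fun u => chkFix tab mwordsA u) u = true := ext_range (a := 184298) (len := 43) h4286 m2_4286
  have h4288 : ∀ u < 184384, (fun u => chkFix tab mwordsA u) u = true := ext_range (a := 184341) (len := 43) h4287 m2_4287
  have h4289 : ∀ u < 184427, (fun u => chkFix tab mwordsA u) u = true := ext_range (a := 184384) (len := 43) h4288 m2_4288
  have h4290 : ∀ u < 184470, (fun u => chkFix tab mwordsA u) u = true := ext_range (a := 184427) (len := 43) h4289 m2_4289
  have h4291 : ∀ u < 184513, (fun u => chkFix tab mwordsA u) u = true := ext_range (a := 184470) (len := 43) h4290 m2_4290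
  have h4292 : ∀ u < 184556, (fun u => chkFix tab mwordsA u) u = true := ext_range (a := 184513) (len := 43) h4291 m2_4291
  have h4293 : ∀ u < 184599, (fun u => chkFix tab mwordsA u) u = true := ext_range (a := 184556) (len := 43) h4292 m2_4292
  have h4294 : ∀ u < 184642, (fun u => chkFix tab mwordsA u) u = true := ext_range (a := 184599) (len := 43) h4293 m2_4293
  have h4295 : ∀ u < 184685, (fun u => chkFix tab mwordsA u) u = true := ext_range (a := 184642) (len := 43) h4294 m2_4294
  have h4296 : ∀ u < 184728, (fun u => chkFix tab mwordsA u) u = true := ext_range (a := 184685) (len := 43) h4295 m2_4295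
  have h4297 : ∀ u < 184771, (fun u => chkFix tab mwordsA u) u = true := ext_range (a := 184728) (len := 43) h4296 m2_4296
  have h4298 : ∀ u < 184814, (fun u => chkFix tab mwordsA u) u = true := ext_range (a := 184771) (len := 43) h4297 m2_4297
  have h4299 : ∀ u < 184857, (fun u => chkFix tab mwordsA u) u = true := ext_range (a := 184814) (len := 43) h4298 m2_4298
  have h4300 : ∀ u < 184900, (fun u => chkFix tab mwordsA u) u = true := ext_range (a := 184857) (len := 43) h4299 m2_4299
  have h4301 : ∀ u < 184943, (fun u => chkFix tab mwordsA u) u = true := ext_range (a := 184900) (len := 43) h4300 m2_4300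
  have h4302 : ∀ u < 184986, (fun u => chkFix tab mwordsA u) u = true := ext_range (a := 184943) (len := 43) h4301 m2_4301
  have h4303 : ∀ u < 185029, (fun u => chkFix tab mwordsA u) u = true := ext_range (a := 184986) (len := 43) h4302 m2_4302
  have h4304 : ∀ u < 185072, (fun u => chkFix tab mwordsA u) u = true := ext_range (a := 185029) (len := 43) h4303 m2_4303
  have h4305 : ∀ u < 185115, (fun u => chkFix tab mwordsA u) u = true := ext_range (a := 185072) (len := 43) h4304 m2_4304
  have h4306 : ∀ u < 185158, (fun u => chkFix tab mwordsA u) u = true := ext_range (a := 185115) (len := 43) h4305 m2_4305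
  have h4307 : ∀ u < 185201, (fun u => chkFix tab mwordsA u) u = true := ext_range (a := 185158) (len := 43) h4306 m2_4306
  have h4308 : ∀ u < 185244, (fun u => chkFix tab mwordsA u) u = true := ext_range (a := 185201) (len := 43) h4307 m2_4307
  have h4309 : ∀ u < 185287, (fun u => chkFix tab mwordsA u) u = true := ext_range (a := 185244) (len := 43) h4308 m2_4308
  have h4310 : ∀ u < 185330, (fun u => chkFix tab mwordsA u) u = true := ext_range (a := 185287) (len := 43) h4309 m2_4309
  have h4311 : ∀ u < 185373, (fun u => chkFix tab mwordsA u) u = true := ext_range (a := 185330) (len := 43) h4310 m2_4310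
  have h4312 : ∀ u < 185416, (fun u => chkFix tab mwordsA u) u = true := ext_range (a := 185373) (len := 43) h4311 m2_4311
  have h4313 : ∀ u < 185459, (fun u => chkFix tab mwordsA u) u = true := ext_range (a := 185416) (len := 43) h4312 m2_4312
  have h4314 : ∀ u < 185502, (fun u => chkFix tab mwordsA u) u = true := ext_range (a := 185459) (len := 43) h4313 m2_4313
  have h4315 : ∀ u < 185545, (fun u => chkFix tab mwordsA u) u = true := ext_range (a := 185502) (len := 43) h4314 m2_4314
  have h4316 : ∀ u < 185588, (fun u => chkFix tab mwordsA u) u = true := ext_range (a := 185545) (len := 43) h4315 m2_4315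
  have h4317 : ∀ u < 185631, (fun u => chkFix tab mwordsA u) u = true := ext_range (a := 185588) (len := 43) h4316 m2_4316
  have h4318 : ∀ u < 185674, (fun u => chkFix tab mwordsA u) u = true := ext_range (a := 185631) (len := 43) h4317 m2_4317
  have h4319 : ∀ u < 185717, (fun u => chkFix tab mwordsA u) u = true := ext_range (a := 185674) (len := 43) h4318 m2_4318
  have h4320 : ∀ u < 185760, (fun u => chkFix tab mwordsA u) u = true := ext_range (a := 185717) (len := 43) h4319 m2_4319
  have h4321 : ∀ u < 185803, (fun u => chkFix tab mwordsA u) u = true := ext_range (a := 185760) (len := 43) h4320 m2_4320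
  have h4322 : ∀ u < 185846, (fun u => chkFix tab mwordsA u) u = true := ext_range (a := 185803) (len := 43) h4321 m2_4321
  have h4323 : ∀ u < 185889, (fun u => chkFix tab mwordsA u) u = true := ext_range (a := 185846) (len := 43) h4322 m2_4322
  have h4324 : ∀ u < 185932, (fun u => chkFix tab mwordsA u) u = true := ext_range (a := 185889) (len := 43) h4323 m2_4323
  have h4325 : ∀ u < 185975, (fun u => chkFix tab mwordsA u) u = true := ext_range (a := 185932) (len := 43) h4324 m2_4324
  have h4326 : ∀ u < 186018, (fun u => chkFix tab mwordsA u) u = true := ext_range (a := 185975) (len := 43) h4325 m2_4325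
  have h4327 : ∀ u < 186061, (fun u => chkFix tab mwordsA u) u = true := ext_range (a := 186018) (len := 43) h4326 m2_4326
  have h4328 : ∀ u < 186104, (fun u => chkFix tab mwordsA u) u = true := ext_range (a := 186061) (len := 43) h4327 m2_4327
  have h4329 : ∀ u < 186147, (fun u => chkFix tab mwordsA u) u = true := ext_range (a := 186104) (len := 43) h4328 m2_4328
  have h4330 : ∀ u < 186190, (fun u => chkFix tab mwordsA u) u = true := ext_range (a := 186147) (len := 43) h4329 m2_4329
  have h4331 : ∀ u < 186233, (fun u => chkFix tab mwordsA u) u = true := ext_range (a := 186190) (len := 43) h4330 m2_4330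
  have h4332 : ∀ u < 186276, (fun u => chkFix tab mwordsA u) u = true := ext_range (a := 186233) (len := 43) h4331 m2_4331
  have h4333 : ∀ u < 186319, (fun u => chkFix tab mwordsA u) u = true := ext_range (a := 186276) (len := 43) h4332 m2_4332
  have h4334 : ∀ u < 186362, (fun u => chkFix tab mwordsA u) u = true := ext_range (a := 186319) (len := 43) h4333 m2_4333
  have h4335 : ∀ u < 186405, (fun u => chkFix tab mwordsA u) u = true := ext_range (a := 186362) (len := 43) h4334 m2_4334
  have h4336 : ∀ u < 186448, (fun u => chkFix tab mwordsA u) u = true := ext_range (a := 186405) (len := 43) h4335 m2_4335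
  have h4337 : ∀ u < 186491, (fun u => chkFix tab mwordsA u) u = true := ext_range (a := 186448) (len := 43) h4336 m2_4336
  have h4338 : ∀ u < 186534, (fun u => chkFix tab mwordsA u) u = true := ext_range (a := 186491) (len := 43) h4337 m2_4337
  have h4339 : ∀ u < 186577, (fun u => chkFix tab mwordsA u) u = true := ext_range (a := 186534) (len := 43) h4338 m2_4338
  have h4340 : ∀ u < 186620, (fun u => chkFix tab mwordsA u) u = true := ext_range (a := 186577) (len := 43) h4339 m2_4339
  have h4341 : ∀ u < 186663, (fun u => chkFix tab mwordsA u) u = true := ext_range (a := 186620) (len := 43) h4340 m2_4340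
  have h4342 : ∀ u < 186706, (fun u => chkFix tab mwordsA u) u = true := ext_range (a := 186663) (len := 43) h4341 m2_4341
  have h4343 : ∀ u < 186749, (fun u => chkFix tab mwordsA u) u = true := ext_range (a := 186706) (len := 43) h4342 m2_4342
  have h4344 : ∀ u < 186792, (fun u => chkFix tab mwordsA u) u = true := ext_range (a := 186749) (len := 43) h4343 m2_4343
  have h4345 : ∀ u < 186835, (fun u => chkFix tab mwordsA u) u = true := ext_range (a := 186792) (len := 43) h4344 m2_4344
  have h4346 : ∀ u < 186878, (fun u => chkFix tab mwordsA u) u = true := ext_range (a := 186835) (len := 43) h4345 m2_4345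
  have h4347 : ∀ u < 186921, (fun u => chkFix tab mwordsA u) u = true := ext_range (a := 186878) (len := 43) h4346 m2_4346
  have h4348 : ∀ u < 186964, (fun u => chkFix tab mwordsA u) u = true := ext_range (a := 186921) (len := 43) h4347 m2_4347
  have h4349 : ∀ u < 187007, (fun u => chkFix tab mwordsA u) u = true := ext_range (a := 186964) (len := 43) h4348 m2_4348
  have h4350 : ∀ u < 187050, (fun u => chkFix tab mwordsA u) u = true := ext_range (a := 187007) (len := 43) h4349 m2_4349
  have h4351 : ∀ u < 187093, (fun u => chkFix tab mwordsA u) u = true := ext_range (a := 187050) (len := 43) h4350 m2_4350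
  have h4352 : ∀ u < 187136, (fun u => chkFix tab mwordsA u) u = true := ext_range (a := 187093) (len := 43) h4351 m2_4351
  have h4353 : ∀ u < 187179, (fun u => chkFix tab mwordsA u) u = true := ext_range (a := 187136) (len := 43) h4352 m2_4352
  have h4354 : ∀ u < 187222, (fun u => chkFix tab mwordsA u) u = true := ext_range (a := 187179) (len := 43) h4353 m2_4353
  have h4355 : ∀ u < 187265, (fun u => chkFix tab mwordsA u) u = true := ext_range (a := 187222) (len := 43) h4354 m2_4354
  have h4356 : ∀ u < 187308, (fun u => chkFix tab mwordsA u) u = true := ext_range (a := 187265) (len := 43) h4355 m2_4355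
  have h4357 : ∀ u < 187351, (fun u => chkFix tab mwordsA u) u = true := ext_range (a := 187308) (len := 43) h4356 m2_4356
  have h4358 : ∀ u < 187394, (fun u => chkFix tab mwordsA u) u = true := ext_range (a := 187351) (len := 43) h4357 m2_4357
  have h4359 : ∀ u < 187437, (fun u => chkFix tab mwordsA u) u = true := ext_range (a := 187394) (len := 43) h4358 m2_4358
  have h4360 : ∀ u < 187480, (fun u => chkFix tab mwordsA u) u = true := ext_range (a := 187437) (len := 43) h4359 m2_4359
  have h4361 : ∀ u < 187523, (fun u => chkFix tab mwordsA u) u = true := ext_range (a := 187480) (len := 43) h4360 m2_4360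
  have h4362 : ∀ u < 187566, (fun u => chkFix tab mwordsA u) u = true := ext_range (a := 187523) (len := 43) h4361 m2_4361
  have h4363 : ∀ u < 187609, (fun u => chkFix tab mwordsA u) u = true := ext_range (a := 187566) (len := 43) h4362 m2_4362
  have h4364 : ∀ u < 187652, (fun u => chkFix tab mwordsA u) u = true := ext_range (a := 187609) (len := 43) h4363 m2_4363
  have h4365 : ∀ u < 187695, (fun u => chkFix tab mwordsA u) u = true := ext_range (a := 187652) (len := 43) h4364 m2_4364
  have h4366 : ∀ u < 187738, (fun u => chkFix tab mwordsA u) u = true := ext_range (a := 187695) (len := 43) h4365 m2_4365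
  have h4367 : ∀ u < 187781, (fun u => chkFix tab mwordsA u) u = true := ext_range (a := 187738) (len := 43) h4366 m2_4366
  have h4368 : ∀ u < 187824, (fun u => chkFix tab mwordsA u) u = true := ext_range (a := 187781) (len := 43) h4367 m2_4367
  have h4369 : ∀ u < 187867, (fun u => chkFix tab mwordsA u) u = true := ext_range (a := 187824) (len := 43) h4368 m2_4368
  have h4370 : ∀ u < 187910, (fun u => chkFix tab mwordsA u) u = true := ext_range (a := 187867) (len := 43) h4369 m2_4369
  have h4371 : ∀ u < 187953, (fun u => chkFix tab mwordsA u) u = true := ext_range (a := 187910) (len := 43) h4370 m2_4370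
  have h4372 : ∀ u < 187996, (fun u => chkFix tab mwordsA u) u = true := ext_range (a := 187953) (len := 43) h4371 m2_4371
  have h4373 : ∀ u < 188039, (fun u => chkFix tab mwordsA u) u = true := ext_range (a := 187996) (len := 43) h4372 m2_4372
  have h4374 : ∀ u < 188082, (fun u => chkFix tab mwordsA u) u = true := ext_range (a := 188039) (len := 43) h4373 m2_4373
  have h4375 : ∀ u < 188125, (fun u => chkFix tab mwordsA u) u = true := ext_range (a := 188082) (len := 43) h4374 m2_4374
  have h4376 : ∀ u < 188168, (fun u => chkFix tab mwordsA u) u = true := ext_range (a := 188125) (len := 43) h4375 m2_4375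
  have h4377 : ∀ u < 188211, (fun u => chkFix tab mwordsA u) u = true := ext_range (a := 188168) (len := 43) h4376 m2_4376
  have h4378 : ∀ u < 188254, (fun u => chkFix tab mwordsA u) u = true := ext_range (a := 188211) (len := 43) h4377 m2_4377
  have h4379 : ∀ u < 188297, (fun u => chkFix tab mwordsA u) u = true := ext_range (a := 188254) (len := 43) h4378 m2_4378
  have h4380 : ∀ u < 188340, (fun u => chkFix tab mwordsA u) u = true := ext_range (a := 188297) (len := 43) h4379 m2_4379
  have h4381 : ∀ u < 188383, (fun u => chkFix tab mwordsA u) u = true := ext_range (a := 188340) (len := 43) h4380 m2_4380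
  have h4382 : ∀ u < 188426, (fun u => chkFix tab mwordsA u) u = true := ext_range (a := 188383) (len := 43) h4381 m2_4381
  have h4383 : ∀ u < 188469, (fun u => chkFix tab mwordsA u) u = true := ext_range (a := 188426) (len := 43) h4382 m2_4382
  have h4384 : ∀ u < 188512, (fun u => chkFix tab mwordsA u) u = true := ext_range (a := 188469) (len := 43) h4383 m2_4383
  have h4385 : ∀ u < 188555, (fun u => chkFix tab mwordsA u) u = true := ext_range (a := 188512) (len := 43) h4384 m2_4384
  have h4386 : ∀ u < 188598, (fun u => chkFix tab mwordsA u) u = true := ext_range (a := 188555) (len := 43) h4385 m2_4385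
  have h4387 : ∀ u < 188641, (fun u => chkFix tab mwordsA u) u = true := ext_range (a := 188598) (len := 43) h4386 m2_4386
  have h4388 : ∀ u < 188684, (fun u => chkFix tab mwordsA u) u = true := ext_range (a := 188641) (len := 43) h4387 m2_4387
  have h4389 : ∀ u < 188727, (fun u => chkFix tab mwordsA u) u = true := ext_range (a := 188684) (len := 43) h4388 m2_4388
  have h4390 : ∀ u < 188770, (fun u => chkFix tab mwordsA u) u = true := ext_range (a := 188727) (len := 43) h4389 m2_4389
  have h4391 : ∀ u < 188813, (fun u => chkFix tab mwordsA u) u = true := ext_range (a := 188770) (len := 43) h4390 m2_4390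
  have h4392 : ∀ u < 188856, (fun u => chkFix tab mwordsA u) u = true := ext_range (a := 188813) (len := 43) h4391 m2_4391
  have h4393 : ∀ u < 188899, (fun u => chkFix tab mwordsA u) u = true := ext_range (a := 188856) (len := 43) h4392 m2_4392
  have h4394 : ∀ u < 188942, (fun u => chkFix tab mwordsA u) u = true := ext_range (a := 188899) (len := 43) h4393 m2_4393
  have h4395 : ∀ u < 188985, (fun u => chkFix tab mwordsA u) u = true := ext_range (a := 188942) (len := 43) h4394 m2_4394
  have h4396 : ∀ u < 189028, (fun u => chkFix tab mwordsA u) u = true := ext_range (a := 188985) (len := 43) h4395 m2_4395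
  have h4397 : ∀ u < 189071, (fun u => chkFix tab mwordsA u) u = true := ext_range (a := 189028) (len := 43) h4396 m2_4396
  have h4398 : ∀ u < 189114, (fun u => chkFix tab mwordsA u) u = true := ext_range (a := 189071) (len := 43) h4397 m2_4397
  have h4399 : ∀ u < 189157, (fun u => chkFix tab mwordsA u) u = true := ext_range (a := 189114) (len := 43) h4398 m2_4398
  have h4400 : ∀ u < 189200, (fun u => chkFix tab mwordsA u) u = true := ext_range (a := 189157) (len := 43) h4399 m2_4399
  have h4401 : ∀ u < 189243, (fun u => chkFix tab mwordsA u) u = true := ext_range (a := 189200) (len := 43) h4400 m2_4400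
  have h4402 : ∀ u < 189286, (fun u => chkFix tab mwordsA u) u = true := ext_range (a := 189243) (len := 43) h4401 m2_4401
  have h4403 : ∀ u < 189329, (fun u => chkFix tab mwordsA u) u = true := ext_range (a := 189286) (len := 43) h4402 m2_4402
  have h4404 : ∀ u < 189372, (fun u => chkFix tab mwordsA u) u = true := ext_range (a := 189329) (len := 43) h4403 m2_4403
  have h4405 : ∀ u < 189415, (fun u => chkFix tab mwordsA u) u = true := ext_range (a := 189372) (len := 43) h4404 m2_4404
  have h4406 : ∀ u < 189458, (fun u => chkFix tab mwordsA u) u = true := ext_range (a := 189415) (len := 43) h4405 m2_4405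
  have h4407 : ∀ u < 189501, (fun u => chkFix tab mwordsA u) u = true := ext_range (a := 189458) (len := 43) h4406 m2_4406
  have h4408 : ∀ u < 189544, (fun u => chkFix tab mwordsA u) u = true := ext_range (a := 189501) (len := 43) h4407 m2_4407
  have h4409 : ∀ u < 189587, (fun u => chkFix tab mwordsA u) u = true := ext_range (a := 189544) (len := 43) h4408 m2_4408
  have h4410 : ∀ u < 189630, (fun u => chkFix tab mwordsA u) u = true := ext_range (a := 189587) (len := 43) h4409 m2_4409
  have h4411 : ∀ u < 189673, (fun u => chkFix tab mwordsA u) u = true := ext_range (a := 189630) (len := 43) h4410 m2_4410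
  have h4412 : ∀ u < 189716, (fun u => chkFix tab mwordsA u) u = true := ext_range (a := 189673) (len := 43) h4411 m2_4411
  have h4413 : ∀ u < 189759, (fun u => chkFix tab mwordsA u) u = true := ext_range (a := 189716) (len := 43) h4412 m2_4412
  have h4414 : ∀ u < 189802, (fun u => chkFix tab mwordsA u) u = true := ext_range (a := 189759) (len := 43) h4413 m2_4413
  have h4415 : ∀ u < 189845, (fun u => chkFix tab mwordsA u) u = true := ext_range (a := 189802) (len := 43) h4414 m2_4414
  have h4416 : ∀ u < 189888, (fun u => chkFix tab mwordsA u) u = true := ext_range (a := 189845) (len := 43) h4415 m2_4415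
  have h4417 : ∀ u < 189931, (fun u => chkFix tab mwordsA u) u = true := ext_range (a := 189888) (len := 43) h4416 m2_4416
  have h4418 : ∀ u < 189974, (fun u => chkFix tab mwordsA u) u = true := ext_range (a := 189931) (len := 43) h4417 m2_4417
  have h4419 : ∀ u < 190017, (fun u => chkFix tab mwordsA u) u = true := ext_range (a := 189974) (len := 43) h4418 m2_4418
  have h4420 : ∀ u < 190060, (fun u => chkFix tab mwordsA u) u = true := ext_range (a := 190017) (len := 43) h4419 m2_4419
  have h4421 : ∀ u < 190103, (fun u => chkFix tab mwordsA u) u = true := ext_range (a := 190060) (len := 43) h4420 m2_4420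
  have h4422 : ∀ u < 190146, (fun u => chkFix tab mwordsA u) u = true := ext_range (a := 190103) (len := 43) h4421 m2_4421
  have h4423 : ∀ u < 190189, (fun u => chkFix tab mwordsA u) u = true := ext_range (a := 190146) (len := 43) h4422 m2_4422
  have h4424 : ∀ u < 190232, (fun u => chkFix tab mwordsA u) u = true := ext_range (a := 190189) (len := 43) h4423 m2_4423
  have h4425 : ∀ u < 190275, (fun u => chkFix tab mwordsA u) u = true := ext_range (a := 190232) (len := 43) h4424 m2_4424
  have h4426 : ∀ u < 190318, (fun u => chkFix tab mwordsA u) u = true := ext_range (a := 190275) (len := 43) h4425 m2_4425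
  have h4427 : ∀ u < 190361, (fun u => chkFix tab mwordsA u) u = true := ext_range (a := 190318) (len := 43) h4426 m2_4426
  have h4428 : ∀ u < 190404, (fun u => chkFix tab mwordsA u) u = true := ext_range (a := 190361) (len := 43) h4427 m2_4427
  have h4429 : ∀ u < 190447, (fun u => chkFix tab mwordsA u) u = true := ext_range (a := 190404) (len := 43) h4428 m2_4428
  have h4430 : ∀ u < 190490, (fun u => chkFix tab mwordsA u) u = true := ext_range (a := 190447) (len := 43) h4429 m2_4429
  have h4431 : ∀ u < 190533, (fun u => chkFix tab mwordsA u) u = true := ext_range (a := 190490) (len := 43) h4430 m2_4430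
  have h4432 : ∀ u < 190576, (fun u => chkFix tab mwordsA u) u = true := ext_range (a := 190533) (len := 43) h4431 m2_4431
  have h4433 : ∀ u < 190619, (fun u => chkFix tab mwordsA u) u = true := ext_range (a := 190576) (len := 43) h4432 m2_4432
  have h4434 : ∀ u < 190662, (fun u => chkFix tab mwordsA u) u = true := ext_range (a := 190619) (len := 43) h4433 m2_4433
  have h4435 : ∀ u < 190705, (fun u => chkFix tab mwordsA u) u = true := ext_range (a := 190662) (len := 43) h4434 m2_4434
  have h4436 : ∀ u < 190748, (fun u => chkFix tab mwordsA u) u = true := ext_range (a := 190705) (len := 43) h4435 m2_4435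
  have h4437 : ∀ u < 190791, (fun u => chkFix tab mwordsA u) u = true := ext_range (a := 190748) (len := 43) h4436 m2_4436
  have h4438 : ∀ u < 190834, (fun u => chkFix tab mwordsA u) u = true := ext_range (a := 190791) (len := 43) h4437 m2_4437
  have h4439 : ∀ u < 190877, (fun u => chkFix tab mwordsA u) u = true := ext_range (a := 190834) (len := 43) h4438 m2_4438
  have h4440 : ∀ u < 190920, (fun u => chkFix tab mwordsA u) u = true := ext_range (a := 190877) (len := 43) h4439 m2_4439
  have h4441 : ∀ u < 190963, (fun u => chkFix tab mwordsA u) u = true := ext_range (a := 190920) (len := 43) h4440 m2_4440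
  have h4442 : ∀ u < 191006, (fun u => chkFix tab mwordsA u) u = true := ext_range (a := 190963) (len := 43) h4441 m2_4441
  have h4443 : ∀ u < 191049, (fun u => chkFix tab mwordsA u) u = true := ext_range (a := 191006) (len := 43) h4442 m2_4442
  have h4444 : ∀ u < 191092, (fun u => chkFix tab mwordsA u) u = true := ext_range (a := 191049) (len := 43) h4443 m2_4443
  have h4445 : ∀ u < 191135, (fun u => chkFix tab mwordsA u) u = true := ext_range (a := 191092) (len := 43) h4444 m2_4444
  have h4446 : ∀ u < 191178, (fun u => chkFix tab mwordsA u) u = true := ext_range (a := 191135) (len := 43) h4445 m2_4445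
  have h4447 : ∀ u < 191221, (fun u => chkFix tab mwordsA u) u = true := ext_range (a := 191178) (len := 43) h4446 m2_4446
  have h4448 : ∀ u < 191264, (fun u => chkFix tab mwordsA u) u = true := ext_range (a := 191221) (len := 43) h4447 m2_4447
  have h4449 : ∀ u < 191307, (fun u => chkFix tab mwordsA u) u = true := ext_range (a := 191264) (len := 43) h4448 m2_4448
  have h4450 : ∀ u < 191350, (fun u => chkFix tab mwordsA u) u = true := ext_range (a := 191307) (len := 43) h4449 m2_4449
  have h4451 : ∀ u < 191393, (fun u => chkFix tab mwordsA u) u = true := ext_range (a := 191350) (len := 43) h4450 m2_4450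
  have h4452 : ∀ u < 191436, (fun u => chkFix tab mwordsA u) u = true := ext_range (a := 191393) (len := 43) h4451 m2_4451
  have h4453 : ∀ u < 191479, (fun u => chkFix tab mwordsA u) u = true := ext_range (a := 191436) (len := 43) h4452 m2_4452
  have h4454 : ∀ u < 191522, (fun u => chkFix tab mwordsA u) u = true := ext_range (a := 191479) (len := 43) h4453 m2_4453
  have h4455 : ∀ u < 191565, (fun u => chkFix tab mwordsA u) u = true := ext_range (a := 191522) (len := 43) h4454 m2_4454
  have h4456 : ∀ u < 191608, (fun u => chkFix tab mwordsA u) u = true := ext_range (a := 191565) (len := 43) h4455 m2_4455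
  have h4457 : ∀ u < 191651, (fun u => chkFix tab mwordsA u) u = true := ext_range (a := 191608) (len := 43) h4456 m2_4456
  have h4458 : ∀ u < 191694, (fun u => chkFix tab mwordsA u) u = true := ext_range (a := 191651) (len := 43) h4457 m2_4457
  have h4459 : ∀ u < 191737, (fun u => chkFix tab mwordsA u) u = true := ext_range (a := 191694) (len := 43) h4458 m2_4458
  have h4460 : ∀ u < 191780, (fun u => chkFix tab mwordsA u) u = true := ext_range (a := 191737) (len := 43) h4459 m2_4459
  have h4461 : ∀ u < 191823, (fun u => chkFix tab mwordsA u) u = true := ext_range (a := 191780) (len := 43) h4460 m2_4460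
  have h4462 : ∀ u < 191866, (fun u => chkFix tab mwordsA u) u = true := ext_range (a := 191823) (len := 43) h4461 m2_4461
  have h4463 : ∀ u < 191909, (fun u => chkFix tab mwordsA u) u = true := ext_range (a := 191866) (len := 43) h4462 m2_4462
  have h4464 : ∀ u < 191952, (fun u => chkFix tab mwordsA u) u = true := ext_range (a := 191909) (len := 43) h4463 m2_4463
  have h4465 : ∀ u < 191995, (fun u => chkFix tab mwordsA u) u = true := ext_range (a := 191952) (len := 43) h4464 m2_4464
  have h4466 : ∀ u < 192038, (fun u => chkFix tab mwordsA u) u = true := ext_range (a := 191995) (len := 43) h4465 m2_4465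
  have h4467 : ∀ u < 192081, (fun u => chkFix tab mwordsA u) u = true := ext_range (a := 192038) (len := 43) h4466 m2_4466
  have h4468 : ∀ u < 192124, (fun u => chkFix tab mwordsA u) u = true := ext_range (a := 192081) (len := 43) h4467 m2_4467
  have h4469 : ∀ u < 192167, (fun u => chkFix tab mwordsA u) u = true := ext_range (a := 192124) (len := 43) h4468 m2_4468
  have h4470 : ∀ u < 192210, (fun u => chkFix tab mwordsA u) u = true := ext_range (a := 192167) (len := 43) h4469 m2_4469
  have h4471 : ∀ u < 192253, (fun u => chkFix tab mwordsA u) u = true := ext_range (a := 192210) (len := 43) h4470 m2_4470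
  have h4472 : ∀ u < 192296, (fun u => chkFix tab mwordsA u) u = true := ext_range (a := 192253) (len := 43) h4471 m2_4471
  have h4473 : ∀ u < 192339, (fun u => chkFix tab mwordsA u) u = true := ext_range (a := 192296) (len := 43) h4472 m2_4472
  have h4474 : ∀ u < 192382, (fun u => chkFix tab mwordsA u) u = true := ext_range (a := 192339) (len := 43) h4473 m2_4473
  have h4475 : ∀ u < 192425, (fun u => chkFix tab mwordsA u) u = true := ext_range (a := 192382) (len := 43) h4474 m2_4474
  have h4476 : ∀ u < 192468, (fun u => chkFix tab mwordsA u) u = true := ext_range (a := 192425) (len := 43) h4475 m2_4475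
  have h4477 : ∀ u < 192511, (fun u => chkFix tab mwordsA u) u = true := ext_range (a := 192468) (len := 43) h4476 m2_4476
  have h4478 : ∀ u < 192554, (fun u => chkFix tab mwordsA u) u = true := ext_range (a := 192511) (len := 43) h4477 m2_4477
  have h4479 : ∀ u < 192597, (fun u => chkFix tab mwordsA u) u = true := ext_range (a := 192554) (len := 43) h4478 m2_4478
  have h4480 : ∀ u < 192640, (fun u => chkFix tab mwordsA u) u = true := ext_range (a := 192597) (len := 43) h4479 m2_4479
  have h4481 : ∀ u < 192683, (fun u => chkFix tab mwordsA u) u = true := ext_range (a := 192640) (len := 43) h4480 m2_4480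
  have h4482 : ∀ u < 192726, (fun u => chkFix tab mwordsA u) u = true := ext_range (a := 192683) (len := 43) h4481 m2_4481
  have h4483 : ∀ u < 192769, (fun u => chkFix tab mwordsA u) u = true := ext_range (a := 192726) (len := 43) h4482 m2_4482
  have h4484 : ∀ u < 192812, (fun u => chkFix tab mwordsA u) u = true := ext_range (a := 192769) (len := 43) h4483 m2_4483
  have h4485 : ∀ u < 192855, (fun u => chkFix tab mwordsA u) u = true := ext_range (a := 192812) (len := 43) h4484 m2_4484
  have h4486 : ∀ u < 192898, (fun u => chkFix tab mwordsA u) u = true := ext_range (a := 192855) (len := 43) h4485 m2_4485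
  have h4487 : ∀ u < 192941, (fun u => chkFix tab mwordsA u) u = true := ext_range (a := 192898) (len := 43) h4486 m2_4486
  have h4488 : ∀ u < 192984, (fun u => chkFix tab mwordsA u) u = true := ext_range (a := 192941) (len := 43) h4487 m2_4487
  have h4489 : ∀ u < 193027, (fun u => chkFix tab mwordsA u) u = true := ext_range (a := 192984) (len := 43) h4488 m2_4488
  have h4490 : ∀ u < 193070, (fun u => chkFix tab mwordsA u) u = true := ext_range (a := 193027) (len := 43) h4489 m2_4489
  have h4491 : ∀ u < 193113, (fun u => chkFix tab mwordsA u) u = true := ext_range (a := 193070) (len := 43) h4490 m2_4490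
  have h4492 : ∀ u < 193156, (fun u => chkFix tab mwordsA u) u = true := ext_range (a := 193113) (len := 43) h4491 m2_4491
  have h4493 : ∀ u < 193199, (fun u => chkFix tab mwordsA u) u = true := ext_range (a := 193156) (len := 43) h4492 m2_4492
  have h4494 : ∀ u < 193242, (fun u => chkFix tab mwordsA u) u = true := ext_range (a := 193199) (len := 43) h4493 m2_4493
  have h4495 : ∀ u < 193285, (fun u => chkFix tab mwordsA u) u = true := ext_range (a := 193242) (len := 43) h4494 m2_4494
  have h4496 : ∀ u < 193328, (fun u => chkFix tab mwordsA u) u = true := ext_range (a := 193285) (len := 43) h4495 m2_4495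
  have h4497 : ∀ u < 193371, (fun u => chkFix tab mwordsA u) u = true := ext_range (a := 193328) (len := 43) h4496 m2_4496
  have h4498 : ∀ u < 193414, (fun u => chkFix tab mwordsA u) u = true := ext_range (a := 193371) (len := 43) h4497 m2_4497
  have h4499 : ∀ u < 193457, (fun u => chkFix tab mwordsA u) u = true := ext_range (a := 193414) (len := 43) h4498 m2_4498
  have h4500 : ∀ u < 193500, (fun u => chkFix tab mwordsA u) u = true := ext_range (a := 193457) (len := 43) h4499 m2_4499
  have h4501 : ∀ u < 193543, (fun u => chkFix tab mwordsA u) u = true := ext_range (a := 193500) (len := 43) h4500 m2_4500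
  have h4502 : ∀ u < 193586, (fun u => chkFix tab mwordsA u) u = true := ext_range (a := 193543) (len := 43) h4501 m2_4501
  have h4503 : ∀ u < 193629, (fun u => chkFix tab mwordsA u) u = true := ext_range (a := 193586) (len := 43) h4502 m2_4502
  have h4504 : ∀ u < 193672, (fun u => chkFix tab mwordsA u) u = true := ext_range (a := 193629) (len := 43) h4503 m2_4503
  have h4505 : ∀ u < 193715, (fun u => chkFix tab mwordsA u) u = true := ext_range (a := 193672) (len := 43) h4504 m2_4504
  have h4506 : ∀ u < 193758, (fun u => chkFix tab mwordsA u) u = true := ext_range (a := 193715) (len := 43) h4505 m2_4505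
  have h4507 : ∀ u < 193801, (fun u => chkFix tab mwordsA u) u = true := ext_range (a := 193758) (len := 43) h4506 m2_4506
  have h4508 : ∀ u < 193844, (fun u => chkFix tab mwordsA u) u = true := ext_range (a := 193801) (len := 43) h4507 m2_4507
  have h4509 : ∀ u < 193887, (fun u => chkFix tab mwordsA u) u = true := ext_range (a := 193844) (len := 43) h4508 m2_4508
  have h4510 : ∀ u < 193930, (fun u => chkFix tab mwordsA u) u = true := ext_range (a := 193887) (len := 43) h4509 m2_4509
  have h4511 : ∀ u < 193973, (fun u => chkFix tab mwordsA u) u = true := ext_range (a := 193930) (len := 43) h4510 m2_4510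
  have h4512 : ∀ u < 194016, (fun u => chkFix tab mwordsA u) u = true := ext_range (a := 193973) (len := 43) h4511 m2_4511
  have h4513 : ∀ u < 194059, (fun u => chkFix tab mwordsA u) u = true := ext_range (a := 194016) (len := 43) h4512 m2_4512
  have h4514 : ∀ u < 194102, (fun u => chkFix tab mwordsA u) u = true := ext_range (a := 194059) (len := 43) h4513 m2_4513
  have h4515 : ∀ u < 194145, (fun u => chkFix tab mwordsA u) u = true := ext_range (a := 194102) (len := 43) h4514 m2_4514
  have h4516 : ∀ u < 194188, (fun u => chkFix tab mwordsA u) u = true := ext_range (a := 194145) (len := 43) h4515 m2_4515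
  have h4517 : ∀ u < 194231, (fun u => chkFix tab mwordsA u) u = true := ext_range (a := 194188) (len := 43) h4516 m2_4516
  have h4518 : ∀ u < 194274, (fun u => chkFix tab mwordsA u) u = true := ext_range (a := 194231) (len := 43) h4517 m2_4517
  have h4519 : ∀ u < 194317, (fun u => chkFix tab mwordsA u) u = true := ext_range (a := 194274) (len := 43) h4518 m2_4518
  have h4520 : ∀ u < 194360, (fun u => chkFix tab mwordsA u) u = true := ext_range (a := 194317) (len := 43) h4519 m2_4519
  have h4521 : ∀ u < 194403, (fun u => chkFix tab mwordsA u) u = true := ext_range (a := 194360) (len := 43) h4520 m2_4520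
  have h4522 : ∀ u < 194446, (fun u => chkFix tab mwordsA u) u = true := ext_range (a := 194403) (len := 43) h4521 m2_4521
  have h4523 : ∀ u < 194489, (fun u => chkFix tab mwordsA u) u = true := ext_range (a := 194446) (len := 43) h4522 m2_4522
  have h4524 : ∀ u < 194532, (fun u => chkFix tab mwordsA u) u = true := ext_range (a := 194489) (len := 43) h4523 m2_4523
  have h4525 : ∀ u < 194575, (fun u => chkFix tab mwordsA u) u = true := ext_range (a := 194532) (len := 43) h4524 m2_4524
  have h4526 : ∀ u < 194618, (fun u => chkFix tab mwordsA u) u = true := ext_range (a := 194575) (len := 43) h4525 m2_4525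
  have h4527 : ∀ u < 194661, (fun u => chkFix tab mwordsA u) u = true := ext_range (a := 194618) (len := 43) h4526 m2_4526
  have h4528 : ∀ u < 194704, (fun u => chkFix tab mwordsA u) u = true := ext_range (a := 194661) (len := 43) h4527 m2_4527
  have h4529 : ∀ u < 194747, (fun u => chkFix tab mwordsA u) u = true := ext_range (a := 194704) (len := 43) h4528 m2_4528
  have h4530 : ∀ u < 194790, (fun u => chkFix tab mwordsA u) u = true := ext_range (a := 194747) (len := 43) h4529 m2_4529
  have h4531 : ∀ u < 194833, (fun u => chkFix tab mwordsA u) u = true := ext_range (a := 194790) (len := 43) h4530 m2_4530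
  have h4532 : ∀ u < 194876, (fun u => chkFix tab mwordsA u) u = true := ext_range (a := 194833) (len := 43) h4531 m2_4531
  have h4533 : ∀ u < 194919, (fun u => chkFix tab mwordsA u) u = true := ext_range (a := 194876) (len := 43) h4532 m2_4532
  have h4534 : ∀ u < 194962, (fun u => chkFix tab mwordsA u) u = true := ext_range (a := 194919) (len := 43) h4533 m2_4533
  have h4535 : ∀ u < 195005, (fun u => chkFix tab mwordsA u) u = true := ext_range (a := 194962) (len := 43) h4534 m2_4534
  have h4536 : ∀ u < 195048, (fun u => chkFix tab mwordsA u) u = true := ext_range (a := 195005) (len := 43) h4535 m2_4535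
  have h4537 : ∀ u < 195091, (fun u => chkFix tab mwordsA u) u = true := ext_range (a := 195048) (len := 43) h4536 m2_4536
  have h4538 : ∀ u < 195134, (fun u => chkFix tab mwordsA u) u = true := ext_range (a := 195091) (len := 43) h4537 m2_4537
  have h4539 : ∀ u < 195177, (fun u => chkFix tab mwordsA u) u = true := ext_range (a := 195134) (len := 43) h4538 m2_4538
  have h4540 : ∀ u < 195220, (fun u => chkFix tab mwordsA u) u = true := ext_range (a := 195177) (len := 43) h4539 m2_4539
  have h4541 : ∀ u < 195263, (fun u => chkFix tab mwordsA u) u = true := ext_range (a := 195220) (len := 43) h4540 m2_4540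
  have h4542 : ∀ u < 195306, (fun u => chkFix tab mwordsA u) u = true := ext_range (a := 195263) (len := 43) h4541 m2_4541
  have h4543 : ∀ u < 195349, (fun u => chkFix tab mwordsA u) u = true := ext_range (a := 195306) (len := 43) h4542 m2_4542
  have h4544 : ∀ u < 195392, (fun u => chkFix tab mwordsA u) u = true := ext_range (a := 195349) (len := 43) h4543 m2_4543
  have h4545 : ∀ u < 195435, (fun u => chkFix tab mwordsA u) u = true := ext_range (a := 195392) (len := 43) h4544 m2_4544
  have h4546 : ∀ u < 195478, (fun u => chkFix tab mwordsA u) u = true := ext_range (a := 195435) (len := 43) h4545 m2_4545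
  have h4547 : ∀ u < 195521, (fun u => chkFix tab mwordsA u) u = true := ext_range (a := 195478) (len := 43) h4546 m2_4546
  have h4548 : ∀ u < 195564, (fun u => chkFix tab mwordsA u) u = true := ext_range (a := 195521) (len := 43) h4547 m2_4547
  have h4549 : ∀ u < 195607, (fun u => chkFix tab mwordsA u) u = true := ext_range (a := 195564) (len := 43) h4548 m2_4548
  have h4550 : ∀ u < 195650, (fun u => chkFix tab mwordsA u) u = true := ext_range (a := 195607) (len := 43) h4549 m2_4549
  have h4551 : ∀ u < 195693, (fun u => chkFix tab mwordsA u) u = true := ext_range (a := 195650) (len := 43) h4550 m2_4550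
  have h4552 : ∀ u < 195736, (fun u => chkFix tab mwordsA u) u = true := ext_range (a := 195693) (len := 43) h4551 m2_4551
  have h4553 : ∀ u < 195779, (fun u => chkFix tab mwordsA u) u = true := ext_range (a := 195736) (len := 43) h4552 m2_4552
  have h4554 : ∀ u < 195822, (fun u => chkFix tab mwordsA u) u = true := ext_range (a := 195779) (len := 43) h4553 m2_4553
  have h4555 : ∀ u < 195865, (fun u => chkFix tab mwordsA u) u = true := ext_range (a := 195822) (len := 43) h4554 m2_4554
  have h4556 : ∀ u < 195908, (fun u => chkFix tab mwordsA u) u = true := ext_range (a := 195865) (len := 43) h4555 m2_4555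
  have h4557 : ∀ u < 195951, (fun u => chkFix tab mwordsA u) u = true := ext_range (a := 195908) (len := 43) h4556 m2_4556
  have h4558 : ∀ u < 195994, (fun u => chkFix tab mwordsA u) u = true := ext_range (a := 195951) (len := 43) h4557 m2_4557
  have h4559 : ∀ u < 196037, (fun u => chkFix tab mwordsA u) u = true := ext_range (a := 195994) (len := 43) h4558 m2_4558
  have h4560 : ∀ u < 196080, (fun u => chkFix tab mwordsA u) u = true := ext_range (a := 196037) (len := 43) h4559 m2_4559
  have h4561 : ∀ u < 196123, (fun u => chkFix tab mwordsA u) u = true := ext_range (a := 196080) (len := 43) h4560 m2_4560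
  have h4562 : ∀ u < 196166, (fun u => chkFix tab mwordsA u) u = true := ext_range (a := 196123) (len := 43) h4561 m2_4561
  have h4563 : ∀ u < 196209, (fun u => chkFix tab mwordsA u) u = true := ext_range (a := 196166) (len := 43) h4562 m2_4562
  have h4564 : ∀ u < 196252, (fun u => chkFix tab mwordsA u) u = true := ext_range (a := 196209) (len := 43) h4563 m2_4563
  have h4565 : ∀ u < 196295, (fun u => chkFix tab mwordsA u) u = true := ext_range (a := 196252) (len := 43) h4564 m2_4564
  have h4566 : ∀ u < 196338, (fun u => chkFix tab mwordsA u) u = true := ext_range (a := 196295) (len := 43) h4565 m2_4565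
  have h4567 : ∀ u < 196381, (fun u => chkFix tab mwordsA u) u = true := ext_range (a := 196338) (len := 43) h4566 m2_4566
  have h4568 : ∀ u < 196424, (fun u => chkFix tab mwordsA u) u = true := ext_range (a := 196381) (len := 43) h4567 m2_4567
  have h4569 : ∀ u < 196467, (fun u => chkFix tab mwordsA u) u = true := ext_range (a := 196424) (len := 43) h4568 m2_4568
  have h4570 : ∀ u < 196510, (fun u => chkFix tab mwordsA u) u = true := ext_range (a := 196467) (len := 43) h4569 m2_4569
  have h4571 : ∀ u < 196553, (fun u => chkFix tab mwordsA u) u = true := ext_range (a := 196510) (len := 43) h4570 m2_4570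
  have h4572 : ∀ u < 196596, (fun u => chkFix tab mwordsA u) u = true := ext_range (a := 196553) (len := 43) h4571 m2_4571
  have h4573 : ∀ u < 196639, (fun u => chkFix tab mwordsA u) u = true := ext_range (a := 196596) (len := 43) h4572 m2_4572
  have h4574 : ∀ u < 196682, (fun u => chkFix tab mwordsA u) u = true := ext_range (a := 196639) (len := 43) h4573 m2_4573
  have h4575 : ∀ u < 196725, (fun u => chkFix tab mwordsA u) u = true := ext_range (a := 196682) (len := 43) h4574 m2_4574
  have h4576 : ∀ u < 196768, (fun u => chkFix tab mwordsA u) u = true := ext_range (a := 196725) (len := 43) h4575 m2_4575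
  have h4577 : ∀ u < 196811, (fun u => chkFix tab mwordsA u) u = true := ext_range (a := 196768) (len := 43) h4576 m2_4576
  have h4578 : ∀ u < 196854, (fun u => chkFix tab mwordsA u) u = true := ext_range (a := 196811) (len := 43) h4577 m2_4577
  have h4579 : ∀ u < 196897, (fun u => chkFix tab mwordsA u) u = true := ext_range (a := 196854) (len := 43) h4578 m2_4578
  have h4580 : ∀ u < 196940, (fun u => chkFix tab mwordsA u) u = true := ext_range (a := 196897) (len := 43) h4579 m2_4579
  have h4581 : ∀ u < 196983, (fun u => chkFix tab mwordsA u) u = true := ext_range (a := 196940) (len := 43) h4580 m2_4580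
  have h4582 : ∀ u < 197026, (fun u => chkFix tab mwordsA u) u = true := ext_range (a := 196983) (len := 43) h4581 m2_4581
  have h4583 : ∀ u < 197069, (fun u => chkFix tab mwordsA u) u = true := ext_range (a := 197026) (len := 43) h4582 m2_4582
  have h4584 : ∀ u < 197112, (fun u => chkFix tab mwordsA u) u = true := ext_range (a := 197069) (len := 43) h4583 m2_4583
  have h4585 : ∀ u < 197155, (fun u => chkFix tab mwordsA u) u = true := ext_range (a := 197112) (len := 43) h4584 m2_4584
  have h4586 : ∀ u < 197198, (fun u => chkFix tab mwordsA u) u = true := ext_range (a := 197155) (len := 43) h4585 m2_4585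
  have h4587 : ∀ u < 197241, (fun u => chkFix tab mwordsA u) u = true := ext_range (a := 197198) (len := 43) h4586 m2_4586
  have h4588 : ∀ u < 197284, (fun u => chkFix tab mwordsA u) u = true := ext_range (a := 197241) (len := 43) h4587 m2_4587
  have h4589 : ∀ u < 197327, (fun u => chkFix tab mwordsA u) u = true := ext_range (a := 197284) (len := 43) h4588 m2_4588
  have h4590 : ∀ u < 197370, (fun u => chkFix tab mwordsA u) u = true := ext_range (a := 197327) (len := 43) h4589 m2_4589
  have h4591 : ∀ u < 197413, (fun u => chkFix tab mwordsA u) u = true := ext_range (a := 197370) (len := 43) h4590 m2_4590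
  have h4592 : ∀ u < 197456, (fun u => chkFix tab mwordsA u) u = true := ext_range (a := 197413) (len := 43) h4591 m2_4591
  have h4593 : ∀ u < 197499, (fun u => chkFix tab mwordsA u) u = true := ext_range (a := 197456) (len := 43) h4592 m2_4592
  have h4594 : ∀ u < 197542, (fun u => chkFix tab mwordsA u) u = true := ext_range (a := 197499) (len := 43) h4593 m2_4593
  have h4595 : ∀ u < 197585, (fun u => chkFix tab mwordsA u) u = true := ext_range (a := 197542) (len := 43) h4594 m2_4594
  have h4596 : ∀ u < 197628, (fun u => chkFix tab mwordsA u) u = true := ext_range (a := 197585) (len := 43) h4595 m2_4595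
  have h4597 : ∀ u < 197671, (fun u => chkFix tab mwordsA u) u = true := ext_range (a := 197628) (len := 43) h4596 m2_4596
  have h4598 : ∀ u < 197714, (fun u => chkFix tab mwordsA u) u = true := ext_range (a := 197671) (len := 43) h4597 m2_4597
  have h4599 : ∀ u < 197757, (fun u => chkFix tab mwordsA u) u = true := ext_range (a := 197714) (len := 43) h4598 m2_4598
  have h4600 : ∀ u < 197800, (fun u => chkFix tab mwordsA u) u = true := ext_range (a := 197757) (len := 43) h4599 m2_4599
  have h4601 : ∀ u < 197843, (fun u => chkFix tab mwordsA u) u = true := ext_range (a := 197800) (len := 43) h4600 m2_4600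
  have h4602 : ∀ u < 197886, (fun u => chkFix tab mwordsA u) u = true := ext_range (a := 197843) (len := 43) h4601 m2_4601
  have h4603 : ∀ u < 197929, (fun u => chkFix tab mwordsA u) u = true := ext_range (a := 197886) (len := 43) h4602 m2_4602
  have h4604 : ∀ u < 197972, (fun u => chkFix tab mwordsA u) u = true := ext_range (a := 197929) (len := 43) h4603 m2_4603
  have h4605 : ∀ u < 198015, (fun u => chkFix tab mwordsA u) u = true := ext_range (a := 197972) (len := 43) h4604 m2_4604
  have h4606 : ∀ u < 198058, (fun u => chkFix tab mwordsA u) u = true := ext_range (a := 198015) (len := 43) h4605 m2_4605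
  have h4607 : ∀ u < 198101, (fun u => chkFix tab mwordsA u) u = true := ext_range (a := 198058) (len := 43) h4606 m2_4606
  have h4608 : ∀ u < 198144, (fun u => chkFix tab mwordsA u) u = true := ext_range (a := 198101) (len := 43) h4607 m2_4607
  have h4609 : ∀ u < 198187, (fun u => chkFix tab mwordsA u) u = true := ext_range (a := 198144) (len := 43) h4608 m2_4608
  have h4610 : ∀ u < 198230, (fun u => chkFix tab mwordsA u) u = true := ext_range (a := 198187) (len := 43) h4609 m2_4609
  have h4611 : ∀ u < 198273, (fun u => chkFix tab mwordsA u) u = true := ext_range (a := 198230) (len := 43) h4610 m2_4610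
  have h4612 : ∀ u < 198316, (fun u => chkFix tab mwordsA u) u = true := ext_range (a := 198273) (len := 43) h4611 m2_4611
  have h4613 : ∀ u < 198359, (fun u => chkFix tab mwordsA u) u = true := ext_range (a := 198316) (len := 43) h4612 m2_4612
  have h4614 : ∀ u < 198402, (fun u => chkFix tab mwordsA u) u = true := ext_range (a := 198359) (len := 43) h4613 m2_4613
  have h4615 : ∀ u < 198445, (fun u => chkFix tab mwordsA u) u = true := ext_range (a := 198402) (len := 43) h4614 m2_4614
  have h4616 : ∀ u < 198488, (fun u => chkFix tab mwordsA u) u = true := ext_range (a := 198445) (len := 43) h4615 m2_4615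
  have h4617 : ∀ u < 198531, (fun u => chkFix tab mwordsA u) u = true := ext_range (a := 198488) (len := 43) h4616 m2_4616
  have h4618 : ∀ u < 198574, (fun u => chkFix tab mwordsA u) u = true := ext_range (a := 198531) (len := 43) h4617 m2_4617
  have h4619 : ∀ u < 198617, (fun u => chkFix tab mwordsA u) u = true := ext_range (a := 198574) (len := 43) h4618 m2_4618
  have h4620 : ∀ u < 198660, (fun u => chkFix tab mwordsA u) u = true := ext_range (a := 198617) (len := 43) h4619 m2_4619
  have h4621 : ∀ u < 198703, (fun u => chkFix tab mwordsA u) u = true := ext_range (a := 198660) (len := 43) h4620 m2_4620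
  have h4622 : ∀ u < 198746, (fun u => chkFix tab mwordsA u) u = true := ext_range (a := 198703) (len := 43) h4621 m2_4621
  have h4623 : ∀ u < 198789, (fun u => chkFix tab mwordsA u) u = true := ext_range (a := 198746) (len := 43) h4622 m2_4622
  have h4624 : ∀ u < 198832, (fun u => chkFix tab mwordsA u) u = true := ext_range (a := 198789) (len := 43) h4623 m2_4623
  have h4625 : ∀ u < 198875, (fun u => chkFix tab mwordsA u) u = true := ext_range (a := 198832) (len := 43) h4624 m2_4624
  have h4626 : ∀ u < 198918, (fun u => chkFix tab mwordsA u) u = true := ext_range (a := 198875) (len := 43) h4625 m2_4625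
  have h4627 : ∀ u < 198961, (fun u => chkFix tab mwordsA u) u = true := ext_range (a := 198918) (len := 43) h4626 m2_4626
  have h4628 : ∀ u < 199004, (fun u => chkFix tab mwordsA u) u = true := ext_range (a := 198961) (len := 43) h4627 m2_4627
  have h4629 : ∀ u < 199047, (fun u => chkFix tab mwordsA u) u = true := ext_range (a := 199004) (len := 43) h4628 m2_4628
  have h4630 : ∀ u < 199090, (fun u => chkFix tab mwordsA u) u = true := ext_range (a := 199047) (len := 43) h4629 m2_4629
  have h4631 : ∀ u < 199133, (fun u => chkFix tab mwordsA u) u = true := ext_range (a := 199090) (len := 43) h4630 m2_4630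
  have h4632 : ∀ u < 199176, (fun u => chkFix tab mwordsA u) u = true := ext_range (a := 199133) (len := 43) h4631 m2_4631
  have h4633 : ∀ u < 199219, (fun u => chkFix tab mwordsA u) u = true := ext_range (a := 199176) (len := 43) h4632 m2_4632
  have h4634 : ∀ u < 199262, (fun u => chkFix tab mwordsA u) u = true := ext_range (a := 199219) (len := 43) h4633 m2_4633
  have h4635 : ∀ u < 199305, (fun u => chkFix tab mwordsA u) u = true := ext_range (a := 199262) (len := 43) h4634 m2_4634
  have h4636 : ∀ u < 199348, (fun u => chkFix tab mwordsA u) u = true := ext_range (a := 199305) (len := 43) h4635 m2_4635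
  have h4637 : ∀ u < 199391, (fun u => chkFix tab mwordsA u) u = true := ext_range (a := 199348) (len := 43) h4636 m2_4636
  have h4638 : ∀ u < 199434, (fun u => chkFix tab mwordsA u) u = true := ext_range (a := 199391) (len := 43) h4637 m2_4637
  have h4639 : ∀ u < 199477, (fun u => chkFix tab mwordsA u) u = true := ext_range (a := 199434) (len := 43) h4638 m2_4638
  have h4640 : ∀ u < 199520, (fun u => chkFix tab mwordsA u) u = true := ext_range (a := 199477) (len := 43) h4639 m2_4639
  have h4641 : ∀ u < 199563, (fun u => chkFix tab mwordsA u) u = true := ext_range (a := 199520) (len := 43) h4640 m2_4640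
  have h4642 : ∀ u < 199606, (fun u => chkFix tab mwordsA u) u = true := ext_range (a := 199563) (len := 43) h4641 m2_4641
  have h4643 : ∀ u < 199649, (fun u => chkFix tab mwordsA u) u = true := ext_range (a := 199606) (len := 43) h4642 m2_4642
  have h4644 : ∀ u < 199692, (fun u => chkFix tab mwordsA u) u = true := ext_range (a := 199649) (len := 43) h4643 m2_4643
  have h4645 : ∀ u < 199735, (fun u => chkFix tab mwordsA u) u = true := ext_range (a := 199692) (len := 43) h4644 m2_4644
  have h4646 : ∀ u < 199778, (fun u => chkFix tab mwordsA u) u = true := ext_range (a := 199735) (len := 43) h4645 m2_4645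
  have h4647 : ∀ u < 199821, (fun u => chkFix tab mwordsA u) u = true := ext_range (a := 199778) (len := 43) h4646 m2_4646
  have h4648 : ∀ u < 199864, (fun u => chkFix tab mwordsA u) u = true := ext_range (a := 199821) (len := 43) h4647 m2_4647
  have h4649 : ∀ u < 199907, (fun u => chkFix tab mwordsA u) u = true := ext_range (a := 199864) (len := 43) h4648 m2_4648
  have h4650 : ∀ u < 199950, (fun u => chkFix tab mwordsA u) u = true := ext_range (a := 199907) (len := 43) h4649 m2_4649
  have h4651 : ∀ u < 199993, (fun u => chkFix tab mwordsA u) u = true := ext_range (a := 199950) (len := 43) h4650 m2_4650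
  have h4652 : ∀ u < 200036, (fun u => chkFix tab mwordsA u) u = true := ext_range (a := 199993) (len := 43) h4651 m2_4651
  have h4653 : ∀ u < 200079, (fun u => chkFix tab mwordsA u) u = true := ext_range (a := 200036) (len := 43) h4652 m2_4652
  have h4654 : ∀ u < 200122, (fun u => chkFix tab mwordsA u) u = true := ext_range (a := 200079) (len := 43) h4653 m2_4653
  have h4655 : ∀ u < 200165, (fun u => chkFix tab mwordsA u) u = true := ext_range (a := 200122) (len := 43) h4654 m2_4654
  have h4656 : ∀ u < 200208, (fun u => chkFix tab mwordsA u) u = true := ext_range (a := 200165) (len := 43) h4655 m2_4655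
  have h4657 : ∀ u < 200251, (fun u => chkFix tab mwordsA u) u = true := ext_range (a := 200208) (len := 43) h4656 m2_4656
  have h4658 : ∀ u < 200294, (fun u => chkFix tab mwordsA u) u = true := ext_range (a := 200251) (len := 43) h4657 m2_4657
  have h4659 : ∀ u < 200337, (fun u => chkFix tab mwordsA u) u = true := ext_range (a := 200294) (len := 43) h4658 m2_4658
  have h4660 : ∀ u < 200380, (fun u => chkFix tab mwordsA u) u = true := ext_range (a := 200337) (len := 43) h4659 m2_4659
  have h4661 : ∀ u < 200423, (fun u => chkFix tab mwordsA u) u = true := ext_range (a := 200380) (len := 43) h4660 m2_4660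
  have h4662 : ∀ u < 200466, (fun u => chkFix tab mwordsA u) u = true := ext_range (a := 200423) (len := 43) h4661 m2_4661
  have h4663 : ∀ u < 200509, (fun u => chkFix tab mwordsA u) u = true := ext_range (a := 200466) (len := 43) h4662 m2_4662
  have h4664 : ∀ u < 200552, (fun u => chkFix tab mwordsA u) u = true := ext_range (a := 200509) (len := 43) h4663 m2_4663
  have h4665 : ∀ u < 200595, (fun u => chkFix tab mwordsA u) u = true := ext_range (a := 200552) (len := 43) h4664 m2_4664
  have h4666 : ∀ u < 200638, (fun u => chkFix tab mwordsA u) u = true := ext_range (a := 200595) (len := 43) h4665 m2_4665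
  have h4667 : ∀ u < 200681, (fun u => chkFix tab mwordsA u) u = true := ext_range (a := 200638) (len := 43) h4666 m2_4666
  have h4668 : ∀ u < 200724, (fun u => chkFix tab mwordsA u) u = true := ext_range (a := 200681) (len := 43) h4667 m2_4667
  have h4669 : ∀ u < 200767, (fun u => chkFix tab mwordsA u) u = true := ext_range (a := 200724) (len := 43) h4668 m2_4668
  have h4670 : ∀ u < 200810, (fun u => chkFix tab mwordsA u) u = true := ext_range (a := 200767) (len := 43) h4669 m2_4669
  have h4671 : ∀ u < 200853, (fun u => chkFix tab mwordsA u) u = true := ext_range (a := 200810) (len := 43) h4670 m2_4670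
  have h4672 : ∀ u < 200896, (fun u => chkFix tab mwordsA u) u = true := ext_range (a := 200853) (len := 43) h4671 m2_4671
  have h4673 : ∀ u < 200939, (fun u => chkFix tab mwordsA u) u = true := ext_range (a := 200896) (len := 43) h4672 m2_4672
  have h4674 : ∀ u < 200982, (fun u => chkFix tab mwordsA u) u = true := ext_range (a := 200939) (len := 43) h4673 m2_4673
  have h4675 : ∀ u < 201025, (fun u => chkFix tab mwordsA u) u = true := ext_range (a := 200982) (len := 43) h4674 m2_4674
  have h4676 : ∀ u < 201068, (fun u => chkFix tab mwordsA u) u = true := ext_range (a := 201025) (len := 43) h4675 m2_4675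
  have h4677 : ∀ u < 201111, (fun u => chkFix tab mwordsA u) u = true := ext_range (a := 201068) (len := 43) h4676 m2_4676
  have h4678 : ∀ u < 201154, (fun u => chkFix tab mwordsA u) u = true := ext_range (a := 201111) (len := 43) h4677 m2_4677
  have h4679 : ∀ u < 201197, (fun u => chkFix tab mwordsA u) u = true := ext_range (a := 201154) (len := 43) h4678 m2_4678
  have h4680 : ∀ u < 201240, (fun u => chkFix tab mwordsA u) u = true := ext_range (a := 201197) (len := 43) h4679 m2_4679
  have h4681 : ∀ u < 201283, (fun u => chkFix tab mwordsA u) u = true := ext_range (a := 201240) (len := 43) h4680 m2_4680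
  have h4682 : ∀ u < 201326, (fun u => chkFix tab mwordsA u) u = true := ext_range (a := 201283) (len := 43) h4681 m2_4681
  have h4683 : ∀ u < 201369, (fun u => chkFix tab mwordsA u) u = true := ext_range (a := 201326) (len := 43) h4682 m2_4682
  have h4684 : ∀ u < 201412, (fun u => chkFix tab mwordsA u) u = true := ext_range (a := 201369) (len := 43) h4683 m2_4683
  have h4685 : ∀ u < 201455, (fun u => chkFix tab mwordsA u) u = true := ext_range (a := 201412) (len := 43) h4684 m2_4684
  have h4686 : ∀ u < 201498, (fun u => chkFix tab mwordsA u) u = true := ext_range (a := 201455) (len := 43) h4685 m2_4685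
  have h4687 : ∀ u < 201541, (fun u => chkFix tab mwordsA u) u = true := ext_range (a := 201498) (len := 43) h4686 m2_4686
  have h4688 : ∀ u < 201584, (fun u => chkFix tab mwordsA u) u = true := ext_range (a := 201541) (len := 43) h4687 m2_4687
  have h4689 : ∀ u < 201627, (fun u => chkFix tab mwordsA u) u = true := ext_range (a := 201584) (len := 43) h4688 m2_4688
  have h4690 : ∀ u < 201670, (fun u => chkFix tab mwordsA u) u = true := ext_range (a := 201627) (len := 43) h4689 m2_4689
  have h4691 : ∀ u < 201713, (fun u => chkFix tab mwordsA u) u = true := ext_range (a := 201670) (len := 43) h4690 m2_4690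
  have h4692 : ∀ u < 201756, (fun u => chkFix tab mwordsA u) u = true := ext_range (a := 201713) (len := 43) h4691 m2_4691
  have h4693 : ∀ u < 201799, (fun u => chkFix tab mwordsA u) u = true := ext_range (a := 201756) (len := 43) h4692 m2_4692
  have h4694 : ∀ u < 201842, (fun u => chkFix tab mwordsA u) u = true := ext_range (a := 201799) (len := 43) h4693 m2_4693
  have h4695 : ∀ u < 201885, (fun u => chkFix tab mwordsA u) u = true := ext_range (a := 201842) (len := 43) h4694 m2_4694
  have h4696 : ∀ u < 201928, (fun u => chkFix tab mwordsA u) u = true := ext_range (a := 201885) (len := 43) h4695 m2_4695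
  have h4697 : ∀ u < 201971, (fun u => chkFix tab mwordsA u) u = true := ext_range (a := 201928) (len := 43) h4696 m2_4696
  have h4698 : ∀ u < 202014, (fun u => chkFix tab mwordsA u) u = true := ext_range (a := 201971) (len := 43) h4697 m2_4697
  have h4699 : ∀ u < 202057, (fun u => chkFix tab mwordsA u) u = true := ext_range (a := 202014) (len := 43) h4698 m2_4698
  have h4700 : ∀ u < 202100, (fun u => chkFix tab mwordsA u) u = true := ext_range (a := 202057) (len := 43) h4699 m2_4699
  have h4701 : ∀ u < 202143, (fun u => chkFix tab mwordsA u) u = true := ext_range (a := 202100) (len := 43) h4700 m2_4700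
  have h4702 : ∀ u < 202186, (fun u => chkFix tab mwordsA u) u = true := ext_range (a := 202143) (len := 43) h4701 m2_4701
  have h4703 : ∀ u < 202229, (fun u => chkFix tab mwordsA u) u = true := ext_range (a := 202186) (len := 43) h4702 m2_4702
  have h4704 : ∀ u < 202272, (fun u => chkFix tab mwordsA u) u = true := ext_range (a := 202229) (len := 43) h4703 m2_4703
  have h4705 : ∀ u < 202315, (fun u => chkFix tab mwordsA u) u = true := ext_range (a := 202272) (len := 43) h4704 m2_4704
  have h4706 : ∀ u < 202358, (fun u => chkFix tab mwordsA u) u = true := ext_range (a := 202315) (len := 43) h4705 m2_4705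
  have h4707 : ∀ u < 202401, (fun u => chkFix tab mwordsA u) u = true := ext_range (a := 202358) (len := 43) h4706 m2_4706
  have h4708 : ∀ u < 202444, (fun u => chkFix tab mwordsA u) u = true := ext_range (a := 202401) (len := 43) h4707 m2_4707
  have h4709 : ∀ u < 202487, (fun u => chkFix tab mwordsA u) u = true := ext_range (a := 202444) (len := 43) h4708 m2_4708
  have h4710 : ∀ u < 202530, (fun u => chkFix tab mwordsA u) u = true := ext_range (a := 202487) (len := 43) h4709 m2_4709
  have h4711 : ∀ u < 202573, (fun u => chkFix tab mwordsA u) u = true := ext_range (a := 202530) (len := 43) h4710 m2_4710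
  have h4712 : ∀ u < 202616, (fun u => chkFix tab mwordsA u) u = true := ext_range (a := 202573) (len := 43) h4711 m2_4711
  have h4713 : ∀ u < 202659, (fun u => chkFix tab mwordsA u) u = true := ext_range (a := 202616) (len := 43) h4712 m2_4712
  have h4714 : ∀ u < 202702, (fun u => chkFix tab mwordsA u) u = true := ext_range (a := 202659) (len := 43) h4713 m2_4713
  have h4715 : ∀ u < 202745, (fun u => chkFix tab mwordsA u) u = true := ext_range (a := 202702) (len := 43) h4714 m2_4714
  have h4716 : ∀ u < 202788, (fun u => chkFix tab mwordsA u) u = true := ext_range (a := 202745) (len := 43) h4715 m2_4715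
  have h4717 : ∀ u < 202831, (fun u => chkFix tab mwordsA u) u = true := ext_range (a := 202788) (len := 43) h4716 m2_4716
  have h4718 : ∀ u < 202874, (fun u => chkFix tab mwordsA u) u = true := ext_range (a := 202831) (len := 43) h4717 m2_4717
  have h4719 : ∀ u < 202917, (fun u => chkFix tab mwordsA u) u = true := ext_range (a := 202874) (len := 43) h4718 m2_4718
  have h4720 : ∀ u < 202960, (fun u => chkFix tab mwordsA u) u = true := ext_range (a := 202917) (len := 43) h4719 m2_4719
  have h4721 : ∀ u < 203003, (fun u => chkFix tab mwordsA u) u = true := ext_range (a := 202960) (len := 43) h4720 m2_4720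
  have h4722 : ∀ u < 203046, (fun u => chkFix tab mwordsA u) u = true := ext_range (a := 203003) (len := 43) h4721 m2_4721
  have h4723 : ∀ u < 203089, (fun u => chkFix tab mwordsA u) u = true := ext_range (a := 203046) (len := 43) h4722 m2_4722
  have h4724 : ∀ u < 203132, (fun u => chkFix tab mwordsA u) u = true := ext_range (a := 203089) (len := 43) h4723 m2_4723
  have h4725 : ∀ u < 203175, (fun u => chkFix tab mwordsA u) u = true := ext_range (a := 203132) (len := 43) h4724 m2_4724
  have h4726 : ∀ u < 203218, (fun u => chkFix tab mwordsA u) u = true := ext_range (a := 203175) (len := 43) h4725 m2_4725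
  have h4727 : ∀ u < 203261, (fun u => chkFix tab mwordsA u) u = true := ext_range (a := 203218) (len := 43) h4726 m2_4726
  have h4728 : ∀ u < 203304, (fun u => chkFix tab mwordsA u) u = true := ext_range (a := 203261) (len := 43) h4727 m2_4727
  have h4729 : ∀ u < 203347, (fun u => chkFix tab mwordsA u) u = true := ext_range (a := 203304) (len := 43) h4728 m2_4728
  have h4730 : ∀ u < 203390, (fun u => chkFix tab mwordsA u) u = true := ext_range (a := 203347) (len := 43) h4729 m2_4729
  have h4731 : ∀ u < 203433, (fun u => chkFix tab mwordsA u) u = true := ext_range (a := 203390) (len := 43) h4730 m2_4730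
  have h4732 : ∀ u < 203476, (fun u => chkFix tab mwordsA u) u = true := ext_range (a := 203433) (len := 43) h4731 m2_4731
  have h4733 : ∀ u < 203519, (fun u => chkFix tab mwordsA u) u = true := ext_range (a := 203476) (len := 43) h4732 m2_4732
  have h4734 : ∀ u < 203562, (fun u => chkFix tab mwordsA u) u = true := ext_range (a := 203519) (len := 43) h4733 m2_4733
  have h4735 : ∀ u < 203605, (fun u => chkFix tab mwordsA u) u = true := ext_range (a := 203562) (len := 43) h4734 m2_4734
  have h4736 : ∀ u < 203648, (fun u => chkFix tab mwordsA u) u = true := ext_range (a := 203605) (len := 43) h4735 m2_4735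
  have h4737 : ∀ u < 203691, (fun u => chkFix tab mwordsA u) u = true := ext_range (a := 203648) (len := 43) h4736 m2_4736
  have h4738 : ∀ u < 203734, (fun u => chkFix tab mwordsA u) u = true := ext_range (a := 203691) (len := 43) h4737 m2_4737
  have h4739 : ∀ u < 203777, (fun u => chkFix tab mwordsA u) u = true := ext_range (a := 203734) (len := 43) h4738 m2_4738
  have h4740 : ∀ u < 203820, (fun u => chkFix tab mwordsA u) u = true := ext_range (a := 203777) (len := 43) h4739 m2_4739
  have h4741 : ∀ u < 203863, (fun u => chkFix tab mwordsA u) u = true := ext_range (a := 203820) (len := 43) h4740 m2_4740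
  have h4742 : ∀ u < 203906, (fun u => chkFix tab mwordsA u) u = true := ext_range (a := 203863) (len := 43) h4741 m2_4741
  have h4743 : ∀ u < 203949, (fun u => chkFix tab mwordsA u) u = true := ext_range (a := 203906) (len := 43) h4742 m2_4742
  have h4744 : ∀ u < 203992, (fun u => chkFix tab mwordsA u) u = true := ext_range (a := 203949) (len := 43) h4743 m2_4743
  have h4745 : ∀ u < 204035, (fun u => chkFix tab mwordsA u) u = true := ext_range (a := 203992) (len := 43) h4744 m2_4744
  have h4746 : ∀ u < 204078, (fun u => chkFix tab mwordsA u) u = true := ext_range (a := 204035) (len := 43) h4745 m2_4745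
  have h4747 : ∀ u < 204121, (fun u => chkFix tab mwordsA u) u = true := ext_range (a := 204078) (len := 43) h4746 m2_4746
  have h4748 : ∀ u < 204164, (fun u => chkFix tab mwordsA u) u = true := ext_range (a := 204121) (len := 43) h4747 m2_4747
  have h4749 : ∀ u < 204207, (fun u => chkFix tab mwordsA u) u = true := ext_range (a := 204164) (len := 43) h4748 m2_4748
  have h4750 : ∀ u < 204250, (fun u => chkFix tab mwordsA u) u = true := ext_range (a := 204207) (len := 43) h4749 m2_4749
  have h4751 : ∀ u < 204293, (fun u => chkFix tab mwordsA u) u = true := ext_range (a := 204250) (len := 43) h4750 m2_4750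
  have h4752 : ∀ u < 204336, (fun u => chkFix tab mwordsA u) u = true := ext_range (a := 204293) (len := 43) h4751 m2_4751
  have h4753 : ∀ u < 204379, (fun u => chkFix tab mwordsA u) u = true := ext_range (a := 204336) (len := 43) h4752 m2_4752
  have h4754 : ∀ u < 204422, (fun u => chkFix tab mwordsA u) u = true := ext_range (a := 204379) (len := 43) h4753 m2_4753
  have h4755 : ∀ u < 204465, (fun u => chkFix tab mwordsA u) u = true := ext_range (a := 204422) (len := 43) h4754 m2_4754
  have h4756 : ∀ u < 204508, (fun u => chkFix tab mwordsA u) u = true := ext_range (a := 204465) (len := 43) h4755 m2_4755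
  have h4757 : ∀ u < 204551, (fun u => chkFix tab mwordsA u) u = true := ext_range (a := 204508) (len := 43) h4756 m2_4756
  have h4758 : ∀ u < 204594, (fun u => chkFix tab mwordsA u) u = true := ext_range (a := 204551) (len := 43) h4757 m2_4757
  have h4759 : ∀ u < 204637, (fun u => chkFix tab mwordsA u) u = true := ext_range (a := 204594) (len := 43) h4758 m2_4758
  have h4760 : ∀ u < 204680, (fun u => chkFix tab mwordsA u) u = true := ext_range (a := 204637) (len := 43) h4759 m2_4759
  have h4761 : ∀ u < 204723, (fun u => chkFix tab mwordsA u) u = true := ext_range (a := 204680) (len := 43) h4760 m2_4760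
  have h4762 : ∀ u < 204766, (fun u => chkFix tab mwordsA u) u = true := ext_range (a := 204723) (len := 43) h4761 m2_4761
  have h4763 : ∀ u < 204809, (fun u => chkFix tab mwordsA u) u = true := ext_range (a := 204766) (len := 43) h4762 m2_4762
  have h4764 : ∀ u < 204852, (fun u => chkFix tab mwordsA u) u = true := ext_range (a := 204809) (len := 43) h4763 m2_4763
  have h4765 : ∀ u < 204895, (fun u => chkFix tab mwordsA u) u = true := ext_range (a := 204852) (len := 43) h4764 m2_4764
  have h4766 : ∀ u < 204938, (fun u => chkFix tab mwordsA u) u = true := ext_range (a := 204895) (len := 43) h4765 m2_4765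
  have h4767 : ∀ u < 204981, (fun u => chkFix tab mwordsA u) u = true := ext_range (a := 204938) (len := 43) h4766 m2_4766
  have h4768 : ∀ u < 205024, (fun u => chkFix tab mwordsA u) u = true := ext_range (a := 204981) (len := 43) h4767 m2_4767
  have h4769 : ∀ u < 205067, (fun u => chkFix tab mwordsA u) u = true := ext_range (a := 205024) (len := 43) h4768 m2_4768
  have h4770 : ∀ u < 205110, (fun u => chkFix tab mwordsA u) u = true := ext_range (a := 205067) (len := 43) h4769 m2_4769
  have h4771 : ∀ u < 205153, (fun u => chkFix tab mwordsA u) u = true := ext_range (a := 205110) (len := 43) h4770 m2_4770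
  have h4772 : ∀ u < 205196, (fun u => chkFix tab mwordsA u) u = true := ext_range (a := 205153) (len := 43) h4771 m2_4771
  have h4773 : ∀ u < 205239, (fun u => chkFix tab mwordsA u) u = true := ext_range (a := 205196) (len := 43) h4772 m2_4772
  have h4774 : ∀ u < 205282, (fun u => chkFix tab mwordsA u) u = true := ext_range (a := 205239) (len := 43) h4773 m2_4773
  have h4775 : ∀ u < 205325, (fun u => chkFix tab mwordsA u) u = true := ext_range (a := 205282) (len := 43) h4774 m2_4774
  have h4776 : ∀ u < 205368, (fun u => chkFix tab mwordsA u) u = true := ext_range (a := 205325) (len := 43) h4775 m2_4775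
  have h4777 : ∀ u < 205411, (fun u => chkFix tab mwordsA u) u = true := ext_range (a := 205368) (len := 43) h4776 m2_4776
  have h4778 : ∀ u < 205454, (fun u => chkFix tab mwordsA u) u = true := ext_range (a := 205411) (len := 43) h4777 m2_4777
  have h4779 : ∀ u < 205497, (fun u => chkFix tab mwordsA u) u = true := ext_range (a := 205454) (len := 43) h4778 m2_4778
  have h4780 : ∀ u < 205540, (fun u => chkFix tab mwordsA u) u = true := ext_range (a := 205497) (len := 43) h4779 m2_4779
  have h4781 : ∀ u < 205583, (fun u => chkFix tab mwordsA u) u = true := ext_range (a := 205540) (len := 43) h4780 m2_4780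
  have h4782 : ∀ u < 205626, (fun u => chkFix tab mwordsA u) u = true := ext_range (a := 205583) (len := 43) h4781 m2_4781
  have h4783 : ∀ u < 205669, (fun u => chkFix tab mwordsA u) u = true := ext_range (a := 205626) (len := 43) h4782 m2_4782
  have h4784 : ∀ u < 205712, (fun u => chkFix tab mwordsA u) u = true := ext_range (a := 205669) (len := 43) h4783 m2_4783
  have h4785 : ∀ u < 205755, (fun u => chkFix tab mwordsA u) u = true := ext_range (a := 205712) (len := 43) h4784 m2_4784
  have h4786 : ∀ u < 205798, (fun u => chkFix tab mwordsA u) u = true := ext_range (a := 205755) (len := 43) h4785 m2_4785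
  have h4787 : ∀ u < 205841, (fun u => chkFix tab mwordsA u) u = true := ext_range (a := 205798) (len := 43) h4786 m2_4786
  have h4788 : ∀ u < 205884, (fun u => chkFix tab mwordsA u) u = true := ext_range (a := 205841) (len := 43) h4787 m2_4787
  have h4789 : ∀ u < 205927, (fun u => chkFix tab mwordsA u) u = true := ext_range (a := 205884) (len := 43) h4788 m2_4788
  have h4790 : ∀ u < 205970, (fun u => chkFix tab mwordsA u) u = true := ext_range (a := 205927) (len := 43) h4789 m2_4789
  have h4791 : ∀ u < 206013, (fun u => chkFix tab mwordsA u) u = true := ext_range (a := 205970) (len := 43) h4790 m2_4790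
  have h4792 : ∀ u < 206056, (fun u => chkFix tab mwordsA u) u = true := ext_range (a := 206013) (len := 43) h4791 m2_4791
  have h4793 : ∀ u < 206099, (fun u => chkFix tab mwordsA u) u = true := ext_range (a := 206056) (len := 43) h4792 m2_4792
  have h4794 : ∀ u < 206142, (fun u => chkFix tab mwordsA u) u = true := ext_range (a := 206099) (len := 43) h4793 m2_4793
  have h4795 : ∀ u < 206185, (fun u => chkFix tab mwordsA u) u = true := ext_range (a := 206142) (len := 43) h4794 m2_4794
  have h4796 : ∀ u < 206228, (fun u => chkFix tab mwordsA u) u = true := ext_range (a := 206185) (len := 43) h4795 m2_4795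
  have h4797 : ∀ u < 206271, (fun u => chkFix tab mwordsA u) u = true := ext_range (a := 206228) (len := 43) h4796 m2_4796
  have h4798 : ∀ u < 206314, (fun u => chkFix tab mwordsA u) u = true := ext_range (a := 206271) (len := 43) h4797 m2_4797
  have h4799 : ∀ u < 206357, (fun u => chkFix tab mwordsA u) u = true := ext_range (a := 206314) (len := 43) h4798 m2_4798
  have h4800 : ∀ u < 206400, (fun u => chkFix tab mwordsA u) u = true := ext_range (a := 206357) (len := 43) h4799 m2_4799
  have h4801 : ∀ u < 206443, (fun u => chkFix tab mwordsA u) u = true := ext_range (a := 206400) (len := 43) h4800 m2_4800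
  have h4802 : ∀ u < 206486, (fun u => chkFix tab mwordsA u) u = true := ext_range (a := 206443) (len := 43) h4801 m2_4801
  have h4803 : ∀ u < 206529, (fun u => chkFix tab mwordsA u) u = true := ext_range (a := 206486) (len := 43) h4802 m2_4802
  have h4804 : ∀ u < 206572, (fun u => chkFix tab mwordsA u) u = true := ext_range (a := 206529) (len := 43) h4803 m2_4803
  have h4805 : ∀ u < 206615, (fun u => chkFix tab mwordsA u) u = true := ext_range (a := 206572) (len := 43) h4804 m2_4804
  have h4806 : ∀ u < 206658, (fun u => chkFix tab mwordsA u) u = true := ext_range (a := 206615) (len := 43) h4805 m2_4805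
  have h4807 : ∀ u < 206701, (fun u => chkFix tab mwordsA u) u = true := ext_range (a := 206658) (len := 43) h4806 m2_4806
  have h4808 : ∀ u < 206744, (fun u => chkFix tab mwordsA u) u = true := ext_range (a := 206701) (len := 43) h4807 m2_4807
  have h4809 : ∀ u < 206787, (fun u => chkFix tab mwordsA u) u = true := ext_range (a := 206744) (len := 43) h4808 m2_4808
  have h4810 : ∀ u < 206830, (fun u => chkFix tab mwordsA u) u = true := ext_range (a := 206787) (len := 43) h4809 m2_4809
  have h4811 : ∀ u < 206873, (fun u => chkFix tab mwordsA u) u = true := ext_range (a := 206830) (len := 43) h4810 m2_4810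
  have h4812 : ∀ u < 206916, (fun u => chkFix tab mwordsA u) u = true := ext_range (a := 206873) (len := 43) h4811 m2_4811
  have h4813 : ∀ u < 206959, (fun u => chkFix tab mwordsA u) u = true := ext_range (a := 206916) (len := 43) h4812 m2_4812
  have h4814 : ∀ u < 207002, (fun u => chkFix tab mwordsA u) u = true := ext_range (a := 206959) (len := 43) h4813 m2_4813
  have h4815 : ∀ u < 207045, (fun u => chkFix tab mwordsA u) u = true := ext_range (a := 207002) (len := 43) h4814 m2_4814
  have h4816 : ∀ u < 207088, (fun u => chkFix tab mwordsA u) u = true := ext_range (a := 207045) (len := 43) h4815 m2_4815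
  have h4817 : ∀ u < 207131, (fun u => chkFix tab mwordsA u) u = true := ext_range (a := 207088) (len := 43) h4816 m2_4816
  have h4818 : ∀ u < 207174, (fun u => chkFix tab mwordsA u) u = true := ext_range (a := 207131) (len := 43) h4817 m2_4817
  have h4819 : ∀ u < 207217, (fun u => chkFix tab mwordsA u) u = true := ext_range (a := 207174) (len := 43) h4818 m2_4818
  have h4820 : ∀ u < 207260, (fun u => chkFix tab mwordsA u) u = true := ext_range (a := 207217) (len := 43) h4819 m2_4819
  have h4821 : ∀ u < 207303, (fun u => chkFix tab mwordsA u) u = true := ext_range (a := 207260) (len := 43) h4820 m2_4820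
  have h4822 : ∀ u < 207346, (fun u => chkFix tab mwordsA u) u = true := ext_range (a := 207303) (len := 43) h4821 m2_4821
  have h4823 : ∀ u < 207389, (fun u => chkFix tab mwordsA u) u = true := ext_range (a := 207346) (len := 43) h4822 m2_4822
  have h4824 : ∀ u < 207432, (fun u => chkFix tab mwordsA u) u = true := ext_range (a := 207389) (len := 43) h4823 m2_4823
  have h4825 : ∀ u < 207475, (fun u => chkFix tab mwordsA u) u = true := ext_range (a := 207432) (len := 43) h4824 m2_4824
  have h4826 : ∀ u < 207518, (fun u => chkFix tab mwordsA u) u = true := ext_range (a := 207475) (len := 43) h4825 m2_4825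
  have h4827 : ∀ u < 207561, (fun u => chkFix tab mwordsA u) u = true := ext_range (a := 207518) (len := 43) h4826 m2_4826
  have h4828 : ∀ u < 207604, (fun u => chkFix tab mwordsA u) u = true := ext_range (a := 207561) (len := 43) h4827 m2_4827
  have h4829 : ∀ u < 207647, (fun u => chkFix tab mwordsA u) u = true := ext_range (a := 207604) (len := 43) h4828 m2_4828
  have h4830 : ∀ u < 207690, (fun u => chkFix tab mwordsA u) u = true := ext_range (a := 207647) (len := 43) h4829 m2_4829
  have h4831 : ∀ u < 207733, (fun u => chkFix tab mwordsA u) u = true := ext_range (a := 207690) (len := 43) h4830 m2_4830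
  have h4832 : ∀ u < 207776, (fun u => chkFix tab mwordsA u) u = true := ext_range (a := 207733) (len := 43) h4831 m2_4831
  have h4833 : ∀ u < 207819, (fun u => chkFix tab mwordsA u) u = true := ext_range (a := 207776) (len := 43) h4832 m2_4832
  have h4834 : ∀ u < 207862, (fun u => chkFix tab mwordsA u) u = true := ext_range (a := 207819) (len := 43) h4833 m2_4833
  have h4835 : ∀ u < 207905, (fun u => chkFix tab mwordsA u) u = true := ext_range (a := 207862) (len := 43) h4834 m2_4834
  have h4836 : ∀ u < 207948, (fun u => chkFix tab mwordsA u) u = true := ext_range (a := 207905) (len := 43) h4835 m2_4835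
  have h4837 : ∀ u < 207991, (fun u => chkFix tab mwordsA u) u = true := ext_range (a := 207948) (len := 43) h4836 m2_4836
  have h4838 : ∀ u < 208034, (fun u => chkFix tab mwordsA u) u = true := ext_range (a := 207991) (len := 43) h4837 m2_4837
  have h4839 : ∀ u < 208077, (fun u => chkFix tab mwordsA u) u = true := ext_range (a := 208034) (len := 43) h4838 m2_4838
  have h4840 : ∀ u < 208120, (fun u => chkFix tab mwordsA u) u = true := ext_range (a := 208077) (len := 43) h4839 m2_4839
  have h4841 : ∀ u < 208163, (fun u => chkFix tab mwordsA u) u = true := ext_range (a := 208120) (len := 43) h4840 m2_4840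
  have h4842 : ∀ u < 208206, (fun u => chkFix tab mwordsA u) u = true := ext_range (a := 208163) (len := 43) h4841 m2_4841
  have h4843 : ∀ u < 208249, (fun u => chkFix tab mwordsA u) u = true := ext_range (a := 208206) (len := 43) h4842 m2_4842
  have h4844 : ∀ u < 208292, (fun u => chkFix tab mwordsA u) u = true := ext_range (a := 208249) (len := 43) h4843 m2_4843
  have h4845 : ∀ u < 208335, (fun u => chkFix tab mwordsA u) u = true := ext_range (a := 208292) (len := 43) h4844 m2_4844
  have h4846 : ∀ u < 208378, (fun u => chkFix tab mwordsA u) u = true := ext_range (a := 208335) (len := 43) h4845 m2_4845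
  have h4847 : ∀ u < 208421, (fun u => chkFix tab mwordsA u) u = true := ext_range (a := 208378) (len := 43) h4846 m2_4846
  have h4848 : ∀ u < 208464, (fun u => chkFix tab mwordsA u) u = true := ext_range (a := 208421) (len := 43) h4847 m2_4847
  have h4849 : ∀ u < 208507, (fun u => chkFix tab mwordsA u) u = true := ext_range (a := 208464) (len := 43) h4848 m2_4848
  have h4850 : ∀ u < 208550, (fun u => chkFix tab mwordsA u) u = true := ext_range (a := 208507) (len := 43) h4849 m2_4849
  have h4851 : ∀ u < 208593, (fun u => chkFix tab mwordsA u) u = true := ext_range (a := 208550) (len := 43) h4850 m2_4850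
  have h4852 : ∀ u < 208636, (fun u => chkFix tab mwordsA u) u = true := ext_range (a := 208593) (len := 43) h4851 m2_4851
  have h4853 : ∀ u < 208679, (fun u => chkFix tab mwordsA u) u = true := ext_range (a := 208636) (len := 43) h4852 m2_4852
  have h4854 : ∀ u < 208722, (fun u => chkFix tab mwordsA u) u = true := ext_range (a := 208679) (len := 43) h4853 m2_4853
  have h4855 : ∀ u < 208765, (fun u => chkFix tab mwordsA u) u = true := ext_range (a := 208722) (len := 43) h4854 m2_4854
  have h4856 : ∀ u < 208808, (fun u => chkFix tab mwordsA u) u = true := ext_range (a := 208765) (len := 43) h4855 m2_4855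
  have h4857 : ∀ u < 208851, (fun u => chkFix tab mwordsA u) u = true := ext_range (a := 208808) (len := 43) h4856 m2_4856
  have h4858 : ∀ u < 208894, (fun u => chkFix tab mwordsA u) u = true := ext_range (a := 208851) (len := 43) h4857 m2_4857
  have h4859 : ∀ u < 208937, (fun u => chkFix tab mwordsA u) u = true := ext_range (a := 208894) (len := 43) h4858 m2_4858
  have h4860 : ∀ u < 208980, (fun u => chkFix tab mwordsA u) u = true := ext_range (a := 208937) (len := 43) h4859 m2_4859
  have h4861 : ∀ u < 209023, (fun u => chkFix tab mwordsA u) u = true := ext_range (a := 208980) (len := 43) h4860 m2_4860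
  have h4862 : ∀ u < 209066, (fun u => chkFix tab mwordsA u) u = true := ext_range (a := 209023) (len := 43) h4861 m2_4861
  have h4863 : ∀ u < 209109, (fun u => chkFix tab mwordsA u) u = true := ext_range (a := 209066) (len := 43) h4862 m2_4862
  have h4864 : ∀ u < 209152, (fun u => chkFix tab mwordsA u) u = true := ext_range (a := 209109) (len := 43) h4863 m2_4863
  have h4865 : ∀ u < 209195, (fun u => chkFix tab mwordsA u) u = true := ext_range (a := 209152) (len := 43) h4864 m2_4864
  have h4866 : ∀ u < 209238, (fun u => chkFix tab mwordsA u) u = true := ext_range (a := 209195) (len := 43) h4865 m2_4865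
  have h4867 : ∀ u < 209281, (fun u => chkFix tab mwordsA u) u = true := ext_range (a := 209238) (len := 43) h4866 m2_4866
  have h4868 : ∀ u < 209324, (fun u => chkFix tab mwordsA u) u = true := ext_range (a := 209281) (len := 43) h4867 m2_4867
  have h4869 : ∀ u < 209367, (fun u => chkFix tab mwordsA u) u = true := ext_range (a := 209324) (len := 43) h4868 m2_4868
  have h4870 : ∀ u < 209410, (fun u => chkFix tab mwordsA u) u = true := ext_range (a := 209367) (len := 43) h4869 m2_4869
  have h4871 : ∀ u < 209453, (fun u => chkFix tab mwordsA u) u = true := ext_range (a := 209410) (len := 43) h4870 m2_4870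
  have h4872 : ∀ u < 209496, (fun u => chkFix tab mwordsA u) u = true := ext_range (a := 209453) (len := 43) h4871 m2_4871
  have h4873 : ∀ u < 209539, (fun u => chkFix tab mwordsA u) u = true := ext_range (a := 209496) (len := 43) h4872 m2_4872
  have h4874 : ∀ u < 209582, (fun u => chkFix tab mwordsA u) u = true := ext_range (a := 209539) (len := 43) h4873 m2_4873
  have h4875 : ∀ u < 209625, (fun u => chkFix tab mwordsA u) u = true := ext_range (a := 209582) (len := 43) h4874 m2_4874
  have h4876 : ∀ u < 209668, (fun u => chkFix tab mwordsA u) u = true := ext_range (a := 209625) (len := 43) h4875 m2_4875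
  have h4877 : ∀ u < 209711, (fun u => chkFix tab mwordsA u) u = true := ext_range (a := 209668) (len := 43) h4876 m2_4876
  have h4878 : ∀ u < 209754, (fun u => chkFix tab mwordsA u) u = true := ext_range (a := 209711) (len := 43) h4877 m2_4877
  have h4879 : ∀ u < 209797, (fun u => chkFix tab mwordsA u) u = true := ext_range (a := 209754) (len := 43) h4878 m2_4878
  have h4880 : ∀ u < 209840, (fun u => chkFix tab mwordsA u) u = true := ext_range (a := 209797) (len := 43) h4879 m2_4879
  have h4881 : ∀ u < 209883, (fun u => chkFix tab mwordsA u) u = true := ext_range (a := 209840) (len := 43) h4880 m2_4880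
  have h4882 : ∀ u < 209926, (fun u => chkFix tab mwordsA u) u = true := ext_range (a := 209883) (len := 43) h4881 m2_4881
  have h4883 : ∀ u < 209969, (fun u => chkFix tab mwordsA u) u = true := ext_range (a := 209926) (len := 43) h4882 m2_4882
  have h4884 : ∀ u < 210012, (fun u => chkFix tab mwordsA u) u = true := ext_range (a := 209969) (len := 43) h4883 m2_4883
  have h4885 : ∀ u < 210055, (fun u => chkFix tab mwordsA u) u = true := ext_range (a := 210012) (len := 43) h4884 m2_4884
  have h4886 : ∀ u < 210098, (fun u => chkFix tab mwordsA u) u = true := ext_range (a := 210055) (len := 43) h4885 m2_4885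
  have h4887 : ∀ u < 210141, (fun u => chkFix tab mwordsA u) u = true := ext_range (a := 210098) (len := 43) h4886 m2_4886
  have h4888 : ∀ u < 210184, (fun u => chkFix tab mwordsA u) u = true := ext_range (a := 210141) (len := 43) h4887 m2_4887
  have h4889 : ∀ u < 210227, (fun u => chkFix tab mwordsA u) u = true := ext_range (a := 210184) (len := 43) h4888 m2_4888
  have h4890 : ∀ u < 210270, (fun u => chkFix tab mwordsA u) u = true := ext_range (a := 210227) (len := 43) h4889 m2_4889
  have h4891 : ∀ u < 210313, (fun u => chkFix tab mwordsA u) u = true := ext_range (a := 210270) (len := 43) h4890 m2_4890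
  have h4892 : ∀ u < 210356, (fun u => chkFix tab mwordsA u) u = true := ext_range (a := 210313) (len := 43) h4891 m2_4891
  have h4893 : ∀ u < 210399, (fun u => chkFix tab mwordsA u) u = true := ext_range (a := 210356) (len := 43) h4892 m2_4892
  have h4894 : ∀ u < 210442, (fun u => chkFix tab mwordsA u) u = true := ext_range (a := 210399) (len := 43) h4893 m2_4893
  have h4895 : ∀ u < 210485, (fun u => chkFix tab mwordsA u) u = true := ext_range (a := 210442) (len := 43) h4894 m2_4894
  have h4896 : ∀ u < 210528, (fun u => chkFix tab mwordsA u) u = true := ext_range (a := 210485) (len := 43) h4895 m2_4895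
  have h4897 : ∀ u < 210571, (fun u => chkFix tab mwordsA u) u = true := ext_range (a := 210528) (len := 43) h4896 m2_4896
  have h4898 : ∀ u < 210614, (fun u => chkFix tab mwordsA u) u = true := ext_range (a := 210571) (len := 43) h4897 m2_4897
  have h4899 : ∀ u < 210657, (fun u => chkFix tab mwordsA u) u = true := ext_range (a := 210614) (len := 43) h4898 m2_4898
  have h4900 : ∀ u < 210700, (fun u => chkFix tab mwordsA u) u = true := ext_range (a := 210657) (len := 43) h4899 m2_4899
  have h4901 : ∀ u < 210743, (fun u => chkFix tab mwordsA u) u = true := ext_range (a := 210700) (len := 43) h4900 m2_4900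
  have h4902 : ∀ u < 210786, (fun u => chkFix tab mwordsA u) u = true := ext_range (a := 210743) (len := 43) h4901 m2_4901
  have h4903 : ∀ u < 210829, (fun u => chkFix tab mwordsA u) u = true := ext_range (a := 210786) (len := 43) h4902 m2_4902
  have h4904 : ∀ u < 210872, (fun u => chkFix tab mwordsA u) u = true := ext_range (a := 210829) (len := 43) h4903 m2_4903
  have h4905 : ∀ u < 210915, (fun u => chkFix tab mwordsA u) u = true := ext_range (a := 210872) (len := 43) h4904 m2_4904
  have h4906 : ∀ u < 210958, (fun u => chkFix tab mwordsA u) u = true := ext_range (a := 210915) (len := 43) h4905 m2_4905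
  have h4907 : ∀ u < 211001, (fun u => chkFix tab mwordsA u) u = true := ext_range (a := 210958) (len := 43) h4906 m2_4906
  have h4908 : ∀ u < 211044, (fun u => chkFix tab mwordsA u) u = true := ext_range (a := 211001) (len := 43) h4907 m2_4907
  have h4909 : ∀ u < 211087, (fun u => chkFix tab mwordsA u) u = true := ext_range (a := 211044) (len := 43) h4908 m2_4908
  have h4910 : ∀ u < 211130, (fun u => chkFix tab mwordsA u) u = true := ext_range (a := 211087) (len := 43) h4909 m2_4909
  have h4911 : ∀ u < 211173, (fun u => chkFix tab mwordsA u) u = true := ext_range (a := 211130) (len := 43) h4910 m2_4910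
  have h4912 : ∀ u < 211216, (fun u => chkFix tab mwordsA u) u = true := ext_range (a := 211173) (len := 43) h4911 m2_4911
  have h4913 : ∀ u < 211259, (fun u => chkFix tab mwordsA u) u = true := ext_range (a := 211216) (len := 43) h4912 m2_4912
  have h4914 : ∀ u < 211302, (fun u => chkFix tab mwordsA u) u = true := ext_range (a := 211259) (len := 43) h4913 m2_4913
  have h4915 : ∀ u < 211345, (fun u => chkFix tab mwordsA u) u = true := ext_range (a := 211302) (len := 43) h4914 m2_4914
  have h4916 : ∀ u < 211388, (fun u => chkFix tab mwordsA u) u = true := ext_range (a := 211345) (len := 43) h4915 m2_4915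
  have h4917 : ∀ u < 211431, (fun u => chkFix tab mwordsA u) u = true := ext_range (a := 211388) (len := 43) h4916 m2_4916
  have h4918 : ∀ u < 211474, (fun u => chkFix tab mwordsA u) u = true := ext_range (a := 211431) (len := 43) h4917 m2_4917
  have h4919 : ∀ u < 211517, (fun u => chkFix tab mwordsA u) u = true := ext_range (a := 211474) (len := 43) h4918 m2_4918
  have h4920 : ∀ u < 211560, (fun u => chkFix tab mwordsA u) u = true := ext_range (a := 211517) (len := 43) h4919 m2_4919
  have h4921 : ∀ u < 211603, (fun u => chkFix tab mwordsA u) u = true := ext_range (a := 211560) (len := 43) h4920 m2_4920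
  have h4922 : ∀ u < 211646, (fun u => chkFix tab mwordsA u) u = true := ext_range (a := 211603) (len := 43) h4921 m2_4921
  have h4923 : ∀ u < 211689, (fun u => chkFix tab mwordsA u) u = true := ext_range (a := 211646) (len := 43) h4922 m2_4922
  have h4924 : ∀ u < 211732, (fun u => chkFix tab mwordsA u) u = true := ext_range (a := 211689) (len := 43) h4923 m2_4923
  have h4925 : ∀ u < 211775, (fun u => chkFix tab mwordsA u) u = true := ext_range (a := 211732) (len := 43) h4924 m2_4924
  have h4926 : ∀ u < 211818, (fun u => chkFix tab mwordsA u) u = true := ext_range (a := 211775) (len := 43) h4925 m2_4925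
  have h4927 : ∀ u < 211861, (fun u => chkFix tab mwordsA u) u = true := ext_range (a := 211818) (len := 43) h4926 m2_4926
  have h4928 : ∀ u < 211904, (fun u => chkFix tab mwordsA u) u = true := ext_range (a := 211861) (len := 43) h4927 m2_4927
  have h4929 : ∀ u < 211947, (fun u => chkFix tab mwordsA u) u = true := ext_range (a := 211904) (len := 43) h4928 m2_4928
  have h4930 : ∀ u < 211990, (fun u => chkFix tab mwordsA u) u = true := ext_range (a := 211947) (len := 43) h4929 m2_4929
  have h4931 : ∀ u < 212033, (fun u => chkFix tab mwordsA u) u = true := ext_range (a := 211990) (len := 43) h4930 m2_4930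
  have h4932 : ∀ u < 212076, (fun u => chkFix tab mwordsA u) u = true := ext_range (a := 212033) (len := 43) h4931 m2_4931
  have h4933 : ∀ u < 212119, (fun u => chkFix tab mwordsA u) u = true := ext_range (a := 212076) (len := 43) h4932 m2_4932
  have h4934 : ∀ u < 212162, (fun u => chkFix tab mwordsA u) u = true := ext_range (a := 212119) (len := 43) h4933 m2_4933
  have h4935 : ∀ u < 212205, (fun u => chkFix tab mwordsA u) u = true := ext_range (a := 212162) (len := 43) h4934 m2_4934
  have h4936 : ∀ u < 212248, (fun u => chkFix tab mwordsA u) u = true := ext_range (a := 212205) (len := 43) h4935 m2_4935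
  have h4937 : ∀ u < 212291, (fun u => chkFix tab mwordsA u) u = true := ext_range (a := 212248) (len := 43) h4936 m2_4936
  have h4938 : ∀ u < 212334, (fun u => chkFix tab mwordsA u) u = true := ext_range (a := 212291) (len := 43) h4937 m2_4937
  have h4939 : ∀ u < 212377, (fun u => chkFix tab mwordsA u) u = true := ext_range (a := 212334) (len := 43) h4938 m2_4938
  have h4940 : ∀ u < 212420, (fun u => chkFix tab mwordsA u) u = true := ext_range (a := 212377) (len := 43) h4939 m2_4939
  have h4941 : ∀ u < 212463, (fun u => chkFix tab mwordsA u) u = true := ext_range (a := 212420) (len := 43) h4940 m2_4940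
  have h4942 : ∀ u < 212506, (fun u => chkFix tab mwordsA u) u = true := ext_range (a := 212463) (len := 43) h4941 m2_4941
  have h4943 : ∀ u < 212549, (fun u => chkFix tab mwordsA u) u = true := ext_range (a := 212506) (len := 43) h4942 m2_4942
  have h4944 : ∀ u < 212592, (fun u => chkFix tab mwordsA u) u = true := ext_range (a := 212549) (len := 43) h4943 m2_4943
  have h4945 : ∀ u < 212635, (fun u => chkFix tab mwordsA u) u = true := ext_range (a := 212592) (len := 43) h4944 m2_4944
  have h4946 : ∀ u < 212678, (fun u => chkFix tab mwordsA u) u = true := ext_range (a := 212635) (len := 43) h4945 m2_4945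
  have h4947 : ∀ u < 212721, (fun u => chkFix tab mwordsA u) u = true := ext_range (a := 212678) (len := 43) h4946 m2_4946
  have h4948 : ∀ u < 212764, (fun u => chkFix tab mwordsA u) u = true := ext_range (a := 212721) (len := 43) h4947 m2_4947
  have h4949 : ∀ u < 212807, (fun u => chkFix tab mwordsA u) u = true := ext_range (a := 212764) (len := 43) h4948 m2_4948
  have h4950 : ∀ u < 212850, (fun u => chkFix tab mwordsA u) u = true := ext_range (a := 212807) (len := 43) h4949 m2_4949
  have h4951 : ∀ u < 212893, (fun u => chkFix tab mwordsA u) u = true := ext_range (a := 212850) (len := 43) h4950 m2_4950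
  have h4952 : ∀ u < 212936, (fun u => chkFix tab mwordsA u) u = true := ext_range (a := 212893) (len := 43) h4951 m2_4951
  have h4953 : ∀ u < 212979, (fun u => chkFix tab mwordsA u) u = true := ext_range (a := 212936) (len := 43) h4952 m2_4952
  have h4954 : ∀ u < 213022, (fun u => chkFix tab mwordsA u) u = true := ext_range (a := 212979) (len := 43) h4953 m2_4953
  have h4955 : ∀ u < 213065, (fun u => chkFix tab mwordsA u) u = true := ext_range (a := 213022) (len := 43) h4954 m2_4954
  have h4956 : ∀ u < 213108, (fun u => chkFix tab mwordsA u) u = true := ext_range (a := 213065) (len := 43) h4955 m2_4955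
  have h4957 : ∀ u < 213151, (fun u => chkFix tab mwordsA u) u = true := ext_range (a := 213108) (len := 43) h4956 m2_4956
  have h4958 : ∀ u < 213194, (fun u => chkFix tab mwordsA u) u = true := ext_range (a := 213151) (len := 43) h4957 m2_4957
  have h4959 : ∀ u < 213237, (fun u => chkFix tab mwordsA u) u = true := ext_range (a := 213194) (len := 43) h4958 m2_4958
  have h4960 : ∀ u < 213280, (fun u => chkFix tab mwordsA u) u = true := ext_range (a := 213237) (len := 43) h4959 m2_4959
  have h4961 : ∀ u < 213323, (fun u => chkFix tab mwordsA u) u = true := ext_range (a := 213280) (len := 43) h4960 m2_4960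
  have h4962 : ∀ u < 213366, (fun u => chkFix tab mwordsA u) u = true := ext_range (a := 213323) (len := 43) h4961 m2_4961
  have h4963 : ∀ u < 213409, (fun u => chkFix tab mwordsA u) u = true := ext_range (a := 213366) (len := 43) h4962 m2_4962
  have h4964 : ∀ u < 213452, (fun u => chkFix tab mwordsA u) u = true := ext_range (a := 213409) (len := 43) h4963 m2_4963
  have h4965 : ∀ u < 213495, (fun u => chkFix tab mwordsA u) u = true := ext_range (a := 213452) (len := 43) h4964 m2_4964
  have h4966 : ∀ u < 213538, (fun u => chkFix tab mwordsA u) u = true := ext_range (a := 213495) (len := 43) h4965 m2_4965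
  have h4967 : ∀ u < 213581, (fun u => chkFix tab mwordsA u) u = true := ext_range (a := 213538) (len := 43) h4966 m2_4966
  have h4968 : ∀ u < 213624, (fun u => chkFix tab mwordsA u) u = true := ext_range (a := 213581) (len := 43) h4967 m2_4967
  have h4969 : ∀ u < 213667, (fun u => chkFix tab mwordsA u) u = true := ext_range (a := 213624) (len := 43) h4968 m2_4968
  have h4970 : ∀ u < 213710, (fun u => chkFix tab mwordsA u) u = true := ext_range (a := 213667) (len := 43) h4969 m2_4969
  have h4971 : ∀ u < 213753, (fun u => chkFix tab mwordsA u) u = true := ext_range (a := 213710) (len := 43) h4970 m2_4970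
  have h4972 : ∀ u < 213796, (fun u => chkFix tab mwordsA u) u = true := ext_range (a := 213753) (len := 43) h4971 m2_4971
  have h4973 : ∀ u < 213839, (fun u => chkFix tab mwordsA u) u = true := ext_range (a := 213796) (len := 43) h4972 m2_4972
  have h4974 : ∀ u < 213882, (fun u => chkFix tab mwordsA u) u = true := ext_range (a := 213839) (len := 43) h4973 m2_4973
  have h4975 : ∀ u < 213925, (fun u => chkFix tab mwordsA u) u = true := ext_range (a := 213882) (len := 43) h4974 m2_4974
  have h4976 : ∀ u < 213968, (fun u => chkFix tab mwordsA u) u = true := ext_range (a := 213925) (len := 43) h4975 m2_4975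
  have h4977 : ∀ u < 214011, (fun u => chkFix tab mwordsA u) u = true := ext_range (a := 213968) (len := 43) h4976 m2_4976
  have h4978 : ∀ u < 214054, (fun u => chkFix tab mwordsA u) u = true := ext_range (a := 214011) (len := 43) h4977 m2_4977
  have h4979 : ∀ u < 214097, (fun u => chkFix tab mwordsA u) u = true := ext_range (a := 214054) (len := 43) h4978 m2_4978
  have h4980 : ∀ u < 214140, (fun u => chkFix tab mwordsA u) u = true := ext_range (a := 214097) (len := 43) h4979 m2_4979
  have h4981 : ∀ u < 214183, (fun u => chkFix tab mwordsA u) u = true := ext_range (a := 214140) (len := 43) h4980 m2_4980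
  have h4982 : ∀ u < 214226, (fun u => chkFix tab mwordsA u) u = true := ext_range (a := 214183) (len := 43) h4981 m2_4981
  have h4983 : ∀ u < 214269, (fun u => chkFix tab mwordsA u) u = true := ext_range (a := 214226) (len := 43) h4982 m2_4982
  have h4984 : ∀ u < 214312, (fun u => chkFix tab mwordsA u) u = true := ext_range (a := 214269) (len := 43) h4983 m2_4983
  have h4985 : ∀ u < 214355, (fun u => chkFix tab mwordsA u) u = true := ext_range (a := 214312) (len := 43) h4984 m2_4984
  have h4986 : ∀ u < 214398, (fun u => chkFix tab mwordsA u) u = true := ext_range (a := 214355) (len := 43) h4985 m2_4985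
  have h4987 : ∀ u < 214441, (fun u => chkFix tab mwordsA u) u = true := ext_range (a := 214398) (len := 43) h4986 m2_4986
  have h4988 : ∀ u < 214484, (fun u => chkFix tab mwordsA u) u = true := ext_range (a := 214441) (len := 43) h4987 m2_4987
  have h4989 : ∀ u < 214527, (fun u => chkFix tab mwordsA u) u = true := ext_range (a := 214484) (len := 43) h4988 m2_4988
  have h4990 : ∀ u < 214570, (fun u => chkFix tab mwordsA u) u = true := ext_range (a := 214527) (len := 43) h4989 m2_4989
  have h4991 : ∀ u < 214613, (fun u => chkFix tab mwordsA u) u = true := ext_range (a := 214570) (len := 43) h4990 m2_4990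
  have h4992 : ∀ u < 214656, (fun u => chkFix tab mwordsA u) u = true := ext_range (a := 214613) (len := 43) h4991 m2_4991
  have h4993 : ∀ u < 214699, (fun u => chkFix tab mwordsA u) u = true := ext_range (a := 214656) (len := 43) h4992 m2_4992
  have h4994 : ∀ u < 214742, (fun u => chkFix tab mwordsA u) u = true := ext_range (a := 214699) (len := 43) h4993 m2_4993
  have h4995 : ∀ u < 214785, (fun u => chkFix tab mwordsA u) u = true := ext_range (a := 214742) (len := 43) h4994 m2_4994
  have h4996 : ∀ u < 214828, (fun u => chkFix tab mwordsA u) u = true := ext_range (a := 214785) (len := 43) h4995 m2_4995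
  have h4997 : ∀ u < 214871, (fun u => chkFix tab mwordsA u) u = true := ext_range (a := 214828) (len := 43) h4996 m2_4996
  have h4998 : ∀ u < 214914, (fun u => chkFix tab mwordsA u) u = true := ext_range (a := 214871) (len := 43) h4997 m2_4997
  have h4999 : ∀ u < 214957, (fun u => chkFix tab mwordsA u) u = true := ext_range (a := 214914) (len := 43) h4998 m2_4998
  have h5000 : ∀ u < 215000, (fun u => chkFix tab mwordsA u) u = true := ext_range (a := 214957) (len := 43) h4999 m2_4999
  have h5001 : ∀ u < 215043, (fun u => chkFix tab mwordsA u) u = true := ext_range (a := 215000) (len := 43) h5000 m2_5000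
  have h5002 : ∀ u < 215086, (fun u => chkFix tab mwordsA u) u = true := ext_range (a := 215043) (len := 43) h5001 m2_5001
  have h5003 : ∀ u < 215129, (fun u => chkFix tab mwordsA u) u = true := ext_range (a := 215086) (len := 43) h5002 m2_5002
  have h5004 : ∀ u < 215172, (fun u => chkFix tab mwordsA u) u = true := ext_range (a := 215129) (len := 43) h5003 m2_5003
  have h5005 : ∀ u < 215215, (fun u => chkFix tab mwordsA u) u = true := ext_range (a := 215172) (len := 43) h5004 m2_5004
  have h5006 : ∀ u < 215258, (fun u => chkFix tab mwordsA u) u = true := ext_range (a := 215215) (len := 43) h5005 m2_5005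
  have h5007 : ∀ u < 215301, (fun u => chkFix tab mwordsA u) u = true := ext_range (a := 215258) (len := 43) h5006 m2_5006
  have h5008 : ∀ u < 215344, (fun u => chkFix tab mwordsA u) u = true := ext_range (a := 215301) (len := 43) h5007 m2_5007
  have h5009 : ∀ u < 215387, (fun u => chkFix tab mwordsA u) u = true := ext_range (a := 215344) (len := 43) h5008 m2_5008
  have h5010 : ∀ u < 215430, (fun u => chkFix tab mwordsA u) u = true := ext_range (a := 215387) (len := 43) h5009 m2_5009
  have h5011 : ∀ u < 215473, (fun u => chkFix tab mwordsA u) u = true := ext_range (a := 215430) (len := 43) h5010 m2_5010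
  have h5012 : ∀ u < 215516, (fun u => chkFix tab mwordsA u) u = true := ext_range (a := 215473) (len := 43) h5011 m2_5011
  have h5013 : ∀ u < 215559, (fun u => chkFix tab mwordsA u) u = true := ext_range (a := 215516) (len := 43) h5012 m2_5012
  have h5014 : ∀ u < 215602, (fun u => chkFix tab mwordsA u) u = true := ext_range (a := 215559) (len := 43) h5013 m2_5013
  have h5015 : ∀ u < 215645, (fun u => chkFix tab mwordsA u) u = true := ext_range (a := 215602) (len := 43) h5014 m2_5014
  have h5016 : ∀ u < 215688, (fun u => chkFix tab mwordsA u) u = true := ext_range (a := 215645) (len := 43) h5015 m2_5015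
  have h5017 : ∀ u < 215731, (fun u => chkFix tab mwordsA u) u = true := ext_range (a := 215688) (len := 43) h5016 m2_5016
  have h5018 : ∀ u < 215774, (fun u => chkFix tab mwordsA u) u = true := ext_range (a := 215731) (len := 43) h5017 m2_5017
  have h5019 : ∀ u < 215817, (fun u => chkFix tab mwordsA u) u = true := ext_range (a := 215774) (len := 43) h5018 m2_5018
  have h5020 : ∀ u < 215860, (fun u => chkFix tab mwordsA u) u = true := ext_range (a := 215817) (len := 43) h5019 m2_5019
  have h5021 : ∀ u < 215903, (fun u => chkFix tab mwordsA u) u = true := ext_range (a := 215860) (len := 43) h5020 m2_5020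
  have h5022 : ∀ u < 215946, (fun u => chkFix tab mwordsA u) u = true := ext_range (a := 215903) (len := 43) h5021 m2_5021
  have h5023 : ∀ u < 215989, (fun u => chkFix tab mwordsA u) u = true := ext_range (a := 215946) (len := 43) h5022 m2_5022
  have h5024 : ∀ u < 216032, (fun u => chkFix tab mwordsA u) u = true := ext_range (a := 215989) (len := 43) h5023 m2_5023
  have h5025 : ∀ u < 216075, (fun u => chkFix tab mwordsA u) u = true := ext_range (a := 216032) (len := 43) h5024 m2_5024
  have h5026 : ∀ u < 216118, (fun u => chkFix tab mwordsA u) u = true := ext_range (a := 216075) (len := 43) h5025 m2_5025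
  have h5027 : ∀ u < 216161, (fun u => chkFix tab mwordsA u) u = true := ext_range (a := 216118) (len := 43) h5026 m2_5026
  have h5028 : ∀ u < 216204, (fun u => chkFix tab mwordsA u) u = true := ext_range (a := 216161) (len := 43) h5027 m2_5027
  have h5029 : ∀ u < 216247, (fun u => chkFix tab mwordsA u) u = true := ext_range (a := 216204) (len := 43) h5028 m2_5028
  have h5030 : ∀ u < 216290, (fun u => chkFix tab mwordsA u) u = true := ext_range (a := 216247) (len := 43) h5029 m2_5029
  have h5031 : ∀ u < 216333, (fun u => chkFix tab mwordsA u) u = true := ext_range (a := 216290) (len := 43) h5030 m2_5030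
  have h5032 : ∀ u < 216376, (fun u => chkFix tab mwordsA u) u = true := ext_range (a := 216333) (len := 43) h5031 m2_5031
  have h5033 : ∀ u < 216419, (fun u => chkFix tab mwordsA u) u = true := ext_range (a := 216376) (len := 43) h5032 m2_5032
  have h5034 : ∀ u < 216462, (fun u => chkFix tab mwordsA u) u = true := ext_range (a := 216419) (len := 43) h5033 m2_5033
  have h5035 : ∀ u < 216505, (fun u => chkFix tab mwordsA u) u = true := ext_range (a := 216462) (len := 43) h5034 m2_5034
  have h5036 : ∀ u < 216548, (fun u => chkFix tab mwordsA u) u = true := ext_range (a := 216505) (len := 43) h5035 m2_5035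
  have h5037 : ∀ u < 216591, (fun u => chkFix tab mwordsA u) u = true := ext_range (a := 216548) (len := 43) h5036 m2_5036
  have h5038 : ∀ u < 216634, (fun u => chkFix tab mwordsA u) u = true := ext_range (a := 216591) (len := 43) h5037 m2_5037
  have h5039 : ∀ u < 216677, (fun u => chkFix tab mwordsA u) u = true := ext_range (a := 216634) (len := 43) h5038 m2_5038
  have h5040 : ∀ u < 216720, (fun u => chkFix tab mwordsA u) u = true := ext_range (a := 216677) (len := 43) h5039 m2_5039
  have h5041 : ∀ u < 216763, (fun u => chkFix tab mwordsA u) u = true := ext_range (a := 216720) (len := 43) h5040 m2_5040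
  have h5042 : ∀ u < 216806, (fun u => chkFix tab mwordsA u) u = true := ext_range (a := 216763) (len := 43) h5041 m2_5041
  have h5043 : ∀ u < 216849, (fun u => chkFix tab mwordsA u) u = true := ext_range (a := 216806) (len := 43) h5042 m2_5042
  have h5044 : ∀ u < 216892, (fun u => chkFix tab mwordsA u) u = true := ext_range (a := 216849) (len := 43) h5043 m2_5043
  have h5045 : ∀ u < 216935, (fun u => chkFix tab mwordsA u) u = true := ext_range (a := 216892) (len := 43) h5044 m2_5044
  have h5046 : ∀ u < 216978, (fun u => chkFix tab mwordsA u) u = true := ext_range (a := 216935) (len := 43) h5045 m2_5045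
  have h5047 : ∀ u < 217021, (fun u => chkFix tab mwordsA u) u = true := ext_range (a := 216978) (len := 43) h5046 m2_5046
  have h5048 : ∀ u < 217064, (fun u => chkFix tab mwordsA u) u = true := ext_range (a := 217021) (len := 43) h5047 m2_5047
  have h5049 : ∀ u < 217107, (fun u => chkFix tab mwordsA u) u = true := ext_range (a := 217064) (len := 43) h5048 m2_5048
  have h5050 : ∀ u < 217150, (fun u => chkFix tab mwordsA u) u = true := ext_range (a := 217107) (len := 43) h5049 m2_5049
  have h5051 : ∀ u < 217193, (fun u => chkFix tab mwordsA u) u = true := ext_range (a := 217150) (len := 43) h5050 m2_5050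
  have h5052 : ∀ u < 217236, (fun u => chkFix tab mwordsA u) u = true := ext_range (a := 217193) (len := 43) h5051 m2_5051
  have h5053 : ∀ u < 217279, (fun u => chkFix tab mwordsA u) u = true := ext_range (a := 217236) (len := 43) h5052 m2_5052
  have h5054 : ∀ u < 217322, (fun u => chkFix tab mwordsA u) u = true := ext_range (a := 217279) (len := 43) h5053 m2_5053
  have h5055 : ∀ u < 217365, (fun u => chkFix tab mwordsA u) u = true := ext_range (a := 217322) (len := 43) h5054 m2_5054
  have h5056 : ∀ u < 217408, (fun u => chkFix tab mwordsA u) u = true := ext_range (a := 217365) (len := 43) h5055 m2_5055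
  have h5057 : ∀ u < 217451, (fun u => chkFix tab mwordsA u) u = true := ext_range (a := 217408) (len := 43) h5056 m2_5056
  have h5058 : ∀ u < 217494, (fun u => chkFix tab mwordsA u) u = true := ext_range (a := 217451) (len := 43) h5057 m2_5057
  have h5059 : ∀ u < 217537, (fun u => chkFix tab mwordsA u) u = true := ext_range (a := 217494) (len := 43) h5058 m2_5058
  have h5060 : ∀ u < 217580, (fun u => chkFix tab mwordsA u) u = true := ext_range (a := 217537) (len := 43) h5059 m2_5059
  have h5061 : ∀ u < 217623, (fun u => chkFix tab mwordsA u) u = true := ext_range (a := 217580) (len := 43) h5060 m2_5060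
  have h5062 : ∀ u < 217666, (fun u => chkFix tab mwordsA u) u = true := ext_range (a := 217623) (len := 43) h5061 m2_5061
  have h5063 : ∀ u < 217709, (fun u => chkFix tab mwordsA u) u = true := ext_range (a := 217666) (len := 43) h5062 m2_5062
  have h5064 : ∀ u < 217752, (fun u => chkFix tab mwordsA u) u = true := ext_range (a := 217709) (len := 43) h5063 m2_5063
  have h5065 : ∀ u < 217795, (fun u => chkFix tab mwordsA u) u = true := ext_range (a := 217752) (len := 43) h5064 m2_5064
  have h5066 : ∀ u < 217838, (fun u => chkFix tab mwordsA u) u = true := ext_range (a := 217795) (len := 43) h5065 m2_5065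
  have h5067 : ∀ u < 217881, (fun u => chkFix tab mwordsA u) u = true := ext_range (a := 217838) (len := 43) h5066 m2_5066
  have h5068 : ∀ u < 217924, (fun u => chkFix tab mwordsA u) u = true := ext_range (a := 217881) (len := 43) h5067 m2_5067
  have h5069 : ∀ u < 217967, (fun u => chkFix tab mwordsA u) u = true := ext_range (a := 217924) (len := 43) h5068 m2_5068
  have h5070 : ∀ u < 218010, (fun u => chkFix tab mwordsA u) u = true := ext_range (a := 217967) (len := 43) h5069 m2_5069
  have h5071 : ∀ u < 218053, (fun u => chkFix tab mwordsA u) u = true := ext_range (a := 218010) (len := 43) h5070 m2_5070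
  have h5072 : ∀ u < 218096, (fun u => chkFix tab mwordsA u) u = true := ext_range (a := 218053) (len := 43) h5071 m2_5071
  have h5073 : ∀ u < 218139, (fun u => chkFix tab mwordsA u) u = true := ext_range (a := 218096) (len := 43) h5072 m2_5072
  have h5074 : ∀ u < 218182, (fun u => chkFix tab mwordsA u) u = true := ext_range (a := 218139) (len := 43) h5073 m2_5073
  have h5075 : ∀ u < 218225, (fun u => chkFix tab mwordsA u) u = true := ext_range (a := 218182) (len := 43) h5074 m2_5074
  have h5076 : ∀ u < 218268, (fun u => chkFix tab mwordsA u) u = true := ext_range (a := 218225) (len := 43) h5075 m2_5075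
  have h5077 : ∀ u < 218311, (fun u => chkFix tab mwordsA u) u = true := ext_range (a := 218268) (len := 43) h5076 m2_5076
  have h5078 : ∀ u < 218354, (fun u => chkFix tab mwordsA u) u = true := ext_range (a := 218311) (len := 43) h5077 m2_5077
  have h5079 : ∀ u < 218397, (fun u => chkFix tab mwordsA u) u = true := ext_range (a := 218354) (len := 43) h5078 m2_5078
  have h5080 : ∀ u < 218440, (fun u => chkFix tab mwordsA u) u = true := ext_range (a := 218397) (len := 43) h5079 m2_5079
  have h5081 : ∀ u < 218483, (fun u => chkFix tab mwordsA u) u = true := ext_range (a := 218440) (len := 43) h5080 m2_5080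
  have h5082 : ∀ u < 218526, (fun u => chkFix tab mwordsA u) u = true := ext_range (a := 218483) (len := 43) h5081 m2_5081
  have h5083 : ∀ u < 218569, (fun u => chkFix tab mwordsA u) u = true := ext_range (a := 218526) (len := 43) h5082 m2_5082
  have h5084 : ∀ u < 218612, (fun u => chkFix tab mwordsA u) u = true := ext_range (a := 218569) (len := 43) h5083 m2_5083
  have h5085 : ∀ u < 218655, (fun u => chkFix tab mwordsA u) u = true := ext_range (a := 218612) (len := 43) h5084 m2_5084
  have h5086 : ∀ u < 218698, (fun u => chkFix tab mwordsA u) u = true := ext_range (a := 218655) (len := 43) h5085 m2_5085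
  have h5087 : ∀ u < 218741, (fun u => chkFix tab mwordsA u) u = true := ext_range (a := 218698) (len := 43) h5086 m2_5086
  have h5088 : ∀ u < 218784, (fun u => chkFix tab mwordsA u) u = true := ext_range (a := 218741) (len := 43) h5087 m2_5087
  have h5089 : ∀ u < 218827, (fun u => chkFix tab mwordsA u) u = true := ext_range (a := 218784) (len := 43) h5088 m2_5088
  have h5090 : ∀ u < 218870, (fun u => chkFix tab mwordsA u) u = true := ext_range (a := 218827) (len := 43) h5089 m2_5089
  have h5091 : ∀ u < 218913, (fun u => chkFix tab mwordsA u) u = true := ext_range (a := 218870) (len := 43) h5090 m2_5090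
  have h5092 : ∀ u < 218956, (fun u => chkFix tab mwordsA u) u = true := ext_range (a := 218913) (len := 43) h5091 m2_5091
  have h5093 : ∀ u < 218999, (fun u => chkFix tab mwordsA u) u = true := ext_range (a := 218956) (len := 43) h5092 m2_5092
  have h5094 : ∀ u < 219042, (fun u => chkFix tab mwordsA u) u = true := ext_range (a := 218999) (len := 43) h5093 m2_5093
  have h5095 : ∀ u < 219085, (fun u => chkFix tab mwordsA u) u = true := ext_range (a := 219042) (len := 43) h5094 m2_5094
  have h5096 : ∀ u < 219128, (fun u => chkFix tab mwordsA u) u = true := ext_range (a := 219085) (len := 43) h5095 m2_5095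
  have h5097 : ∀ u < 219171, (fun u => chkFix tab mwordsA u) u = true := ext_range (a := 219128) (len := 43) h5096 m2_5096
  have h5098 : ∀ u < 219214, (fun u => chkFix tab mwordsA u) u = true := ext_range (a := 219171) (len := 43) h5097 m2_5097
  have h5099 : ∀ u < 219257, (fun u => chkFix tab mwordsA u) u = true := ext_range (a := 219214) (len := 43) h5098 m2_5098
  have h5100 : ∀ u < 219300, (fun u => chkFix tab mwordsA u) u = true := ext_range (a := 219257) (len := 43) h5099 m2_5099
  have h5101 : ∀ u < 219343, (fun u => chkFix tab mwordsA u) u = true := ext_range (a := 219300) (len := 43) h5100 m2_5100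
  have h5102 : ∀ u < 219386, (fun u => chkFix tab mwordsA u) u = true := ext_range (a := 219343) (len := 43) h5101 m2_5101
  have h5103 : ∀ u < 219429, (fun u => chkFix tab mwordsA u) u = true := ext_range (a := 219386) (len := 43) h5102 m2_5102
  have h5104 : ∀ u < 219472, (fun u => chkFix tab mwordsA u) u = true := ext_range (a := 219429) (len := 43) h5103 m2_5103
  have h5105 : ∀ u < 219515, (fun u => chkFix tab mwordsA u) u = true := ext_range (a := 219472) (len := 43) h5104 m2_5104
  have h5106 : ∀ u < 219558, (fun u => chkFix tab mwordsA u) u = true := ext_range (a := 219515) (len := 43) h5105 m2_5105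
  have h5107 : ∀ u < 219601, (fun u => chkFix tab mwordsA u) u = true := ext_range (a := 219558) (len := 43) h5106 m2_5106
  have h5108 : ∀ u < 219644, (fun u => chkFix tab mwordsA u) u = true := ext_range (a := 219601) (len := 43) h5107 m2_5107
  have h5109 : ∀ u < 219687, (fun u => chkFix tab mwordsA u) u = true := ext_range (a := 219644) (len := 43) h5108 m2_5108
  have h5110 : ∀ u < 219730, (fun u => chkFix tab mwordsA u) u = true := ext_range (a := 219687) (len := 43) h5109 m2_5109
  have h5111 : ∀ u < 219773, (fun u => chkFix tab mwordsA u) u = true := ext_range (a := 219730) (len := 43) h5110 m2_5110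
  have h5112 : ∀ u < 219816, (fun u => chkFix tab mwordsA u) u = true := ext_range (a := 219773) (len := 43) h5111 m2_5111
  have h5113 : ∀ u < 219859, (fun u => chkFix tab mwordsA u) u = true := ext_range (a := 219816) (len := 43) h5112 m2_5112
  have h5114 : ∀ u < 219902, (fun u => chkFix tab mwordsA u) u = true := ext_range (a := 219859) (len := 43) h5113 m2_5113
  have h5115 : ∀ u < 219945, (fun u => chkFix tab mwordsA u) u = true := ext_range (a := 219902) (len := 43) h5114 m2_5114
  have h5116 : ∀ u < 219988, (fun u => chkFix tab mwordsA u) u = true := ext_range (a := 219945) (len := 43) h5115 m2_5115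
  have h5117 : ∀ u < 220031, (fun u => chkFix tab mwordsA u) u = true := ext_range (a := 219988) (len := 43) h5116 m2_5116
  have h5118 : ∀ u < 220074, (fun u => chkFix tab mwordsA u) u = true := ext_range (a := 220031) (len := 43) h5117 m2_5117
  have h5119 : ∀ u < 220117, (fun u => chkFix tab mwordsA u) u = true := ext_range (a := 220074) (len := 43) h5118 m2_5118
  have h5120 : ∀ u < 220160, (fun u => chkFix tab mwordsA u) u = true := ext_range (a := 220117) (len := 43) h5119 m2_5119
  have h5121 : ∀ u < 220203, (fun u => chkFix tab mwordsA u) u = true := ext_range (a := 220160) (len := 43) h5120 m2_5120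
  have h5122 : ∀ u < 220246, (fun u => chkFix tab mwordsA u) u = true := ext_range (a := 220203) (len := 43) h5121 m2_5121
  have h5123 : ∀ u < 220289, (fun u => chkFix tab mwordsA u) u = true := ext_range (a := 220246) (len := 43) h5122 m2_5122
  have h5124 : ∀ u < 220332, (fun u => chkFix tab mwordsA u) u = true := ext_range (a := 220289) (len := 43) h5123 m2_5123
  have h5125 : ∀ u < 220375, (fun u => chkFix tab mwordsA u) u = true := ext_range (a := 220332) (len := 43) h5124 m2_5124
  have h5126 : ∀ u < 220418, (fun u => chkFix tab mwordsA u) u = true := ext_range (a := 220375) (len := 43) h5125 m2_5125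
  have h5127 : ∀ u < 220461, (fun u => chkFix tab mwordsA u) u = true := ext_range (a := 220418) (len := 43) h5126 m2_5126
  have h5128 : ∀ u < 220504, (fun u => chkFix tab mwordsA u) u = true := ext_range (a := 220461) (len := 43) h5127 m2_5127
  have h5129 : ∀ u < 220547, (fun u => chkFix tab mwordsA u) u = true := ext_range (a := 220504) (len := 43) h5128 m2_5128
  have h5130 : ∀ u < 220590, (fun u => chkFix tab mwordsA u) u = true := ext_range (a := 220547) (len := 43) h5129 m2_5129
  have h5131 : ∀ u < 220633, (fun u => chkFix tab mwordsA u) u = true := ext_range (a := 220590) (len := 43) h5130 m2_5130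
  have h5132 : ∀ u < 220676, (fun u => chkFix tab mwordsA u) u = true := ext_range (a := 220633) (len := 43) h5131 m2_5131
  have h5133 : ∀ u < 220719, (fun u => chkFix tab mwordsA u) u = true := ext_range (a := 220676) (len := 43) h5132 m2_5132
  have h5134 : ∀ u < 220762, (fun u => chkFix tab mwordsA u) u = true := ext_range (a := 220719) (len := 43) h5133 m2_5133
  have h5135 : ∀ u < 220805, (fun u => chkFix tab mwordsA u) u = true := ext_range (a := 220762) (len := 43) h5134 m2_5134
  have h5136 : ∀ u < 220848, (fun u => chkFix tab mwordsA u) u = true := ext_range (a := 220805) (len := 43) h5135 m2_5135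
  have h5137 : ∀ u < 220891, (fun u => chkFix tab mwordsA u) u = true := ext_range (a := 220848) (len := 43) h5136 m2_5136
  have h5138 : ∀ u < 220934, (fun u => chkFix tab mwordsA u) u = true := ext_range (a := 220891) (len := 43) h5137 m2_5137
  have h5139 : ∀ u < 220977, (fun u => chkFix tab mwordsA u) u = true := ext_range (a := 220934) (len := 43) h5138 m2_5138
  have h5140 : ∀ u < 221020, (fun u => chkFix tab mwordsA u) u = true := ext_range (a := 220977) (len := 43) h5139 m2_5139
  have h5141 : ∀ u < 221063, (fun u => chkFix tab mwordsA u) u = true := ext_range (a := 221020) (len := 43) h5140 m2_5140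
  have h5142 : ∀ u < 221106, (fun u => chkFix tab mwordsA u) u = true := ext_range (a := 221063) (len := 43) h5141 m2_5141
  have h5143 : ∀ u < 221149, (fun u => chkFix tab mwordsA u) u = true := ext_range (a := 221106) (len := 43) h5142 m2_5142
  have h5144 : ∀ u < 221192, (fun u => chkFix tab mwordsA u) u = true := ext_range (a := 221149) (len := 43) h5143 m2_5143
  have h5145 : ∀ u < 221235, (fun u => chkFix tab mwordsA u) u = true := ext_range (a := 221192) (len := 43) h5144 m2_5144
  have h5146 : ∀ u < 221278, (fun u => chkFix tab mwordsA u) u = true := ext_range (a := 221235) (len := 43) h5145 m2_5145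
  have h5147 : ∀ u < 221321, (fun u => chkFix tab mwordsA u) u = true := ext_range (a := 221278) (len := 43) h5146 m2_5146
  have h5148 : ∀ u < 221364, (fun u => chkFix tab mwordsA u) u = true := ext_range (a := 221321) (len := 43) h5147 m2_5147
  have h5149 : ∀ u < 221407, (fun u => chkFix tab mwordsA u) u = true := ext_range (a := 221364) (len := 43) h5148 m2_5148
  have h5150 : ∀ u < 221450, (fun u => chkFix tab mwordsA u) u = true := ext_range (a := 221407) (len := 43) h5149 m2_5149
  have h5151 : ∀ u < 221493, (fun u => chkFix tab mwordsA u) u = true := ext_range (a := 221450) (len := 43) h5150 m2_5150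
  have h5152 : ∀ u < 221536, (fun u => chkFix tab mwordsA u) u = true := ext_range (a := 221493) (len := 43) h5151 m2_5151
  have h5153 : ∀ u < 221579, (fun u => chkFix tab mwordsA u) u = true := ext_range (a := 221536) (len := 43) h5152 m2_5152
  have h5154 : ∀ u < 221622, (fun u => chkFix tab mwordsA u) u = true := ext_range (a := 221579) (len := 43) h5153 m2_5153
  have h5155 : ∀ u < 221665, (fun u => chkFix tab mwordsA u) u = true := ext_range (a := 221622) (len := 43) h5154 m2_5154
  have h5156 : ∀ u < 221708, (fun u => chkFix tab mwordsA u) u = true := ext_range (a := 221665) (len := 43) h5155 m2_5155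
  have h5157 : ∀ u < 221751, (fun u => chkFix tab mwordsA u) u = true := ext_range (a := 221708) (len := 43) h5156 m2_5156
  have h5158 : ∀ u < 221794, (fun u => chkFix tab mwordsA u) u = true := ext_range (a := 221751) (len := 43) h5157 m2_5157
  have h5159 : ∀ u < 221837, (fun u => chkFix tab mwordsA u) u = true := ext_range (a := 221794) (len := 43) h5158 m2_5158
  have h5160 : ∀ u < 221880, (fun u => chkFix tab mwordsA u) u = true := ext_range (a := 221837) (len := 43) h5159 m2_5159
  have h5161 : ∀ u < 221923, (fun u => chkFix tab mwordsA u) u = true := ext_range (a := 221880) (len := 43) h5160 m2_5160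
  have h5162 : ∀ u < 221966, (fun u => chkFix tab mwordsA u) u = true := ext_range (a := 221923) (len := 43) h5161 m2_5161
  have h5163 : ∀ u < 222009, (fun u => chkFix tab mwordsA u) u = true := ext_range (a := 221966) (len := 43) h5162 m2_5162
  have h5164 : ∀ u < 222052, (fun u => chkFix tab mwordsA u) u = true := ext_range (a := 222009) (len := 43) h5163 m2_5163
  have h5165 : ∀ u < 222095, (fun u => chkFix tab mwordsA u) u = true := ext_range (a := 222052) (len := 43) h5164 m2_5164
  have h5166 : ∀ u < 222138, (fun u => chkFix tab mwordsA u) u = true := ext_range (a := 222095) (len := 43) h5165 m2_5165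
  have h5167 : ∀ u < 222181, (fun u => chkFix tab mwordsA u) u = true := ext_range (a := 222138) (len := 43) h5166 m2_5166
  have h5168 : ∀ u < 222224, (fun u => chkFix tab mwordsA u) u = true := ext_range (a := 222181) (len := 43) h5167 m2_5167
  have h5169 : ∀ u < 222267, (fun u => chkFix tab mwordsA u) u = true := ext_range (a := 222224) (len := 43) h5168 m2_5168
  have h5170 : ∀ u < 222310, (fun u => chkFix tab mwordsA u) u = true := ext_range (a := 222267) (len := 43) h5169 m2_5169
  have h5171 : ∀ u < 222353, (fun u => chkFix tab mwordsA u) u = true := ext_range (a := 222310) (len := 43) h5170 m2_5170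
  have h5172 : ∀ u < 222396, (fun u => chkFix tab mwordsA u) u = true := ext_range (a := 222353) (len := 43) h5171 m2_5171
  have h5173 : ∀ u < 222439, (fun u => chkFix tab mwordsA u) u = true := ext_range (a := 222396) (len := 43) h5172 m2_5172
  have h5174 : ∀ u < 222482, (fun u => chkFix tab mwordsA u) u = true := ext_range (a := 222439) (len := 43) h5173 m2_5173
  have h5175 : ∀ u < 222525, (fun u => chkFix tab mwordsA u) u = true := ext_range (a := 222482) (len := 43) h5174 m2_5174
  have h5176 : ∀ u < 222568, (fun u => chkFix tab mwordsA u) u = true := ext_range (a := 222525) (len := 43) h5175 m2_5175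
  have h5177 : ∀ u < 222611, (fun u => chkFix tab mwordsA u) u = true := ext_range (a := 222568) (len := 43) h5176 m2_5176
  have h5178 : ∀ u < 222654, (fun u => chkFix tab mwordsA u) u = true := ext_range (a := 222611) (len := 43) h5177 m2_5177
  have h5179 : ∀ u < 222697, (fun u => chkFix tab mwordsA u) u = true := ext_range (a := 222654) (len := 43) h5178 m2_5178
  have h5180 : ∀ u < 222740, (fun u => chkFix tab mwordsA u) u = true := ext_range (a := 222697) (len := 43) h5179 m2_5179
  have h5181 : ∀ u < 222783, (fun u => chkFix tab mwordsA u) u = true := ext_range (a := 222740) (len := 43) h5180 m2_5180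
  have h5182 : ∀ u < 222826, (fun u => chkFix tab mwordsA u) u = true := ext_range (a := 222783) (len := 43) h5181 m2_5181
  have h5183 : ∀ u < 222869, (fun u => chkFix tab mwordsA u) u = true := ext_range (a := 222826) (len := 43) h5182 m2_5182
  have h5184 : ∀ u < 222912, (fun u => chkFix tab mwordsA u) u = true := ext_range (a := 222869) (len := 43) h5183 m2_5183
  have h5185 : ∀ u < 222955, (fun u => chkFix tab mwordsA u) u = true := ext_range (a := 222912) (len := 43) h5184 m2_5184
  have h5186 : ∀ u < 222998, (fun u => chkFix tab mwordsA u) u = true := ext_range (a := 222955) (len := 43) h5185 m2_5185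
  have h5187 : ∀ u < 223041, (fun u => chkFix tab mwordsA u) u = true := ext_range (a := 222998) (len := 43) h5186 m2_5186
  have h5188 : ∀ u < 223084, (fun u => chkFix tab mwordsA u) u = true := ext_range (a := 223041) (len := 43) h5187 m2_5187
  have h5189 : ∀ u < 223127, (fun u => chkFix tab mwordsA u) u = true := ext_range (a := 223084) (len := 43) h5188 m2_5188
  have h5190 : ∀ u < 223170, (fun u => chkFix tab mwordsA u) u = true := ext_range (a := 223127) (len := 43) h5189 m2_5189
  have h5191 : ∀ u < 223213, (fun u => chkFix tab mwordsA u) u = true := ext_range (a := 223170) (len := 43) h5190 m2_5190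
  have h5192 : ∀ u < 223256, (fun u => chkFix tab mwordsA u) u = true := ext_range (a := 223213) (len := 43) h5191 m2_5191
  have h5193 : ∀ u < 223299, (fun u => chkFix tab mwordsA u) u = true := ext_range (a := 223256) (len := 43) h5192 m2_5192
  have h5194 : ∀ u < 223342, (fun u => chkFix tab mwordsA u) u = true := ext_range (a := 223299) (len := 43) h5193 m2_5193
  have h5195 : ∀ u < 223385, (fun u => chkFix tab mwordsA u) u = true := ext_range (a := 223342) (len := 43) h5194 m2_5194
  have h5196 : ∀ u < 223428, (fun u => chkFix tab mwordsA u) u = true := ext_range (a := 223385) (len := 43) h5195 m2_5195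
  have h5197 : ∀ u < 223471, (fun u => chkFix tab mwordsA u) u = true := ext_range (a := 223428) (len := 43) h5196 m2_5196
  have h5198 : ∀ u < 223514, (fun u => chkFix tab mwordsA u) u = true := ext_range (a := 223471) (len := 43) h5197 m2_5197
  have h5199 : ∀ u < 223557, (fun u => chkFix tab mwordsA u) u = true := ext_range (a := 223514) (len := 43) h5198 m2_5198
  have h5200 : ∀ u < 223600, (fun u => chkFix tab mwordsA u) u = true := ext_range (a := 223557) (len := 43) h5199 m2_5199
  have h5201 : ∀ u < 223643, (fun u => chkFix tab mwordsA u) u = true := ext_range (a := 223600) (len := 43) h5200 m2_5200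
  have h5202 : ∀ u < 223686, (fun u => chkFix tab mwordsA u) u = true := ext_range (a := 223643) (len := 43) h5201 m2_5201
  have h5203 : ∀ u < 223729, (fun u => chkFix tab mwordsA u) u = true := ext_range (a := 223686) (len := 43) h5202 m2_5202
  have h5204 : ∀ u < 223772, (fun u => chkFix tab mwordsA u) u = true := ext_range (a := 223729) (len := 43) h5203 m2_5203
  have h5205 : ∀ u < 223815, (fun u => chkFix tab mwordsA u) u = true := ext_range (a := 223772) (len := 43) h5204 m2_5204
  have h5206 : ∀ u < 223858, (fun u => chkFix tab mwordsA u) u = true := ext_range (a := 223815) (len := 43) h5205 m2_5205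
  have h5207 : ∀ u < 223901, (fun u => chkFix tab mwordsA u) u = true := ext_range (a := 223858) (len := 43) h5206 m2_5206
  have h5208 : ∀ u < 223944, (fun u => chkFix tab mwordsA u) u = true := ext_range (a := 223901) (len := 43) h5207 m2_5207
  have h5209 : ∀ u < 223987, (fun u => chkFix tab mwordsA u) u = true := ext_range (a := 223944) (len := 43) h5208 m2_5208
  have h5210 : ∀ u < 224030, (fun u => chkFix tab mwordsA u) u = true := ext_range (a := 223987) (len := 43) h5209 m2_5209
  have h5211 : ∀ u < 224073, (fun u => chkFix tab mwordsA u) u = true := ext_range (a := 224030) (len := 43) h5210 m2_5210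
  have h5212 : ∀ u < 224116, (fun u => chkFix tab mwordsA u) u = true := ext_range (a := 224073) (len := 43) h5211 m2_5211
  have h5213 : ∀ u < 224159, (fun u => chkFix tab mwordsA u) u = true := ext_range (a := 224116) (len := 43) h5212 m2_5212
  have h5214 : ∀ u < 224202, (fun u => chkFix tab mwordsA u) u = true := ext_range (a := 224159) (len := 43) h5213 m2_5213
  have h5215 : ∀ u < 224245, (fun u => chkFix tab mwordsA u) u = true := ext_range (a := 224202) (len := 43) h5214 m2_5214
  have h5216 : ∀ u < 224288, (fun u => chkFix tab mwordsA u) u = true := ext_range (a := 224245) (len := 43) h5215 m2_5215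
  have h5217 : ∀ u < 224331, (fun u => chkFix tab mwordsA u) u = true := ext_range (a := 224288) (len := 43) h5216 m2_5216
  have h5218 : ∀ u < 224374, (fun u => chkFix tab mwordsA u) u = true := ext_range (a := 224331) (len := 43) h5217 m2_5217
  have h5219 : ∀ u < 224417, (fun u => chkFix tab mwordsA u) u = true := ext_range (a := 224374) (len := 43) h5218 m2_5218
  have h5220 : ∀ u < 224460, (fun u => chkFix tab mwordsA u) u = true := ext_range (a := 224417) (len := 43) h5219 m2_5219
  have h5221 : ∀ u < 224503, (fun u => chkFix tab mwordsA u) u = true := ext_range (a := 224460) (len := 43) h5220 m2_5220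
  have h5222 : ∀ u < 224546, (fun u => chkFix tab mwordsA u) u = true := ext_range (a := 224503) (len := 43) h5221 m2_5221
  have h5223 : ∀ u < 224589, (fun u => chkFix tab mwordsA u) u = true := ext_range (a := 224546) (len := 43) h5222 m2_5222
  have h5224 : ∀ u < 224632, (fun u => chkFix tab mwordsA u) u = true := ext_range (a := 224589) (len := 43) h5223 m2_5223
  have h5225 : ∀ u < 224675, (fun u => chkFix tab mwordsA u) u = true := ext_range (a := 224632) (len := 43) h5224 m2_5224
  have h5226 : ∀ u < 224718, (fun u => chkFix tab mwordsA u) u = true := ext_range (a := 224675) (len := 43) h5225 m2_5225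
  have h5227 : ∀ u < 224761, (fun u => chkFix tab mwordsA u) u = true := ext_range (a := 224718) (len := 43) h5226 m2_5226
  have h5228 : ∀ u < 224804, (fun u => chkFix tab mwordsA u) u = true := ext_range (a := 224761) (len := 43) h5227 m2_5227
  have h5229 : ∀ u < 224847, (fun u => chkFix tab mwordsA u) u = true := ext_range (a := 224804) (len := 43) h5228 m2_5228
  have h5230 : ∀ u < 224890, (fun u => chkFix tab mwordsA u) u = true := ext_range (a := 224847) (len := 43) h5229 m2_5229
  have h5231 : ∀ u < 224933, (fun u => chkFix tab mwordsA u) u = true := ext_range (a := 224890) (len := 43) h5230 m2_5230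
  have h5232 : ∀ u < 224976, (fun u => chkFix tab mwordsA u) u = true := ext_range (a := 224933) (len := 43) h5231 m2_5231
  have h5233 : ∀ u < 225019, (fun u => chkFix tab mwordsA u) u = true := ext_range (a := 224976) (len := 43) h5232 m2_5232
  have h5234 : ∀ u < 225062, (fun u => chkFix tab mwordsA u) u = true := ext_range (a := 225019) (len := 43) h5233 m2_5233
  have h5235 : ∀ u < 225105, (fun u => chkFix tab mwordsA u) u = true := ext_range (a := 225062) (len := 43) h5234 m2_5234
  have h5236 : ∀ u < 225148, (fun u => chkFix tab mwordsA u) u = true := ext_range (a := 225105) (len := 43) h5235 m2_5235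
  have h5237 : ∀ u < 225191, (fun u => chkFix tab mwordsA u) u = true := ext_range (a := 225148) (len := 43) h5236 m2_5236
  have h5238 : ∀ u < 225234, (fun u => chkFix tab mwordsA u) u = true := ext_range (a := 225191) (len := 43) h5237 m2_5237
  have h5239 : ∀ u < 225277, (fun u => chkFix tab mwordsA u) u = true := ext_range (a := 225234) (len := 43) h5238 m2_5238
  have h5240 : ∀ u < 225320, (fun u => chkFix tab mwordsA u) u = true := ext_range (a := 225277) (len := 43) h5239 m2_5239
  have h5241 : ∀ u < 225363, (fun u => chkFix tab mwordsA u) u = true := ext_range (a := 225320) (len := 43) h5240 m2_5240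
  have h5242 : ∀ u < 225406, (fun u => chkFix tab mwordsA u) u = true := ext_range (a := 225363) (len := 43) h5241 m2_5241
  have h5243 : ∀ u < 225449, (fun u => chkFix tab mwordsA u) u = true := ext_range (a := 225406) (len := 43) h5242 m2_5242
  have h5244 : ∀ u < 225492, (fun u => chkFix tab mwordsA u) u = true := ext_range (a := 225449) (len := 43) h5243 m2_5243
  have h5245 : ∀ u < 225535, (fun u => chkFix tab mwordsA u) u = true := ext_range (a := 225492) (len := 43) h5244 m2_5244
  have h5246 : ∀ u < 225578, (fun u => chkFix tab mwordsA u) u = true := ext_range (a := 225535) (len := 43) h5245 m2_5245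
  have h5247 : ∀ u < 225621, (fun u => chkFix tab mwordsA u) u = true := ext_range (a := 225578) (len := 43) h5246 m2_5246
  have h5248 : ∀ u < 225664, (fun u => chkFix tab mwordsA u) u = true := ext_range (a := 225621) (len := 43) h5247 m2_5247
  have h5249 : ∀ u < 225707, (fun u => chkFix tab mwordsA u) u = true := ext_range (a := 225664) (len := 43) h5248 m2_5248
  have h5250 : ∀ u < 225750, (fun u => chkFix tab mwordsA u) u = true := ext_range (a := 225707) (len := 43) h5249 m2_5249
  have h5251 : ∀ u < 225793, (fun u => chkFix tab mwordsA u) u = true := ext_range (a := 225750) (len := 43) h5250 m2_5250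
  have h5252 : ∀ u < 225836, (fun u => chkFix tab mwordsA u) u = true := ext_range (a := 225793) (len := 43) h5251 m2_5251
  have h5253 : ∀ u < 225879, (fun u => chkFix tab mwordsA u) u = true := ext_range (a := 225836) (len := 43) h5252 m2_5252
  have h5254 : ∀ u < 225922, (fun u => chkFix tab mwordsA u) u = true := ext_range (a := 225879) (len := 43) h5253 m2_5253
  have h5255 : ∀ u < 225965, (fun u => chkFix tab mwordsA u) u = true := ext_range (a := 225922) (len := 43) h5254 m2_5254
  have h5256 : ∀ u < 226008, (fun u => chkFix tab mwordsA u) u = true := ext_range (a := 225965) (len := 43) h5255 m2_5255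
  have h5257 : ∀ u < 226051, (fun u => chkFix tab mwordsA u) u = true := ext_range (a := 226008) (len := 43) h5256 m2_5256
  have h5258 : ∀ u < 226094, (fun u => chkFix tab mwordsA u) u = true := ext_range (a := 226051) (len := 43) h5257 m2_5257
  have h5259 : ∀ u < 226137, (fun u => chkFix tab mwordsA u) u = true := ext_range (a := 226094) (len := 43) h5258 m2_5258
  have h5260 : ∀ u < 226180, (fun u => chkFix tab mwordsA u) u = true := ext_range (a := 226137) (len := 43) h5259 m2_5259
  have h5261 : ∀ u < 226223, (fun u => chkFix tab mwordsA u) u = true := ext_range (a := 226180) (len := 43) h5260 m2_5260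
  have h5262 : ∀ u < 226266, (fun u => chkFix tab mwordsA u) u = true := ext_range (a := 226223) (len := 43) h5261 m2_5261
  have h5263 : ∀ u < 226309, (fun u => chkFix tab mwordsA u) u = true := ext_range (a := 226266) (len := 43) h5262 m2_5262
  have h5264 : ∀ u < 226352, (fun u => chkFix tab mwordsA u) u = true := ext_range (a := 226309) (len := 43) h5263 m2_5263
  have h5265 : ∀ u < 226395, (fun u => chkFix tab mwordsA u) u = true := ext_range (a := 226352) (len := 43) h5264 m2_5264
  have h5266 : ∀ u < 226438, (fun u => chkFix tab mwordsA u) u = true := ext_range (a := 226395) (len := 43) h5265 m2_5265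
  have h5267 : ∀ u < 226481, (fun u => chkFix tab mwordsA u) u = true := ext_range (a := 226438) (len := 43) h5266 m2_5266
  have h5268 : ∀ u < 226524, (fun u => chkFix tab mwordsA u) u = true := ext_range (a := 226481) (len := 43) h5267 m2_5267
  have h5269 : ∀ u < 226567, (fun u => chkFix tab mwordsA u) u = true := ext_range (a := 226524) (len := 43) h5268 m2_5268
  have h5270 : ∀ u < 226610, (fun u => chkFix tab mwordsA u) u = true := ext_range (a := 226567) (len := 43) h5269 m2_5269
  have h5271 : ∀ u < 226653, (fun u => chkFix tab mwordsA u) u = true := ext_range (a := 226610) (len := 43) h5270 m2_5270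
  have h5272 : ∀ u < 226696, (fun u => chkFix tab mwordsA u) u = true := ext_range (a := 226653) (len := 43) h5271 m2_5271
  have h5273 : ∀ u < 226739, (fun u => chkFix tab mwordsA u) u = true := ext_range (a := 226696) (len := 43) h5272 m2_5272
  have h5274 : ∀ u < 226782, (fun u => chkFix tab mwordsA u) u = true := ext_range (a := 226739) (len := 43) h5273 m2_5273
  have h5275 : ∀ u < 226825, (fun u => chkFix tab mwordsA u) u = true := ext_range (a := 226782) (len := 43) h5274 m2_5274
  have h5276 : ∀ u < 226868, (fun u => chkFix tab mwordsA u) u = true := ext_range (a := 226825) (len := 43) h5275 m2_5275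
  have h5277 : ∀ u < 226911, (fun u => chkFix tab mwordsA u) u = true := ext_range (a := 226868) (len := 43) h5276 m2_5276
  have h5278 : ∀ u < 226954, (fun u => chkFix tab mwordsA u) u = true := ext_range (a := 226911) (len := 43) h5277 m2_5277
  have h5279 : ∀ u < 226997, (fun u => chkFix tab mwordsA u) u = true := ext_range (a := 226954) (len := 43) h5278 m2_5278
  have h5280 : ∀ u < 227040, (fun u => chkFix tab mwordsA u) u = true := ext_range (a := 226997) (len := 43) h5279 m2_5279
  have h5281 : ∀ u < 227083, (fun u => chkFix tab mwordsA u) u = true := ext_range (a := 227040) (len := 43) h5280 m2_5280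
  have h5282 : ∀ u < 227126, (fun u => chkFix tab mwordsA u) u = true := ext_range (a := 227083) (len := 43) h5281 m2_5281
  have h5283 : ∀ u < 227169, (fun u => chkFix tab mwordsA u) u = true := ext_range (a := 227126) (len := 43) h5282 m2_5282
  have h5284 : ∀ u < 227212, (fun u => chkFix tab mwordsA u) u = true := ext_range (a := 227169) (len := 43) h5283 m2_5283
  have h5285 : ∀ u < 227255, (fun u => chkFix tab mwordsA u) u = true := ext_range (a := 227212) (len := 43) h5284 m2_5284
  have h5286 : ∀ u < 227298, (fun u => chkFix tab mwordsA u) u = true := ext_range (a := 227255) (len := 43) h5285 m2_5285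
  have h5287 : ∀ u < 227341, (fun u => chkFix tab mwordsA u) u = true := ext_range (a := 227298) (len := 43) h5286 m2_5286
  have h5288 : ∀ u < 227384, (fun u => chkFix tab mwordsA u) u = true := ext_range (a := 227341) (len := 43) h5287 m2_5287
  have h5289 : ∀ u < 227427, (fun u => chkFix tab mwordsA u) u = true := ext_range (a := 227384) (len := 43) h5288 m2_5288
  have h5290 : ∀ u < 227470, (fun u => chkFix tab mwordsA u) u = true := ext_range (a := 227427) (len := 43) h5289 m2_5289
  have h5291 : ∀ u < 227513, (fun u => chkFix tab mwordsA u) u = true := ext_range (a := 227470) (len := 43) h5290 m2_5290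
  have h5292 : ∀ u < 227556, (fun u => chkFix tab mwordsA u) u = true := ext_range (a := 227513) (len := 43) h5291 m2_5291
  have h5293 : ∀ u < 227599, (fun u => chkFix tab mwordsA u) u = true := ext_range (a := 227556) (len := 43) h5292 m2_5292
  have h5294 : ∀ u < 227642, (fun u => chkFix tab mwordsA u) u = true := ext_range (a := 227599) (len := 43) h5293 m2_5293
  have h5295 : ∀ u < 227685, (fun u => chkFix tab mwordsA u) u = true := ext_range (a := 227642) (len := 43) h5294 m2_5294
  have h5296 : ∀ u < 227728, (fun u => chkFix tab mwordsA u) u = true := ext_range (a := 227685) (len := 43) h5295 m2_5295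
  have h5297 : ∀ u < 227771, (fun u => chkFix tab mwordsA u) u = true := ext_range (a := 227728) (len := 43) h5296 m2_5296
  have h5298 : ∀ u < 227814, (fun u => chkFix tab mwordsA u) u = true := ext_range (a := 227771) (len := 43) h5297 m2_5297
  have h5299 : ∀ u < 227857, (fun u => chkFix tab mwordsA u) u = true := ext_range (a := 227814) (len := 43) h5298 m2_5298
  have h5300 : ∀ u < 227900, (fun u => chkFix tab mwordsA u) u = true := ext_range (a := 227857) (len := 43) h5299 m2_5299
  have h5301 : ∀ u < 227943, (fun u => chkFix tab mwordsA u) u = true := ext_range (a := 227900) (len := 43) h5300 m2_5300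
  have h5302 : ∀ u < 227986, (fun u => chkFix tab mwordsA u) u = true := ext_range (a := 227943) (len := 43) h5301 m2_5301
  have h5303 : ∀ u < 228029, (fun u => chkFix tab mwordsA u) u = true := ext_range (a := 227986) (len := 43) h5302 m2_5302
  have h5304 : ∀ u < 228072, (fun u => chkFix tab mwordsA u) u = true := ext_range (a := 228029) (len := 43) h5303 m2_5303
  have h5305 : ∀ u < 228115, (fun u => chkFix tab mwordsA u) u = true := ext_range (a := 228072) (len := 43) h5304 m2_5304
  have h5306 : ∀ u < 228158, (fun u => chkFix tab mwordsA u) u = true := ext_range (a := 228115) (len := 43) h5305 m2_5305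
  have h5307 : ∀ u < 228201, (fun u => chkFix tab mwordsA u) u = true := ext_range (a := 228158) (len := 43) h5306 m2_5306
  have h5308 : ∀ u < 228244, (fun u => chkFix tab mwordsA u) u = true := ext_range (a := 228201) (len := 43) h5307 m2_5307
  have h5309 : ∀ u < 228287, (fun u => chkFix tab mwordsA u) u = true := ext_range (a := 228244) (len := 43) h5308 m2_5308
  have h5310 : ∀ u < 228330, (fun u => chkFix tab mwordsA u) u = true := ext_range (a := 228287) (len := 43) h5309 m2_5309
  have h5311 : ∀ u < 228373, (fun u => chkFix tab mwordsA u) u = true := ext_range (a := 228330) (len := 43) h5310 m2_5310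
  have h5312 : ∀ u < 228416, (fun u => chkFix tab mwordsA u) u = true := ext_range (a := 228373) (len := 43) h5311 m2_5311
  have h5313 : ∀ u < 228459, (fun u => chkFix tab mwordsA u) u = true := ext_range (a := 228416) (len := 43) h5312 m2_5312
  have h5314 : ∀ u < 228502, (fun u => chkFix tab mwordsA u) u = true := ext_range (a := 228459) (len := 43) h5313 m2_5313
  have h5315 : ∀ u < 228545, (fun u => chkFix tab mwordsA u) u = true := ext_range (a := 228502) (len := 43) h5314 m2_5314
  have h5316 : ∀ u < 228588, (fun u => chkFix tab mwordsA u) u = true := ext_range (a := 228545) (len := 43) h5315 m2_5315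
  have h5317 : ∀ u < 228631, (fun u => chkFix tab mwordsA u) u = true := ext_range (a := 228588) (len := 43) h5316 m2_5316
  have h5318 : ∀ u < 228674, (fun u => chkFix tab mwordsA u) u = true := ext_range (a := 228631) (len := 43) h5317 m2_5317
  have h5319 : ∀ u < 228717, (fun u => chkFix tab mwordsA u) u = true := ext_range (a := 228674) (len := 43) h5318 m2_5318
  have h5320 : ∀ u < 228760, (fun u => chkFix tab mwordsA u) u = true := ext_range (a := 228717) (len := 43) h5319 m2_5319
  have h5321 : ∀ u < 228803, (fun u => chkFix tab mwordsA u) u = true := ext_range (a := 228760) (len := 43) h5320 m2_5320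
  have h5322 : ∀ u < 228846, (fun u => chkFix tab mwordsA u) u = true := ext_range (a := 228803) (len := 43) h5321 m2_5321
  have h5323 : ∀ u < 228889, (fun u => chkFix tab mwordsA u) u = true := ext_range (a := 228846) (len := 43) h5322 m2_5322
  have h5324 : ∀ u < 228932, (fun u => chkFix tab mwordsA u) u = true := ext_range (a := 228889) (len := 43) h5323 m2_5323
  have h5325 : ∀ u < 228975, (fun u => chkFix tab mwordsA u) u = true := ext_range (a := 228932) (len := 43) h5324 m2_5324
  have h5326 : ∀ u < 229018, (fun u => chkFix tab mwordsA u) u = true := ext_range (a := 228975) (len := 43) h5325 m2_5325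
  have h5327 : ∀ u < 229061, (fun u => chkFix tab mwordsA u) u = true := ext_range (a := 229018) (len := 43) h5326 m2_5326
  have h5328 : ∀ u < 229104, (fun u => chkFix tab mwordsA u) u = true := ext_range (a := 229061) (len := 43) h5327 m2_5327
  have h5329 : ∀ u < 229147, (fun u => chkFix tab mwordsA u) u = true := ext_range (a := 229104) (len := 43) h5328 m2_5328
  have h5330 : ∀ u < 229190, (fun u => chkFix tab mwordsA u) u = true := ext_range (a := 229147) (len := 43) h5329 m2_5329
  have h5331 : ∀ u < 229233, (fun u => chkFix tab mwordsA u) u = true := ext_range (a := 229190) (len := 43) h5330 m2_5330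
  have h5332 : ∀ u < 229276, (fun u => chkFix tab mwordsA u) u = true := ext_range (a := 229233) (len := 43) h5331 m2_5331
  have h5333 : ∀ u < 229319, (fun u => chkFix tab mwordsA u) u = true := ext_range (a := 229276) (len := 43) h5332 m2_5332
  have h5334 : ∀ u < 229362, (fun u => chkFix tab mwordsA u) u = true := ext_range (a := 229319) (len := 43) h5333 m2_5333
  have h5335 : ∀ u < 229405, (fun u => chkFix tab mwordsA u) u = true := ext_range (a := 229362) (len := 43) h5334 m2_5334
  have h5336 : ∀ u < 229448, (fun u => chkFix tab mwordsA u) u = true := ext_range (a := 229405) (len := 43) h5335 m2_5335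
  have h5337 : ∀ u < 229491, (fun u => chkFix tab mwordsA u) u = true := ext_range (a := 229448) (len := 43) h5336 m2_5336
  have h5338 : ∀ u < 229534, (fun u => chkFix tab mwordsA u) u = true := ext_range (a := 229491) (len := 43) h5337 m2_5337
  have h5339 : ∀ u < 229577, (fun u => chkFix tab mwordsA u) u = true := ext_range (a := 229534) (len := 43) h5338 m2_5338
  have h5340 : ∀ u < 229620, (fun u => chkFix tab mwordsA u) u = true := ext_range (a := 229577) (len := 43) h5339 m2_5339
  have h5341 : ∀ u < 229663, (fun u => chkFix tab mwordsA u) u = true := ext_range (a := 229620) (len := 43) h5340 m2_5340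
  have h5342 : ∀ u < 229706, (fun u => chkFix tab mwordsA u) u = true := ext_range (a := 229663) (len := 43) h5341 m2_5341
  have h5343 : ∀ u < 229749, (fun u => chkFix tab mwordsA u) u = true := ext_range (a := 229706) (len := 43) h5342 m2_5342
  have h5344 : ∀ u < 229792, (fun u => chkFix tab mwordsA u) u = true := ext_range (a := 229749) (len := 43) h5343 m2_5343
  have h5345 : ∀ u < 229835, (fun u => chkFix tab mwordsA u) u = true := ext_range (a := 229792) (len := 43) h5344 m2_5344
  have h5346 : ∀ u < 229878, (fun u => chkFix tab mwordsA u) u = true := ext_range (a := 229835) (len := 43) h5345 m2_5345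
  have h5347 : ∀ u < 229921, (fun u => chkFix tab mwordsA u) u = true := ext_range (a := 229878) (len := 43) h5346 m2_5346
  have h5348 : ∀ u < 229964, (fun u => chkFix tab mwordsA u) u = true := ext_range (a := 229921) (len := 43) h5347 m2_5347
  have h5349 : ∀ u < 230007, (fun u => chkFix tab mwordsA u) u = true := ext_range (a := 229964) (len := 43) h5348 m2_5348
  have h5350 : ∀ u < 230050, (fun u => chkFix tab mwordsA u) u = true := ext_range (a := 230007) (len := 43) h5349 m2_5349
  have h5351 : ∀ u < 230093, (fun u => chkFix tab mwordsA u) u = true := ext_range (a := 230050) (len := 43) h5350 m2_5350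
  have h5352 : ∀ u < 230136, (fun u => chkFix tab mwordsA u) u = true := ext_range (a := 230093) (len := 43) h5351 m2_5351
  have h5353 : ∀ u < 230179, (fun u => chkFix tab mwordsA u) u = true := ext_range (a := 230136) (len := 43) h5352 m2_5352
  have h5354 : ∀ u < 230222, (fun u => chkFix tab mwordsA u) u = true := ext_range (a := 230179) (len := 43) h5353 m2_5353
  have h5355 : ∀ u < 230265, (fun u => chkFix tab mwordsA u) u = true := ext_range (a := 230222) (len := 43) h5354 m2_5354
  have h5356 : ∀ u < 230308, (fun u => chkFix tab mwordsA u) u = true := ext_range (a := 230265) (len := 43) h5355 m2_5355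
  have h5357 : ∀ u < 230351, (fun u => chkFix tab mwordsA u) u = true := ext_range (a := 230308) (len := 43) h5356 m2_5356
  have h5358 : ∀ u < 230394, (fun u => chkFix tab mwordsA u) u = true := ext_range (a := 230351) (len := 43) h5357 m2_5357
  have h5359 : ∀ u < 230437, (fun u => chkFix tab mwordsA u) u = true := ext_range (a := 230394) (len := 43) h5358 m2_5358
  have h5360 : ∀ u < 230480, (fun u => chkFix tab mwordsA u) u = true := ext_range (a := 230437) (len := 43) h5359 m2_5359
  have h5361 : ∀ u < 230523, (fun u => chkFix tab mwordsA u) u = true := ext_range (a := 230480) (len := 43) h5360 m2_5360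
  have h5362 : ∀ u < 230566, (fun u => chkFix tab mwordsA u) u = true := ext_range (a := 230523) (len := 43) h5361 m2_5361
  have h5363 : ∀ u < 230609, (fun u => chkFix tab mwordsA u) u = true := ext_range (a := 230566) (len := 43) h5362 m2_5362
  have h5364 : ∀ u < 230652, (fun u => chkFix tab mwordsA u) u = true := ext_range (a := 230609) (len := 43) h5363 m2_5363
  have h5365 : ∀ u < 230695, (fun u => chkFix tab mwordsA u) u = true := ext_range (a := 230652) (len := 43) h5364 m2_5364
  have h5366 : ∀ u < 230738, (fun u => chkFix tab mwordsA u) u = true := ext_range (a := 230695) (len := 43) h5365 m2_5365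
  have h5367 : ∀ u < 230781, (fun u => chkFix tab mwordsA u) u = true := ext_range (a := 230738) (len := 43) h5366 m2_5366
  have h5368 : ∀ u < 230824, (fun u => chkFix tab mwordsA u) u = true := ext_range (a := 230781) (len := 43) h5367 m2_5367
  have h5369 : ∀ u < 230867, (fun u => chkFix tab mwordsA u) u = true := ext_range (a := 230824) (len := 43) h5368 m2_5368
  have h5370 : ∀ u < 230910, (fun u => chkFix tab mwordsA u) u = true := ext_range (a := 230867) (len := 43) h5369 m2_5369
  have h5371 : ∀ u < 230953, (fun u => chkFix tab mwordsA u) u = true := ext_range (a := 230910) (len := 43) h5370 m2_5370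
  have h5372 : ∀ u < 230996, (fun u => chkFix tab mwordsA u) u = true := ext_range (a := 230953) (len := 43) h5371 m2_5371
  have h5373 : ∀ u < 231039, (fun u => chkFix tab mwordsA u) u = true := ext_range (a := 230996) (len := 43) h5372 m2_5372
  have h5374 : ∀ u < 231082, (fun u => chkFix tab mwordsA u) u = true := ext_range (a := 231039) (len := 43) h5373 m2_5373
  have h5375 : ∀ u < 231125, (fun u => chkFix tab mwordsA u) u = true := ext_range (a := 231082) (len := 43) h5374 m2_5374
  have h5376 : ∀ u < 231168, (fun u => chkFix tab mwordsA u) u = true := ext_range (a := 231125) (len := 43) h5375 m2_5375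
  have h5377 : ∀ u < 231211, (fun u => chkFix tab mwordsA u) u = true := ext_range (a := 231168) (len := 43) h5376 m2_5376
  have h5378 : ∀ u < 231254, (fun u => chkFix tab mwordsA u) u = true := ext_range (a := 231211) (len := 43) h5377 m2_5377
  have h5379 : ∀ u < 231297, (fun u => chkFix tab mwordsA u) u = true := ext_range (a := 231254) (len := 43) h5378 m2_5378
  have h5380 : ∀ u < 231340, (fun u => chkFix tab mwordsA u) u = true := ext_range (a := 231297) (len := 43) h5379 m2_5379
  have h5381 : ∀ u < 231383, (fun u => chkFix tab mwordsA u) u = true := ext_range (a := 231340) (len := 43) h5380 m2_5380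
  have h5382 : ∀ u < 231426, (fun u => chkFix tab mwordsA u) u = true := ext_range (a := 231383) (len := 43) h5381 m2_5381
  have h5383 : ∀ u < 231469, (fun u => chkFix tab mwordsA u) u = true := ext_range (a := 231426) (len := 43) h5382 m2_5382
  have h5384 : ∀ u < 231512, (fun u => chkFix tab mwordsA u) u = true := ext_range (a := 231469) (len := 43) h5383 m2_5383
  have h5385 : ∀ u < 231555, (fun u => chkFix tab mwordsA u) u = true := ext_range (a := 231512) (len := 43) h5384 m2_5384
  have h5386 : ∀ u < 231598, (fun u => chkFix tab mwordsA u) u = true := ext_range (a := 231555) (len := 43) h5385 m2_5385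
  have h5387 : ∀ u < 231641, (fun u => chkFix tab mwordsA u) u = true := ext_range (a := 231598) (len := 43) h5386 m2_5386
  have h5388 : ∀ u < 231684, (fun u => chkFix tab mwordsA u) u = true := ext_range (a := 231641) (len := 43) h5387 m2_5387
  have h5389 : ∀ u < 231727, (fun u => chkFix tab mwordsA u) u = true := ext_range (a := 231684) (len := 43) h5388 m2_5388
  have h5390 : ∀ u < 231770, (fun u => chkFix tab mwordsA u) u = true := ext_range (a := 231727) (len := 43) h5389 m2_5389
  have h5391 : ∀ u < 231813, (fun u => chkFix tab mwordsA u) u = true := ext_range (a := 231770) (len := 43) h5390 m2_5390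
  have h5392 : ∀ u < 231856, (fun u => chkFix tab mwordsA u) u = true := ext_range (a := 231813) (len := 43) h5391 m2_5391
  have h5393 : ∀ u < 231899, (fun u => chkFix tab mwordsA u) u = true := ext_range (a := 231856) (len := 43) h5392 m2_5392
  have h5394 : ∀ u < 231942, (fun u => chkFix tab mwordsA u) u = true := ext_range (a := 231899) (len := 43) h5393 m2_5393
  have h5395 : ∀ u < 231985, (fun u => chkFix tab mwordsA u) u = true := ext_range (a := 231942) (len := 43) h5394 m2_5394
  have h5396 : ∀ u < 232028, (fun u => chkFix tab mwordsA u) u = true := ext_range (a := 231985) (len := 43) h5395 m2_5395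
  have h5397 : ∀ u < 232071, (fun u => chkFix tab mwordsA u) u = true := ext_range (a := 232028) (len := 43) h5396 m2_5396
  have h5398 : ∀ u < 232114, (fun u => chkFix tab mwordsA u) u = true := ext_range (a := 232071) (len := 43) h5397 m2_5397
  have h5399 : ∀ u < 232157, (fun u => chkFix tab mwordsA u) u = true := ext_range (a := 232114) (len := 43) h5398 m2_5398
  have h5400 : ∀ u < 232200, (fun u => chkFix tab mwordsA u) u = true := ext_range (a := 232157) (len := 43) h5399 m2_5399
  have h5401 : ∀ u < 232243, (fun u => chkFix tab mwordsA u) u = true := ext_range (a := 232200) (len := 43) h5400 m2_5400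
  have h5402 : ∀ u < 232286, (fun u => chkFix tab mwordsA u) u = true := ext_range (a := 232243) (len := 43) h5401 m2_5401
  have h5403 : ∀ u < 232329, (fun u => chkFix tab mwordsA u) u = true := ext_range (a := 232286) (len := 43) h5402 m2_5402
  have h5404 : ∀ u < 232372, (fun u => chkFix tab mwordsA u) u = true := ext_range (a := 232329) (len := 43) h5403 m2_5403
  have h5405 : ∀ u < 232415, (fun u => chkFix tab mwordsA u) u = true := ext_range (a := 232372) (len := 43) h5404 m2_5404
  have h5406 : ∀ u < 232458, (fun u => chkFix tab mwordsA u) u = true := ext_range (a := 232415) (len := 43) h5405 m2_5405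
  have h5407 : ∀ u < 232501, (fun u => chkFix tab mwordsA u) u = true := ext_range (a := 232458) (len := 43) h5406 m2_5406
  have h5408 : ∀ u < 232544, (fun u => chkFix tab mwordsA u) u = true := ext_range (a := 232501) (len := 43) h5407 m2_5407
  have h5409 : ∀ u < 232587, (fun u => chkFix tab mwordsA u) u = true := ext_range (a := 232544) (len := 43) h5408 m2_5408
  have h5410 : ∀ u < 232630, (fun u => chkFix tab mwordsA u) u = true := ext_range (a := 232587) (len := 43) h5409 m2_5409
  have h5411 : ∀ u < 232673, (fun u => chkFix tab mwordsA u) u = true := ext_range (a := 232630) (len := 43) h5410 m2_5410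
  have h5412 : ∀ u < 232716, (fun u => chkFix tab mwordsA u) u = true := ext_range (a := 232673) (len := 43) h5411 m2_5411
  have h5413 : ∀ u < 232759, (fun u => chkFix tab mwordsA u) u = true := ext_range (a := 232716) (len := 43) h5412 m2_5412
  have h5414 : ∀ u < 232802, (fun u => chkFix tab mwordsA u) u = true := ext_range (a := 232759) (len := 43) h5413 m2_5413
  have h5415 : ∀ u < 232845, (fun u => chkFix tab mwordsA u) u = true := ext_range (a := 232802) (len := 43) h5414 m2_5414
  have h5416 : ∀ u < 232888, (fun u => chkFix tab mwordsA u) u = true := ext_range (a := 232845) (len := 43) h5415 m2_5415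
  have h5417 : ∀ u < 232931, (fun u => chkFix tab mwordsA u) u = true := ext_range (a := 232888) (len := 43) h5416 m2_5416
  have h5418 : ∀ u < 232974, (fun u => chkFix tab mwordsA u) u = true := ext_range (a := 232931) (len := 43) h5417 m2_5417
  have h5419 : ∀ u < 233017, (fun u => chkFix tab mwordsA u) u = true := ext_range (a := 232974) (len := 43) h5418 m2_5418
  have h5420 : ∀ u < 233060, (fun u => chkFix tab mwordsA u) u = true := ext_range (a := 233017) (len := 43) h5419 m2_5419
  have h5421 : ∀ u < 233103, (fun u => chkFix tab mwordsA u) u = true := ext_range (a := 233060) (len := 43) h5420 m2_5420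
  have h5422 : ∀ u < 233146, (fun u => chkFix tab mwordsA u) u = true := ext_range (a := 233103) (len := 43) h5421 m2_5421
  have h5423 : ∀ u < 233189, (fun u => chkFix tab mwordsA u) u = true := ext_range (a := 233146) (len := 43) h5422 m2_5422
  have h5424 : ∀ u < 233232, (fun u => chkFix tab mwordsA u) u = true := ext_range (a := 233189) (len := 43) h5423 m2_5423
  have h5425 : ∀ u < 233275, (fun u => chkFix tab mwordsA u) u = true := ext_range (a := 233232) (len := 43) h5424 m2_5424
  have h5426 : ∀ u < 233318, (fun u => chkFix tab mwordsA u) u = true := ext_range (a := 233275) (len := 43) h5425 m2_5425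
  have h5427 : ∀ u < 233361, (fun u => chkFix tab mwordsA u) u = true := ext_range (a := 233318) (len := 43) h5426 m2_5426
  have h5428 : ∀ u < 233404, (fun u => chkFix tab mwordsA u) u = true := ext_range (a := 233361) (len := 43) h5427 m2_5427
  have h5429 : ∀ u < 233447, (fun u => chkFix tab mwordsA u) u = true := ext_range (a := 233404) (len := 43) h5428 m2_5428
  have h5430 : ∀ u < 233490, (fun u => chkFix tab mwordsA u) u = true := ext_range (a := 233447) (len := 43) h5429 m2_5429
  have h5431 : ∀ u < 233533, (fun u => chkFix tab mwordsA u) u = true := ext_range (a := 233490) (len := 43) h5430 m2_5430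
  have h5432 : ∀ u < 233576, (fun u => chkFix tab mwordsA u) u = true := ext_range (a := 233533) (len := 43) h5431 m2_5431
  have h5433 : ∀ u < 233619, (fun u => chkFix tab mwordsA u) u = true := ext_range (a := 233576) (len := 43) h5432 m2_5432
  have h5434 : ∀ u < 233662, (fun u => chkFix tab mwordsA u) u = true := ext_range (a := 233619) (len := 43) h5433 m2_5433
  have h5435 : ∀ u < 233705, (fun u => chkFix tab mwordsA u) u = true := ext_range (a := 233662) (len := 43) h5434 m2_5434
  have h5436 : ∀ u < 233748, (fun u => chkFix tab mwordsA u) u = true := ext_range (a := 233705) (len := 43) h5435 m2_5435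
  have h5437 : ∀ u < 233791, (fun u => chkFix tab mwordsA u) u = true := ext_range (a := 233748) (len := 43) h5436 m2_5436
  have h5438 : ∀ u < 233834, (fun u => chkFix tab mwordsA u) u = true := ext_range (a := 233791) (len := 43) h5437 m2_5437
  have h5439 : ∀ u < 233877, (fun u => chkFix tab mwordsA u) u = true := ext_range (a := 233834) (len := 43) h5438 m2_5438
  have h5440 : ∀ u < 233920, (fun u => chkFix tab mwordsA u) u = true := ext_range (a := 233877) (len := 43) h5439 m2_5439
  have h5441 : ∀ u < 233963, (fun u => chkFix tab mwordsA u) u = true := ext_range (a := 233920) (len := 43) h5440 m2_5440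
  have h5442 : ∀ u < 234006, (fun u => chkFix tab mwordsA u) u = true := ext_range (a := 233963) (len := 43) h5441 m2_5441
  have h5443 : ∀ u < 234049, (fun u => chkFix tab mwordsA u) u = true := ext_range (a := 234006) (len := 43) h5442 m2_5442
  have h5444 : ∀ u < 234092, (fun u => chkFix tab mwordsA u) u = true := ext_range (a := 234049) (len := 43) h5443 m2_5443
  have h5445 : ∀ u < 234135, (fun u => chkFix tab mwordsA u) u = true := ext_range (a := 234092) (len := 43) h5444 m2_5444
  have h5446 : ∀ u < 234178, (fun u => chkFix tab mwordsA u) u = true := ext_range (a := 234135) (len := 43) h5445 m2_5445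
  have h5447 : ∀ u < 234221, (fun u => chkFix tab mwordsA u) u = true := ext_range (a := 234178) (len := 43) h5446 m2_5446
  have h5448 : ∀ u < 234264, (fun u => chkFix tab mwordsA u) u = true := ext_range (a := 234221) (len := 43) h5447 m2_5447
  have h5449 : ∀ u < 234307, (fun u => chkFix tab mwordsA u) u = true := ext_range (a := 234264) (len := 43) h5448 m2_5448
  have h5450 : ∀ u < 234350, (fun u => chkFix tab mwordsA u) u = true := ext_range (a := 234307) (len := 43) h5449 m2_5449
  have h5451 : ∀ u < 234393, (fun u => chkFix tab mwordsA u) u = true := ext_range (a := 234350) (len := 43) h5450 m2_5450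
  have h5452 : ∀ u < 234436, (fun u => chkFix tab mwordsA u) u = true := ext_range (a := 234393) (len := 43) h5451 m2_5451
  have h5453 : ∀ u < 234479, (fun u => chkFix tab mwordsA u) u = true := ext_range (a := 234436) (len := 43) h5452 m2_5452
  have h5454 : ∀ u < 234522, (fun u => chkFix tab mwordsA u) u = true := ext_range (a := 234479) (len := 43) h5453 m2_5453
  have h5455 : ∀ u < 234565, (fun u => chkFix tab mwordsA u) u = true := ext_range (a := 234522) (len := 43) h5454 m2_5454
  have h5456 : ∀ u < 234608, (fun u => chkFix tab mwordsA u) u = true := ext_range (a := 234565) (len := 43) h5455 m2_5455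
  have h5457 : ∀ u < 234651, (fun u => chkFix tab mwordsA u) u = true := ext_range (a := 234608) (len := 43) h5456 m2_5456
  have h5458 : ∀ u < 234694, (fun u => chkFix tab mwordsA u) u = true := ext_range (a := 234651) (len := 43) h5457 m2_5457
  have h5459 : ∀ u < 234737, (fun u => chkFix tab mwordsA u) u = true := ext_range (a := 234694) (len := 43) h5458 m2_5458
  have h5460 : ∀ u < 234780, (fun u => chkFix tab mwordsA u) u = true := ext_range (a := 234737) (len := 43) h5459 m2_5459
  have h5461 : ∀ u < 234823, (fun u => chkFix tab mwordsA u) u = true := ext_range (a := 234780) (len := 43) h5460 m2_5460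
  have h5462 : ∀ u < 234866, (fun u => chkFix tab mwordsA u) u = true := ext_range (a := 234823) (len := 43) h5461 m2_5461
  have h5463 : ∀ u < 234909, (fun u => chkFix tab mwordsA u) u = true := ext_range (a := 234866) (len := 43) h5462 m2_5462
  have h5464 : ∀ u < 234952, (fun u => chkFix tab mwordsA u) u = true := ext_range (a := 234909) (len := 43) h5463 m2_5463
  have h5465 : ∀ u < 234995, (fun u => chkFix tab mwordsA u) u = true := ext_range (a := 234952) (len := 43) h5464 m2_5464
  have h5466 : ∀ u < 235038, (fun u => chkFix tab mwordsA u) u = true := ext_range (a := 234995) (len := 43) h5465 m2_5465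
  have h5467 : ∀ u < 235081, (fun u => chkFix tab mwordsA u) u = true := ext_range (a := 235038) (len := 43) h5466 m2_5466
  have h5468 : ∀ u < 235124, (fun u => chkFix tab mwordsA u) u = true := ext_range (a := 235081) (len := 43) h5467 m2_5467
  have h5469 : ∀ u < 235167, (fun u => chkFix tab mwordsA u) u = true := ext_range (a := 235124) (len := 43) h5468 m2_5468
  have h5470 : ∀ u < 235210, (fun u => chkFix tab mwordsA u) u = true := ext_range (a := 235167) (len := 43) h5469 m2_5469
  have h5471 : ∀ u < 235253, (fun u => chkFix tab mwordsA u) u = true := ext_range (a := 235210) (len := 43) h5470 m2_5470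
  have h5472 : ∀ u < 235296, (fun u => chkFix tab mwordsA u) u = true := ext_range (a := 235253) (len := 43) h5471 m2_5471
  have h5473 : ∀ u < 235339, (fun u => chkFix tab mwordsA u) u = true := ext_range (a := 235296) (len := 43) h5472 m2_5472
  have h5474 : ∀ u < 235382, (fun u => chkFix tab mwordsA u) u = true := ext_range (a := 235339) (len := 43) h5473 m2_5473
  have h5475 : ∀ u < 235425, (fun u => chkFix tab mwordsA u) u = true := ext_range (a := 235382) (len := 43) h5474 m2_5474
  have h5476 : ∀ u < 235468, (fun u => chkFix tab mwordsA u) u = true := ext_range (a := 235425) (len := 43) h5475 m2_5475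
  have h5477 : ∀ u < 235511, (fun u => chkFix tab mwordsA u) u = true := ext_range (a := 235468) (len := 43) h5476 m2_5476
  have h5478 : ∀ u < 235554, (fun u => chkFix tab mwordsA u) u = true := ext_range (a := 235511) (len := 43) h5477 m2_5477
  have h5479 : ∀ u < 235597, (fun u => chkFix tab mwordsA u) u = true := ext_range (a := 235554) (len := 43) h5478 m2_5478
  have h5480 : ∀ u < 235640, (fun u => chkFix tab mwordsA u) u = true := ext_range (a := 235597) (len := 43) h5479 m2_5479
  have h5481 : ∀ u < 235683, (fun u => chkFix tab mwordsA u) u = true := ext_range (a := 235640) (len := 43) h5480 m2_5480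
  have h5482 : ∀ u < 235726, (fun u => chkFix tab mwordsA u) u = true := ext_range (a := 235683) (len := 43) h5481 m2_5481
  have h5483 : ∀ u < 235769, (fun u => chkFix tab mwordsA u) u = true := ext_range (a := 235726) (len := 43) h5482 m2_5482
  have h5484 : ∀ u < 235812, (fun u => chkFix tab mwordsA u) u = true := ext_range (a := 235769) (len := 43) h5483 m2_5483
  have h5485 : ∀ u < 235855, (fun u => chkFix tab mwordsA u) u = true := ext_range (a := 235812) (len := 43) h5484 m2_5484
  have h5486 : ∀ u < 235898, (fun u => chkFix tab mwordsA u) u = true := ext_range (a := 235855) (len := 43) h5485 m2_5485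
  have h5487 : ∀ u < 235941, (fun u => chkFix tab mwordsA u) u = true := ext_range (a := 235898) (len := 43) h5486 m2_5486
  have h5488 : ∀ u < 235984, (fun u => chkFix tab mwordsA u) u = true := ext_range (a := 235941) (len := 43) h5487 m2_5487
  have h5489 : ∀ u < 236027, (fun u => chkFix tab mwordsA u) u = true := ext_range (a := 235984) (len := 43) h5488 m2_5488
  have h5490 : ∀ u < 236070, (fun u => chkFix tab mwordsA u) u = true := ext_range (a := 236027) (len := 43) h5489 m2_5489
  have h5491 : ∀ u < 236113, (fun u => chkFix tab mwordsA u) u = true := ext_range (a := 236070) (len := 43) h5490 m2_5490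
  have h5492 : ∀ u < 236156, (fun u => chkFix tab mwordsA u) u = true := ext_range (a := 236113) (len := 43) h5491 m2_5491
  have h5493 : ∀ u < 236199, (fun u => chkFix tab mwordsA u) u = true := ext_range (a := 236156) (len := 43) h5492 m2_5492
  have h5494 : ∀ u < 236242, (fun u => chkFix tab mwordsA u) u = true := ext_range (a := 236199) (len := 43) h5493 m2_5493
  have h5495 : ∀ u < 236285, (fun u => chkFix tab mwordsA u) u = true := ext_range (a := 236242) (len := 43) h5494 m2_5494
  have h5496 : ∀ u < 236328, (fun u => chkFix tab mwordsA u) u = true := ext_range (a := 236285) (len := 43) h5495 m2_5495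
  have h5497 : ∀ u < 236371, (fun u => chkFix tab mwordsA u) u = true := ext_range (a := 236328) (len := 43) h5496 m2_5496
  have h5498 : ∀ u < 236414, (fun u => chkFix tab mwordsA u) u = true := ext_range (a := 236371) (len := 43) h5497 m2_5497
  have h5499 : ∀ u < 236457, (fun u => chkFix tab mwordsA u) u = true := ext_range (a := 236414) (len := 43) h5498 m2_5498
  have h5500 : ∀ u < 236500, (fun u => chkFix tab mwordsA u) u = true := ext_range (a := 236457) (len := 43) h5499 m2_5499
  have h5501 : ∀ u < 236543, (fun u => chkFix tab mwordsA u) u = true := ext_range (a := 236500) (len := 43) h5500 m2_5500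
  have h5502 : ∀ u < 236586, (fun u => chkFix tab mwordsA u) u = true := ext_range (a := 236543) (len := 43) h5501 m2_5501
  have h5503 : ∀ u < 236629, (fun u => chkFix tab mwordsA u) u = true := ext_range (a := 236586) (len := 43) h5502 m2_5502
  have h5504 : ∀ u < 236672, (fun u => chkFix tab mwordsA u) u = true := ext_range (a := 236629) (len := 43) h5503 m2_5503
  have h5505 : ∀ u < 236715, (fun u => chkFix tab mwordsA u) u = true := ext_range (a := 236672) (len := 43) h5504 m2_5504
  have h5506 : ∀ u < 236758, (fun u => chkFix tab mwordsA u) u = true := ext_range (a := 236715) (len := 43) h5505 m2_5505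
  have h5507 : ∀ u < 236801, (fun u => chkFix tab mwordsA u) u = true := ext_range (a := 236758) (len := 43) h5506 m2_5506
  have h5508 : ∀ u < 236844, (fun u => chkFix tab mwordsA u) u = true := ext_range (a := 236801) (len := 43) h5507 m2_5507
  have h5509 : ∀ u < 236887, (fun u => chkFix tab mwordsA u) u = true := ext_range (a := 236844) (len := 43) h5508 m2_5508
  have h5510 : ∀ u < 236930, (fun u => chkFix tab mwordsA u) u = true := ext_range (a := 236887) (len := 43) h5509 m2_5509
  have h5511 : ∀ u < 236973, (fun u => chkFix tab mwordsA u) u = true := ext_range (a := 236930) (len := 43) h5510 m2_5510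
  have h5512 : ∀ u < 237016, (fun u => chkFix tab mwordsA u) u = true := ext_range (a := 236973) (len := 43) h5511 m2_5511
  have h5513 : ∀ u < 237059, (fun u => chkFix tab mwordsA u) u = true := ext_range (a := 237016) (len := 43) h5512 m2_5512
  have h5514 : ∀ u < 237102, (fun u => chkFix tab mwordsA u) u = true := ext_range (a := 237059) (len := 43) h5513 m2_5513
  have h5515 : ∀ u < 237145, (fun u => chkFix tab mwordsA u) u = true := ext_range (a := 237102) (len := 43) h5514 m2_5514
  have h5516 : ∀ u < 237188, (fun u => chkFix tab mwordsA u) u = true := ext_range (a := 237145) (len := 43) h5515 m2_5515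
  have h5517 : ∀ u < 237231, (fun u => chkFix tab mwordsA u) u = true := ext_range (a := 237188) (len := 43) h5516 m2_5516
  have h5518 : ∀ u < 237274, (fun u => chkFix tab mwordsA u) u = true := ext_range (a := 237231) (len := 43) h5517 m2_5517
  have h5519 : ∀ u < 237317, (fun u => chkFix tab mwordsA u) u = true := ext_range (a := 237274) (len := 43) h5518 m2_5518
  have h5520 : ∀ u < 237360, (fun u => chkFix tab mwordsA u) u = true := ext_range (a := 237317) (len := 43) h5519 m2_5519
  have h5521 : ∀ u < 237403, (fun u => chkFix tab mwordsA u) u = true := ext_range (a := 237360) (len := 43) h5520 m2_5520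
  have h5522 : ∀ u < 237446, (fun u => chkFix tab mwordsA u) u = true := ext_range (a := 237403) (len := 43) h5521 m2_5521
  have h5523 : ∀ u < 237489, (fun u => chkFix tab mwordsA u) u = true := ext_range (a := 237446) (len := 43) h5522 m2_5522
  have h5524 : ∀ u < 237532, (fun u => chkFix tab mwordsA u) u = true := ext_range (a := 237489) (len := 43) h5523 m2_5523
  have h5525 : ∀ u < 237575, (fun u => chkFix tab mwordsA u) u = true := ext_range (a := 237532) (len := 43) h5524 m2_5524
  have h5526 : ∀ u < 237618, (fun u => chkFix tab mwordsA u) u = true := ext_range (a := 237575) (len := 43) h5525 m2_5525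
  have h5527 : ∀ u < 237661, (fun u => chkFix tab mwordsA u) u = true := ext_range (a := 237618) (len := 43) h5526 m2_5526
  have h5528 : ∀ u < 237704, (fun u => chkFix tab mwordsA u) u = true := ext_range (a := 237661) (len := 43) h5527 m2_5527
  have h5529 : ∀ u < 237747, (fun u => chkFix tab mwordsA u) u = true := ext_range (a := 237704) (len := 43) h5528 m2_5528
  have h5530 : ∀ u < 237790, (fun u => chkFix tab mwordsA u) u = true := ext_range (a := 237747) (len := 43) h5529 m2_5529
  have h5531 : ∀ u < 237833, (fun u => chkFix tab mwordsA u) u = true := ext_range (a := 237790) (len := 43) h5530 m2_5530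
  have h5532 : ∀ u < 237876, (fun u => chkFix tab mwordsA u) u = true := ext_range (a := 237833) (len := 43) h5531 m2_5531
  have h5533 : ∀ u < 237919, (fun u => chkFix tab mwordsA u) u = true := ext_range (a := 237876) (len := 43) h5532 m2_5532
  have h5534 : ∀ u < 237962, (fun u => chkFix tab mwordsA u) u = true := ext_range (a := 237919) (len := 43) h5533 m2_5533
  have h5535 : ∀ u < 238005, (fun u => chkFix tab mwordsA u) u = true := ext_range (a := 237962) (len := 43) h5534 m2_5534
  have h5536 : ∀ u < 238048, (fun u => chkFix tab mwordsA u) u = true := ext_range (a := 238005) (len := 43) h5535 m2_5535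
  have h5537 : ∀ u < 238091, (fun u => chkFix tab mwordsA u) u = true := ext_range (a := 238048) (len := 43) h5536 m2_5536
  have h5538 : ∀ u < 238134, (fun u => chkFix tab mwordsA u) u = true := ext_range (a := 238091) (len := 43) h5537 m2_5537
  have h5539 : ∀ u < 238177, (fun u => chkFix tab mwordsA u) u = true := ext_range (a := 238134) (len := 43) h5538 m2_5538
  have h5540 : ∀ u < 238220, (fun u => chkFix tab mwordsA u) u = true := ext_range (a := 238177) (len := 43) h5539 m2_5539
  have h5541 : ∀ u < 238263, (fun u => chkFix tab mwordsA u) u = true := ext_range (a := 238220) (len := 43) h5540 m2_5540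
  have h5542 : ∀ u < 238306, (fun u => chkFix tab mwordsA u) u = true := ext_range (a := 238263) (len := 43) h5541 m2_5541
  have h5543 : ∀ u < 238349, (fun u => chkFix tab mwordsA u) u = true := ext_range (a := 238306) (len := 43) h5542 m2_5542
  have h5544 : ∀ u < 238392, (fun u => chkFix tab mwordsA u) u = true := ext_range (a := 238349) (len := 43) h5543 m2_5543
  have h5545 : ∀ u < 238435, (fun u => chkFix tab mwordsA u) u = true := ext_range (a := 238392) (len := 43) h5544 m2_5544
  have h5546 : ∀ u < 238478, (fun u => chkFix tab mwordsA u) u = true := ext_range (a := 238435) (len := 43) h5545 m2_5545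
  have h5547 : ∀ u < 238521, (fun u => chkFix tab mwordsA u) u = true := ext_range (a := 238478) (len := 43) h5546 m2_5546
  have h5548 : ∀ u < 238564, (fun u => chkFix tab mwordsA u) u = true := ext_range (a := 238521) (len := 43) h5547 m2_5547
  have h5549 : ∀ u < 238607, (fun u => chkFix tab mwordsA u) u = true := ext_range (a := 238564) (len := 43) h5548 m2_5548
  have h5550 : ∀ u < 238650, (fun u => chkFix tab mwordsA u) u = true := ext_range (a := 238607) (len := 43) h5549 m2_5549
  have h5551 : ∀ u < 238693, (fun u => chkFix tab mwordsA u) u = true := ext_range (a := 238650) (len := 43) h5550 m2_5550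
  have h5552 : ∀ u < 238736, (fun u => chkFix tab mwordsA u) u = true := ext_range (a := 238693) (len := 43) h5551 m2_5551
  have h5553 : ∀ u < 238779, (fun u => chkFix tab mwordsA u) u = true := ext_range (a := 238736) (len := 43) h5552 m2_5552
  have h5554 : ∀ u < 238822, (fun u => chkFix tab mwordsA u) u = true := ext_range (a := 238779) (len := 43) h5553 m2_5553
  have h5555 : ∀ u < 238865, (fun u => chkFix tab mwordsA u) u = true := ext_range (a := 238822) (len := 43) h5554 m2_5554
  have h5556 : ∀ u < 238908, (fun u => chkFix tab mwordsA u) u = true := ext_range (a := 238865) (len := 43) h5555 m2_5555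
  have h5557 : ∀ u < 238951, (fun u => chkFix tab mwordsA u) u = true := ext_range (a := 238908) (len := 43) h5556 m2_5556
  have h5558 : ∀ u < 238994, (fun u => chkFix tab mwordsA u) u = true := ext_range (a := 238951) (len := 43) h5557 m2_5557
  have h5559 : ∀ u < 239037, (fun u => chkFix tab mwordsA u) u = true := ext_range (a := 238994) (len := 43) h5558 m2_5558
  have h5560 : ∀ u < 239080, (fun u => chkFix tab mwordsA u) u = true := ext_range (a := 239037) (len := 43) h5559 m2_5559
  have h5561 : ∀ u < 239123, (fun u => chkFix tab mwordsA u) u = true := ext_range (a := 239080) (len := 43) h5560 m2_5560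
  have h5562 : ∀ u < 239166, (fun u => chkFix tab mwordsA u) u = true := ext_range (a := 239123) (len := 43) h5561 m2_5561
  have h5563 : ∀ u < 239209, (fun u => chkFix tab mwordsA u) u = true := ext_range (a := 239166) (len := 43) h5562 m2_5562
  have h5564 : ∀ u < 239252, (fun u => chkFix tab mwordsA u) u = true := ext_range (a := 239209) (len := 43) h5563 m2_5563
  have h5565 : ∀ u < 239295, (fun u => chkFix tab mwordsA u) u = true := ext_range (a := 239252) (len := 43) h5564 m2_5564
  have h5566 : ∀ u < 239338, (fun u => chkFix tab mwordsA u) u = true := ext_range (a := 239295) (len := 43) h5565 m2_5565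
  have h5567 : ∀ u < 239381, (fun u => chkFix tab mwordsA u) u = true := ext_range (a := 239338) (len := 43) h5566 m2_5566
  have h5568 : ∀ u < 239424, (fun u => chkFix tab mwordsA u) u = true := ext_range (a := 239381) (len := 43) h5567 m2_5567
  have h5569 : ∀ u < 239467, (fun u => chkFix tab mwordsA u) u = true := ext_range (a := 239424) (len := 43) h5568 m2_5568
  have h5570 : ∀ u < 239510, (fun u => chkFix tab mwordsA u) u = true := ext_range (a := 239467) (len := 43) h5569 m2_5569
  have h5571 : ∀ u < 239553, (fun u => chkFix tab mwordsA u) u = true := ext_range (a := 239510) (len := 43) h5570 m2_5570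
  have h5572 : ∀ u < 239596, (fun u => chkFix tab mwordsA u) u = true := ext_range (a := 239553) (len := 43) h5571 m2_5571
  have h5573 : ∀ u < 239639, (fun u => chkFix tab mwordsA u) u = true := ext_range (a := 239596) (len := 43) h5572 m2_5572
  have h5574 : ∀ u < 239682, (fun u => chkFix tab mwordsA u) u = true := ext_range (a := 239639) (len := 43) h5573 m2_5573
  have h5575 : ∀ u < 239725, (fun u => chkFix tab mwordsA u) u = true := ext_range (a := 239682) (len := 43) h5574 m2_5574
  have h5576 : ∀ u < 239768, (fun u => chkFix tab mwordsA u) u = true := ext_range (a := 239725) (len := 43) h5575 m2_5575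
  have h5577 : ∀ u < 239811, (fun u => chkFix tab mwordsA u) u = true := ext_range (a := 239768) (len := 43) h5576 m2_5576
  have h5578 : ∀ u < 239854, (fun u => chkFix tab mwordsA u) u = true := ext_range (a := 239811) (len := 43) h5577 m2_5577
  have h5579 : ∀ u < 239897, (fun u => chkFix tab mwordsA u) u = true := ext_range (a := 239854) (len := 43) h5578 m2_5578
  have h5580 : ∀ u < 239940, (fun u => chkFix tab mwordsA u) u = true := ext_range (a := 239897) (len := 43) h5579 m2_5579
  have h5581 : ∀ u < 239983, (fun u => chkFix tab mwordsA u) u = true := ext_range (a := 239940) (len := 43) h5580 m2_5580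
  have h5582 : ∀ u < 240026, (fun u => chkFix tab mwordsA u) u = true := ext_range (a := 239983) (len := 43) h5581 m2_5581
  have h5583 : ∀ u < 240069, (fun u => chkFix tab mwordsA u) u = true := ext_range (a := 240026) (len := 43) h5582 m2_5582
  have h5584 : ∀ u < 240112, (fun u => chkFix tab mwordsA u) u = true := ext_range (a := 240069) (len := 43) h5583 m2_5583
  have h5585 : ∀ u < 240155, (fun u => chkFix tab mwordsA u) u = true := ext_range (a := 240112) (len := 43) h5584 m2_5584
  have h5586 : ∀ u < 240198, (fun u => chkFix tab mwordsA u) u = true := ext_range (a := 240155) (len := 43) h5585 m2_5585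
  have h5587 : ∀ u < 240241, (fun u => chkFix tab mwordsA u) u = true := ext_range (a := 240198) (len := 43) h5586 m2_5586
  have h5588 : ∀ u < 240284, (fun u => chkFix tab mwordsA u) u = true := ext_range (a := 240241) (len := 43) h5587 m2_5587
  have h5589 : ∀ u < 240327, (fun u => chkFix tab mwordsA u) u = true := ext_range (a := 240284) (len := 43) h5588 m2_5588
  have h5590 : ∀ u < 240370, (fun u => chkFix tab mwordsA u) u = true := ext_range (a := 240327) (len := 43) h5589 m2_5589
  have h5591 : ∀ u < 240413, (fun u => chkFix tab mwordsA u) u = true := ext_range (a := 240370) (len := 43) h5590 m2_5590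
  have h5592 : ∀ u < 240456, (fun u => chkFix tab mwordsA u) u = true := ext_range (a := 240413) (len := 43) h5591 m2_5591
  have h5593 : ∀ u < 240499, (fun u => chkFix tab mwordsA u) u = true := ext_range (a := 240456) (len := 43) h5592 m2_5592
  have h5594 : ∀ u < 240542, (fun u => chkFix tab mwordsA u) u = true := ext_range (a := 240499) (len := 43) h5593 m2_5593
  have h5595 : ∀ u < 240585, (fun u => chkFix tab mwordsA u) u = true := ext_range (a := 240542) (len := 43) h5594 m2_5594
  have h5596 : ∀ u < 240628, (fun u => chkFix tab mwordsA u) u = true := ext_range (a := 240585) (len := 43) h5595 m2_5595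
  have h5597 : ∀ u < 240671, (fun u => chkFix tab mwordsA u) u = true := ext_range (a := 240628) (len := 43) h5596 m2_5596
  have h5598 : ∀ u < 240714, (fun u => chkFix tab mwordsA u) u = true := ext_range (a := 240671) (len := 43) h5597 m2_5597
  have h5599 : ∀ u < 240757, (fun u => chkFix tab mwordsA u) u = true := ext_range (a := 240714) (len := 43) h5598 m2_5598
  have h5600 : ∀ u < 240800, (fun u => chkFix tab mwordsA u) u = true := ext_range (a := 240757) (len := 43) h5599 m2_5599
  have h5601 : ∀ u < 240843, (fun u => chkFix tab mwordsA u) u = true := ext_range (a := 240800) (len := 43) h5600 m2_5600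
  have h5602 : ∀ u < 240886, (fun u => chkFix tab mwordsA u) u = true := ext_range (a := 240843) (len := 43) h5601 m2_5601
  have h5603 : ∀ u < 240929, (fun u => chkFix tab mwordsA u) u = true := ext_range (a := 240886) (len := 43) h5602 m2_5602
  have h5604 : ∀ u < 240972, (fun u => chkFix tab mwordsA u) u = true := ext_range (a := 240929) (len := 43) h5603 m2_5603
  have h5605 : ∀ u < 241015, (fun u => chkFix tab mwordsA u) u = true := ext_range (a := 240972) (len := 43) h5604 m2_5604
  have h5606 : ∀ u < 241058, (fun u => chkFix tab mwordsA u) u = true := ext_range (a := 241015) (len := 43) h5605 m2_5605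
  have h5607 : ∀ u < 241101, (fun u => chkFix tab mwordsA u) u = true := ext_range (a := 241058) (len := 43) h5606 m2_5606
  have h5608 : ∀ u < 241144, (fun u => chkFix tab mwordsA u) u = true := ext_range (a := 241101) (len := 43) h5607 m2_5607
  have h5609 : ∀ u < 241187, (fun u => chkFix tab mwordsA u) u = true := ext_range (a := 241144) (len := 43) h5608 m2_5608
  have h5610 : ∀ u < 241230, (fun u => chkFix tab mwordsA u) u = true := ext_range (a := 241187) (len := 43) h5609 m2_5609
  have h5611 : ∀ u < 241273, (fun u => chkFix tab mwordsA u) u = true := ext_range (a := 241230) (len := 43) h5610 m2_5610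
  have h5612 : ∀ u < 241316, (fun u => chkFix tab mwordsA u) u = true := ext_range (a := 241273) (len := 43) h5611 m2_5611
  have h5613 : ∀ u < 241359, (fun u => chkFix tab mwordsA u) u = true := ext_range (a := 241316) (len := 43) h5612 m2_5612
  have h5614 : ∀ u < 241402, (fun u => chkFix tab mwordsA u) u = true := ext_range (a := 241359) (len := 43) h5613 m2_5613
  have h5615 : ∀ u < 241445, (fun u => chkFix tab mwordsA u) u = true := ext_range (a := 241402) (len := 43) h5614 m2_5614
  have h5616 : ∀ u < 241488, (fun u => chkFix tab mwordsA u) u = true := ext_range (a := 241445) (len := 43) h5615 m2_5615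
  have h5617 : ∀ u < 241531, (fun u => chkFix tab mwordsA u) u = true := ext_range (a := 241488) (len := 43) h5616 m2_5616
  have h5618 : ∀ u < 241574, (fun u => chkFix tab mwordsA u) u = true := ext_range (a := 241531) (len := 43) h5617 m2_5617
  have h5619 : ∀ u < 241617, (fun u => chkFix tab mwordsA u) u = true := ext_range (a := 241574) (len := 43) h5618 m2_5618
  have h5620 : ∀ u < 241660, (fun u => chkFix tab mwordsA u) u = true := ext_range (a := 241617) (len := 43) h5619 m2_5619
  have h5621 : ∀ u < 241703, (fun u => chkFix tab mwordsA u) u = true := ext_range (a := 241660) (len := 43) h5620 m2_5620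
  have h5622 : ∀ u < 241746, (fun u => chkFix tab mwordsA u) u = true := ext_range (a := 241703) (len := 43) h5621 m2_5621
  have h5623 : ∀ u < 241789, (fun u => chkFix tab mwordsA u) u = true := ext_range (a := 241746) (len := 43) h5622 m2_5622
  have h5624 : ∀ u < 241832, (fun u => chkFix tab mwordsA u) u = true := ext_range (a := 241789) (len := 43) h5623 m2_5623
  have h5625 : ∀ u < 241875, (fun u => chkFix tab mwordsA u) u = true := ext_range (a := 241832) (len := 43) h5624 m2_5624
  have h5626 : ∀ u < 241918, (fun u => chkFix tab mwordsA u) u = true := ext_range (a := 241875) (len := 43) h5625 m2_5625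
  have h5627 : ∀ u < 241961, (fun u => chkFix tab mwordsA u) u = true := ext_range (a := 241918) (len := 43) h5626 m2_5626
  have h5628 : ∀ u < 242004, (fun u => chkFix tab mwordsA u) u = true := ext_range (a := 241961) (len := 43) h5627 m2_5627
  have h5629 : ∀ u < 242047, (fun u => chkFix tab mwordsA u) u = true := ext_range (a := 242004) (len := 43) h5628 m2_5628
  have h5630 : ∀ u < 242090, (fun u => chkFix tab mwordsA u) u = true := ext_range (a := 242047) (len := 43) h5629 m2_5629
  have h5631 : ∀ u < 242133, (fun u => chkFix tab mwordsA u) u = true := ext_range (a := 242090) (len := 43) h5630 m2_5630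
  have h5632 : ∀ u < 242176, (fun u => chkFix tab mwordsA u) u = true := ext_range (a := 242133) (len := 43) h5631 m2_5631
  have h5633 : ∀ u < 242219, (fun u => chkFix tab mwordsA u) u = true := ext_range (a := 242176) (len := 43) h5632 m2_5632
  have h5634 : ∀ u < 242262, (fun u => chkFix tab mwordsA u) u = true := ext_range (a := 242219) (len := 43) h5633 m2_5633
  have h5635 : ∀ u < 242305, (fun u => chkFix tab mwordsA u) u = true := ext_range (a := 242262) (len := 43) h5634 m2_5634
  have h5636 : ∀ u < 242348, (fun u => chkFix tab mwordsA u) u = true := ext_range (a := 242305) (len := 43) h5635 m2_5635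
  have h5637 : ∀ u < 242391, (fun u => chkFix tab mwordsA u) u = true := ext_range (a := 242348) (len := 43) h5636 m2_5636
  have h5638 : ∀ u < 242434, (fun u => chkFix tab mwordsA u) u = true := ext_range (a := 242391) (len := 43) h5637 m2_5637
  have h5639 : ∀ u < 242477, (fun u => chkFix tab mwordsA u) u = true := ext_range (a := 242434) (len := 43) h5638 m2_5638
  have h5640 : ∀ u < 242520, (fun u => chkFix tab mwordsA u) u = true := ext_range (a := 242477) (len := 43) h5639 m2_5639
  have h5641 : ∀ u < 242563, (fun u => chkFix tab mwordsA u) u = true := ext_range (a := 242520) (len := 43) h5640 m2_5640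
  have h5642 : ∀ u < 242606, (fun u => chkFix tab mwordsA u) u = true := ext_range (a := 242563) (len := 43) h5641 m2_5641
  have h5643 : ∀ u < 242649, (fun u => chkFix tab mwordsA u) u = true := ext_range (a := 242606) (len := 43) h5642 m2_5642
  have h5644 : ∀ u < 242692, (fun u => chkFix tab mwordsA u) u = true := ext_range (a := 242649) (len := 43) h5643 m2_5643
  have h5645 : ∀ u < 242735, (fun u => chkFix tab mwordsA u) u = true := ext_range (a := 242692) (len := 43) h5644 m2_5644
  have h5646 : ∀ u < 242778, (fun u => chkFix tab mwordsA u) u = true := ext_range (a := 242735) (len := 43) h5645 m2_5645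
  have h5647 : ∀ u < 242821, (fun u => chkFix tab mwordsA u) u = true := ext_range (a := 242778) (len := 43) h5646 m2_5646
  have h5648 : ∀ u < 242864, (fun u => chkFix tab mwordsA u) u = true := ext_range (a := 242821) (len := 43) h5647 m2_5647
  have h5649 : ∀ u < 242907, (fun u => chkFix tab mwordsA u) u = true := ext_range (a := 242864) (len := 43) h5648 m2_5648
  have h5650 : ∀ u < 242950, (fun u => chkFix tab mwordsA u) u = true := ext_range (a := 242907) (len := 43) h5649 m2_5649
  have h5651 : ∀ u < 242993, (fun u => chkFix tab mwordsA u) u = true := ext_range (a := 242950) (len := 43) h5650 m2_5650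
  have h5652 : ∀ u < 243036, (fun u => chkFix tab mwordsA u) u = true := ext_range (a := 242993) (len := 43) h5651 m2_5651
  have h5653 : ∀ u < 243079, (fun u => chkFix tab mwordsA u) u = true := ext_range (a := 243036) (len := 43) h5652 m2_5652
  have h5654 : ∀ u < 243122, (fun u => chkFix tab mwordsA u) u = true := ext_range (a := 243079) (len := 43) h5653 m2_5653
  have h5655 : ∀ u < 243165, (fun u => chkFix tab mwordsA u) u = true := ext_range (a := 243122) (len := 43) h5654 m2_5654
  have h5656 : ∀ u < 243208, (fun u => chkFix tab mwordsA u) u = true := ext_range (a := 243165) (len := 43) h5655 m2_5655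
  have h5657 : ∀ u < 243251, (fun u => chkFix tab mwordsA u) u = true := ext_range (a := 243208) (len := 43) h5656 m2_5656
  have h5658 : ∀ u < 243294, (fun u => chkFix tab mwordsA u) u = true := ext_range (a := 243251) (len := 43) h5657 m2_5657
  have h5659 : ∀ u < 243337, (fun u => chkFix tab mwordsA u) u = true := ext_range (a := 243294) (len := 43) h5658 m2_5658
  have h5660 : ∀ u < 243380, (fun u => chkFix tab mwordsA u) u = true := ext_range (a := 243337) (len := 43) h5659 m2_5659
  have h5661 : ∀ u < 243423, (fun u => chkFix tab mwordsA u) u = true := ext_range (a := 243380) (len := 43) h5660 m2_5660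
  have h5662 : ∀ u < 243466, (fun u => chkFix tab mwordsA u) u = true := ext_range (a := 243423) (len := 43) h5661 m2_5661
  have h5663 : ∀ u < 243509, (fun u => chkFix tab mwordsA u) u = true := ext_range (a := 243466) (len := 43) h5662 m2_5662
  have h5664 : ∀ u < 243552, (fun u => chkFix tab mwordsA u) u = true := ext_range (a := 243509) (len := 43) h5663 m2_5663
  have h5665 : ∀ u < 243595, (fun u => chkFix tab mwordsA u) u = true := ext_range (a := 243552) (len := 43) h5664 m2_5664
  have h5666 : ∀ u < 243638, (fun u => chkFix tab mwordsA u) u = true := ext_range (a := 243595) (len := 43) h5665 m2_5665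
  have h5667 : ∀ u < 243681, (fun u => chkFix tab mwordsA u) u = true := ext_range (a := 243638) (len := 43) h5666 m2_5666
  have h5668 : ∀ u < 243724, (fun u => chkFix tab mwordsA u) u = true := ext_range (a := 243681) (len := 43) h5667 m2_5667
  have h5669 : ∀ u < 243767, (fun u => chkFix tab mwordsA u) u = true := ext_range (a := 243724) (len := 43) h5668 m2_5668
  have h5670 : ∀ u < 243810, (fun u => chkFix tab mwordsA u) u = true := ext_range (a := 243767) (len := 43) h5669 m2_5669
  have h5671 : ∀ u < 243853, (fun u => chkFix tab mwordsA u) u = true := ext_range (a := 243810) (len := 43) h5670 m2_5670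
  have h5672 : ∀ u < 243896, (fun u => chkFix tab mwordsA u) u = true := ext_range (a := 243853) (len := 43) h5671 m2_5671
  have h5673 : ∀ u < 243939, (fun u => chkFix tab mwordsA u) u = true := ext_range (a := 243896) (len := 43) h5672 m2_5672
  have h5674 : ∀ u < 243982, (fun u => chkFix tab mwordsA u) u = true := ext_range (a := 243939) (len := 43) h5673 m2_5673
  have h5675 : ∀ u < 244025, (fun u => chkFix tab mwordsA u) u = true := ext_range (a := 243982) (len := 43) h5674 m2_5674
  have h5676 : ∀ u < 244068, (fun u => chkFix tab mwordsA u) u = true := ext_range (a := 244025) (len := 43) h5675 m2_5675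
  have h5677 : ∀ u < 244111, (fun u => chkFix tab mwordsA u) u = true := ext_range (a := 244068) (len := 43) h5676 m2_5676
  have h5678 : ∀ u < 244154, (fun u => chkFix tab mwordsA u) u = true := ext_range (a := 244111) (len := 43) h5677 m2_5677
  have h5679 : ∀ u < 244197, (fun u => chkFix tab mwordsA u) u = true := ext_range (a := 244154) (len := 43) h5678 m2_5678
  have h5680 : ∀ u < 244240, (fun u => chkFix tab mwordsA u) u = true := ext_range (a := 244197) (len := 43) h5679 m2_5679
  have h5681 : ∀ u < 244283, (fun u => chkFix tab mwordsA u) u = true := ext_range (a := 244240) (len := 43) h5680 m2_5680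
  have h5682 : ∀ u < 244326, (fun u => chkFix tab mwordsA u) u = true := ext_range (a := 244283) (len := 43) h5681 m2_5681
  have h5683 : ∀ u < 244369, (fun u => chkFix tab mwordsA u) u = true := ext_range (a := 244326) (len := 43) h5682 m2_5682
  have h5684 : ∀ u < 244412, (fun u => chkFix tab mwordsA u) u = true := ext_range (a := 244369) (len := 43) h5683 m2_5683
  have h5685 : ∀ u < 244455, (fun u => chkFix tab mwordsA u) u = true := ext_range (a := 244412) (len := 43) h5684 m2_5684
  have h5686 : ∀ u < 244498, (fun u => chkFix tab mwordsA u) u = true := ext_range (a := 244455) (len := 43) h5685 m2_5685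
  have h5687 : ∀ u < 244541, (fun u => chkFix tab mwordsA u) u = true := ext_range (a := 244498) (len := 43) h5686 m2_5686
  have h5688 : ∀ u < 244584, (fun u => chkFix tab mwordsA u) u = true := ext_range (a := 244541) (len := 43) h5687 m2_5687
  have h5689 : ∀ u < 244627, (fun u => chkFix tab mwordsA u) u = true := ext_range (a := 244584) (len := 43) h5688 m2_5688
  have h5690 : ∀ u < 244670, (fun u => chkFix tab mwordsA u) u = true := ext_range (a := 244627) (len := 43) h5689 m2_5689
  have h5691 : ∀ u < 244713, (fun u => chkFix tab mwordsA u) u = true := ext_range (a := 244670) (len := 43) h5690 m2_5690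
  have h5692 : ∀ u < 244756, (fun u => chkFix tab mwordsA u) u = true := ext_range (a := 244713) (len := 43) h5691 m2_5691
  have h5693 : ∀ u < 244799, (fun u => chkFix tab mwordsA u) u = true := ext_range (a := 244756) (len := 43) h5692 m2_5692
  have h5694 : ∀ u < 244842, (fun u => chkFix tab mwordsA u) u = true := ext_range (a := 244799) (len := 43) h5693 m2_5693
  have h5695 : ∀ u < 244885, (fun u => chkFix tab mwordsA u) u = true := ext_range (a := 244842) (len := 43) h5694 m2_5694
  have h5696 : ∀ u < 244928, (fun u => chkFix tab mwordsA u) u = true := ext_range (a := 244885) (len := 43) h5695 m2_5695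
  have h5697 : ∀ u < 244971, (fun u => chkFix tab mwordsA u) u = true := ext_range (a := 244928) (len := 43) h5696 m2_5696
  have h5698 : ∀ u < 245014, (fun u => chkFix tab mwordsA u) u = true := ext_range (a := 244971) (len := 43) h5697 m2_5697
  have h5699 : ∀ u < 245057, (fun u => chkFix tab mwordsA u) u = true := ext_range (a := 245014) (len := 43) h5698 m2_5698
  have h5700 : ∀ u < 245100, (fun u => chkFix tab mwordsA u) u = true := ext_range (a := 245057) (len := 43) h5699 m2_5699
  have h5701 : ∀ u < 245143, (fun u => chkFix tab mwordsA u) u = true := ext_range (a := 245100) (len := 43) h5700 m2_5700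
  have h5702 : ∀ u < 245186, (fun u => chkFix tab mwordsA u) u = true := ext_range (a := 245143) (len := 43) h5701 m2_5701
  have h5703 : ∀ u < 245229, (fun u => chkFix tab mwordsA u) u = true := ext_range (a := 245186) (len := 43) h5702 m2_5702
  have h5704 : ∀ u < 245272, (fun u => chkFix tab mwordsA u) u = true := ext_range (a := 245229) (len := 43) h5703 m2_5703
  have h5705 : ∀ u < 245315, (fun u => chkFix tab mwordsA u) u = true := ext_range (a := 245272) (len := 43) h5704 m2_5704
  have h5706 : ∀ u < 245358, (fun u => chkFix tab mwordsA u) u = true := ext_range (a := 245315) (len := 43) h5705 m2_5705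
  have h5707 : ∀ u < 245401, (fun u => chkFix tab mwordsA u) u = true := ext_range (a := 245358) (len := 43) h5706 m2_5706
  have h5708 : ∀ u < 245444, (fun u => chkFix tab mwordsA u) u = true := ext_range (a := 245401) (len := 43) h5707 m2_5707
  have h5709 : ∀ u < 245487, (fun u => chkFix tab mwordsA u) u = true := ext_range (a := 245444) (len := 43) h5708 m2_5708
  have h5710 : ∀ u < 245530, (fun u => chkFix tab mwordsA u) u = true := ext_range (a := 245487) (len := 43) h5709 m2_5709
  have h5711 : ∀ u < 245573, (fun u => chkFix tab mwordsA u) u = true := ext_range (a := 245530) (len := 43) h5710 m2_5710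
  have h5712 : ∀ u < 245616, (fun u => chkFix tab mwordsA u) u = true := ext_range (a := 245573) (len := 43) h5711 m2_5711
  have h5713 : ∀ u < 245659, (fun u => chkFix tab mwordsA u) u = true := ext_range (a := 245616) (len := 43) h5712 m2_5712
  have h5714 : ∀ u < 245702, (fun u => chkFix tab mwordsA u) u = true := ext_range (a := 245659) (len := 43) h5713 m2_5713
  have h5715 : ∀ u < 245745, (fun u => chkFix tab mwordsA u) u = true := ext_range (a := 245702) (len := 43) h5714 m2_5714
  have h5716 : ∀ u < 245788, (fun u => chkFix tab mwordsA u) u = true := ext_range (a := 245745) (len := 43) h5715 m2_5715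
  have h5717 : ∀ u < 245831, (fun u => chkFix tab mwordsA u) u = true := ext_range (a := 245788) (len := 43) h5716 m2_5716
  have h5718 : ∀ u < 245874, (fun u => chkFix tab mwordsA u) u = true := ext_range (a := 245831) (len := 43) h5717 m2_5717
  have h5719 : ∀ u < 245917, (fun u => chkFix tab mwordsA u) u = true := ext_range (a := 245874) (len := 43) h5718 m2_5718
  have h5720 : ∀ u < 245960, (fun u => chkFix tab mwordsA u) u = true := ext_range (a := 245917) (len := 43) h5719 m2_5719
  have h5721 : ∀ u < 246003, (fun u => chkFix tab mwordsA u) u = true := ext_range (a := 245960) (len := 43) h5720 m2_5720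
  have h5722 : ∀ u < 246046, (fun u => chkFix tab mwordsA u) u = true := ext_range (a := 246003) (len := 43) h5721 m2_5721
  have h5723 : ∀ u < 246089, (fun u => chkFix tab mwordsA u) u = true := ext_range (a := 246046) (len := 43) h5722 m2_5722
  have h5724 : ∀ u < 246132, (fun u => chkFix tab mwordsA u) u = true := ext_range (a := 246089) (len := 43) h5723 m2_5723
  have h5725 : ∀ u < 246175, (fun u => chkFix tab mwordsA u) u = true := ext_range (a := 246132) (len := 43) h5724 m2_5724
  have h5726 : ∀ u < 246218, (fun u => chkFix tab mwordsA u) u = true := ext_range (a := 246175) (len := 43) h5725 m2_5725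
  have h5727 : ∀ u < 246261, (fun u => chkFix tab mwordsA u) u = true := ext_range (a := 246218) (len := 43) h5726 m2_5726
  have h5728 : ∀ u < 246304, (fun u => chkFix tab mwordsA u) u = true := ext_range (a := 246261) (len := 43) h5727 m2_5727
  have h5729 : ∀ u < 246347, (fun u => chkFix tab mwordsA u) u = true := ext_range (a := 246304) (len := 43) h5728 m2_5728
  have h5730 : ∀ u < 246390, (fun u => chkFix tab mwordsA u) u = true := ext_range (a := 246347) (len := 43) h5729 m2_5729
  have h5731 : ∀ u < 246433, (fun u => chkFix tab mwordsA u) u = true := ext_range (a := 246390) (len := 43) h5730 m2_5730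
  have h5732 : ∀ u < 246476, (fun u => chkFix tab mwordsA u) u = true := ext_range (a := 246433) (len := 43) h5731 m2_5731
  have h5733 : ∀ u < 246519, (fun u => chkFix tab mwordsA u) u = true := ext_range (a := 246476) (len := 43) h5732 m2_5732
  have h5734 : ∀ u < 246562, (fun u => chkFix tab mwordsA u) u = true := ext_range (a := 246519) (len := 43) h5733 m2_5733
  have h5735 : ∀ u < 246605, (fun u => chkFix tab mwordsA u) u = true := ext_range (a := 246562) (len := 43) h5734 m2_5734
  have h5736 : ∀ u < 246648, (fun u => chkFix tab mwordsA u) u = true := ext_range (a := 246605) (len := 43) h5735 m2_5735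
  have h5737 : ∀ u < 246691, (fun u => chkFix tab mwordsA u) u = true := ext_range (a := 246648) (len := 43) h5736 m2_5736
  have h5738 : ∀ u < 246734, (fun u => chkFix tab mwordsA u) u = true := ext_range (a := 246691) (len := 43) h5737 m2_5737
  have h5739 : ∀ u < 246777, (fun u => chkFix tab mwordsA u) u = true := ext_range (a := 246734) (len := 43) h5738 m2_5738
  have h5740 : ∀ u < 246820, (fun u => chkFix tab mwordsA u) u = true := ext_range (a := 246777) (len := 43) h5739 m2_5739
  have h5741 : ∀ u < 246863, (fun u => chkFix tab mwordsA u) u = true := ext_range (a := 246820) (len := 43) h5740 m2_5740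
  have h5742 : ∀ u < 246906, (fun u => chkFix tab mwordsA u) u = true := ext_range (a := 246863) (len := 43) h5741 m2_5741
  have h5743 : ∀ u < 246949, (fun u => chkFix tab mwordsA u) u = true := ext_range (a := 246906) (len := 43) h5742 m2_5742
  have h5744 : ∀ u < 246992, (fun u => chkFix tab mwordsA u) u = true := ext_range (a := 246949) (len := 43) h5743 m2_5743
  have h5745 : ∀ u < 247035, (fun u => chkFix tab mwordsA u) u = true := ext_range (a := 246992) (len := 43) h5744 m2_5744
  have h5746 : ∀ u < 247078, (fun u => chkFix tab mwordsA u) u = true := ext_range (a := 247035) (len := 43) h5745 m2_5745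
  have h5747 : ∀ u < 247121, (fun u => chkFix tab mwordsA u) u = true := ext_range (a := 247078) (len := 43) h5746 m2_5746
  have h5748 : ∀ u < 247164, (fun u => chkFix tab mwordsA u) u = true := ext_range (a := 247121) (len := 43) h5747 m2_5747
  have h5749 : ∀ u < 247207, (fun u => chkFix tab mwordsA u) u = true := ext_range (a := 247164) (len := 43) h5748 m2_5748
  have h5750 : ∀ u < 247250, (fun u => chkFix tab mwordsA u) u = true := ext_range (a := 247207) (len := 43) h5749 m2_5749
  have h5751 : ∀ u < 247293, (fun u => chkFix tab mwordsA u) u = true := ext_range (a := 247250) (len := 43) h5750 m2_5750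
  have h5752 : ∀ u < 247336, (fun u => chkFix tab mwordsA u) u = true := ext_range (a := 247293) (len := 43) h5751 m2_5751
  have h5753 : ∀ u < 247379, (fun u => chkFix tab mwordsA u) u = true := ext_range (a := 247336) (len := 43) h5752 m2_5752
  have h5754 : ∀ u < 247422, (fun u => chkFix tab mwordsA u) u = true := ext_range (a := 247379) (len := 43) h5753 m2_5753
  have h5755 : ∀ u < 247465, (fun u => chkFix tab mwordsA u) u = true := ext_range (a := 247422) (len := 43) h5754 m2_5754
  have h5756 : ∀ u < 247508, (fun u => chkFix tab mwordsA u) u = true := ext_range (a := 247465) (len := 43) h5755 m2_5755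
  have h5757 : ∀ u < 247551, (fun u => chkFix tab mwordsA u) u = true := ext_range (a := 247508) (len := 43) h5756 m2_5756
  have h5758 : ∀ u < 247594, (fun u => chkFix tab mwordsA u) u = true := ext_range (a := 247551) (len := 43) h5757 m2_5757
  have h5759 : ∀ u < 247637, (fun u => chkFix tab mwordsA u) u = true := ext_range (a := 247594) (len := 43) h5758 m2_5758
  have h5760 : ∀ u < 247680, (fun u => chkFix tab mwordsA u) u = true := ext_range (a := 247637) (len := 43) h5759 m2_5759
  have h5761 : ∀ u < 247723, (fun u => chkFix tab mwordsA u) u = true := ext_range (a := 247680) (len := 43) h5760 m2_5760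
  have h5762 : ∀ u < 247766, (fun u => chkFix tab mwordsA u) u = true := ext_range (a := 247723) (len := 43) h5761 m2_5761
  have h5763 : ∀ u < 247809, (fun u => chkFix tab mwordsA u) u = true := ext_range (a := 247766) (len := 43) h5762 m2_5762
  have h5764 : ∀ u < 247852, (fun u => chkFix tab mwordsA u) u = true := ext_range (a := 247809) (len := 43) h5763 m2_5763
  have h5765 : ∀ u < 247895, (fun u => chkFix tab mwordsA u) u = true := ext_range (a := 247852) (len := 43) h5764 m2_5764
  have h5766 : ∀ u < 247938, (fun u => chkFix tab mwordsA u) u = true := ext_range (a := 247895) (len := 43) h5765 m2_5765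
  have h5767 : ∀ u < 247981, (fun u => chkFix tab mwordsA u) u = true := ext_range (a := 247938) (len := 43) h5766 m2_5766
  have h5768 : ∀ u < 248024, (fun u => chkFix tab mwordsA u) u = true := ext_range (a := 247981) (len := 43) h5767 m2_5767
  have h5769 : ∀ u < 248067, (fun u => chkFix tab mwordsA u) u = true := ext_range (a := 248024) (len := 43) h5768 m2_5768
  have h5770 : ∀ u < 248110, (fun u => chkFix tab mwordsA u) u = true := ext_range (a := 248067) (len := 43) h5769 m2_5769
  have h5771 : ∀ u < 248153, (fun u => chkFix tab mwordsA u) u = true := ext_range (a := 248110) (len := 43) h5770 m2_5770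
  have h5772 : ∀ u < 248196, (fun u => chkFix tab mwordsA u) u = true := ext_range (a := 248153) (len := 43) h5771 m2_5771
  have h5773 : ∀ u < 248239, (fun u => chkFix tab mwordsA u) u = true := ext_range (a := 248196) (len := 43) h5772 m2_5772
  have h5774 : ∀ u < 248282, (fun u => chkFix tab mwordsA u) u = true := ext_range (a := 248239) (len := 43) h5773 m2_5773
  have h5775 : ∀ u < 248325, (fun u => chkFix tab mwordsA u) u = true := ext_range (a := 248282) (len := 43) h5774 m2_5774
  have h5776 : ∀ u < 248368, (fun u => chkFix tab mwordsA u) u = true := ext_range (a := 248325) (len := 43) h5775 m2_5775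
  have h5777 : ∀ u < 248411, (fun u => chkFix tab mwordsA u) u = true := ext_range (a := 248368) (len := 43) h5776 m2_5776
  have h5778 : ∀ u < 248454, (fun u => chkFix tab mwordsA u) u = true := ext_range (a := 248411) (len := 43) h5777 m2_5777
  have h5779 : ∀ u < 248497, (fun u => chkFix tab mwordsA u) u = true := ext_range (a := 248454) (len := 43) h5778 m2_5778
  have h5780 : ∀ u < 248540, (fun u => chkFix tab mwordsA u) u = true := ext_range (a := 248497) (len := 43) h5779 m2_5779
  have h5781 : ∀ u < 248583, (fun u => chkFix tab mwordsA u) u = true := ext_range (a := 248540) (len := 43) h5780 m2_5780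
  have h5782 : ∀ u < 248626, (fun u => chkFix tab mwordsA u) u = true := ext_range (a := 248583) (len := 43) h5781 m2_5781
  have h5783 : ∀ u < 248669, (fun u => chkFix tab mwordsA u) u = true := ext_range (a := 248626) (len := 43) h5782 m2_5782
  have h5784 : ∀ u < 248712, (fun u => chkFix tab mwordsA u) u = true := ext_range (a := 248669) (len := 43) h5783 m2_5783
  have h5785 : ∀ u < 248755, (fun u => chkFix tab mwordsA u) u = true := ext_range (a := 248712) (len := 43) h5784 m2_5784
  have h5786 : ∀ u < 248798, (fun u => chkFix tab mwordsA u) u = true := ext_range (a := 248755) (len := 43) h5785 m2_5785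
  have h5787 : ∀ u < 248841, (fun u => chkFix tab mwordsA u) u = true := ext_range (a := 248798) (len := 43) h5786 m2_5786
  have h5788 : ∀ u < 248884, (fun u => chkFix tab mwordsA u) u = true := ext_range (a := 248841) (len := 43) h5787 m2_5787
  have h5789 : ∀ u < 248927, (fun u => chkFix tab mwordsA u) u = true := ext_range (a := 248884) (len := 43) h5788 m2_5788
  have h5790 : ∀ u < 248970, (fun u => chkFix tab mwordsA u) u = true := ext_range (a := 248927) (len := 43) h5789 m2_5789
  have h5791 : ∀ u < 249013, (fun u => chkFix tab mwordsA u) u = true := ext_range (a := 248970) (len := 43) h5790 m2_5790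
  have h5792 : ∀ u < 249056, (fun u => chkFix tab mwordsA u) u = true := ext_range (a := 249013) (len := 43) h5791 m2_5791
  have h5793 : ∀ u < 249099, (fun u => chkFix tab mwordsA u) u = true := ext_range (a := 249056) (len := 43) h5792 m2_5792
  have h5794 : ∀ u < 249142, (fun u => chkFix tab mwordsA u) u = true := ext_range (a := 249099) (len := 43) h5793 m2_5793
  have h5795 : ∀ u < 249185, (fun u => chkFix tab mwordsA u) u = true := ext_range (a := 249142) (len := 43) h5794 m2_5794
  have h5796 : ∀ u < 249228, (fun u => chkFix tab mwordsA u) u = true := ext_range (a := 249185) (len := 43) h5795 m2_5795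
  have h5797 : ∀ u < 249271, (fun u => chkFix tab mwordsA u) u = true := ext_range (a := 249228) (len := 43) h5796 m2_5796
  have h5798 : ∀ u < 249314, (fun u => chkFix tab mwordsA u) u = true := ext_range (a := 249271) (len := 43) h5797 m2_5797
  have h5799 : ∀ u < 249357, (fun u => chkFix tab mwordsA u) u = true := ext_range (a := 249314) (len := 43) h5798 m2_5798
  have h5800 : ∀ u < 249400, (fun u => chkFix tab mwordsA u) u = true := ext_range (a := 249357) (len := 43) h5799 m2_5799
  have h5801 : ∀ u < 249443, (fun u => chkFix tab mwordsA u) u = true := ext_range (a := 249400) (len := 43) h5800 m2_5800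
  have h5802 : ∀ u < 249486, (fun u => chkFix tab mwordsA u) u = true := ext_range (a := 249443) (len := 43) h5801 m2_5801
  have h5803 : ∀ u < 249529, (fun u => chkFix tab mwordsA u) u = true := ext_range (a := 249486) (len := 43) h5802 m2_5802
  have h5804 : ∀ u < 249572, (fun u => chkFix tab mwordsA u) u = true := ext_range (a := 249529) (len := 43) h5803 m2_5803
  have h5805 : ∀ u < 249615, (fun u => chkFix tab mwordsA u) u = true := ext_range (a := 249572) (len := 43) h5804 m2_5804
  have h5806 : ∀ u < 249658, (fun u => chkFix tab mwordsA u) u = true := ext_range (a := 249615) (len := 43) h5805 m2_5805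
  have h5807 : ∀ u < 249701, (fun u => chkFix tab mwordsA u) u = true := ext_range (a := 249658) (len := 43) h5806 m2_5806
  have h5808 : ∀ u < 249744, (fun u => chkFix tab mwordsA u) u = true := ext_range (a := 249701) (len := 43) h5807 m2_5807
  have h5809 : ∀ u < 249787, (fun u => chkFix tab mwordsA u) u = true := ext_range (a := 249744) (len := 43) h5808 m2_5808
  have h5810 : ∀ u < 249830, (fun u => chkFix tab mwordsA u) u = true := ext_range (a := 249787) (len := 43) h5809 m2_5809
  have h5811 : ∀ u < 249873, (fun u => chkFix tab mwordsA u) u = true := ext_range (a := 249830) (len := 43) h5810 m2_5810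
  have h5812 : ∀ u < 249916, (fun u => chkFix tab mwordsA u) u = true := ext_range (a := 249873) (len := 43) h5811 m2_5811
  have h5813 : ∀ u < 249959, (fun u => chkFix tab mwordsA u) u = true := ext_range (a := 249916) (len := 43) h5812 m2_5812
  have h5814 : ∀ u < 250002, (fun u => chkFix tab mwordsA u) u = true := ext_range (a := 249959) (len := 43) h5813 m2_5813
  have h5815 : ∀ u < 250045, (fun u => chkFix tab mwordsA u) u = true := ext_range (a := 250002) (len := 43) h5814 m2_5814
  have h5816 : ∀ u < 250088, (fun u => chkFix tab mwordsA u) u = true := ext_range (a := 250045) (len := 43) h5815 m2_5815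
  have h5817 : ∀ u < 250131, (fun u => chkFix tab mwordsA u) u = true := ext_range (a := 250088) (len := 43) h5816 m2_5816
  have h5818 : ∀ u < 250174, (fun u => chkFix tab mwordsA u) u = true := ext_range (a := 250131) (len := 43) h5817 m2_5817
  have h5819 : ∀ u < 250217, (fun u => chkFix tab mwordsA u) u = true := ext_range (a := 250174) (len := 43) h5818 m2_5818
  have h5820 : ∀ u < 250260, (fun u => chkFix tab mwordsA u) u = true := ext_range (a := 250217) (len := 43) h5819 m2_5819
  have h5821 : ∀ u < 250303, (fun u => chkFix tab mwordsA u) u = true := ext_range (a := 250260) (len := 43) h5820 m2_5820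
  have h5822 : ∀ u < 250346, (fun u => chkFix tab mwordsA u) u = true := ext_range (a := 250303) (len := 43) h5821 m2_5821
  have h5823 : ∀ u < 250389, (fun u => chkFix tab mwordsA u) u = true := ext_range (a := 250346) (len := 43) h5822 m2_5822
  have h5824 : ∀ u < 250432, (fun u => chkFix tab mwordsA u) u = true := ext_range (a := 250389) (len := 43) h5823 m2_5823
  have h5825 : ∀ u < 250475, (fun u => chkFix tab mwordsA u) u = true := ext_range (a := 250432) (len := 43) h5824 m2_5824
  have h5826 : ∀ u < 250518, (fun u => chkFix tab mwordsA u) u = true := ext_range (a := 250475) (len := 43) h5825 m2_5825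
  have h5827 : ∀ u < 250561, (fun u => chkFix tab mwordsA u) u = true := ext_range (a := 250518) (len := 43) h5826 m2_5826
  have h5828 : ∀ u < 250604, (fun u => chkFix tab mwordsA u) u = true := ext_range (a := 250561) (len := 43) h5827 m2_5827
  have h5829 : ∀ u < 250647, (fun u => chkFix tab mwordsA u) u = true := ext_range (a := 250604) (len := 43) h5828 m2_5828
  have h5830 : ∀ u < 250690, (fun u => chkFix tab mwordsA u) u = true := ext_range (a := 250647) (len := 43) h5829 m2_5829
  have h5831 : ∀ u < 250733, (fun u => chkFix tab mwordsA u) u = true := ext_range (a := 250690) (len := 43) h5830 m2_5830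
  have h5832 : ∀ u < 250776, (fun u => chkFix tab mwordsA u) u = true := ext_range (a := 250733) (len := 43) h5831 m2_5831
  have h5833 : ∀ u < 250819, (fun u => chkFix tab mwordsA u) u = true := ext_range (a := 250776) (len := 43) h5832 m2_5832
  have h5834 : ∀ u < 250862, (fun u => chkFix tab mwordsA u) u = true := ext_range (a := 250819) (len := 43) h5833 m2_5833
  have h5835 : ∀ u < 250905, (fun u => chkFix tab mwordsA u) u = true := ext_range (a := 250862) (len := 43) h5834 m2_5834
  have h5836 : ∀ u < 250948, (fun u => chkFix tab mwordsA u) u = true := ext_range (a := 250905) (len := 43) h5835 m2_5835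
  have h5837 : ∀ u < 250991, (fun u => chkFix tab mwordsA u) u = true := ext_range (a := 250948) (len := 43) h5836 m2_5836
  have h5838 : ∀ u < 251034, (fun u => chkFix tab mwordsA u) u = true := ext_range (a := 250991) (len := 43) h5837 m2_5837
  have h5839 : ∀ u < 251077, (fun u => chkFix tab mwordsA u) u = true := ext_range (a := 251034) (len := 43) h5838 m2_5838
  have h5840 : ∀ u < 251120, (fun u => chkFix tab mwordsA u) u = true := ext_range (a := 251077) (len := 43) h5839 m2_5839
  have h5841 : ∀ u < 251163, (fun u => chkFix tab mwordsA u) u = true := ext_range (a := 251120) (len := 43) h5840 m2_5840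
  have h5842 : ∀ u < 251206, (fun u => chkFix tab mwordsA u) u = true := ext_range (a := 251163) (len := 43) h5841 m2_5841
  have h5843 : ∀ u < 251249, (fun u => chkFix tab mwordsA u) u = true := ext_range (a := 251206) (len := 43) h5842 m2_5842
  have h5844 : ∀ u < 251292, (fun u => chkFix tab mwordsA u) u = true := ext_range (a := 251249) (len := 43) h5843 m2_5843
  have h5845 : ∀ u < 251335, (fun u => chkFix tab mwordsA u) u = true := ext_range (a := 251292) (len := 43) h5844 m2_5844
  have h5846 : ∀ u < 251378, (fun u => chkFix tab mwordsA u) u = true := ext_range (a := 251335) (len := 43) h5845 m2_5845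
  have h5847 : ∀ u < 251421, (fun u => chkFix tab mwordsA u) u = true := ext_range (a := 251378) (len := 43) h5846 m2_5846
  have h5848 : ∀ u < 251464, (fun u => chkFix tab mwordsA u) u = true := ext_range (a := 251421) (len := 43) h5847 m2_5847
  have h5849 : ∀ u < 251507, (fun u => chkFix tab mwordsA u) u = true := ext_range (a := 251464) (len := 43) h5848 m2_5848
  have h5850 : ∀ u < 251550, (fun u => chkFix tab mwordsA u) u = true := ext_range (a := 251507) (len := 43) h5849 m2_5849
  have h5851 : ∀ u < 251593, (fun u => chkFix tab mwordsA u) u = true := ext_range (a := 251550) (len := 43) h5850 m2_5850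
  have h5852 : ∀ u < 251636, (fun u => chkFix tab mwordsA u) u = true := ext_range (a := 251593) (len := 43) h5851 m2_5851
  have h5853 : ∀ u < 251679, (fun u => chkFix tab mwordsA u) u = true := ext_range (a := 251636) (len := 43) h5852 m2_5852
  have h5854 : ∀ u < 251722, (fun u => chkFix tab mwordsA u) u = true := ext_range (a := 251679) (len := 43) h5853 m2_5853
  have h5855 : ∀ u < 251765, (fun u => chkFix tab mwordsA u) u = true := ext_range (a := 251722) (len := 43) h5854 m2_5854
  have h5856 : ∀ u < 251808, (fun u => chkFix tab mwordsA u) u = true := ext_range (a := 251765) (len := 43) h5855 m2_5855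
  have h5857 : ∀ u < 251851, (fun u => chkFix tab mwordsA u) u = true := ext_range (a := 251808) (len := 43) h5856 m2_5856
  have h5858 : ∀ u < 251894, (fun u => chkFix tab mwordsA u) u = true := ext_range (a := 251851) (len := 43) h5857 m2_5857
  have h5859 : ∀ u < 251937, (fun u => chkFix tab mwordsA u) u = true := ext_range (a := 251894) (len := 43) h5858 m2_5858
  have h5860 : ∀ u < 251980, (fun u => chkFix tab mwordsA u) u = true := ext_range (a := 251937) (len := 43) h5859 m2_5859
  have h5861 : ∀ u < 252023, (fun u => chkFix tab mwordsA u) u = true := ext_range (a := 251980) (len := 43) h5860 m2_5860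
  have h5862 : ∀ u < 252066, (fun u => chkFix tab mwordsA u) u = true := ext_range (a := 252023) (len := 43) h5861 m2_5861
  have h5863 : ∀ u < 252109, (fun u => chkFix tab mwordsA u) u = true := ext_range (a := 252066) (len := 43) h5862 m2_5862
  have h5864 : ∀ u < 252152, (fun u => chkFix tab mwordsA u) u = true := ext_range (a := 252109) (len := 43) h5863 m2_5863
  have h5865 : ∀ u < 252195, (fun u => chkFix tab mwordsA u) u = true := ext_range (a := 252152) (len := 43) h5864 m2_5864
  have h5866 : ∀ u < 252238, (fun u => chkFix tab mwordsA u) u = true := ext_range (a := 252195) (len := 43) h5865 m2_5865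
  have h5867 : ∀ u < 252281, (fun u => chkFix tab mwordsA u) u = true := ext_range (a := 252238) (len := 43) h5866 m2_5866
  have h5868 : ∀ u < 252324, (fun u => chkFix tab mwordsA u) u = true := ext_range (a := 252281) (len := 43) h5867 m2_5867
  have h5869 : ∀ u < 252367, (fun u => chkFix tab mwordsA u) u = true := ext_range (a := 252324) (len := 43) h5868 m2_5868
  have h5870 : ∀ u < 252410, (fun u => chkFix tab mwordsA u) u = true := ext_range (a := 252367) (len := 43) h5869 m2_5869
  have h5871 : ∀ u < 252453, (fun u => chkFix tab mwordsA u) u = true := ext_range (a := 252410) (len := 43) h5870 m2_5870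
  have h5872 : ∀ u < 252496, (fun u => chkFix tab mwordsA u) u = true := ext_range (a := 252453) (len := 43) h5871 m2_5871
  have h5873 : ∀ u < 252539, (fun u => chkFix tab mwordsA u) u = true := ext_range (a := 252496) (len := 43) h5872 m2_5872
  have h5874 : ∀ u < 252582, (fun u => chkFix tab mwordsA u) u = true := ext_range (a := 252539) (len := 43) h5873 m2_5873
  have h5875 : ∀ u < 252625, (fun u => chkFix tab mwordsA u) u = true := ext_range (a := 252582) (len := 43) h5874 m2_5874
  have h5876 : ∀ u < 252668, (fun u => chkFix tab mwordsA u) u = true := ext_range (a := 252625) (len := 43) h5875 m2_5875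
  have h5877 : ∀ u < 252711, (fun u => chkFix tab mwordsA u) u = true := ext_range (a := 252668) (len := 43) h5876 m2_5876
  have h5878 : ∀ u < 252754, (fun u => chkFix tab mwordsA u) u = true := ext_range (a := 252711) (len := 43) h5877 m2_5877
  have h5879 : ∀ u < 252797, (fun u => chkFix tab mwordsA u) u = true := ext_range (a := 252754) (len := 43) h5878 m2_5878
  have h5880 : ∀ u < 252840, (fun u => chkFix tab mwordsA u) u = true := ext_range (a := 252797) (len := 43) h5879 m2_5879
  have h5881 : ∀ u < 252883, (fun u => chkFix tab mwordsA u) u = true := ext_range (a := 252840) (len := 43) h5880 m2_5880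
  have h5882 : ∀ u < 252926, (fun u => chkFix tab mwordsA u) u = true := ext_range (a := 252883) (len := 43) h5881 m2_5881
  have h5883 : ∀ u < 252969, (fun u => chkFix tab mwordsA u) u = true := ext_range (a := 252926) (len := 43) h5882 m2_5882
  have h5884 : ∀ u < 253012, (fun u => chkFix tab mwordsA u) u = true := ext_range (a := 252969) (len := 43) h5883 m2_5883
  have h5885 : ∀ u < 253055, (fun u => chkFix tab mwordsA u) u = true := ext_range (a := 253012) (len := 43) h5884 m2_5884
  have h5886 : ∀ u < 253098, (fun u => chkFix tab mwordsA u) u = true := ext_range (a := 253055) (len := 43) h5885 m2_5885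
  have h5887 : ∀ u < 253141, (fun u => chkFix tab mwordsA u) u = true := ext_range (a := 253098) (len := 43) h5886 m2_5886
  have h5888 : ∀ u < 253184, (fun u => chkFix tab mwordsA u) u = true := ext_range (a := 253141) (len := 43) h5887 m2_5887
  have h5889 : ∀ u < 253227, (fun u => chkFix tab mwordsA u) u = true := ext_range (a := 253184) (len := 43) h5888 m2_5888
  have h5890 : ∀ u < 253270, (fun u => chkFix tab mwordsA u) u = true := ext_range (a := 253227) (len := 43) h5889 m2_5889
  have h5891 : ∀ u < 253313, (fun u => chkFix tab mwordsA u) u = true := ext_range (a := 253270) (len := 43) h5890 m2_5890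
  have h5892 : ∀ u < 253356, (fun u => chkFix tab mwordsA u) u = true := ext_range (a := 253313) (len := 43) h5891 m2_5891
  have h5893 : ∀ u < 253399, (fun u => chkFix tab mwordsA u) u = true := ext_range (a := 253356) (len := 43) h5892 m2_5892
  have h5894 : ∀ u < 253442, (fun u => chkFix tab mwordsA u) u = true := ext_range (a := 253399) (len := 43) h5893 m2_5893
  have h5895 : ∀ u < 253485, (fun u => chkFix tab mwordsA u) u = true := ext_range (a := 253442) (len := 43) h5894 m2_5894
  have h5896 : ∀ u < 253528, (fun u => chkFix tab mwordsA u) u = true := ext_range (a := 253485) (len := 43) h5895 m2_5895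
  have h5897 : ∀ u < 253571, (fun u => chkFix tab mwordsA u) u = true := ext_range (a := 253528) (len := 43) h5896 m2_5896
  have h5898 : ∀ u < 253614, (fun u => chkFix tab mwordsA u) u = true := ext_range (a := 253571) (len := 43) h5897 m2_5897
  have h5899 : ∀ u < 253657, (fun u => chkFix tab mwordsA u) u = true := ext_range (a := 253614) (len := 43) h5898 m2_5898
  have h5900 : ∀ u < 253700, (fun u => chkFix tab mwordsA u) u = true := ext_range (a := 253657) (len := 43) h5899 m2_5899
  have h5901 : ∀ u < 253743, (fun u => chkFix tab mwordsA u) u = true := ext_range (a := 253700) (len := 43) h5900 m2_5900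
  have h5902 : ∀ u < 253786, (fun u => chkFix tab mwordsA u) u = true := ext_range (a := 253743) (len := 43) h5901 m2_5901
  have h5903 : ∀ u < 253829, (fun u => chkFix tab mwordsA u) u = true := ext_range (a := 253786) (len := 43) h5902 m2_5902
  have h5904 : ∀ u < 253872, (fun u => chkFix tab mwordsA u) u = true := ext_range (a := 253829) (len := 43) h5903 m2_5903
  have h5905 : ∀ u < 253915, (fun u => chkFix tab mwordsA u) u = true := ext_range (a := 253872) (len := 43) h5904 m2_5904
  have h5906 : ∀ u < 253958, (fun u => chkFix tab mwordsA u) u = true := ext_range (a := 253915) (len := 43) h5905 m2_5905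
  have h5907 : ∀ u < 254001, (fun u => chkFix tab mwordsA u) u = true := ext_range (a := 253958) (len := 43) h5906 m2_5906
  have h5908 : ∀ u < 254044, (fun u => chkFix tab mwordsA u) u = true := ext_range (a := 254001) (len := 43) h5907 m2_5907
  have h5909 : ∀ u < 254087, (fun u => chkFix tab mwordsA u) u = true := ext_range (a := 254044) (len := 43) h5908 m2_5908
  have h5910 : ∀ u < 254130, (fun u => chkFix tab mwordsA u) u = true := ext_range (a := 254087) (len := 43) h5909 m2_5909
  have h5911 : ∀ u < 254173, (fun u => chkFix tab mwordsA u) u = true := ext_range (a := 254130) (len := 43) h5910 m2_5910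
  have h5912 : ∀ u < 254216, (fun u => chkFix tab mwordsA u) u = true := ext_range (a := 254173) (len := 43) h5911 m2_5911
  have h5913 : ∀ u < 254259, (fun u => chkFix tab mwordsA u) u = true := ext_range (a := 254216) (len := 43) h5912 m2_5912
  have h5914 : ∀ u < 254302, (fun u => chkFix tab mwordsA u) u = true := ext_range (a := 254259) (len := 43) h5913 m2_5913
  have h5915 : ∀ u < 254345, (fun u => chkFix tab mwordsA u) u = true := ext_range (a := 254302) (len := 43) h5914 m2_5914
  have h5916 : ∀ u < 254388, (fun u => chkFix tab mwordsA u) u = true := ext_range (a := 254345) (len := 43) h5915 m2_5915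
  have h5917 : ∀ u < 254431, (fun u => chkFix tab mwordsA u) u = true := ext_range (a := 254388) (len := 43) h5916 m2_5916
  have h5918 : ∀ u < 254474, (fun u => chkFix tab mwordsA u) u = true := ext_range (a := 254431) (len := 43) h5917 m2_5917
  have h5919 : ∀ u < 254517, (fun u => chkFix tab mwordsA u) u = true := ext_range (a := 254474) (len := 43) h5918 m2_5918
  have h5920 : ∀ u < 254560, (fun u => chkFix tab mwordsA u) u = true := ext_range (a := 254517) (len := 43) h5919 m2_5919
  have h5921 : ∀ u < 254603, (fun u => chkFix tab mwordsA u) u = true := ext_range (a := 254560) (len := 43) h5920 m2_5920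
  have h5922 : ∀ u < 254646, (fun u => chkFix tab mwordsA u) u = true := ext_range (a := 254603) (len := 43) h5921 m2_5921
  have h5923 : ∀ u < 254689, (fun u => chkFix tab mwordsA u) u = true := ext_range (a := 254646) (len := 43) h5922 m2_5922
  have h5924 : ∀ u < 254732, (fun u => chkFix tab mwordsA u) u = true := ext_range (a := 254689) (len := 43) h5923 m2_5923
  have h5925 : ∀ u < 254775, (fun u => chkFix tab mwordsA u) u = true := ext_range (a := 254732) (len := 43) h5924 m2_5924
  have h5926 : ∀ u < 254818, (fun u => chkFix tab mwordsA u) u = true := ext_range (a := 254775) (len := 43) h5925 m2_5925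
  have h5927 : ∀ u < 254861, (fun u => chkFix tab mwordsA u) u = true := ext_range (a := 254818) (len := 43) h5926 m2_5926
  have h5928 : ∀ u < 254904, (fun u => chkFix tab mwordsA u) u = true := ext_range (a := 254861) (len := 43) h5927 m2_5927
  have h5929 : ∀ u < 254947, (fun u => chkFix tab mwordsA u) u = true := ext_range (a := 254904) (len := 43) h5928 m2_5928
  have h5930 : ∀ u < 254990, (fun u => chkFix tab mwordsA u) u = true := ext_range (a := 254947) (len := 43) h5929 m2_5929
  have h5931 : ∀ u < 255033, (fun u => chkFix tab mwordsA u) u = true := ext_range (a := 254990) (len := 43) h5930 m2_5930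
  have h5932 : ∀ u < 255076, (fun u => chkFix tab mwordsA u) u = true := ext_range (a := 255033) (len := 43) h5931 m2_5931
  have h5933 : ∀ u < 255119, (fun u => chkFix tab mwordsA u) u = true := ext_range (a := 255076) (len := 43) h5932 m2_5932
  have h5934 : ∀ u < 255162, (fun u => chkFix tab mwordsA u) u = true := ext_range (a := 255119) (len := 43) h5933 m2_5933
  have h5935 : ∀ u < 255205, (fun u => chkFix tab mwordsA u) u = true := ext_range (a := 255162) (len := 43) h5934 m2_5934
  have h5936 : ∀ u < 255248, (fun u => chkFix tab mwordsA u) u = true := ext_range (a := 255205) (len := 43) h5935 m2_5935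
  have h5937 : ∀ u < 255291, (fun u => chkFix tab mwordsA u) u = true := ext_range (a := 255248) (len := 43) h5936 m2_5936
  have h5938 : ∀ u < 255334, (fun u => chkFix tab mwordsA u) u = true := ext_range (a := 255291) (len := 43) h5937 m2_5937
  have h5939 : ∀ u < 255377, (fun u => chkFix tab mwordsA u) u = true := ext_range (a := 255334) (len := 43) h5938 m2_5938
  have h5940 : ∀ u < 255420, (fun u => chkFix tab mwordsA u) u = true := ext_range (a := 255377) (len := 43) h5939 m2_5939
  have h5941 : ∀ u < 255463, (fun u => chkFix tab mwordsA u) u = true := ext_range (a := 255420) (len := 43) h5940 m2_5940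
  have h5942 : ∀ u < 255506, (fun u => chkFix tab mwordsA u) u = true := ext_range (a := 255463) (len := 43) h5941 m2_5941
  have h5943 : ∀ u < 255549, (fun u => chkFix tab mwordsA u) u = true := ext_range (a := 255506) (len := 43) h5942 m2_5942
  have h5944 : ∀ u < 255592, (fun u => chkFix tab mwordsA u) u = true := ext_range (a := 255549) (len := 43) h5943 m2_5943
  have h5945 : ∀ u < 255635, (fun u => chkFix tab mwordsA u) u = true := ext_range (a := 255592) (len := 43) h5944 m2_5944
  have h5946 : ∀ u < 255678, (fun u => chkFix tab mwordsA u) u = true := ext_range (a := 255635) (len := 43) h5945 m2_5945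
  have h5947 : ∀ u < 255721, (fun u => chkFix tab mwordsA u) u = true := ext_range (a := 255678) (len := 43) h5946 m2_5946
  have h5948 : ∀ u < 255764, (fun u => chkFix tab mwordsA u) u = true := ext_range (a := 255721) (len := 43) h5947 m2_5947
  have h5949 : ∀ u < 255807, (fun u => chkFix tab mwordsA u) u = true := ext_range (a := 255764) (len := 43) h5948 m2_5948
  have h5950 : ∀ u < 255850, (fun u => chkFix tab mwordsA u) u = true := ext_range (a := 255807) (len := 43) h5949 m2_5949
  have h5951 : ∀ u < 255893, (fun u => chkFix tab mwordsA u) u = true := ext_range (a := 255850) (len := 43) h5950 m2_5950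
  have h5952 : ∀ u < 255936, (fun u => chkFix tab mwordsA u) u = true := ext_range (a := 255893) (len := 43) h5951 m2_5951
  have h5953 : ∀ u < 255979, (fun u => chkFix tab mwordsA u) u = true := ext_range (a := 255936) (len := 43) h5952 m2_5952
  have h5954 : ∀ u < 256022, (fun u => chkFix tab mwordsA u) u = true := ext_range (a := 255979) (len := 43) h5953 m2_5953
  have h5955 : ∀ u < 256065, (fun u => chkFix tab mwordsA u) u = true := ext_range (a := 256022) (len := 43) h5954 m2_5954
  have h5956 : ∀ u < 256108, (fun u => chkFix tab mwordsA u) u = true := ext_range (a := 256065) (len := 43) h5955 m2_5955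
  have h5957 : ∀ u < 256151, (fun u => chkFix tab mwordsA u) u = true := ext_range (a := 256108) (len := 43) h5956 m2_5956
  have h5958 : ∀ u < 256194, (fun u => chkFix tab mwordsA u) u = true := ext_range (a := 256151) (len := 43) h5957 m2_5957
  have h5959 : ∀ u < 256237, (fun u => chkFix tab mwordsA u) u = true := ext_range (a := 256194) (len := 43) h5958 m2_5958
  have h5960 : ∀ u < 256280, (fun u => chkFix tab mwordsA u) u = true := ext_range (a := 256237) (len := 43) h5959 m2_5959
  have h5961 : ∀ u < 256323, (fun u => chkFix tab mwordsA u) u = true := ext_range (a := 256280) (len := 43) h5960 m2_5960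
  have h5962 : ∀ u < 256366, (fun u => chkFix tab mwordsA u) u = true := ext_range (a := 256323) (len := 43) h5961 m2_5961
  have h5963 : ∀ u < 256409, (fun u => chkFix tab mwordsA u) u = true := ext_range (a := 256366) (len := 43) h5962 m2_5962
  have h5964 : ∀ u < 256452, (fun u => chkFix tab mwordsA u) u = true := ext_range (a := 256409) (len := 43) h5963 m2_5963
  have h5965 : ∀ u < 256495, (fun u => chkFix tab mwordsA u) u = true := ext_range (a := 256452) (len := 43) h5964 m2_5964
  have h5966 : ∀ u < 256538, (fun u => chkFix tab mwordsA u) u = true := ext_range (a := 256495) (len := 43) h5965 m2_5965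
  have h5967 : ∀ u < 256581, (fun u => chkFix tab mwordsA u) u = true := ext_range (a := 256538) (len := 43) h5966 m2_5966
  have h5968 : ∀ u < 256624, (fun u => chkFix tab mwordsA u) u = true := ext_range (a := 256581) (len := 43) h5967 m2_5967
  have h5969 : ∀ u < 256667, (fun u => chkFix tab mwordsA u) u = true := ext_range (a := 256624) (len := 43) h5968 m2_5968
  have h5970 : ∀ u < 256710, (fun u => chkFix tab mwordsA u) u = true := ext_range (a := 256667) (len := 43) h5969 m2_5969
  have h5971 : ∀ u < 256753, (fun u => chkFix tab mwordsA u) u = true := ext_range (a := 256710) (len := 43) h5970 m2_5970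
  have h5972 : ∀ u < 256796, (fun u => chkFix tab mwordsA u) u = true := ext_range (a := 256753) (len := 43) h5971 m2_5971
  have h5973 : ∀ u < 256839, (fun u => chkFix tab mwordsA u) u = true := ext_range (a := 256796) (len := 43) h5972 m2_5972
  have h5974 : ∀ u < 256882, (fun u => chkFix tab mwordsA u) u = true := ext_range (a := 256839) (len := 43) h5973 m2_5973
  have h5975 : ∀ u < 256925, (fun u => chkFix tab mwordsA u) u = true := ext_range (a := 256882) (len := 43) h5974 m2_5974
  have h5976 : ∀ u < 256968, (fun u => chkFix tab mwordsA u) u = true := ext_range (a := 256925) (len := 43) h5975 m2_5975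
  have h5977 : ∀ u < 257011, (fun u => chkFix tab mwordsA u) u = true := ext_range (a := 256968) (len := 43) h5976 m2_5976
  have h5978 : ∀ u < 257054, (fun u => chkFix tab mwordsA u) u = true := ext_range (a := 257011) (len := 43) h5977 m2_5977
  have h5979 : ∀ u < 257097, (fun u => chkFix tab mwordsA u) u = true := ext_range (a := 257054) (len := 43) h5978 m2_5978
  have h5980 : ∀ u < 257140, (fun u => chkFix tab mwordsA u) u = true := ext_range (a := 257097) (len := 43) h5979 m2_5979
  have h5981 : ∀ u < 257183, (fun u => chkFix tab mwordsA u) u = true := ext_range (a := 257140) (len := 43) h5980 m2_5980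
  have h5982 : ∀ u < 257226, (fun u => chkFix tab mwordsA u) u = true := ext_range (a := 257183) (len := 43) h5981 m2_5981
  have h5983 : ∀ u < 257269, (fun u => chkFix tab mwordsA u) u = true := ext_range (a := 257226) (len := 43) h5982 m2_5982
  have h5984 : ∀ u < 257312, (fun u => chkFix tab mwordsA u) u = true := ext_range (a := 257269) (len := 43) h5983 m2_5983
  have h5985 : ∀ u < 257355, (fun u => chkFix tab mwordsA u) u = true := ext_range (a := 257312) (len := 43) h5984 m2_5984
  have h5986 : ∀ u < 257398, (fun u => chkFix tab mwordsA u) u = true := ext_range (a := 257355) (len := 43) h5985 m2_5985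
  have h5987 : ∀ u < 257441, (fun u => chkFix tab mwordsA u) u = true := ext_range (a := 257398) (len := 43) h5986 m2_5986
  have h5988 : ∀ u < 257484, (fun u => chkFix tab mwordsA u) u = true := ext_range (a := 257441) (len := 43) h5987 m2_5987
  have h5989 : ∀ u < 257527, (fun u => chkFix tab mwordsA u) u = true := ext_range (a := 257484) (len := 43) h5988 m2_5988
  have h5990 : ∀ u < 257570, (fun u => chkFix tab mwordsA u) u = true := ext_range (a := 257527) (len := 43) h5989 m2_5989
  have h5991 : ∀ u < 257613, (fun u => chkFix tab mwordsA u) u = true := ext_range (a := 257570) (len := 43) h5990 m2_5990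
  have h5992 : ∀ u < 257656, (fun u => chkFix tab mwordsA u) u = true := ext_range (a := 257613) (len := 43) h5991 m2_5991
  have h5993 : ∀ u < 257699, (fun u => chkFix tab mwordsA u) u = true := ext_range (a := 257656) (len := 43) h5992 m2_5992
  have h5994 : ∀ u < 257742, (fun u => chkFix tab mwordsA u) u = true := ext_range (a := 257699) (len := 43) h5993 m2_5993
  have h5995 : ∀ u < 257785, (fun u => chkFix tab mwordsA u) u = true := ext_range (a := 257742) (len := 43) h5994 m2_5994
  have h5996 : ∀ u < 257828, (fun u => chkFix tab mwordsA u) u = true := ext_range (a := 257785) (len := 43) h5995 m2_5995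
  have h5997 : ∀ u < 257871, (fun u => chkFix tab mwordsA u) u = true := ext_range (a := 257828) (len := 43) h5996 m2_5996
  have h5998 : ∀ u < 257914, (fun u => chkFix tab mwordsA u) u = true := ext_range (a := 257871) (len := 43) h5997 m2_5997
  have h5999 : ∀ u < 257957, (fun u => chkFix tab mwordsA u) u = true := ext_range (a := 257914) (len := 43) h5998 m2_5998
  have h6000 : ∀ u < 258000, (fun u => chkFix tab mwordsA u) u = true := ext_range (a := 257957) (len := 43) h5999 m2_5999
  have h6001 : ∀ u < 258043, (fun u => chkFix tab mwordsA u) u = true := ext_range (a := 258000) (len := 43) h6000 m2_6000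
  have h6002 : ∀ u < 258086, (fun u => chkFix tab mwordsA u) u = true := ext_range (a := 258043) (len := 43) h6001 m2_6001
  have h6003 : ∀ u < 258129, (fun u => chkFix tab mwordsA u) u = true := ext_range (a := 258086) (len := 43) h6002 m2_6002
  have h6004 : ∀ u < 258172, (fun u => chkFix tab mwordsA u) u = true := ext_range (a := 258129) (len := 43) h6003 m2_6003
  have h6005 : ∀ u < 258215, (fun u => chkFix tab mwordsA u) u = true := ext_range (a := 258172) (len := 43) h6004 m2_6004
  have h6006 : ∀ u < 258258, (fun u => chkFix tab mwordsA u) u = true := ext_range (a := 258215) (len := 43) h6005 m2_6005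
  have h6007 : ∀ u < 258301, (fun u => chkFix tab mwordsA u) u = true := ext_range (a := 258258) (len := 43) h6006 m2_6006
  have h6008 : ∀ u < 258344, (fun u => chkFix tab mwordsA u) u = true := ext_range (a := 258301) (len := 43) h6007 m2_6007
  have h6009 : ∀ u < 258387, (fun u => chkFix tab mwordsA u) u = true := ext_range (a := 258344) (len := 43) h6008 m2_6008
  have h6010 : ∀ u < 258430, (fun u => chkFix tab mwordsA u) u = true := ext_range (a := 258387) (len := 43) h6009 m2_6009
  have h6011 : ∀ u < 258473, (fun u => chkFix tab mwordsA u) u = true := ext_range (a := 258430) (len := 43) h6010 m2_6010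
  have h6012 : ∀ u < 258516, (fun u => chkFix tab mwordsA u) u = true := ext_range (a := 258473) (len := 43) h6011 m2_6011
  have h6013 : ∀ u < 258559, (fun u => chkFix tab mwordsA u) u = true := ext_range (a := 258516) (len := 43) h6012 m2_6012
  have h6014 : ∀ u < 258602, (fun u => chkFix tab mwordsA u) u = true := ext_range (a := 258559) (len := 43) h6013 m2_6013
  have h6015 : ∀ u < 258645, (fun u => chkFix tab mwordsA u) u = true := ext_range (a := 258602) (len := 43) h6014 m2_6014
  have h6016 : ∀ u < 258688, (fun u => chkFix tab mwordsA u) u = true := ext_range (a := 258645) (len := 43) h6015 m2_6015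
  have h6017 : ∀ u < 258731, (fun u => chkFix tab mwordsA u) u = true := ext_range (a := 258688) (len := 43) h6016 m2_6016
  have h6018 : ∀ u < 258774, (fun u => chkFix tab mwordsA u) u = true := ext_range (a := 258731) (len := 43) h6017 m2_6017
  have h6019 : ∀ u < 258817, (fun u => chkFix tab mwordsA u) u = true := ext_range (a := 258774) (len := 43) h6018 m2_6018
  have h6020 : ∀ u < 258860, (fun u => chkFix tab mwordsA u) u = true := ext_range (a := 258817) (len := 43) h6019 m2_6019
  have h6021 : ∀ u < 258903, (fun u => chkFix tab mwordsA u) u = true := ext_range (a := 258860) (len := 43) h6020 m2_6020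
  have h6022 : ∀ u < 258946, (fun u => chkFix tab mwordsA u) u = true := ext_range (a := 258903) (len := 43) h6021 m2_6021
  have h6023 : ∀ u < 258989, (fun u => chkFix tab mwordsA u) u = true := ext_range (a := 258946) (len := 43) h6022 m2_6022
  have h6024 : ∀ u < 259032, (fun u => chkFix tab mwordsA u) u = true := ext_range (a := 258989) (len := 43) h6023 m2_6023
  have h6025 : ∀ u < 259075, (fun u => chkFix tab mwordsA u) u = true := ext_range (a := 259032) (len := 43) h6024 m2_6024
  have h6026 : ∀ u < 259118, (fun u => chkFix tab mwordsA u) u = true := ext_range (a := 259075) (len := 43) h6025 m2_6025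
  have h6027 : ∀ u < 259161, (fun u => chkFix tab mwordsA u) u = true := ext_range (a := 259118) (len := 43) h6026 m2_6026
  have h6028 : ∀ u < 259204, (fun u => chkFix tab mwordsA u) u = true := ext_range (a := 259161) (len := 43) h6027 m2_6027
  have h6029 : ∀ u < 259247, (fun u => chkFix tab mwordsA u) u = true := ext_range (a := 259204) (len := 43) h6028 m2_6028
  have h6030 : ∀ u < 259290, (fun u => chkFix tab mwordsA u) u = true := ext_range (a := 259247) (len := 43) h6029 m2_6029
  have h6031 : ∀ u < 259333, (fun u => chkFix tab mwordsA u) u = true := ext_range (a := 259290) (len := 43) h6030 m2_6030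
  have h6032 : ∀ u < 259376, (fun u => chkFix tab mwordsA u) u = true := ext_range (a := 259333) (len := 43) h6031 m2_6031
  have h6033 : ∀ u < 259419, (fun u => chkFix tab mwordsA u) u = true := ext_range (a := 259376) (len := 43) h6032 m2_6032
  have h6034 : ∀ u < 259462, (fun u => chkFix tab mwordsA u) u = true := ext_range (a := 259419) (len := 43) h6033 m2_6033
  have h6035 : ∀ u < 259505, (fun u => chkFix tab mwordsA u) u = true := ext_range (a := 259462) (len := 43) h6034 m2_6034
  have h6036 : ∀ u < 259548, (fun u => chkFix tab mwordsA u) u = true := ext_range (a := 259505) (len := 43) h6035 m2_6035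
  have h6037 : ∀ u < 259591, (fun u => chkFix tab mwordsA u) u = true := ext_range (a := 259548) (len := 43) h6036 m2_6036
  have h6038 : ∀ u < 259634, (fun u => chkFix tab mwordsA u) u = true := ext_range (a := 259591) (len := 43) h6037 m2_6037
  have h6039 : ∀ u < 259677, (fun u => chkFix tab mwordsA u) u = true := ext_range (a := 259634) (len := 43) h6038 m2_6038
  have h6040 : ∀ u < 259720, (fun u => chkFix tab mwordsA u) u = true := ext_range (a := 259677) (len := 43) h6039 m2_6039
  have h6041 : ∀ u < 259763, (fun u => chkFix tab mwordsA u) u = true := ext_range (a := 259720) (len := 43) h6040 m2_6040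
  have h6042 : ∀ u < 259806, (fun u => chkFix tab mwordsA u) u = true := ext_range (a := 259763) (len := 43) h6041 m2_6041
  have h6043 : ∀ u < 259849, (fun u => chkFix tab mwordsA u) u = true := ext_range (a := 259806) (len := 43) h6042 m2_6042
  have h6044 : ∀ u < 259892, (fun u => chkFix tab mwordsA u) u = true := ext_range (a := 259849) (len := 43) h6043 m2_6043
  have h6045 : ∀ u < 259935, (fun u => chkFix tab mwordsA u) u = true := ext_range (a := 259892) (len := 43) h6044 m2_6044
  have h6046 : ∀ u < 259978, (fun u => chkFix tab mwordsA u) u = true := ext_range (a := 259935) (len := 43) h6045 m2_6045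
  have h6047 : ∀ u < 260021, (fun u => chkFix tab mwordsA u) u = true := ext_range (a := 259978) (len := 43) h6046 m2_6046
  have h6048 : ∀ u < 260064, (fun u => chkFix tab mwordsA u) u = true := ext_range (a := 260021) (len := 43) h6047 m2_6047
  have h6049 : ∀ u < 260107, (fun u => chkFix tab mwordsA u) u = true := ext_range (a := 260064) (len := 43) h6048 m2_6048
  have h6050 : ∀ u < 260150, (fun u => chkFix tab mwordsA u) u = true := ext_range (a := 260107) (len := 43) h6049 m2_6049
  have h6051 : ∀ u < 260193, (fun u => chkFix tab mwordsA u) u = true := ext_range (a := 260150) (len := 43) h6050 m2_6050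
  have h6052 : ∀ u < 260236, (fun u => chkFix tab mwordsA u) u = true := ext_range (a := 260193) (len := 43) h6051 m2_6051
  have h6053 : ∀ u < 260279, (fun u => chkFix tab mwordsA u) u = true := ext_range (a := 260236) (len := 43) h6052 m2_6052
  have h6054 : ∀ u < 260322, (fun u => chkFix tab mwordsA u) u = true := ext_range (a := 260279) (len := 43) h6053 m2_6053
  have h6055 : ∀ u < 260365, (fun u => chkFix tab mwordsA u) u = true := ext_range (a := 260322) (len := 43) h6054 m2_6054
  have h6056 : ∀ u < 260408, (fun u => chkFix tab mwordsA u) u = true := ext_range (a := 260365) (len := 43) h6055 m2_6055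
  have h6057 : ∀ u < 260451, (fun u => chkFix tab mwordsA u) u = true := ext_range (a := 260408) (len := 43) h6056 m2_6056
  have h6058 : ∀ u < 260494, (fun u => chkFix tab mwordsA u) u = true := ext_range (a := 260451) (len := 43) h6057 m2_6057
  have h6059 : ∀ u < 260537, (fun u => chkFix tab mwordsA u) u = true := ext_range (a := 260494) (len := 43) h6058 m2_6058
  have h6060 : ∀ u < 260580, (fun u => chkFix tab mwordsA u) u = true := ext_range (a := 260537) (len := 43) h6059 m2_6059
  have h6061 : ∀ u < 260623, (fun u => chkFix tab mwordsA u) u = true := ext_range (a := 260580) (len := 43) h6060 m2_6060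
  have h6062 : ∀ u < 260666, (fun u => chkFix tab mwordsA u) u = true := ext_range (a := 260623) (len := 43) h6061 m2_6061
  have h6063 : ∀ u < 260709, (fun u => chkFix tab mwordsA u) u = true := ext_range (a := 260666) (len := 43) h6062 m2_6062
  have h6064 : ∀ u < 260752, (fun u => chkFix tab mwordsA u) u = true := ext_range (a := 260709) (len := 43) h6063 m2_6063
  have h6065 : ∀ u < 260795, (fun u => chkFix tab mwordsA u) u = true := ext_range (a := 260752) (len := 43) h6064 m2_6064
  have h6066 : ∀ u < 260838, (fun u => chkFix tab mwordsA u) u = true := ext_range (a := 260795) (len := 43) h6065 m2_6065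
  have h6067 : ∀ u < 260881, (fun u => chkFix tab mwordsA u) u = true := ext_range (a := 260838) (len := 43) h6066 m2_6066
  have h6068 : ∀ u < 260924, (fun u => chkFix tab mwordsA u) u = true := ext_range (a := 260881) (len := 43) h6067 m2_6067
  have h6069 : ∀ u < 260967, (fun u => chkFix tab mwordsA u) u = true := ext_range (a := 260924) (len := 43) h6068 m2_6068
  have h6070 : ∀ u < 261010, (fun u => chkFix tab mwordsA u) u = true := ext_range (a := 260967) (len := 43) h6069 m2_6069
  have h6071 : ∀ u < 261053, (fun u => chkFix tab mwordsA u) u = true := ext_range (a := 261010) (len := 43) h6070 m2_6070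
  have h6072 : ∀ u < 261096, (fun u => chkFix tab mwordsA u) u = true := ext_range (a := 261053) (len := 43) h6071 m2_6071
  have h6073 : ∀ u < 261139, (fun u => chkFix tab mwordsA u) u = true := ext_range (a := 261096) (len := 43) h6072 m2_6072
  have h6074 : ∀ u < 261182, (fun u => chkFix tab mwordsA u) u = true := ext_range (a := 261139) (len := 43) h6073 m2_6073
  have h6075 : ∀ u < 261225, (fun u => chkFix tab mwordsA u) u = true := ext_range (a := 261182) (len := 43) h6074 m2_6074
  have h6076 : ∀ u < 261268, (fun u => chkFix tab mwordsA u) u = true := ext_range (a := 261225) (len := 43) h6075 m2_6075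
  have h6077 : ∀ u < 261311, (fun u => chkFix tab mwordsA u) u = true := ext_range (a := 261268) (len := 43) h6076 m2_6076
  have h6078 : ∀ u < 261354, (fun u => chkFix tab mwordsA u) u = true := ext_range (a := 261311) (len := 43) h6077 m2_6077
  have h6079 : ∀ u < 261397, (fun u => chkFix tab mwordsA u) u = true := ext_range (a := 261354) (len := 43) h6078 m2_6078
  have h6080 : ∀ u < 261440, (fun u => chkFix tab mwordsA u) u = true := ext_range (a := 261397) (len := 43) h6079 m2_6079
  have h6081 : ∀ u < 261483, (fun u => chkFix tab mwordsA u) u = true := ext_range (a := 261440) (len := 43) h6080 m2_6080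
  have h6082 : ∀ u < 261526, (fun u => chkFix tab mwordsA u) u = true := ext_range (a := 261483) (len := 43) h6081 m2_6081
  have h6083 : ∀ u < 261569, (fun u => chkFix tab mwordsA u) u = true := ext_range (a := 261526) (len := 43) h6082 m2_6082
  have h6084 : ∀ u < 261612, (fun u => chkFix tab mwordsA u) u = true := ext_range (a := 261569) (len := 43) h6083 m2_6083
  have h6085 : ∀ u < 261655, (fun u => chkFix tab mwordsA u) u = true := ext_range (a := 261612) (len := 43) h6084 m2_6084
  have h6086 : ∀ u < 261698, (fun u => chkFix tab mwordsA u) u = true := ext_range (a := 261655) (len := 43) h6085 m2_6085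
  have h6087 : ∀ u < 261741, (fun u => chkFix tab mwordsA u) u = true := ext_range (a := 261698) (len := 43) h6086 m2_6086
  have h6088 : ∀ u < 261784, (fun u => chkFix tab mwordsA u) u = true := ext_range (a := 261741) (len := 43) h6087 m2_6087
  have h6089 : ∀ u < 261827, (fun u => chkFix tab mwordsA u) u = true := ext_range (a := 261784) (len := 43) h6088 m2_6088
  have h6090 : ∀ u < 261870, (fun u => chkFix tab mwordsA u) u = true := ext_range (a := 261827) (len := 43) h6089 m2_6089
  have h6091 : ∀ u < 261913, (fun u => chkFix tab mwordsA u) u = true := ext_range (a := 261870) (len := 43) h6090 m2_6090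
  have h6092 : ∀ u < 261956, (fun u => chkFix tab mwordsA u) u = true := ext_range (a := 261913) (len := 43) h6091 m2_6091
  have h6093 : ∀ u < 261999, (fun u => chkFix tab mwordsA u) u = true := ext_range (a := 261956) (len := 43) h6092 m2_6092
  have h6094 : ∀ u < 262042, (fun u => chkFix tab mwordsA u) u = true := ext_range (a := 261999) (len := 43) h6093 m2_6093
  have h6095 : ∀ u < 262085, (fun u => chkFix tab mwordsA u) u = true := ext_range (a := 262042) (len := 43) h6094 m2_6094
  have h6096 : ∀ u < 262128, (fun u => chkFix tab mwordsA u) u = true := ext_range (a := 262085) (len := 43) h6095 m2_6095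
  have h6097 : ∀ u < 262171, (fun u => chkFix tab mwordsA u) u = true := ext_range (a := 262128) (len := 43) h6096 m2_6096
  have h6098 : ∀ u < 262214, (fun u => chkFix tab mwordsA u) u = true := ext_range (a := 262171) (len := 43) h6097 m2_6097
  have h6099 : ∀ u < 262257, (fun u => chkFix tab mwordsA u) u = true := ext_range (a := 262214) (len := 43) h6098 m2_6098
  have h6100 : ∀ u < 262300, (fun u => chkFix tab mwordsA u) u = true := ext_range (a := 262257) (len := 43) h6099 m2_6099
  have h6101 : ∀ u < 262343, (fun u => chkFix tab mwordsA u) u = true := ext_range (a := 262300) (len := 43) h6100 m2_6100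
  have h6102 : ∀ u < 262386, (fun u => chkFix tab mwordsA u) u = true := ext_range (a := 262343) (len := 43) h6101 m2_6101
  have h6103 : ∀ u < 262429, (fun u => chkFix tab mwordsA u) u = true := ext_range (a := 262386) (len := 43) h6102 m2_6102
  have h6104 : ∀ u < 262472, (fun u => chkFix tab mwordsA u) u = true := ext_range (a := 262429) (len := 43) h6103 m2_6103
  have h6105 : ∀ u < 262515, (fun u => chkFix tab mwordsA u) u = true := ext_range (a := 262472) (len := 43) h6104 m2_6104
  have h6106 : ∀ u < 262558, (fun u => chkFix tab mwordsA u) u = true := ext_range (a := 262515) (len := 43) h6105 m2_6105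
  have h6107 : ∀ u < 262601, (fun u => chkFix tab mwordsA u) u = true := ext_range (a := 262558) (len := 43) h6106 m2_6106
  have h6108 : ∀ u < 262644, (fun u => chkFix tab mwordsA u) u = true := ext_range (a := 262601) (len := 43) h6107 m2_6107
  have h6109 : ∀ u < 262687, (fun u => chkFix tab mwordsA u) u = true := ext_range (a := 262644) (len := 43) h6108 m2_6108
  have h6110 : ∀ u < 262730, (fun u => chkFix tab mwordsA u) u = true := ext_range (a := 262687) (len := 43) h6109 m2_6109
  have h6111 : ∀ u < 262773, (fun u => chkFix tab mwordsA u) u = true := ext_range (a := 262730) (len := 43) h6110 m2_6110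
  have h6112 : ∀ u < 262816, (fun u => chkFix tab mwordsA u) u = true := ext_range (a := 262773) (len := 43) h6111 m2_6111
  have h6113 : ∀ u < 262859, (fun u => chkFix tab mwordsA u) u = true := ext_range (a := 262816) (len := 43) h6112 m2_6112
  have h6114 : ∀ u < 262902, (fun u => chkFix tab mwordsA u) u = true := ext_range (a := 262859) (len := 43) h6113 m2_6113
  have h6115 : ∀ u < 262945, (fun u => chkFix tab mwordsA u) u = true := ext_range (a := 262902) (len := 43) h6114 m2_6114
  have h6116 : ∀ u < 262988, (fun u => chkFix tab mwordsA u) u = true := ext_range (a := 262945) (len := 43) h6115 m2_6115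
  have h6117 : ∀ u < 263031, (fun u => chkFix tab mwordsA u) u = true := ext_range (a := 262988) (len := 43) h6116 m2_6116
  have h6118 : ∀ u < 263074, (fun u => chkFix tab mwordsA u) u = true := ext_range (a := 263031) (len := 43) h6117 m2_6117
  have h6119 : ∀ u < 263117, (fun u => chkFix tab mwordsA u) u = true := ext_range (a := 263074) (len := 43) h6118 m2_6118
  have h6120 : ∀ u < 263160, (fun u => chkFix tab mwordsA u) u = true := ext_range (a := 263117) (len := 43) h6119 m2_6119
  have h6121 : ∀ u < 263203, (fun u => chkFix tab mwordsA u) u = true := ext_range (a := 263160) (len := 43) h6120 m2_6120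
  have h6122 : ∀ u < 263246, (fun u => chkFix tab mwordsA u) u = true := ext_range (a := 263203) (len := 43) h6121 m2_6121
  have h6123 : ∀ u < 263289, (fun u => chkFix tab mwordsA u) u = true := ext_range (a := 263246) (len := 43) h6122 m2_6122
  have h6124 : ∀ u < 263332, (fun u => chkFix tab mwordsA u) u = true := ext_range (a := 263289) (len := 43) h6123 m2_6123
  have h6125 : ∀ u < 263375, (fun u => chkFix tab mwordsA u) u = true := ext_range (a := 263332) (len := 43) h6124 m2_6124
  have h6126 : ∀ u < 263418, (fun u => chkFix tab mwordsA u) u = true := ext_range (a := 263375) (len := 43) h6125 m2_6125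
  have h6127 : ∀ u < 263461, (fun u => chkFix tab mwordsA u) u = true := ext_range (a := 263418) (len := 43) h6126 m2_6126
  have h6128 : ∀ u < 263504, (fun u => chkFix tab mwordsA u) u = true := ext_range (a := 263461) (len := 43) h6127 m2_6127
  have h6129 : ∀ u < 263547, (fun u => chkFix tab mwordsA u) u = true := ext_range (a := 263504) (len := 43) h6128 m2_6128
  have h6130 : ∀ u < 263590, (fun u => chkFix tab mwordsA u) u = true := ext_range (a := 263547) (len := 43) h6129 m2_6129
  have h6131 : ∀ u < 263633, (fun u => chkFix tab mwordsA u) u = true := ext_range (a := 263590) (len := 43) h6130 m2_6130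
  have h6132 : ∀ u < 263676, (fun u => chkFix tab mwordsA u) u = true := ext_range (a := 263633) (len := 43) h6131 m2_6131
  have h6133 : ∀ u < 263719, (fun u => chkFix tab mwordsA u) u = true := ext_range (a := 263676) (len := 43) h6132 m2_6132
  have h6134 : ∀ u < 263762, (fun u => chkFix tab mwordsA u) u = true := ext_range (a := 263719) (len := 43) h6133 m2_6133
  have h6135 : ∀ u < 263805, (fun u => chkFix tab mwordsA u) u = true := ext_range (a := 263762) (len := 43) h6134 m2_6134
  have h6136 : ∀ u < 263848, (fun u => chkFix tab mwordsA u) u = true := ext_range (a := 263805) (len := 43) h6135 m2_6135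
  have h6137 : ∀ u < 263891, (fun u => chkFix tab mwordsA u) u = true := ext_range (a := 263848) (len := 43) h6136 m2_6136
  have h6138 : ∀ u < 263934, (fun u => chkFix tab mwordsA u) u = true := ext_range (a := 263891) (len := 43) h6137 m2_6137
  have h6139 : ∀ u < 263977, (fun u => chkFix tab mwordsA u) u = true := ext_range (a := 263934) (len := 43) h6138 m2_6138
  have h6140 : ∀ u < 264020, (fun u => chkFix tab mwordsA u) u = true := ext_range (a := 263977) (len := 43) h6139 m2_6139
  have h6141 : ∀ u < 264063, (fun u => chkFix tab mwordsA u) u = true := ext_range (a := 264020) (len := 43) h6140 m2_6140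
  have h6142 : ∀ u < 264106, (fun u => chkFix tab mwordsA u) u = true := ext_range (a := 264063) (len := 43) h6141 m2_6141
  have h6143 : ∀ u < 264149, (fun u => chkFix tab mwordsA u) u = true := ext_range (a := 264106) (len := 43) h6142 m2_6142
  have h6144 : ∀ u < 264192, (fun u => chkFix tab mwordsA u) u = true := ext_range (a := 264149) (len := 43) h6143 m2_6143
  have h6145 : ∀ u < 264235, (fun u => chkFix tab mwordsA u) u = true := ext_range (a := 264192) (len := 43) h6144 m2_6144
  have h6146 : ∀ u < 264278, (fun u => chkFix tab mwordsA u) u = true := ext_range (a := 264235) (len := 43) h6145 m2_6145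
  have h6147 : ∀ u < 264321, (fun u => chkFix tab mwordsA u) u = true := ext_range (a := 264278) (len := 43) h6146 m2_6146
  have h6148 : ∀ u < 264364, (fun u => chkFix tab mwordsA u) u = true := ext_range (a := 264321) (len := 43) h6147 m2_6147
  have h6149 : ∀ u < 264407, (fun u => chkFix tab mwordsA u) u = true := ext_range (a := 264364) (len := 43) h6148 m2_6148
  have h6150 : ∀ u < 264450, (fun u => chkFix tab mwordsA u) u = true := ext_range (a := 264407) (len := 43) h6149 m2_6149
  have h6151 : ∀ u < 264493, (fun u => chkFix tab mwordsA u) u = true := ext_range (a := 264450) (len := 43) h6150 m2_6150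
  have h6152 : ∀ u < 264536, (fun u => chkFix tab mwordsA u) u = true := ext_range (a := 264493) (len := 43) h6151 m2_6151
  have h6153 : ∀ u < 264579, (fun u => chkFix tab mwordsA u) u = true := ext_range (a := 264536) (len := 43) h6152 m2_6152
  have h6154 : ∀ u < 264622, (fun u => chkFix tab mwordsA u) u = true := ext_range (a := 264579) (len := 43) h6153 m2_6153
  have h6155 : ∀ u < 264665, (fun u => chkFix tab mwordsA u) u = true := ext_range (a := 264622) (len := 43) h6154 m2_6154
  have h6156 : ∀ u < 264708, (fun u => chkFix tab mwordsA u) u = true := ext_range (a := 264665) (len := 43) h6155 m2_6155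
  have h6157 : ∀ u < 264751, (fun u => chkFix tab mwordsA u) u = true := ext_range (a := 264708) (len := 43) h6156 m2_6156
  have h6158 : ∀ u < 264794, (fun u => chkFix tab mwordsA u) u = true := ext_range (a := 264751) (len := 43) h6157 m2_6157
  have h6159 : ∀ u < 264837, (fun u => chkFix tab mwordsA u) u = true := ext_range (a := 264794) (len := 43) h6158 m2_6158
  have h6160 : ∀ u < 264880, (fun u => chkFix tab mwordsA u) u = true := ext_range (a := 264837) (len := 43) h6159 m2_6159
  have h6161 : ∀ u < 264923, (fun u => chkFix tab mwordsA u) u = true := ext_range (a := 264880) (len := 43) h6160 m2_6160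
  have h6162 : ∀ u < 264966, (fun u => chkFix tab mwordsA u) u = true := ext_range (a := 264923) (len := 43) h6161 m2_6161
  have h6163 : ∀ u < 265009, (fun u => chkFix tab mwordsA u) u = true := ext_range (a := 264966) (len := 43) h6162 m2_6162
  have h6164 : ∀ u < 265052, (fun u => chkFix tab mwordsA u) u = true := ext_range (a := 265009) (len := 43) h6163 m2_6163
  have h6165 : ∀ u < 265095, (fun u => chkFix tab mwordsA u) u = true := ext_range (a := 265052) (len := 43) h6164 m2_6164
  have h6166 : ∀ u < 265138, (fun u => chkFix tab mwordsA u) u = true := ext_range (a := 265095) (len := 43) h6165 m2_6165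
  have h6167 : ∀ u < 265181, (fun u => chkFix tab mwordsA u) u = true := ext_range (a := 265138) (len := 43) h6166 m2_6166
  have h6168 : ∀ u < 265224, (fun u => chkFix tab mwordsA u) u = true := ext_range (a := 265181) (len := 43) h6167 m2_6167
  have h6169 : ∀ u < 265267, (fun u => chkFix tab mwordsA u) u = true := ext_range (a := 265224) (len := 43) h6168 m2_6168
  have h6170 : ∀ u < 265310, (fun u => chkFix tab mwordsA u) u = true := ext_range (a := 265267) (len := 43) h6169 m2_6169
  have h6171 : ∀ u < 265353, (fun u => chkFix tab mwordsA u) u = true := ext_range (a := 265310) (len := 43) h6170 m2_6170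
  have h6172 : ∀ u < 265396, (fun u => chkFix tab mwordsA u) u = true := ext_range (a := 265353) (len := 43) h6171 m2_6171
  have h6173 : ∀ u < 265439, (fun u => chkFix tab mwordsA u) u = true := ext_range (a := 265396) (len := 43) h6172 m2_6172
  have h6174 : ∀ u < 265482, (fun u => chkFix tab mwordsA u) u = true := ext_range (a := 265439) (len := 43) h6173 m2_6173
  have h6175 : ∀ u < 265525, (fun u => chkFix tab mwordsA u) u = true := ext_range (a := 265482) (len := 43) h6174 m2_6174
  have h6176 : ∀ u < 265568, (fun u => chkFix tab mwordsA u) u = true := ext_range (a := 265525) (len := 43) h6175 m2_6175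
  have h6177 : ∀ u < 265611, (fun u => chkFix tab mwordsA u) u = true := ext_range (a := 265568) (len := 43) h6176 m2_6176
  have h6178 : ∀ u < 265654, (fun u => chkFix tab mwordsA u) u = true := ext_range (a := 265611) (len := 43) h6177 m2_6177
  have h6179 : ∀ u < 265697, (fun u => chkFix tab mwordsA u) u = true := ext_range (a := 265654) (len := 43) h6178 m2_6178
  have h6180 : ∀ u < 265740, (fun u => chkFix tab mwordsA u) u = true := ext_range (a := 265697) (len := 43) h6179 m2_6179
  have h6181 : ∀ u < 265783, (fun u => chkFix tab mwordsA u) u = true := ext_range (a := 265740) (len := 43) h6180 m2_6180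
  have h6182 : ∀ u < 265826, (fun u => chkFix tab mwordsA u) u = true := ext_range (a := 265783) (len := 43) h6181 m2_6181
  have h6183 : ∀ u < 265869, (fun u => chkFix tab mwordsA u) u = true := ext_range (a := 265826) (len := 43) h6182 m2_6182
  have h6184 : ∀ u < 265912, (fun u => chkFix tab mwordsA u) u = true := ext_range (a := 265869) (len := 43) h6183 m2_6183
  have h6185 : ∀ u < 265955, (fun u => chkFix tab mwordsA u) u = true := ext_range (a := 265912) (len := 43) h6184 m2_6184
  have h6186 : ∀ u < 265998, (fun u => chkFix tab mwordsA u) u = true := ext_range (a := 265955) (len := 43) h6185 m2_6185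
  have h6187 : ∀ u < 266041, (fun u => chkFix tab mwordsA u) u = true := ext_range (a := 265998) (len := 43) h6186 m2_6186
  have h6188 : ∀ u < 266084, (fun u => chkFix tab mwordsA u) u = true := ext_range (a := 266041) (len := 43) h6187 m2_6187
  have h6189 : ∀ u < 266127, (fun u => chkFix tab mwordsA u) u = true := ext_range (a := 266084) (len := 43) h6188 m2_6188
  have h6190 : ∀ u < 266170, (fun u => chkFix tab mwordsA u) u = true := ext_range (a := 266127) (len := 43) h6189 m2_6189
  have h6191 : ∀ u < 266213, (fun u => chkFix tab mwordsA u) u = true := ext_range (a := 266170) (len := 43) h6190 m2_6190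
  have h6192 : ∀ u < 266256, (fun u => chkFix tab mwordsA u) u = true := ext_range (a := 266213) (len := 43) h6191 m2_6191
  have h6193 : ∀ u < 266299, (fun u => chkFix tab mwordsA u) u = true := ext_range (a := 266256) (len := 43) h6192 m2_6192
  have h6194 : ∀ u < 266342, (fun u => chkFix tab mwordsA u) u = true := ext_range (a := 266299) (len := 43) h6193 m2_6193
  have h6195 : ∀ u < 266385, (fun u => chkFix tab mwordsA u) u = true := ext_range (a := 266342) (len := 43) h6194 m2_6194
  have h6196 : ∀ u < 266428, (fun u => chkFix tab mwordsA u) u = true := ext_range (a := 266385) (len := 43) h6195 m2_6195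
  have h6197 : ∀ u < 266471, (fun u => chkFix tab mwordsA u) u = true := ext_range (a := 266428) (len := 43) h6196 m2_6196
  have h6198 : ∀ u < 266514, (fun u => chkFix tab mwordsA u) u = true := ext_range (a := 266471) (len := 43) h6197 m2_6197
  have h6199 : ∀ u < 266557, (fun u => chkFix tab mwordsA u) u = true := ext_range (a := 266514) (len := 43) h6198 m2_6198
  have h6200 : ∀ u < 266600, (fun u => chkFix tab mwordsA u) u = true := ext_range (a := 266557) (len := 43) h6199 m2_6199
  have h6201 : ∀ u < 266643, (fun u => chkFix tab mwordsA u) u = true := ext_range (a := 266600) (len := 43) h6200 m2_6200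
  have h6202 : ∀ u < 266686, (fun u => chkFix tab mwordsA u) u = true := ext_range (a := 266643) (len := 43) h6201 m2_6201
  have h6203 : ∀ u < 266729, (fun u => chkFix tab mwordsA u) u = true := ext_range (a := 266686) (len := 43) h6202 m2_6202
  have h6204 : ∀ u < 266772, (fun u => chkFix tab mwordsA u) u = true := ext_range (a := 266729) (len := 43) h6203 m2_6203
  have h6205 : ∀ u < 266815, (fun u => chkFix tab mwordsA u) u = true := ext_range (a := 266772) (len := 43) h6204 m2_6204
  have h6206 : ∀ u < 266858, (fun u => chkFix tab mwordsA u) u = true := ext_range (a := 266815) (len := 43) h6205 m2_6205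
  have h6207 : ∀ u < 266901, (fun u => chkFix tab mwordsA u) u = true := ext_range (a := 266858) (len := 43) h6206 m2_6206
  have h6208 : ∀ u < 266944, (fun u => chkFix tab mwordsA u) u = true := ext_range (a := 266901) (len := 43) h6207 m2_6207
  have h6209 : ∀ u < 266987, (fun u => chkFix tab mwordsA u) u = true := ext_range (a := 266944) (len := 43) h6208 m2_6208
  have h6210 : ∀ u < 267030, (fun u => chkFix tab mwordsA u) u = true := ext_range (a := 266987) (len := 43) h6209 m2_6209
  have h6211 : ∀ u < 267073, (fun u => chkFix tab mwordsA u) u = true := ext_range (a := 267030) (len := 43) h6210 m2_6210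
  have h6212 : ∀ u < 267116, (fun u => chkFix tab mwordsA u) u = true := ext_range (a := 267073) (len := 43) h6211 m2_6211
  have h6213 : ∀ u < 267159, (fun u => chkFix tab mwordsA u) u = true := ext_range (a := 267116) (len := 43) h6212 m2_6212
  have h6214 : ∀ u < 267202, (fun u => chkFix tab mwordsA u) u = true := ext_range (a := 267159) (len := 43) h6213 m2_6213
  have h6215 : ∀ u < 267245, (fun u => chkFix tab mwordsA u) u = true := ext_range (a := 267202) (len := 43) h6214 m2_6214
  have h6216 : ∀ u < 267288, (fun u => chkFix tab mwordsA u) u = true := ext_range (a := 267245) (len := 43) h6215 m2_6215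
  have h6217 : ∀ u < 267331, (fun u => chkFix tab mwordsA u) u = true := ext_range (a := 267288) (len := 43) h6216 m2_6216
  have h6218 : ∀ u < 267374, (fun u => chkFix tab mwordsA u) u = true := ext_range (a := 267331) (len := 43) h6217 m2_6217
  have h6219 : ∀ u < 267417, (fun u => chkFix tab mwordsA u) u = true := ext_range (a := 267374) (len := 43) h6218 m2_6218
  have h6220 : ∀ u < 267460, (fun u => chkFix tab mwordsA u) u = true := ext_range (a := 267417) (len := 43) h6219 m2_6219
  have h6221 : ∀ u < 267503, (fun u => chkFix tab mwordsA u) u = true := ext_range (a := 267460) (len := 43) h6220 m2_6220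
  have h6222 : ∀ u < 267546, (fun u => chkFix tab mwordsA u) u = true := ext_range (a := 267503) (len := 43) h6221 m2_6221
  have h6223 : ∀ u < 267589, (fun u => chkFix tab mwordsA u) u = true := ext_range (a := 267546) (len := 43) h6222 m2_6222
  have h6224 : ∀ u < 267632, (fun u => chkFix tab mwordsA u) u = true := ext_range (a := 267589) (len := 43) h6223 m2_6223
  have h6225 : ∀ u < 267675, (fun u => chkFix tab mwordsA u) u = true := ext_range (a := 267632) (len := 43) h6224 m2_6224
  have h6226 : ∀ u < 267718, (fun u => chkFix tab mwordsA u) u = true := ext_range (a := 267675) (len := 43) h6225 m2_6225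
  have h6227 : ∀ u < 267761, (fun u => chkFix tab mwordsA u) u = true := ext_range (a := 267718) (len := 43) h6226 m2_6226
  have h6228 : ∀ u < 267804, (fun u => chkFix tab mwordsA u) u = true := ext_range (a := 267761) (len := 43) h6227 m2_6227
  have h6229 : ∀ u < 267847, (fun u => chkFix tab mwordsA u) u = true := ext_range (a := 267804) (len := 43) h6228 m2_6228
  have h6230 : ∀ u < 267890, (fun u => chkFix tab mwordsA u) u = true := ext_range (a := 267847) (len := 43) h6229 m2_6229
  have h6231 : ∀ u < 267933, (fun u => chkFix tab mwordsA u) u = true := ext_range (a := 267890) (len := 43) h6230 m2_6230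
  have h6232 : ∀ u < 267976, (fun u => chkFix tab mwordsA u) u = true := ext_range (a := 267933) (len := 43) h6231 m2_6231
  have h6233 : ∀ u < 268019, (fun u => chkFix tab mwordsA u) u = true := ext_range (a := 267976) (len := 43) h6232 m2_6232
  have h6234 : ∀ u < 268062, (fun u => chkFix tab mwordsA u) u = true := ext_range (a := 268019) (len := 43) h6233 m2_6233
  have h6235 : ∀ u < 268105, (fun u => chkFix tab mwordsA u) u = true := ext_range (a := 268062) (len := 43) h6234 m2_6234
  have h6236 : ∀ u < 268148, (fun u => chkFix tab mwordsA u) u = true := ext_range (a := 268105) (len := 43) h6235 m2_6235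
  have h6237 : ∀ u < 268191, (fun u => chkFix tab mwordsA u) u = true := ext_range (a := 268148) (len := 43) h6236 m2_6236
  have h6238 : ∀ u < 268234, (fun u => chkFix tab mwordsA u) u = true := ext_range (a := 268191) (len := 43) h6237 m2_6237
  have h6239 : ∀ u < 268277, (fun u => chkFix tab mwordsA u) u = true := ext_range (a := 268234) (len := 43) h6238 m2_6238
  have h6240 : ∀ u < 268320, (fun u => chkFix tab mwordsA u) u = true := ext_range (a := 268277) (len := 43) h6239 m2_6239
  have h6241 : ∀ u < 268363, (fun u => chkFix tab mwordsA u) u = true := ext_range (a := 268320) (len := 43) h6240 m2_6240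
  have h6242 : ∀ u < 268406, (fun u => chkFix tab mwordsA u) u = true := ext_range (a := 268363) (len := 43) h6241 m2_6241
  have h6243 : ∀ u < 268449, (fun u => chkFix tab mwordsA u) u = true := ext_range (a := 268406) (len := 43) h6242 m2_6242
  have h6244 : ∀ u < 268492, (fun u => chkFix tab mwordsA u) u = true := ext_range (a := 268449) (len := 43) h6243 m2_6243
  have h6245 : ∀ u < 268535, (fun u => chkFix tab mwordsA u) u = true := ext_range (a := 268492) (len := 43) h6244 m2_6244
  have h6246 : ∀ u < 268578, (fun u => chkFix tab mwordsA u) u = true := ext_range (a := 268535) (len := 43) h6245 m2_6245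
  have h6247 : ∀ u < 268621, (fun u => chkFix tab mwordsA u) u = true := ext_range (a := 268578) (len := 43) h6246 m2_6246
  have h6248 : ∀ u < 268664, (fun u => chkFix tab mwordsA u) u = true := ext_range (a := 268621) (len := 43) h6247 m2_6247
  have h6249 : ∀ u < 268707, (fun u => chkFix tab mwordsA u) u = true := ext_range (a := 268664) (len := 43) h6248 m2_6248
  have h6250 : ∀ u < 268750, (fun u => chkFix tab mwordsA u) u = true := ext_range (a := 268707) (len := 43) h6249 m2_6249
  have h6251 : ∀ u < 268793, (fun u => chkFix tab mwordsA u) u = true := ext_range (a := 268750) (len := 43) h6250 m2_6250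
  have h6252 : ∀ u < 268836, (fun u => chkFix tab mwordsA u) u = true := ext_range (a := 268793) (len := 43) h6251 m2_6251
  have h6253 : ∀ u < 268879, (fun u => chkFix tab mwordsA u) u = true := ext_range (a := 268836) (len := 43) h6252 m2_6252
  have h6254 : ∀ u < 268922, (fun u => chkFix tab mwordsA u) u = true := ext_range (a := 268879) (len := 43) h6253 m2_6253
  have h6255 : ∀ u < 268965, (fun u => chkFix tab mwordsA u) u = true := ext_range (a := 268922) (len := 43) h6254 m2_6254
  have h6256 : ∀ u < 269008, (fun u => chkFix tab mwordsA u) u = true := ext_range (a := 268965) (len := 43) h6255 m2_6255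
  have h6257 : ∀ u < 269051, (fun u => chkFix tab mwordsA u) u = true := ext_range (a := 269008) (len := 43) h6256 m2_6256
  have h6258 : ∀ u < 269094, (fun u => chkFix tab mwordsA u) u = true := ext_range (a := 269051) (len := 43) h6257 m2_6257
  have h6259 : ∀ u < 269137, (fun u => chkFix tab mwordsA u) u = true := ext_range (a := 269094) (len := 43) h6258 m2_6258
  have h6260 : ∀ u < 269180, (fun u => chkFix tab mwordsA u) u = true := ext_range (a := 269137) (len := 43) h6259 m2_6259
  have h6261 : ∀ u < 269223, (fun u => chkFix tab mwordsA u) u = true := ext_range (a := 269180) (len := 43) h6260 m2_6260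
  have h6262 : ∀ u < 269266, (fun u => chkFix tab mwordsA u) u = true := ext_range (a := 269223) (len := 43) h6261 m2_6261
  have h6263 : ∀ u < 269309, (fun u => chkFix tab mwordsA u) u = true := ext_range (a := 269266) (len := 43) h6262 m2_6262
  have h6264 : ∀ u < 269352, (fun u => chkFix tab mwordsA u) u = true := ext_range (a := 269309) (len := 43) h6263 m2_6263
  have h6265 : ∀ u < 269395, (fun u => chkFix tab mwordsA u) u = true := ext_range (a := 269352) (len := 43) h6264 m2_6264
  have h6266 : ∀ u < 269438, (fun u => chkFix tab mwordsA u) u = true := ext_range (a := 269395) (len := 43) h6265 m2_6265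
  have h6267 : ∀ u < 269481, (fun u => chkFix tab mwordsA u) u = true := ext_range (a := 269438) (len := 43) h6266 m2_6266
  have h6268 : ∀ u < 269524, (fun u => chkFix tab mwordsA u) u = true := ext_range (a := 269481) (len := 43) h6267 m2_6267
  have h6269 : ∀ u < 269567, (fun u => chkFix tab mwordsA u) u = true := ext_range (a := 269524) (len := 43) h6268 m2_6268
  have h6270 : ∀ u < 269610, (fun u => chkFix tab mwordsA u) u = true := ext_range (a := 269567) (len := 43) h6269 m2_6269
  have h6271 : ∀ u < 269653, (fun u => chkFix tab mwordsA u) u = true := ext_range (a := 269610) (len := 43) h6270 m2_6270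
  have h6272 : ∀ u < 269696, (fun u => chkFix tab mwordsA u) u = true := ext_range (a := 269653) (len := 43) h6271 m2_6271
  have h6273 : ∀ u < 269739, (fun u => chkFix tab mwordsA u) u = true := ext_range (a := 269696) (len := 43) h6272 m2_6272
  have h6274 : ∀ u < 269782, (fun u => chkFix tab mwordsA u) u = true := ext_range (a := 269739) (len := 43) h6273 m2_6273
  have h6275 : ∀ u < 269825, (fun u => chkFix tab mwordsA u) u = true := ext_range (a := 269782) (len := 43) h6274 m2_6274
  have h6276 : ∀ u < 269868, (fun u => chkFix tab mwordsA u) u = true := ext_range (a := 269825) (len := 43) h6275 m2_6275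
  have h6277 : ∀ u < 269911, (fun u => chkFix tab mwordsA u) u = true := ext_range (a := 269868) (len := 43) h6276 m2_6276
  have h6278 : ∀ u < 269954, (fun u => chkFix tab mwordsA u) u = true := ext_range (a := 269911) (len := 43) h6277 m2_6277
  have h6279 : ∀ u < 269997, (fun u => chkFix tab mwordsA u) u = true := ext_range (a := 269954) (len := 43) h6278 m2_6278
  have h6280 : ∀ u < 270040, (fun u => chkFix tab mwordsA u) u = true := ext_range (a := 269997) (len := 43) h6279 m2_6279
  have h6281 : ∀ u < 270083, (fun u => chkFix tab mwordsA u) u = true := ext_range (a := 270040) (len := 43) h6280 m2_6280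
  have h6282 : ∀ u < 270126, (fun u => chkFix tab mwordsA u) u = true := ext_range (a := 270083) (len := 43) h6281 m2_6281
  have h6283 : ∀ u < 270169, (fun u => chkFix tab mwordsA u) u = true := ext_range (a := 270126) (len := 43) h6282 m2_6282
  have h6284 : ∀ u < 270212, (fun u => chkFix tab mwordsA u) u = true := ext_range (a := 270169) (len := 43) h6283 m2_6283
  have h6285 : ∀ u < 270255, (fun u => chkFix tab mwordsA u) u = true := ext_range (a := 270212) (len := 43) h6284 m2_6284
  have h6286 : ∀ u < 270298, (fun u => chkFix tab mwordsA u) u = true := ext_range (a := 270255) (len := 43) h6285 m2_6285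
  have h6287 : ∀ u < 270341, (fun u => chkFix tab mwordsA u) u = true := ext_range (a := 270298) (len := 43) h6286 m2_6286
  have h6288 : ∀ u < 270384, (fun u => chkFix tab mwordsA u) u = true := ext_range (a := 270341) (len := 43) h6287 m2_6287
  have h6289 : ∀ u < 270427, (fun u => chkFix tab mwordsA u) u = true := ext_range (a := 270384) (len := 43) h6288 m2_6288
  have h6290 : ∀ u < 270470, (fun u => chkFix tab mwordsA u) u = true := ext_range (a := 270427) (len := 43) h6289 m2_6289
  have h6291 : ∀ u < 270513, (fun u => chkFix tab mwordsA u) u = true := ext_range (a := 270470) (len := 43) h6290 m2_6290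
  have h6292 : ∀ u < 270556, (fun u => chkFix tab mwordsA u) u = true := ext_range (a := 270513) (len := 43) h6291 m2_6291
  have h6293 : ∀ u < 270599, (fun u => chkFix tab mwordsA u) u = true := ext_range (a := 270556) (len := 43) h6292 m2_6292
  have h6294 : ∀ u < 270642, (fun u => chkFix tab mwordsA u) u = true := ext_range (a := 270599) (len := 43) h6293 m2_6293
  have h6295 : ∀ u < 270685, (fun u => chkFix tab mwordsA u) u = true := ext_range (a := 270642) (len := 43) h6294 m2_6294
  have h6296 : ∀ u < 270728, (fun u => chkFix tab mwordsA u) u = true := ext_range (a := 270685) (len := 43) h6295 m2_6295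
  have h6297 : ∀ u < 270771, (fun u => chkFix tab mwordsA u) u = true := ext_range (a := 270728) (len := 43) h6296 m2_6296
  have h6298 : ∀ u < 270814, (fun u => chkFix tab mwordsA u) u = true := ext_range (a := 270771) (len := 43) h6297 m2_6297
  have h6299 : ∀ u < 270857, (fun u => chkFix tab mwordsA u) u = true := ext_range (a := 270814) (len := 43) h6298 m2_6298
  have h6300 : ∀ u < 270900, (fun u => chkFix tab mwordsA u) u = true := ext_range (a := 270857) (len := 43) h6299 m2_6299
  have h6301 : ∀ u < 270943, (fun u => chkFix tab mwordsA u) u = true := ext_range (a := 270900) (len := 43) h6300 m2_6300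
  have h6302 : ∀ u < 270986, (fun u => chkFix tab mwordsA u) u = true := ext_range (a := 270943) (len := 43) h6301 m2_6301
  have h6303 : ∀ u < 271029, (fun u => chkFix tab mwordsA u) u = true := ext_range (a := 270986) (len := 43) h6302 m2_6302
  have h6304 : ∀ u < 271072, (fun u => chkFix tab mwordsA u) u = true := ext_range (a := 271029) (len := 43) h6303 m2_6303
  have h6305 : ∀ u < 271115, (fun u => chkFix tab mwordsA u) u = true := ext_range (a := 271072) (len := 43) h6304 m2_6304
  have h6306 : ∀ u < 271158, (fun u => chkFix tab mwordsA u) u = true := ext_range (a := 271115) (len := 43) h6305 m2_6305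
  have h6307 : ∀ u < 271201, (fun u => chkFix tab mwordsA u) u = true := ext_range (a := 271158) (len := 43) h6306 m2_6306
  have h6308 : ∀ u < 271244, (fun u => chkFix tab mwordsA u) u = true := ext_range (a := 271201) (len := 43) h6307 m2_6307
  have h6309 : ∀ u < 271287, (fun u => chkFix tab mwordsA u) u = true := ext_range (a := 271244) (len := 43) h6308 m2_6308
  have h6310 : ∀ u < 271330, (fun u => chkFix tab mwordsA u) u = true := ext_range (a := 271287) (len := 43) h6309 m2_6309
  have h6311 : ∀ u < 271373, (fun u => chkFix tab mwordsA u) u = true := ext_range (a := 271330) (len := 43) h6310 m2_6310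
  have h6312 : ∀ u < 271416, (fun u => chkFix tab mwordsA u) u = true := ext_range (a := 271373) (len := 43) h6311 m2_6311
  have h6313 : ∀ u < 271459, (fun u => chkFix tab mwordsA u) u = true := ext_range (a := 271416) (len := 43) h6312 m2_6312
  have h6314 : ∀ u < 271502, (fun u => chkFix tab mwordsA u) u = true := ext_range (a := 271459) (len := 43) h6313 m2_6313
  have h6315 : ∀ u < 271545, (fun u => chkFix tab mwordsA u) u = true := ext_range (a := 271502) (len := 43) h6314 m2_6314
  have h6316 : ∀ u < 271588, (fun u => chkFix tab mwordsA u) u = true := ext_range (a := 271545) (len := 43) h6315 m2_6315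
  have h6317 : ∀ u < 271631, (fun u => chkFix tab mwordsA u) u = true := ext_range (a := 271588) (len := 43) h6316 m2_6316
  have h6318 : ∀ u < 271674, (fun u => chkFix tab mwordsA u) u = true := ext_range (a := 271631) (len := 43) h6317 m2_6317
  have h6319 : ∀ u < 271717, (fun u => chkFix tab mwordsA u) u = true := ext_range (a := 271674) (len := 43) h6318 m2_6318
  have h6320 : ∀ u < 271760, (fun u => chkFix tab mwordsA u) u = true := ext_range (a := 271717) (len := 43) h6319 m2_6319
  have h6321 : ∀ u < 271803, (fun u => chkFix tab mwordsA u) u = true := ext_range (a := 271760) (len := 43) h6320 m2_6320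
  have h6322 : ∀ u < 271846, (fun u => chkFix tab mwordsA u) u = true := ext_range (a := 271803) (len := 43) h6321 m2_6321
  have h6323 : ∀ u < 271889, (fun u => chkFix tab mwordsA u) u = true := ext_range (a := 271846) (len := 43) h6322 m2_6322
  have h6324 : ∀ u < 271932, (fun u => chkFix tab mwordsA u) u = true := ext_range (a := 271889) (len := 43) h6323 m2_6323
  have h6325 : ∀ u < 271975, (fun u => chkFix tab mwordsA u) u = true := ext_range (a := 271932) (len := 43) h6324 m2_6324
  have h6326 : ∀ u < 272018, (fun u => chkFix tab mwordsA u) u = true := ext_range (a := 271975) (len := 43) h6325 m2_6325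
  have h6327 : ∀ u < 272061, (fun u => chkFix tab mwordsA u) u = true := ext_range (a := 272018) (len := 43) h6326 m2_6326
  have h6328 : ∀ u < 272104, (fun u => chkFix tab mwordsA u) u = true := ext_range (a := 272061) (len := 43) h6327 m2_6327
  have h6329 : ∀ u < 272147, (fun u => chkFix tab mwordsA u) u = true := ext_range (a := 272104) (len := 43) h6328 m2_6328
  have h6330 : ∀ u < 272190, (fun u => chkFix tab mwordsA u) u = true := ext_range (a := 272147) (len := 43) h6329 m2_6329
  have h6331 : ∀ u < 272233, (fun u => chkFix tab mwordsA u) u = true := ext_range (a := 272190) (len := 43) h6330 m2_6330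
  have h6332 : ∀ u < 272276, (fun u => chkFix tab mwordsA u) u = true := ext_range (a := 272233) (len := 43) h6331 m2_6331
  have h6333 : ∀ u < 272319, (fun u => chkFix tab mwordsA u) u = true := ext_range (a := 272276) (len := 43) h6332 m2_6332
  have h6334 : ∀ u < 272362, (fun u => chkFix tab mwordsA u) u = true := ext_range (a := 272319) (len := 43) h6333 m2_6333
  have h6335 : ∀ u < 272405, (fun u => chkFix tab mwordsA u) u = true := ext_range (a := 272362) (len := 43) h6334 m2_6334
  have h6336 : ∀ u < 272448, (fun u => chkFix tab mwordsA u) u = true := ext_range (a := 272405) (len := 43) h6335 m2_6335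
  have h6337 : ∀ u < 272491, (fun u => chkFix tab mwordsA u) u = true := ext_range (a := 272448) (len := 43) h6336 m2_6336
  have h6338 : ∀ u < 272534, (fun u => chkFix tab mwordsA u) u = true := ext_range (a := 272491) (len := 43) h6337 m2_6337
  have h6339 : ∀ u < 272577, (fun u => chkFix tab mwordsA u) u = true := ext_range (a := 272534) (len := 43) h6338 m2_6338
  have h6340 : ∀ u < 272620, (fun u => chkFix tab mwordsA u) u = true := ext_range (a := 272577) (len := 43) h6339 m2_6339
  have h6341 : ∀ u < 272663, (fun u => chkFix tab mwordsA u) u = true := ext_range (a := 272620) (len := 43) h6340 m2_6340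
  have h6342 : ∀ u < 272706, (fun u => chkFix tab mwordsA u) u = true := ext_range (a := 272663) (len := 43) h6341 m2_6341
  have h6343 : ∀ u < 272749, (fun u => chkFix tab mwordsA u) u = true := ext_range (a := 272706) (len := 43) h6342 m2_6342
  have h6344 : ∀ u < 272792, (fun u => chkFix tab mwordsA u) u = true := ext_range (a := 272749) (len := 43) h6343 m2_6343
  have h6345 : ∀ u < 272835, (fun u => chkFix tab mwordsA u) u = true := ext_range (a := 272792) (len := 43) h6344 m2_6344
  have h6346 : ∀ u < 272878, (fun u => chkFix tab mwordsA u) u = true := ext_range (a := 272835) (len := 43) h6345 m2_6345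
  have h6347 : ∀ u < 272921, (fun u => chkFix tab mwordsA u) u = true := ext_range (a := 272878) (len := 43) h6346 m2_6346
  have h6348 : ∀ u < 272964, (fun u => chkFix tab mwordsA u) u = true := ext_range (a := 272921) (len := 43) h6347 m2_6347
  have h6349 : ∀ u < 273007, (fun u => chkFix tab mwordsA u) u = true := ext_range (a := 272964) (len := 43) h6348 m2_6348
  have h6350 : ∀ u < 273050, (fun u => chkFix tab mwordsA u) u = true := ext_range (a := 273007) (len := 43) h6349 m2_6349
  have h6351 : ∀ u < 273093, (fun u => chkFix tab mwordsA u) u = true := ext_range (a := 273050) (len := 43) h6350 m2_6350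
  have h6352 : ∀ u < 273136, (fun u => chkFix tab mwordsA u) u = true := ext_range (a := 273093) (len := 43) h6351 m2_6351
  have h6353 : ∀ u < 273179, (fun u => chkFix tab mwordsA u) u = true := ext_range (a := 273136) (len := 43) h6352 m2_6352
  have h6354 : ∀ u < 273222, (fun u => chkFix tab mwordsA u) u = true := ext_range (a := 273179) (len := 43) h6353 m2_6353
  have h6355 : ∀ u < 273265, (fun u => chkFix tab mwordsA u) u = true := ext_range (a := 273222) (len := 43) h6354 m2_6354
  have h6356 : ∀ u < 273308, (fun u => chkFix tab mwordsA u) u = true := ext_range (a := 273265) (len := 43) h6355 m2_6355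
  have h6357 : ∀ u < 273351, (fun u => chkFix tab mwordsA u) u = true := ext_range (a := 273308) (len := 43) h6356 m2_6356
  have h6358 : ∀ u < 273394, (fun u => chkFix tab mwordsA u) u = true := ext_range (a := 273351) (len := 43) h6357 m2_6357
  have h6359 : ∀ u < 273437, (fun u => chkFix tab mwordsA u) u = true := ext_range (a := 273394) (len := 43) h6358 m2_6358
  have h6360 : ∀ u < 273480, (fun u => chkFix tab mwordsA u) u = true := ext_range (a := 273437) (len := 43) h6359 m2_6359
  have h6361 : ∀ u < 273523, (fun u => chkFix tab mwordsA u) u = true := ext_range (a := 273480) (len := 43) h6360 m2_6360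
  have h6362 : ∀ u < 273566, (fun u => chkFix tab mwordsA u) u = true := ext_range (a := 273523) (len := 43) h6361 m2_6361
  have h6363 : ∀ u < 273609, (fun u => chkFix tab mwordsA u) u = true := ext_range (a := 273566) (len := 43) h6362 m2_6362
  have h6364 : ∀ u < 273652, (fun u => chkFix tab mwordsA u) u = true := ext_range (a := 273609) (len := 43) h6363 m2_6363
  have h6365 : ∀ u < 273695, (fun u => chkFix tab mwordsA u) u = true := ext_range (a := 273652) (len := 43) h6364 m2_6364
  have h6366 : ∀ u < 273738, (fun u => chkFix tab mwordsA u) u = true := ext_range (a := 273695) (len := 43) h6365 m2_6365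
  have h6367 : ∀ u < 273781, (fun u => chkFix tab mwordsA u) u = true := ext_range (a := 273738) (len := 43) h6366 m2_6366
  have h6368 : ∀ u < 273824, (fun u => chkFix tab mwordsA u) u = true := ext_range (a := 273781) (len := 43) h6367 m2_6367
  have h6369 : ∀ u < 273867, (fun u => chkFix tab mwordsA u) u = true := ext_range (a := 273824) (len := 43) h6368 m2_6368
  have h6370 : ∀ u < 273910, (fun u => chkFix tab mwordsA u) u = true := ext_range (a := 273867) (len := 43) h6369 m2_6369
  have h6371 : ∀ u < 273953, (fun u => chkFix tab mwordsA u) u = true := ext_range (a := 273910) (len := 43) h6370 m2_6370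
  have h6372 : ∀ u < 273996, (fun u => chkFix tab mwordsA u) u = true := ext_range (a := 273953) (len := 43) h6371 m2_6371
  have h6373 : ∀ u < 274039, (fun u => chkFix tab mwordsA u) u = true := ext_range (a := 273996) (len := 43) h6372 m2_6372
  have h6374 : ∀ u < 274082, (fun u => chkFix tab mwordsA u) u = true := ext_range (a := 274039) (len := 43) h6373 m2_6373
  have h6375 : ∀ u < 274125, (fun u => chkFix tab mwordsA u) u = true := ext_range (a := 274082) (len := 43) h6374 m2_6374
  have h6376 : ∀ u < 274168, (fun u => chkFix tab mwordsA u) u = true := ext_range (a := 274125) (len := 43) h6375 m2_6375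
  have h6377 : ∀ u < 274211, (fun u => chkFix tab mwordsA u) u = true := ext_range (a := 274168) (len := 43) h6376 m2_6376
  have h6378 : ∀ u < 274254, (fun u => chkFix tab mwordsA u) u = true := ext_range (a := 274211) (len := 43) h6377 m2_6377
  have h6379 : ∀ u < 274297, (fun u => chkFix tab mwordsA u) u = true := ext_range (a := 274254) (len := 43) h6378 m2_6378
  have h6380 : ∀ u < 274340, (fun u => chkFix tab mwordsA u) u = true := ext_range (a := 274297) (len := 43) h6379 m2_6379
  have h6381 : ∀ u < 274383, (fun u => chkFix tab mwordsA u) u = true := ext_range (a := 274340) (len := 43) h6380 m2_6380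
  have h6382 : ∀ u < 274426, (fun u => chkFix tab mwordsA u) u = true := ext_range (a := 274383) (len := 43) h6381 m2_6381
  have h6383 : ∀ u < 274469, (fun u => chkFix tab mwordsA u) u = true := ext_range (a := 274426) (len := 43) h6382 m2_6382
  have h6384 : ∀ u < 274512, (fun u => chkFix tab mwordsA u) u = true := ext_range (a := 274469) (len := 43) h6383 m2_6383
  have h6385 : ∀ u < 274555, (fun u => chkFix tab mwordsA u) u = true := ext_range (a := 274512) (len := 43) h6384 m2_6384
  have h6386 : ∀ u < 274598, (fun u => chkFix tab mwordsA u) u = true := ext_range (a := 274555) (len := 43) h6385 m2_6385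
  have h6387 : ∀ u < 274641, (fun u => chkFix tab mwordsA u) u = true := ext_range (a := 274598) (len := 43) h6386 m2_6386
  have h6388 : ∀ u < 274684, (fun u => chkFix tab mwordsA u) u = true := ext_range (a := 274641) (len := 43) h6387 m2_6387
  have h6389 : ∀ u < 274727, (fun u => chkFix tab mwordsA u) u = true := ext_range (a := 274684) (len := 43) h6388 m2_6388
  have h6390 : ∀ u < 274770, (fun u => chkFix tab mwordsA u) u = true := ext_range (a := 274727) (len := 43) h6389 m2_6389
  have h6391 : ∀ u < 274813, (fun u => chkFix tab mwordsA u) u = true := ext_range (a := 274770) (len := 43) h6390 m2_6390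
  have h6392 : ∀ u < 274856, (fun u => chkFix tab mwordsA u) u = true := ext_range (a := 274813) (len := 43) h6391 m2_6391
  have h6393 : ∀ u < 274899, (fun u => chkFix tab mwordsA u) u = true := ext_range (a := 274856) (len := 43) h6392 m2_6392
  have h6394 : ∀ u < 274942, (fun u => chkFix tab mwordsA u) u = true := ext_range (a := 274899) (len := 43) h6393 m2_6393
  have h6395 : ∀ u < 274985, (fun u => chkFix tab mwordsA u) u = true := ext_range (a := 274942) (len := 43) h6394 m2_6394
  have h6396 : ∀ u < 275028, (fun u => chkFix tab mwordsA u) u = true := ext_range (a := 274985) (len := 43) h6395 m2_6395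
  have h6397 : ∀ u < 275071, (fun u => chkFix tab mwordsA u) u = true := ext_range (a := 275028) (len := 43) h6396 m2_6396
  have h6398 : ∀ u < 275114, (fun u => chkFix tab mwordsA u) u = true := ext_range (a := 275071) (len := 43) h6397 m2_6397
  have h6399 : ∀ u < 275157, (fun u => chkFix tab mwordsA u) u = true := ext_range (a := 275114) (len := 43) h6398 m2_6398
  have h6400 : ∀ u < 275200, (fun u => chkFix tab mwordsA u) u = true := ext_range (a := 275157) (len := 43) h6399 m2_6399
  have h6401 : ∀ u < 275243, (fun u => chkFix tab mwordsA u) u = true := ext_range (a := 275200) (len := 43) h6400 m2_6400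
  have h6402 : ∀ u < 275286, (fun u => chkFix tab mwordsA u) u = true := ext_range (a := 275243) (len := 43) h6401 m2_6401
  have h6403 : ∀ u < 275329, (fun u => chkFix tab mwordsA u) u = true := ext_range (a := 275286) (len := 43) h6402 m2_6402
  have h6404 : ∀ u < 275372, (fun u => chkFix tab mwordsA u) u = true := ext_range (a := 275329) (len := 43) h6403 m2_6403
  have h6405 : ∀ u < 275415, (fun u => chkFix tab mwordsA u) u = true := ext_range (a := 275372) (len := 43) h6404 m2_6404
  have h6406 : ∀ u < 275458, (fun u => chkFix tab mwordsA u) u = true := ext_range (a := 275415) (len := 43) h6405 m2_6405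
  have h6407 : ∀ u < 275501, (fun u => chkFix tab mwordsA u) u = true := ext_range (a := 275458) (len := 43) h6406 m2_6406
  have h6408 : ∀ u < 275544, (fun u => chkFix tab mwordsA u) u = true := ext_range (a := 275501) (len := 43) h6407 m2_6407
  have h6409 : ∀ u < 275587, (fun u => chkFix tab mwordsA u) u = true := ext_range (a := 275544) (len := 43) h6408 m2_6408
  have h6410 : ∀ u < 275630, (fun u => chkFix tab mwordsA u) u = true := ext_range (a := 275587) (len := 43) h6409 m2_6409
  have h6411 : ∀ u < 275673, (fun u => chkFix tab mwordsA u) u = true := ext_range (a := 275630) (len := 43) h6410 m2_6410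
  have h6412 : ∀ u < 275716, (fun u => chkFix tab mwordsA u) u = true := ext_range (a := 275673) (len := 43) h6411 m2_6411
  have h6413 : ∀ u < 275759, (fun u => chkFix tab mwordsA u) u = true := ext_range (a := 275716) (len := 43) h6412 m2_6412
  have h6414 : ∀ u < 275802, (fun u => chkFix tab mwordsA u) u = true := ext_range (a := 275759) (len := 43) h6413 m2_6413
  have h6415 : ∀ u < 275845, (fun u => chkFix tab mwordsA u) u = true := ext_range (a := 275802) (len := 43) h6414 m2_6414
  have h6416 : ∀ u < 275888, (fun u => chkFix tab mwordsA u) u = true := ext_range (a := 275845) (len := 43) h6415 m2_6415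
  have h6417 : ∀ u < 275931, (fun u => chkFix tab mwordsA u) u = true := ext_range (a := 275888) (len := 43) h6416 m2_6416
  have h6418 : ∀ u < 275974, (fun u => chkFix tab mwordsA u) u = true := ext_range (a := 275931) (len := 43) h6417 m2_6417
  have h6419 : ∀ u < 276017, (fun u => chkFix tab mwordsA u) u = true := ext_range (a := 275974) (len := 43) h6418 m2_6418
  have h6420 : ∀ u < 276060, (fun u => chkFix tab mwordsA u) u = true := ext_range (a := 276017) (len := 43) h6419 m2_6419
  have h6421 : ∀ u < 276103, (fun u => chkFix tab mwordsA u) u = true := ext_range (a := 276060) (len := 43) h6420 m2_6420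
  have h6422 : ∀ u < 276146, (fun u => chkFix tab mwordsA u) u = true := ext_range (a := 276103) (len := 43) h6421 m2_6421
  have h6423 : ∀ u < 276189, (fun u => chkFix tab mwordsA u) u = true := ext_range (a := 276146) (len := 43) h6422 m2_6422
  have h6424 : ∀ u < 276232, (fun u => chkFix tab mwordsA u) u = true := ext_range (a := 276189) (len := 43) h6423 m2_6423
  have h6425 : ∀ u < 276275, (fun u => chkFix tab mwordsA u) u = true := ext_range (a := 276232) (len := 43) h6424 m2_6424
  have h6426 : ∀ u < 276318, (fun u => chkFix tab mwordsA u) u = true := ext_range (a := 276275) (len := 43) h6425 m2_6425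
  have h6427 : ∀ u < 276361, (fun u => chkFix tab mwordsA u) u = true := ext_range (a := 276318) (len := 43) h6426 m2_6426
  have h6428 : ∀ u < 276404, (fun u => chkFix tab mwordsA u) u = true := ext_range (a := 276361) (len := 43) h6427 m2_6427
  have h6429 : ∀ u < 276447, (fun u => chkFix tab mwordsA u) u = true := ext_range (a := 276404) (len := 43) h6428 m2_6428
  have h6430 : ∀ u < 276490, (fun u => chkFix tab mwordsA u) u = true := ext_range (a := 276447) (len := 43) h6429 m2_6429
  have h6431 : ∀ u < 276533, (fun u => chkFix tab mwordsA u) u = true := ext_range (a := 276490) (len := 43) h6430 m2_6430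
  have h6432 : ∀ u < 276576, (fun u => chkFix tab mwordsA u) u = true := ext_range (a := 276533) (len := 43) h6431 m2_6431
  have h6433 : ∀ u < 276619, (fun u => chkFix tab mwordsA u) u = true := ext_range (a := 276576) (len := 43) h6432 m2_6432
  have h6434 : ∀ u < 276662, (fun u => chkFix tab mwordsA u) u = true := ext_range (a := 276619) (len := 43) h6433 m2_6433
  have h6435 : ∀ u < 276705, (fun u => chkFix tab mwordsA u) u = true := ext_range (a := 276662) (len := 43) h6434 m2_6434
  have h6436 : ∀ u < 276748, (fun u => chkFix tab mwordsA u) u = true := ext_range (a := 276705) (len := 43) h6435 m2_6435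
  have h6437 : ∀ u < 276791, (fun u => chkFix tab mwordsA u) u = true := ext_range (a := 276748) (len := 43) h6436 m2_6436
  have h6438 : ∀ u < 276834, (fun u => chkFix tab mwordsA u) u = true := ext_range (a := 276791) (len := 43) h6437 m2_6437
  have h6439 : ∀ u < 276877, (fun u => chkFix tab mwordsA u) u = true := ext_range (a := 276834) (len := 43) h6438 m2_6438
  have h6440 : ∀ u < 276920, (fun u => chkFix tab mwordsA u) u = true := ext_range (a := 276877) (len := 43) h6439 m2_6439
  have h6441 : ∀ u < 276963, (fun u => chkFix tab mwordsA u) u = true := ext_range (a := 276920) (len := 43) h6440 m2_6440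
  have h6442 : ∀ u < 277006, (fun u => chkFix tab mwordsA u) u = true := ext_range (a := 276963) (len := 43) h6441 m2_6441
  have h6443 : ∀ u < 277049, (fun u => chkFix tab mwordsA u) u = true := ext_range (a := 277006) (len := 43) h6442 m2_6442
  have h6444 : ∀ u < 277092, (fun u => chkFix tab mwordsA u) u = true := ext_range (a := 277049) (len := 43) h6443 m2_6443
  have h6445 : ∀ u < 277135, (fun u => chkFix tab mwordsA u) u = true := ext_range (a := 277092) (len := 43) h6444 m2_6444
  have h6446 : ∀ u < 277178, (fun u => chkFix tab mwordsA u) u = true := ext_range (a := 277135) (len := 43) h6445 m2_6445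
  have h6447 : ∀ u < 277221, (fun u => chkFix tab mwordsA u) u = true := ext_range (a := 277178) (len := 43) h6446 m2_6446
  have h6448 : ∀ u < 277264, (fun u => chkFix tab mwordsA u) u = true := ext_range (a := 277221) (len := 43) h6447 m2_6447
  have h6449 : ∀ u < 277307, (fun u => chkFix tab mwordsA u) u = true := ext_range (a := 277264) (len := 43) h6448 m2_6448
  have h6450 : ∀ u < 277350, (fun u => chkFix tab mwordsA u) u = true := ext_range (a := 277307) (len := 43) h6449 m2_6449
  have h6451 : ∀ u < 277393, (fun u => chkFix tab mwordsA u) u = true := ext_range (a := 277350) (len := 43) h6450 m2_6450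
  have h6452 : ∀ u < 277436, (fun u => chkFix tab mwordsA u) u = true := ext_range (a := 277393) (len := 43) h6451 m2_6451
  have h6453 : ∀ u < 277479, (fun u => chkFix tab mwordsA u) u = true := ext_range (a := 277436) (len := 43) h6452 m2_6452
  have h6454 : ∀ u < 277522, (fun u => chkFix tab mwordsA u) u = true := ext_range (a := 277479) (len := 43) h6453 m2_6453
  have h6455 : ∀ u < 277565, (fun u => chkFix tab mwordsA u) u = true := ext_range (a := 277522) (len := 43) h6454 m2_6454
  have h6456 : ∀ u < 277608, (fun u => chkFix tab mwordsA u) u = true := ext_range (a := 277565) (len := 43) h6455 m2_6455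
  have h6457 : ∀ u < 277651, (fun u => chkFix tab mwordsA u) u = true := ext_range (a := 277608) (len := 43) h6456 m2_6456
  have h6458 : ∀ u < 277694, (fun u => chkFix tab mwordsA u) u = true := ext_range (a := 277651) (len := 43) h6457 m2_6457
  have h6459 : ∀ u < 277737, (fun u => chkFix tab mwordsA u) u = true := ext_range (a := 277694) (len := 43) h6458 m2_6458
  have h6460 : ∀ u < 277780, (fun u => chkFix tab mwordsA u) u = true := ext_range (a := 277737) (len := 43) h6459 m2_6459
  have h6461 : ∀ u < 277823, (fun u => chkFix tab mwordsA u) u = true := ext_range (a := 277780) (len := 43) h6460 m2_6460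
  have h6462 : ∀ u < 277866, (fun u => chkFix tab mwordsA u) u = true := ext_range (a := 277823) (len := 43) h6461 m2_6461
  have h6463 : ∀ u < 277909, (fun u => chkFix tab mwordsA u) u = true := ext_range (a := 277866) (len := 43) h6462 m2_6462
  have h6464 : ∀ u < 277952, (fun u => chkFix tab mwordsA u) u = true := ext_range (a := 277909) (len := 43) h6463 m2_6463
  have h6465 : ∀ u < 277995, (fun u => chkFix tab mwordsA u) u = true := ext_range (a := 277952) (len := 43) h6464 m2_6464
  have h6466 : ∀ u < 278038, (fun u => chkFix tab mwordsA u) u = true := ext_range (a := 277995) (len := 43) h6465 m2_6465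
  have h6467 : ∀ u < 278081, (fun u => chkFix tab mwordsA u) u = true := ext_range (a := 278038) (len := 43) h6466 m2_6466
  have h6468 : ∀ u < 278124, (fun u => chkFix tab mwordsA u) u = true := ext_range (a := 278081) (len := 43) h6467 m2_6467
  have h6469 : ∀ u < 278167, (fun u => chkFix tab mwordsA u) u = true := ext_range (a := 278124) (len := 43) h6468 m2_6468
  have h6470 : ∀ u < 278210, (fun u => chkFix tab mwordsA u) u = true := ext_range (a := 278167) (len := 43) h6469 m2_6469
  have h6471 : ∀ u < 278253, (fun u => chkFix tab mwordsA u) u = true := ext_range (a := 278210) (len := 43) h6470 m2_6470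
  have h6472 : ∀ u < 278296, (fun u => chkFix tab mwordsA u) u = true := ext_range (a := 278253) (len := 43) h6471 m2_6471
  have h6473 : ∀ u < 278339, (fun u => chkFix tab mwordsA u) u = true := ext_range (a := 278296) (len := 43) h6472 m2_6472
  have h6474 : ∀ u < 278382, (fun u => chkFix tab mwordsA u) u = true := ext_range (a := 278339) (len := 43) h6473 m2_6473
  have h6475 : ∀ u < 278425, (fun u => chkFix tab mwordsA u) u = true := ext_range (a := 278382) (len := 43) h6474 m2_6474
  have h6476 : ∀ u < 278468, (fun u => chkFix tab mwordsA u) u = true := ext_range (a := 278425) (len := 43) h6475 m2_6475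
  have h6477 : ∀ u < 278511, (fun u => chkFix tab mwordsA u) u = true := ext_range (a := 278468) (len := 43) h6476 m2_6476
  have h6478 : ∀ u < 278554, (fun u => chkFix tab mwordsA u) u = true := ext_range (a := 278511) (len := 43) h6477 m2_6477
  have h6479 : ∀ u < 278597, (fun u => chkFix tab mwordsA u) u = true := ext_range (a := 278554) (len := 43) h6478 m2_6478
  have h6480 : ∀ u < 278640, (fun u => chkFix tab mwordsA u) u = true := ext_range (a := 278597) (len := 43) h6479 m2_6479
  have h6481 : ∀ u < 278683, (fun u => chkFix tab mwordsA u) u = true := ext_range (a := 278640) (len := 43) h6480 m2_6480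
  have h6482 : ∀ u < 278726, (fun u => chkFix tab mwordsA u) u = true := ext_range (a := 278683) (len := 43) h6481 m2_6481
  have h6483 : ∀ u < 278769, (fun u => chkFix tab mwordsA u) u = true := ext_range (a := 278726) (len := 43) h6482 m2_6482
  have h6484 : ∀ u < 278812, (fun u => chkFix tab mwordsA u) u = true := ext_range (a := 278769) (len := 43) h6483 m2_6483
  have h6485 : ∀ u < 278855, (fun u => chkFix tab mwordsA u) u = true := ext_range (a := 278812) (len := 43) h6484 m2_6484
  have h6486 : ∀ u < 278898, (fun u => chkFix tab mwordsA u) u = true := ext_range (a := 278855) (len := 43) h6485 m2_6485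
  have h6487 : ∀ u < 278941, (fun u => chkFix tab mwordsA u) u = true := ext_range (a := 278898) (len := 43) h6486 m2_6486
  have h6488 : ∀ u < 278984, (fun u => chkFix tab mwordsA u) u = true := ext_range (a := 278941) (len := 43) h6487 m2_6487
  have h6489 : ∀ u < 279027, (fun u => chkFix tab mwordsA u) u = true := ext_range (a := 278984) (len := 43) h6488 m2_6488
  have h6490 : ∀ u < 279070, (fun u => chkFix tab mwordsA u) u = true := ext_range (a := 279027) (len := 43) h6489 m2_6489
  have h6491 : ∀ u < 279113, (fun u => chkFix tab mwordsA u) u = true := ext_range (a := 279070) (len := 43) h6490 m2_6490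
  have h6492 : ∀ u < 279156, (fun u => chkFix tab mwordsA u) u = true := ext_range (a := 279113) (len := 43) h6491 m2_6491
  have h6493 : ∀ u < 279199, (fun u => chkFix tab mwordsA u) u = true := ext_range (a := 279156) (len := 43) h6492 m2_6492
  have h6494 : ∀ u < 279242, (fun u => chkFix tab mwordsA u) u = true := ext_range (a := 279199) (len := 43) h6493 m2_6493
  have h6495 : ∀ u < 279285, (fun u => chkFix tab mwordsA u) u = true := ext_range (a := 279242) (len := 43) h6494 m2_6494
  have h6496 : ∀ u < 279328, (fun u => chkFix tab mwordsA u) u = true := ext_range (a := 279285) (len := 43) h6495 m2_6495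
  have h6497 : ∀ u < 279371, (fun u => chkFix tab mwordsA u) u = true := ext_range (a := 279328) (len := 43) h6496 m2_6496
  have h6498 : ∀ u < 279414, (fun u => chkFix tab mwordsA u) u = true := ext_range (a := 279371) (len := 43) h6497 m2_6497
  have h6499 : ∀ u < 279457, (fun u => chkFix tab mwordsA u) u = true := ext_range (a := 279414) (len := 43) h6498 m2_6498
  have h6500 : ∀ u < 279500, (fun u => chkFix tab mwordsA u) u = true := ext_range (a := 279457) (len := 43) h6499 m2_6499
  have h6501 : ∀ u < 279543, (fun u => chkFix tab mwordsA u) u = true := ext_range (a := 279500) (len := 43) h6500 m2_6500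
  have h6502 : ∀ u < 279586, (fun u => chkFix tab mwordsA u) u = true := ext_range (a := 279543) (len := 43) h6501 m2_6501
  have h6503 : ∀ u < 279629, (fun u => chkFix tab mwordsA u) u = true := ext_range (a := 279586) (len := 43) h6502 m2_6502
  have h6504 : ∀ u < 279672, (fun u => chkFix tab mwordsA u) u = true := ext_range (a := 279629) (len := 43) h6503 m2_6503
  have h6505 : ∀ u < 279715, (fun u => chkFix tab mwordsA u) u = true := ext_range (a := 279672) (len := 43) h6504 m2_6504
  have h6506 : ∀ u < 279758, (fun u => chkFix tab mwordsA u) u = true := ext_range (a := 279715) (len := 43) h6505 m2_6505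
  have h6507 : ∀ u < 279801, (fun u => chkFix tab mwordsA u) u = true := ext_range (a := 279758) (len := 43) h6506 m2_6506
  have h6508 : ∀ u < 279844, (fun u => chkFix tab mwordsA u) u = true := ext_range (a := 279801) (len := 43) h6507 m2_6507
  have h6509 : ∀ u < 279887, (fun u => chkFix tab mwordsA u) u = true := ext_range (a := 279844) (len := 43) h6508 m2_6508
  have h6510 : ∀ u < 279930, (fun u => chkFix tab mwordsA u) u = true := ext_range (a := 279887) (len := 43) h6509 m2_6509
  have h6511 : ∀ u < 279973, (fun u => chkFix tab mwordsA u) u = true := ext_range (a := 279930) (len := 43) h6510 m2_6510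
  have h6512 : ∀ u < 280016, (fun u => chkFix tab mwordsA u) u = true := ext_range (a := 279973) (len := 43) h6511 m2_6511
  have h6513 : ∀ u < 280059, (fun u => chkFix tab mwordsA u) u = true := ext_range (a := 280016) (len := 43) h6512 m2_6512
  have h6514 : ∀ u < 280102, (fun u => chkFix tab mwordsA u) u = true := ext_range (a := 280059) (len := 43) h6513 m2_6513
  have h6515 : ∀ u < 280145, (fun u => chkFix tab mwordsA u) u = true := ext_range (a := 280102) (len := 43) h6514 m2_6514
  have h6516 : ∀ u < 280188, (fun u => chkFix tab mwordsA u) u = true := ext_range (a := 280145) (len := 43) h6515 m2_6515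
  have h6517 : ∀ u < 280231, (fun u => chkFix tab mwordsA u) u = true := ext_range (a := 280188) (len := 43) h6516 m2_6516
  have h6518 : ∀ u < 280274, (fun u => chkFix tab mwordsA u) u = true := ext_range (a := 280231) (len := 43) h6517 m2_6517
  have h6519 : ∀ u < 280317, (fun u => chkFix tab mwordsA u) u = true := ext_range (a := 280274) (len := 43) h6518 m2_6518
  have h6520 : ∀ u < 280360, (fun u => chkFix tab mwordsA u) u = true := ext_range (a := 280317) (len := 43) h6519 m2_6519
  have h6521 : ∀ u < 280403, (fun u => chkFix tab mwordsA u) u = true := ext_range (a := 280360) (len := 43) h6520 m2_6520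
  have h6522 : ∀ u < 280446, (fun u => chkFix tab mwordsA u) u = true := ext_range (a := 280403) (len := 43) h6521 m2_6521
  have h6523 : ∀ u < 280489, (fun u => chkFix tab mwordsA u) u = true := ext_range (a := 280446) (len := 43) h6522 m2_6522
  have h6524 : ∀ u < 280532, (fun u => chkFix tab mwordsA u) u = true := ext_range (a := 280489) (len := 43) h6523 m2_6523
  have h6525 : ∀ u < 280575, (fun u => chkFix tab mwordsA u) u = true := ext_range (a := 280532) (len := 43) h6524 m2_6524
  have h6526 : ∀ u < 280618, (fun u => chkFix tab mwordsA u) u = true := ext_range (a := 280575) (len := 43) h6525 m2_6525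
  have h6527 : ∀ u < 280661, (fun u => chkFix tab mwordsA u) u = true := ext_range (a := 280618) (len := 43) h6526 m2_6526
  have h6528 : ∀ u < 280704, (fun u => chkFix tab mwordsA u) u = true := ext_range (a := 280661) (len := 43) h6527 m2_6527
  have h6529 : ∀ u < 280747, (fun u => chkFix tab mwordsA u) u = true := ext_range (a := 280704) (len := 43) h6528 m2_6528
  have h6530 : ∀ u < 280790, (fun u => chkFix tab mwordsA u) u = true := ext_range (a := 280747) (len := 43) h6529 m2_6529
  have h6531 : ∀ u < 280833, (fun u => chkFix tab mwordsA u) u = true := ext_range (a := 280790) (len := 43) h6530 m2_6530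
  have h6532 : ∀ u < 280876, (fun u => chkFix tab mwordsA u) u = true := ext_range (a := 280833) (len := 43) h6531 m2_6531
  have h6533 : ∀ u < 280919, (fun u => chkFix tab mwordsA u) u = true := ext_range (a := 280876) (len := 43) h6532 m2_6532
  have h6534 : ∀ u < 280962, (fun u => chkFix tab mwordsA u) u = true := ext_range (a := 280919) (len := 43) h6533 m2_6533
  have h6535 : ∀ u < 281005, (fun u => chkFix tab mwordsA u) u = true := ext_range (a := 280962) (len := 43) h6534 m2_6534
  have h6536 : ∀ u < 281048, (fun u => chkFix tab mwordsA u) u = true := ext_range (a := 281005) (len := 43) h6535 m2_6535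
  have h6537 : ∀ u < 281091, (fun u => chkFix tab mwordsA u) u = true := ext_range (a := 281048) (len := 43) h6536 m2_6536
  have h6538 : ∀ u < 281134, (fun u => chkFix tab mwordsA u) u = true := ext_range (a := 281091) (len := 43) h6537 m2_6537
  have h6539 : ∀ u < 281177, (fun u => chkFix tab mwordsA u) u = true := ext_range (a := 281134) (len := 43) h6538 m2_6538
  have h6540 : ∀ u < 281220, (fun u => chkFix tab mwordsA u) u = true := ext_range (a := 281177) (len := 43) h6539 m2_6539
  have h6541 : ∀ u < 281263, (fun u => chkFix tab mwordsA u) u = true := ext_range (a := 281220) (len := 43) h6540 m2_6540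
  have h6542 : ∀ u < 281306, (fun u => chkFix tab mwordsA u) u = true := ext_range (a := 281263) (len := 43) h6541 m2_6541
  have h6543 : ∀ u < 281349, (fun u => chkFix tab mwordsA u) u = true := ext_range (a := 281306) (len := 43) h6542 m2_6542
  have h6544 : ∀ u < 281392, (fun u => chkFix tab mwordsA u) u = true := ext_range (a := 281349) (len := 43) h6543 m2_6543
  have h6545 : ∀ u < 281435, (fun u => chkFix tab mwordsA u) u = true := ext_range (a := 281392) (len := 43) h6544 m2_6544
  have h6546 : ∀ u < 281478, (fun u => chkFix tab mwordsA u) u = true := ext_range (a := 281435) (len := 43) h6545 m2_6545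
  have h6547 : ∀ u < 281521, (fun u => chkFix tab mwordsA u) u = true := ext_range (a := 281478) (len := 43) h6546 m2_6546
  have h6548 : ∀ u < 281564, (fun u => chkFix tab mwordsA u) u = true := ext_range (a := 281521) (len := 43) h6547 m2_6547
  have h6549 : ∀ u < 281607, (fun u => chkFix tab mwordsA u) u = true := ext_range (a := 281564) (len := 43) h6548 m2_6548
  have h6550 : ∀ u < 281650, (fun u => chkFix tab mwordsA u) u = true := ext_range (a := 281607) (len := 43) h6549 m2_6549
  have h6551 : ∀ u < 281693, (fun u => chkFix tab mwordsA u) u = true := ext_range (a := 281650) (len := 43) h6550 m2_6550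
  have h6552 : ∀ u < 281736, (fun u => chkFix tab mwordsA u) u = true := ext_range (a := 281693) (len := 43) h6551 m2_6551
  have h6553 : ∀ u < 281779, (fun u => chkFix tab mwordsA u) u = true := ext_range (a := 281736) (len := 43) h6552 m2_6552
  have h6554 : ∀ u < 281822, (fun u => chkFix tab mwordsA u) u = true := ext_range (a := 281779) (len := 43) h6553 m2_6553
  have h6555 : ∀ u < 281865, (fun u => chkFix tab mwordsA u) u = true := ext_range (a := 281822) (len := 43) h6554 m2_6554
  have h6556 : ∀ u < 281908, (fun u => chkFix tab mwordsA u) u = true := ext_range (a := 281865) (len := 43) h6555 m2_6555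
  have h6557 : ∀ u < 281951, (fun u => chkFix tab mwordsA u) u = true := ext_range (a := 281908) (len := 43) h6556 m2_6556
  have h6558 : ∀ u < 281994, (fun u => chkFix tab mwordsA u) u = true := ext_range (a := 281951) (len := 43) h6557 m2_6557
  have h6559 : ∀ u < 282037, (fun u => chkFix tab mwordsA u) u = true := ext_range (a := 281994) (len := 43) h6558 m2_6558
  have h6560 : ∀ u < 282080, (fun u => chkFix tab mwordsA u) u = true := ext_range (a := 282037) (len := 43) h6559 m2_6559
  have h6561 : ∀ u < 282123, (fun u => chkFix tab mwordsA u) u = true := ext_range (a := 282080) (len := 43) h6560 m2_6560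
  have h6562 : ∀ u < 282166, (fun u => chkFix tab mwordsA u) u = true := ext_range (a := 282123) (len := 43) h6561 m2_6561
  have h6563 : ∀ u < 282209, (fun u => chkFix tab mwordsA u) u = true := ext_range (a := 282166) (len := 43) h6562 m2_6562
  have h6564 : ∀ u < 282252, (fun u => chkFix tab mwordsA u) u = true := ext_range (a := 282209) (len := 43) h6563 m2_6563
  have h6565 : ∀ u < 282295, (fun u => chkFix tab mwordsA u) u = true := ext_range (a := 282252) (len := 43) h6564 m2_6564
  have h6566 : ∀ u < 282338, (fun u => chkFix tab mwordsA u) u = true := ext_range (a := 282295) (len := 43) h6565 m2_6565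
  have h6567 : ∀ u < 282381, (fun u => chkFix tab mwordsA u) u = true := ext_range (a := 282338) (len := 43) h6566 m2_6566
  have h6568 : ∀ u < 282424, (fun u => chkFix tab mwordsA u) u = true := ext_range (a := 282381) (len := 43) h6567 m2_6567
  have h6569 : ∀ u < 282467, (fun u => chkFix tab mwordsA u) u = true := ext_range (a := 282424) (len := 43) h6568 m2_6568
  have h6570 : ∀ u < 282510, (fun u => chkFix tab mwordsA u) u = true := ext_range (a := 282467) (len := 43) h6569 m2_6569
  have h6571 : ∀ u < 282553, (fun u => chkFix tab mwordsA u) u = true := ext_range (a := 282510) (len := 43) h6570 m2_6570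
  have h6572 : ∀ u < 282596, (fun u => chkFix tab mwordsA u) u = true := ext_range (a := 282553) (len := 43) h6571 m2_6571
  have h6573 : ∀ u < 282639, (fun u => chkFix tab mwordsA u) u = true := ext_range (a := 282596) (len := 43) h6572 m2_6572
  have h6574 : ∀ u < 282682, (fun u => chkFix tab mwordsA u) u = true := ext_range (a := 282639) (len := 43) h6573 m2_6573
  have h6575 : ∀ u < 282725, (fun u => chkFix tab mwordsA u) u = true := ext_range (a := 282682) (len := 43) h6574 m2_6574
  have h6576 : ∀ u < 282768, (fun u => chkFix tab mwordsA u) u = true := ext_range (a := 282725) (len := 43) h6575 m2_6575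
  have h6577 : ∀ u < 282811, (fun u => chkFix tab mwordsA u) u = true := ext_range (a := 282768) (len := 43) h6576 m2_6576
  have h6578 : ∀ u < 282854, (fun u => chkFix tab mwordsA u) u = true := ext_range (a := 282811) (len := 43) h6577 m2_6577
  have h6579 : ∀ u < 282897, (fun u => chkFix tab mwordsA u) u = true := ext_range (a := 282854) (len := 43) h6578 m2_6578
  have h6580 : ∀ u < 282940, (fun u => chkFix tab mwordsA u) u = true := ext_range (a := 282897) (len := 43) h6579 m2_6579
  have h6581 : ∀ u < 282983, (fun u => chkFix tab mwordsA u) u = true := ext_range (a := 282940) (len := 43) h6580 m2_6580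
  have h6582 : ∀ u < 283026, (fun u => chkFix tab mwordsA u) u = true := ext_range (a := 282983) (len := 43) h6581 m2_6581
  have h6583 : ∀ u < 283069, (fun u => chkFix tab mwordsA u) u = true := ext_range (a := 283026) (len := 43) h6582 m2_6582
  have h6584 : ∀ u < 283112, (fun u => chkFix tab mwordsA u) u = true := ext_range (a := 283069) (len := 43) h6583 m2_6583
  have h6585 : ∀ u < 283155, (fun u => chkFix tab mwordsA u) u = true := ext_range (a := 283112) (len := 43) h6584 m2_6584
  have h6586 : ∀ u < 283198, (fun u => chkFix tab mwordsA u) u = true := ext_range (a := 283155) (len := 43) h6585 m2_6585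
  have h6587 : ∀ u < 283241, (fun u => chkFix tab mwordsA u) u = true := ext_range (a := 283198) (len := 43) h6586 m2_6586
  have h6588 : ∀ u < 283284, (fun u => chkFix tab mwordsA u) u = true := ext_range (a := 283241) (len := 43) h6587 m2_6587
  have h6589 : ∀ u < 283327, (fun u => chkFix tab mwordsA u) u = true := ext_range (a := 283284) (len := 43) h6588 m2_6588
  have h6590 : ∀ u < 283370, (fun u => chkFix tab mwordsA u) u = true := ext_range (a := 283327) (len := 43) h6589 m2_6589
  have h6591 : ∀ u < 283413, (fun u => chkFix tab mwordsA u) u = true := ext_range (a := 283370) (len := 43) h6590 m2_6590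
  have h6592 : ∀ u < 283456, (fun u => chkFix tab mwordsA u) u = true := ext_range (a := 283413) (len := 43) h6591 m2_6591
  have h6593 : ∀ u < 283499, (fun u => chkFix tab mwordsA u) u = true := ext_range (a := 283456) (len := 43) h6592 m2_6592
  have h6594 : ∀ u < 283542, (fun u => chkFix tab mwordsA u) u = true := ext_range (a := 283499) (len := 43) h6593 m2_6593
  have h6595 : ∀ u < 283585, (fun u => chkFix tab mwordsA u) u = true := ext_range (a := 283542) (len := 43) h6594 m2_6594
  have h6596 : ∀ u < 283628, (fun u => chkFix tab mwordsA u) u = true := ext_range (a := 283585) (len := 43) h6595 m2_6595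
  have h6597 : ∀ u < 283671, (fun u => chkFix tab mwordsA u) u = true := ext_range (a := 283628) (len := 43) h6596 m2_6596
  have h6598 : ∀ u < 283714, (fun u => chkFix tab mwordsA u) u = true := ext_range (a := 283671) (len := 43) h6597 m2_6597
  have h6599 : ∀ u < 283757, (fun u => chkFix tab mwordsA u) u = true := ext_range (a := 283714) (len := 43) h6598 m2_6598
  have h6600 : ∀ u < 283800, (fun u => chkFix tab mwordsA u) u = true := ext_range (a := 283757) (len := 43) h6599 m2_6599
  have h6601 : ∀ u < 283843, (fun u => chkFix tab mwordsA u) u = true := ext_range (a := 283800) (len := 43) h6600 m2_6600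
  have h6602 : ∀ u < 283886, (fun u => chkFix tab mwordsA u) u = true := ext_range (a := 283843) (len := 43) h6601 m2_6601
  have h6603 : ∀ u < 283929, (fun u => chkFix tab mwordsA u) u = true := ext_range (a := 283886) (len := 43) h6602 m2_6602
  have h6604 : ∀ u < 283972, (fun u => chkFix tab mwordsA u) u = true := ext_range (a := 283929) (len := 43) h6603 m2_6603
  have h6605 : ∀ u < 284015, (fun u => chkFix tab mwordsA u) u = true := ext_range (a := 283972) (len := 43) h6604 m2_6604
  have h6606 : ∀ u < 284058, (fun u => chkFix tab mwordsA u) u = true := ext_range (a := 284015) (len := 43) h6605 m2_6605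
  have h6607 : ∀ u < 284101, (fun u => chkFix tab mwordsA u) u = true := ext_range (a := 284058) (len := 43) h6606 m2_6606
  have h6608 : ∀ u < 284144, (fun u => chkFix tab mwordsA u) u = true := ext_range (a := 284101) (len := 43) h6607 m2_6607
  have h6609 : ∀ u < 284187, (fun u => chkFix tab mwordsA u) u = true := ext_range (a := 284144) (len := 43) h6608 m2_6608
  have h6610 : ∀ u < 284230, (fun u => chkFix tab mwordsA u) u = true := ext_range (a := 284187) (len := 43) h6609 m2_6609
  have h6611 : ∀ u < 284273, (fun u => chkFix tab mwordsA u) u = true := ext_range (a := 284230) (len := 43) h6610 m2_6610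
  have h6612 : ∀ u < 284316, (fun u => chkFix tab mwordsA u) u = true := ext_range (a := 284273) (len := 43) h6611 m2_6611
  have h6613 : ∀ u < 284359, (fun u => chkFix tab mwordsA u) u = true := ext_range (a := 284316) (len := 43) h6612 m2_6612
  have h6614 : ∀ u < 284402, (fun u => chkFix tab mwordsA u) u = true := ext_range (a := 284359) (len := 43) h6613 m2_6613
  have h6615 : ∀ u < 284445, (fun u => chkFix tab mwordsA u) u = true := ext_range (a := 284402) (len := 43) h6614 m2_6614
  have h6616 : ∀ u < 284488, (fun u => chkFix tab mwordsA u) u = true := ext_range (a := 284445) (len := 43) h6615 m2_6615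
  have h6617 : ∀ u < 284531, (fun u => chkFix tab mwordsA u) u = true := ext_range (a := 284488) (len := 43) h6616 m2_6616
  have h6618 : ∀ u < 284574, (fun u => chkFix tab mwordsA u) u = true := ext_range (a := 284531) (len := 43) h6617 m2_6617
  have h6619 : ∀ u < 284617, (fun u => chkFix tab mwordsA u) u = true := ext_range (a := 284574) (len := 43) h6618 m2_6618
  have h6620 : ∀ u < 284660, (fun u => chkFix tab mwordsA u) u = true := ext_range (a := 284617) (len := 43) h6619 m2_6619
  have h6621 : ∀ u < 284703, (fun u => chkFix tab mwordsA u) u = true := ext_range (a := 284660) (len := 43) h6620 m2_6620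
  have h6622 : ∀ u < 284746, (fun u => chkFix tab mwordsA u) u = true := ext_range (a := 284703) (len := 43) h6621 m2_6621
  have h6623 : ∀ u < 284789, (fun u => chkFix tab mwordsA u) u = true := ext_range (a := 284746) (len := 43) h6622 m2_6622
  have h6624 : ∀ u < 284832, (fun u => chkFix tab mwordsA u) u = true := ext_range (a := 284789) (len := 43) h6623 m2_6623
  have h6625 : ∀ u < 284875, (fun u => chkFix tab mwordsA u) u = true := ext_range (a := 284832) (len := 43) h6624 m2_6624
  have h6626 : ∀ u < 284918, (fun u => chkFix tab mwordsA u) u = true := ext_range (a := 284875) (len := 43) h6625 m2_6625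
  have h6627 : ∀ u < 284961, (fun u => chkFix tab mwordsA u) u = true := ext_range (a := 284918) (len := 43) h6626 m2_6626
  have h6628 : ∀ u < 285004, (fun u => chkFix tab mwordsA u) u = true := ext_range (a := 284961) (len := 43) h6627 m2_6627
  have h6629 : ∀ u < 285047, (fun u => chkFix tab mwordsA u) u = true := ext_range (a := 285004) (len := 43) h6628 m2_6628
  have h6630 : ∀ u < 285090, (fun u => chkFix tab mwordsA u) u = true := ext_range (a := 285047) (len := 43) h6629 m2_6629
  have h6631 : ∀ u < 285133, (fun u => chkFix tab mwordsA u) u = true := ext_range (a := 285090) (len := 43) h6630 m2_6630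
  have h6632 : ∀ u < 285176, (fun u => chkFix tab mwordsA u) u = true := ext_range (a := 285133) (len := 43) h6631 m2_6631
  have h6633 : ∀ u < 285219, (fun u => chkFix tab mwordsA u) u = true := ext_range (a := 285176) (len := 43) h6632 m2_6632
  have h6634 : ∀ u < 285262, (fun u => chkFix tab mwordsA u) u = true := ext_range (a := 285219) (len := 43) h6633 m2_6633
  have h6635 : ∀ u < 285305, (fun u => chkFix tab mwordsA u) u = true := ext_range (a := 285262) (len := 43) h6634 m2_6634
  have h6636 : ∀ u < 285348, (fun u => chkFix tab mwordsA u) u = true := ext_range (a := 285305) (len := 43) h6635 m2_6635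
  have h6637 : ∀ u < 285391, (fun u => chkFix tab mwordsA u) u = true := ext_range (a := 285348) (len := 43) h6636 m2_6636
  have h6638 : ∀ u < 285434, (fun u => chkFix tab mwordsA u) u = true := ext_range (a := 285391) (len := 43) h6637 m2_6637
  have h6639 : ∀ u < 285477, (fun u => chkFix tab mwordsA u) u = true := ext_range (a := 285434) (len := 43) h6638 m2_6638
  have h6640 : ∀ u < 285520, (fun u => chkFix tab mwordsA u) u = true := ext_range (a := 285477) (len := 43) h6639 m2_6639
  have h6641 : ∀ u < 285563, (fun u => chkFix tab mwordsA u) u = true := ext_range (a := 285520) (len := 43) h6640 m2_6640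
  have h6642 : ∀ u < 285606, (fun u => chkFix tab mwordsA u) u = true := ext_range (a := 285563) (len := 43) h6641 m2_6641
  have h6643 : ∀ u < 285649, (fun u => chkFix tab mwordsA u) u = true := ext_range (a := 285606) (len := 43) h6642 m2_6642
  have h6644 : ∀ u < 285692, (fun u => chkFix tab mwordsA u) u = true := ext_range (a := 285649) (len := 43) h6643 m2_6643
  have h6645 : ∀ u < 285735, (fun u => chkFix tab mwordsA u) u = true := ext_range (a := 285692) (len := 43) h6644 m2_6644
  have h6646 : ∀ u < 285778, (fun u => chkFix tab mwordsA u) u = true := ext_range (a := 285735) (len := 43) h6645 m2_6645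
  have h6647 : ∀ u < 285821, (fun u => chkFix tab mwordsA u) u = true := ext_range (a := 285778) (len := 43) h6646 m2_6646
  have h6648 : ∀ u < 285864, (fun u => chkFix tab mwordsA u) u = true := ext_range (a := 285821) (len := 43) h6647 m2_6647
  have h6649 : ∀ u < 285907, (fun u => chkFix tab mwordsA u) u = true := ext_range (a := 285864) (len := 43) h6648 m2_6648
  have h6650 : ∀ u < 285950, (fun u => chkFix tab mwordsA u) u = true := ext_range (a := 285907) (len := 43) h6649 m2_6649
  have h6651 : ∀ u < 285993, (fun u => chkFix tab mwordsA u) u = true := ext_range (a := 285950) (len := 43) h6650 m2_6650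
  have h6652 : ∀ u < 286036, (fun u => chkFix tab mwordsA u) u = true := ext_range (a := 285993) (len := 43) h6651 m2_6651
  have h6653 : ∀ u < 286079, (fun u => chkFix tab mwordsA u) u = true := ext_range (a := 286036) (len := 43) h6652 m2_6652
  have h6654 : ∀ u < 286122, (fun u => chkFix tab mwordsA u) u = true := ext_range (a := 286079) (len := 43) h6653 m2_6653
  have h6655 : ∀ u < 286165, (fun u => chkFix tab mwordsA u) u = true := ext_range (a := 286122) (len := 43) h6654 m2_6654
  have h6656 : ∀ u < 286208, (fun u => chkFix tab mwordsA u) u = true := ext_range (a := 286165) (len := 43) h6655 m2_6655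
  have h6657 : ∀ u < 286251, (fun u => chkFix tab mwordsA u) u = true := ext_range (a := 286208) (len := 43) h6656 m2_6656
  have h6658 : ∀ u < 286294, (fun u => chkFix tab mwordsA u) u = true := ext_range (a := 286251) (len := 43) h6657 m2_6657
  have h6659 : ∀ u < 286337, (fun u => chkFix tab mwordsA u) u = true := ext_range (a := 286294) (len := 43) h6658 m2_6658
  have h6660 : ∀ u < 286380, (fun u => chkFix tab mwordsA u) u = true := ext_range (a := 286337) (len := 43) h6659 m2_6659
  have h6661 : ∀ u < 286423, (fun u => chkFix tab mwordsA u) u = true := ext_range (a := 286380) (len := 43) h6660 m2_6660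
  have h6662 : ∀ u < 286466, (fun u => chkFix tab mwordsA u) u = true := ext_range (a := 286423) (len := 43) h6661 m2_6661
  have h6663 : ∀ u < 286509, (fun u => chkFix tab mwordsA u) u = true := ext_range (a := 286466) (len := 43) h6662 m2_6662
  have h6664 : ∀ u < 286552, (fun u => chkFix tab mwordsA u) u = true := ext_range (a := 286509) (len := 43) h6663 m2_6663
  have h6665 : ∀ u < 286595, (fun u => chkFix tab mwordsA u) u = true := ext_range (a := 286552) (len := 43) h6664 m2_6664
  have h6666 : ∀ u < 286638, (fun u => chkFix tab mwordsA u) u = true := ext_range (a := 286595) (len := 43) h6665 m2_6665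
  have h6667 : ∀ u < 286681, (fun u => chkFix tab mwordsA u) u = true := ext_range (a := 286638) (len := 43) h6666 m2_6666
  have h6668 : ∀ u < 286724, (fun u => chkFix tab mwordsA u) u = true := ext_range (a := 286681) (len := 43) h6667 m2_6667
  have h6669 : ∀ u < 286767, (fun u => chkFix tab mwordsA u) u = true := ext_range (a := 286724) (len := 43) h6668 m2_6668
  have h6670 : ∀ u < 286810, (fun u => chkFix tab mwordsA u) u = true := ext_range (a := 286767) (len := 43) h6669 m2_6669
  have h6671 : ∀ u < 286853, (fun u => chkFix tab mwordsA u) u = true := ext_range (a := 286810) (len := 43) h6670 m2_6670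
  have h6672 : ∀ u < 286896, (fun u => chkFix tab mwordsA u) u = true := ext_range (a := 286853) (len := 43) h6671 m2_6671
  have h6673 : ∀ u < 286939, (fun u => chkFix tab mwordsA u) u = true := ext_range (a := 286896) (len := 43) h6672 m2_6672
  have h6674 : ∀ u < 286982, (fun u => chkFix tab mwordsA u) u = true := ext_range (a := 286939) (len := 43) h6673 m2_6673
  have h6675 : ∀ u < 287025, (fun u => chkFix tab mwordsA u) u = true := ext_range (a := 286982) (len := 43) h6674 m2_6674
  have h6676 : ∀ u < 287068, (fun u => chkFix tab mwordsA u) u = true := ext_range (a := 287025) (len := 43) h6675 m2_6675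
  have h6677 : ∀ u < 287111, (fun u => chkFix tab mwordsA u) u = true := ext_range (a := 287068) (len := 43) h6676 m2_6676
  have h6678 : ∀ u < 287154, (fun u => chkFix tab mwordsA u) u = true := ext_range (a := 287111) (len := 43) h6677 m2_6677
  have h6679 : ∀ u < 287197, (fun u => chkFix tab mwordsA u) u = true := ext_range (a := 287154) (len := 43) h6678 m2_6678
  have h6680 : ∀ u < 287240, (fun u => chkFix tab mwordsA u) u = true := ext_range (a := 287197) (len := 43) h6679 m2_6679
  have h6681 : ∀ u < 287283, (fun u => chkFix tab mwordsA u) u = true := ext_range (a := 287240) (len := 43) h6680 m2_6680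
  have h6682 : ∀ u < 287326, (fun u => chkFix tab mwordsA u) u = true := ext_range (a := 287283) (len := 43) h6681 m2_6681
  have h6683 : ∀ u < 287369, (fun u => chkFix tab mwordsA u) u = true := ext_range (a := 287326) (len := 43) h6682 m2_6682
  have h6684 : ∀ u < 287412, (fun u => chkFix tab mwordsA u) u = true := ext_range (a := 287369) (len := 43) h6683 m2_6683
  have h6685 : ∀ u < 287455, (fun u => chkFix tab mwordsA u) u = true := ext_range (a := 287412) (len := 43) h6684 m2_6684
  have h6686 : ∀ u < 287498, (fun u => chkFix tab mwordsA u) u = true := ext_range (a := 287455) (len := 43) h6685 m2_6685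
  have h6687 : ∀ u < 287541, (fun u => chkFix tab mwordsA u) u = true := ext_range (a := 287498) (len := 43) h6686 m2_6686
  have h6688 : ∀ u < 287584, (fun u => chkFix tab mwordsA u) u = true := ext_range (a := 287541) (len := 43) h6687 m2_6687
  have h6689 : ∀ u < 287627, (fun u => chkFix tab mwordsA u) u = true := ext_range (a := 287584) (len := 43) h6688 m2_6688
  have h6690 : ∀ u < 287670, (fun u => chkFix tab mwordsA u) u = true := ext_range (a := 287627) (len := 43) h6689 m2_6689
  have h6691 : ∀ u < 287713, (fun u => chkFix tab mwordsA u) u = true := ext_range (a := 287670) (len := 43) h6690 m2_6690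
  have h6692 : ∀ u < 287756, (fun u => chkFix tab mwordsA u) u = true := ext_range (a := 287713) (len := 43) h6691 m2_6691
  have h6693 : ∀ u < 287799, (fun u => chkFix tab mwordsA u) u = true := ext_range (a := 287756) (len := 43) h6692 m2_6692
  have h6694 : ∀ u < 287842, (fun u => chkFix tab mwordsA u) u = true := ext_range (a := 287799) (len := 43) h6693 m2_6693
  have h6695 : ∀ u < 287885, (fun u => chkFix tab mwordsA u) u = true := ext_range (a := 287842) (len := 43) h6694 m2_6694
  have h6696 : ∀ u < 287928, (fun u => chkFix tab mwordsA u) u = true := ext_range (a := 287885) (len := 43) h6695 m2_6695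
  have h6697 : ∀ u < 287971, (fun u => chkFix tab mwordsA u) u = true := ext_range (a := 287928) (len := 43) h6696 m2_6696
  have h6698 : ∀ u < 288014, (fun u => chkFix tab mwordsA u) u = true := ext_range (a := 287971) (len := 43) h6697 m2_6697
  have h6699 : ∀ u < 288057, (fun u => chkFix tab mwordsA u) u = true := ext_range (a := 288014) (len := 43) h6698 m2_6698
  have h6700 : ∀ u < 288100, (fun u => chkFix tab mwordsA u) u = true := ext_range (a := 288057) (len := 43) h6699 m2_6699
  have h6701 : ∀ u < 288143, (fun u => chkFix tab mwordsA u) u = true := ext_range (a := 288100) (len := 43) h6700 m2_6700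
  have h6702 : ∀ u < 288186, (fun u => chkFix tab mwordsA u) u = true := ext_range (a := 288143) (len := 43) h6701 m2_6701
  have h6703 : ∀ u < 288229, (fun u => chkFix tab mwordsA u) u = true := ext_range (a := 288186) (len := 43) h6702 m2_6702
  have h6704 : ∀ u < 288272, (fun u => chkFix tab mwordsA u) u = true := ext_range (a := 288229) (len := 43) h6703 m2_6703
  have h6705 : ∀ u < 288315, (fun u => chkFix tab mwordsA u) u = true := ext_range (a := 288272) (len := 43) h6704 m2_6704
  have h6706 : ∀ u < 288358, (fun u => chkFix tab mwordsA u) u = true := ext_range (a := 288315) (len := 43) h6705 m2_6705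
  have h6707 : ∀ u < 288401, (fun u => chkFix tab mwordsA u) u = true := ext_range (a := 288358) (len := 43) h6706 m2_6706
  have h6708 : ∀ u < 288444, (fun u => chkFix tab mwordsA u) u = true := ext_range (a := 288401) (len := 43) h6707 m2_6707
  have h6709 : ∀ u < 288487, (fun u => chkFix tab mwordsA u) u = true := ext_range (a := 288444) (len := 43) h6708 m2_6708
  have h6710 : ∀ u < 288530, (fun u => chkFix tab mwordsA u) u = true := ext_range (a := 288487) (len := 43) h6709 m2_6709
  have h6711 : ∀ u < 288573, (fun u => chkFix tab mwordsA u) u = true := ext_range (a := 288530) (len := 43) h6710 m2_6710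
  have h6712 : ∀ u < 288616, (fun u => chkFix tab mwordsA u) u = true := ext_range (a := 288573) (len := 43) h6711 m2_6711
  have h6713 : ∀ u < 288659, (fun u => chkFix tab mwordsA u) u = true := ext_range (a := 288616) (len := 43) h6712 m2_6712
  have h6714 : ∀ u < 288702, (fun u => chkFix tab mwordsA u) u = true := ext_range (a := 288659) (len := 43) h6713 m2_6713
  have h6715 : ∀ u < 288745, (fun u => chkFix tab mwordsA u) u = true := ext_range (a := 288702) (len := 43) h6714 m2_6714
  have h6716 : ∀ u < 288788, (fun u => chkFix tab mwordsA u) u = true := ext_range (a := 288745) (len := 43) h6715 m2_6715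
  have h6717 : ∀ u < 288831, (fun u => chkFix tab mwordsA u) u = true := ext_range (a := 288788) (len := 43) h6716 m2_6716
  have h6718 : ∀ u < 288874, (fun u => chkFix tab mwordsA u) u = true := ext_range (a := 288831) (len := 43) h6717 m2_6717
  have h6719 : ∀ u < 288917, (fun u => chkFix tab mwordsA u) u = true := ext_range (a := 288874) (len := 43) h6718 m2_6718
  have h6720 : ∀ u < 288960, (fun u => chkFix tab mwordsA u) u = true := ext_range (a := 288917) (len := 43) h6719 m2_6719
  have h6721 : ∀ u < 289003, (fun u => chkFix tab mwordsA u) u = true := ext_range (a := 288960) (len := 43) h6720 m2_6720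
  have h6722 : ∀ u < 289046, (fun u => chkFix tab mwordsA u) u = true := ext_range (a := 289003) (len := 43) h6721 m2_6721
  have h6723 : ∀ u < 289089, (fun u => chkFix tab mwordsA u) u = true := ext_range (a := 289046) (len := 43) h6722 m2_6722
  have h6724 : ∀ u < 289132, (fun u => chkFix tab mwordsA u) u = true := ext_range (a := 289089) (len := 43) h6723 m2_6723
  have h6725 : ∀ u < 289175, (fun u => chkFix tab mwordsA u) u = true := ext_range (a := 289132) (len := 43) h6724 m2_6724
  have h6726 : ∀ u < 289218, (fun u => chkFix tab mwordsA u) u = true := ext_range (a := 289175) (len := 43) h6725 m2_6725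
  have h6727 : ∀ u < 289261, (fun u => chkFix tab mwordsA u) u = true := ext_range (a := 289218) (len := 43) h6726 m2_6726
  have h6728 : ∀ u < 289304, (fun u => chkFix tab mwordsA u) u = true := ext_range (a := 289261) (len := 43) h6727 m2_6727
  have h6729 : ∀ u < 289347, (fun u => chkFix tab mwordsA u) u = true := ext_range (a := 289304) (len := 43) h6728 m2_6728
  have h6730 : ∀ u < 289390, (fun u => chkFix tab mwordsA u) u = true := ext_range (a := 289347) (len := 43) h6729 m2_6729
  have h6731 : ∀ u < 289433, (fun u => chkFix tab mwordsA u) u = true := ext_range (a := 289390) (len := 43) h6730 m2_6730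
  have h6732 : ∀ u < 289476, (fun u => chkFix tab mwordsA u) u = true := ext_range (a := 289433) (len := 43) h6731 m2_6731
  have h6733 : ∀ u < 289519, (fun u => chkFix tab mwordsA u) u = true := ext_range (a := 289476) (len := 43) h6732 m2_6732
  have h6734 : ∀ u < 289562, (fun u => chkFix tab mwordsA u) u = true := ext_range (a := 289519) (len := 43) h6733 m2_6733
  have h6735 : ∀ u < 289605, (fun u => chkFix tab mwordsA u) u = true := ext_range (a := 289562) (len := 43) h6734 m2_6734
  have h6736 : ∀ u < 289648, (fun u => chkFix tab mwordsA u) u = true := ext_range (a := 289605) (len := 43) h6735 m2_6735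
  have h6737 : ∀ u < 289691, (fun u => chkFix tab mwordsA u) u = true := ext_range (a := 289648) (len := 43) h6736 m2_6736
  have h6738 : ∀ u < 289734, (fun u => chkFix tab mwordsA u) u = true := ext_range (a := 289691) (len := 43) h6737 m2_6737
  have h6739 : ∀ u < 289777, (fun u => chkFix tab mwordsA u) u = true := ext_range (a := 289734) (len := 43) h6738 m2_6738
  have h6740 : ∀ u < 289820, (fun u => chkFix tab mwordsA u) u = true := ext_range (a := 289777) (len := 43) h6739 m2_6739
  have h6741 : ∀ u < 289863, (fun u => chkFix tab mwordsA u) u = true := ext_range (a := 289820) (len := 43) h6740 m2_6740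
  have h6742 : ∀ u < 289906, (fun u => chkFix tab mwordsA u) u = true := ext_range (a := 289863) (len := 43) h6741 m2_6741
  have h6743 : ∀ u < 289949, (fun u => chkFix tab mwordsA u) u = true := ext_range (a := 289906) (len := 43) h6742 m2_6742
  have h6744 : ∀ u < 289992, (fun u => chkFix tab mwordsA u) u = true := ext_range (a := 289949) (len := 43) h6743 m2_6743
  have h6745 : ∀ u < 290035, (fun u => chkFix tab mwordsA u) u = true := ext_range (a := 289992) (len := 43) h6744 m2_6744
  have h6746 : ∀ u < 290078, (fun u => chkFix tab mwordsA u) u = true := ext_range (a := 290035) (len := 43) h6745 m2_6745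
  have h6747 : ∀ u < 290121, (fun u => chkFix tab mwordsA u) u = true := ext_range (a := 290078) (len := 43) h6746 m2_6746
  have h6748 : ∀ u < 290164, (fun u => chkFix tab mwordsA u) u = true := ext_range (a := 290121) (len := 43) h6747 m2_6747
  have h6749 : ∀ u < 290207, (fun u => chkFix tab mwordsA u) u = true := ext_range (a := 290164) (len := 43) h6748 m2_6748
  have h6750 : ∀ u < 290250, (fun u => chkFix tab mwordsA u) u = true := ext_range (a := 290207) (len := 43) h6749 m2_6749
  have h6751 : ∀ u < 290293, (fun u => chkFix tab mwordsA u) u = true := ext_range (a := 290250) (len := 43) h6750 m2_6750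
  have h6752 : ∀ u < 290336, (fun u => chkFix tab mwordsA u) u = true := ext_range (a := 290293) (len := 43) h6751 m2_6751
  have h6753 : ∀ u < 290379, (fun u => chkFix tab mwordsA u) u = true := ext_range (a := 290336) (len := 43) h6752 m2_6752
  have h6754 : ∀ u < 290422, (fun u => chkFix tab mwordsA u) u = true := ext_range (a := 290379) (len := 43) h6753 m2_6753
  have h6755 : ∀ u < 290465, (fun u => chkFix tab mwordsA u) u = true := ext_range (a := 290422) (len := 43) h6754 m2_6754
  have h6756 : ∀ u < 290508, (fun u => chkFix tab mwordsA u) u = true := ext_range (a := 290465) (len := 43) h6755 m2_6755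
  have h6757 : ∀ u < 290551, (fun u => chkFix tab mwordsA u) u = true := ext_range (a := 290508) (len := 43) h6756 m2_6756
  have h6758 : ∀ u < 290594, (fun u => chkFix tab mwordsA u) u = true := ext_range (a := 290551) (len := 43) h6757 m2_6757
  have h6759 : ∀ u < 290637, (fun u => chkFix tab mwordsA u) u = true := ext_range (a := 290594) (len := 43) h6758 m2_6758
  have h6760 : ∀ u < 290680, (fun u => chkFix tab mwordsA u) u = true := ext_range (a := 290637) (len := 43) h6759 m2_6759
  have h6761 : ∀ u < 290723, (fun u => chkFix tab mwordsA u) u = true := ext_range (a := 290680) (len := 43) h6760 m2_6760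
  have h6762 : ∀ u < 290766, (fun u => chkFix tab mwordsA u) u = true := ext_range (a := 290723) (len := 43) h6761 m2_6761
  have h6763 : ∀ u < 290809, (fun u => chkFix tab mwordsA u) u = true := ext_range (a := 290766) (len := 43) h6762 m2_6762
  have h6764 : ∀ u < 290852, (fun u => chkFix tab mwordsA u) u = true := ext_range (a := 290809) (len := 43) h6763 m2_6763
  have h6765 : ∀ u < 290895, (fun u => chkFix tab mwordsA u) u = true := ext_range (a := 290852) (len := 43) h6764 m2_6764
  have h6766 : ∀ u < 290938, (fun u => chkFix tab mwordsA u) u = true := ext_range (a := 290895) (len := 43) h6765 m2_6765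
  have h6767 : ∀ u < 290981, (fun u => chkFix tab mwordsA u) u = true := ext_range (a := 290938) (len := 43) h6766 m2_6766
  have h6768 : ∀ u < 291024, (fun u => chkFix tab mwordsA u) u = true := ext_range (a := 290981) (len := 43) h6767 m2_6767
  have h6769 : ∀ u < 291067, (fun u => chkFix tab mwordsA u) u = true := ext_range (a := 291024) (len := 43) h6768 m2_6768
  have h6770 : ∀ u < 291110, (fun u => chkFix tab mwordsA u) u = true := ext_range (a := 291067) (len := 43) h6769 m2_6769
  have h6771 : ∀ u < 291153, (fun u => chkFix tab mwordsA u) u = true := ext_range (a := 291110) (len := 43) h6770 m2_6770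
  have h6772 : ∀ u < 291196, (fun u => chkFix tab mwordsA u) u = true := ext_range (a := 291153) (len := 43) h6771 m2_6771
  have h6773 : ∀ u < 291239, (fun u => chkFix tab mwordsA u) u = true := ext_range (a := 291196) (len := 43) h6772 m2_6772
  have h6774 : ∀ u < 291282, (fun u => chkFix tab mwordsA u) u = true := ext_range (a := 291239) (len := 43) h6773 m2_6773
  have h6775 : ∀ u < 291325, (fun u => chkFix tab mwordsA u) u = true := ext_range (a := 291282) (len := 43) h6774 m2_6774
  have h6776 : ∀ u < 291368, (fun u => chkFix tab mwordsA u) u = true := ext_range (a := 291325) (len := 43) h6775 m2_6775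
  have h6777 : ∀ u < 291411, (fun u => chkFix tab mwordsA u) u = true := ext_range (a := 291368) (len := 43) h6776 m2_6776
  have h6778 : ∀ u < 291454, (fun u => chkFix tab mwordsA u) u = true := ext_range (a := 291411) (len := 43) h6777 m2_6777
  have h6779 : ∀ u < 291497, (fun u => chkFix tab mwordsA u) u = true := ext_range (a := 291454) (len := 43) h6778 m2_6778
  have h6780 : ∀ u < 291540, (fun u => chkFix tab mwordsA u) u = true := ext_range (a := 291497) (len := 43) h6779 m2_6779
  have h6781 : ∀ u < 291583, (fun u => chkFix tab mwordsA u) u = true := ext_range (a := 291540) (len := 43) h6780 m2_6780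
  have h6782 : ∀ u < 291626, (fun u => chkFix tab mwordsA u) u = true := ext_range (a := 291583) (len := 43) h6781 m2_6781
  have h6783 : ∀ u < 291669, (fun u => chkFix tab mwordsA u) u = true := ext_range (a := 291626) (len := 43) h6782 m2_6782
  have h6784 : ∀ u < 291712, (fun u => chkFix tab mwordsA u) u = true := ext_range (a := 291669) (len := 43) h6783 m2_6783
  have h6785 : ∀ u < 291755, (fun u => chkFix tab mwordsA u) u = true := ext_range (a := 291712) (len := 43) h6784 m2_6784
  have h6786 : ∀ u < 291798, (fun u => chkFix tab mwordsA u) u = true := ext_range (a := 291755) (len := 43) h6785 m2_6785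
  have h6787 : ∀ u < 291841, (fun u => chkFix tab mwordsA u) u = true := ext_range (a := 291798) (len := 43) h6786 m2_6786
  have h6788 : ∀ u < 291884, (fun u => chkFix tab mwordsA u) u = true := ext_range (a := 291841) (len := 43) h6787 m2_6787
  have h6789 : ∀ u < 291927, (fun u => chkFix tab mwordsA u) u = true := ext_range (a := 291884) (len := 43) h6788 m2_6788
  have h6790 : ∀ u < 291970, (fun u => chkFix tab mwordsA u) u = true := ext_range (a := 291927) (len := 43) h6789 m2_6789
  have h6791 : ∀ u < 292013, (fun u => chkFix tab mwordsA u) u = true := ext_range (a := 291970) (len := 43) h6790 m2_6790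
  have h6792 : ∀ u < 292056, (fun u => chkFix tab mwordsA u) u = true := ext_range (a := 292013) (len := 43) h6791 m2_6791
  have h6793 : ∀ u < 292099, (fun u => chkFix tab mwordsA u) u = true := ext_range (a := 292056) (len := 43) h6792 m2_6792
  have h6794 : ∀ u < 292142, (fun u => chkFix tab mwordsA u) u = true := ext_range (a := 292099) (len := 43) h6793 m2_6793
  have h6795 : ∀ u < 292185, (fun u => chkFix tab mwordsA u) u = true := ext_range (a := 292142) (len := 43) h6794 m2_6794
  have h6796 : ∀ u < 292228, (fun u => chkFix tab mwordsA u) u = true := ext_range (a := 292185) (len := 43) h6795 m2_6795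
  have h6797 : ∀ u < 292271, (fun u => chkFix tab mwordsA u) u = true := ext_range (a := 292228) (len := 43) h6796 m2_6796
  have h6798 : ∀ u < 292314, (fun u => chkFix tab mwordsA u) u = true := ext_range (a := 292271) (len := 43) h6797 m2_6797
  have h6799 : ∀ u < 292357, (fun u => chkFix tab mwordsA u) u = true := ext_range (a := 292314) (len := 43) h6798 m2_6798
  have h6800 : ∀ u < 292400, (fun u => chkFix tab mwordsA u) u = true := ext_range (a := 292357) (len := 43) h6799 m2_6799
  have h6801 : ∀ u < 292443, (fun u => chkFix tab mwordsA u) u = true := ext_range (a := 292400) (len := 43) h6800 m2_6800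
  have h6802 : ∀ u < 292486, (fun u => chkFix tab mwordsA u) u = true := ext_range (a := 292443) (len := 43) h6801 m2_6801
  have h6803 : ∀ u < 292529, (fun u => chkFix tab mwordsA u) u = true := ext_range (a := 292486) (len := 43) h6802 m2_6802
  have h6804 : ∀ u < 292572, (fun u => chkFix tab mwordsA u) u = true := ext_range (a := 292529) (len := 43) h6803 m2_6803
  have h6805 : ∀ u < 292615, (fun u => chkFix tab mwordsA u) u = true := ext_range (a := 292572) (len := 43) h6804 m2_6804
  have h6806 : ∀ u < 292658, (fun u => chkFix tab mwordsA u) u = true := ext_range (a := 292615) (len := 43) h6805 m2_6805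
  have h6807 : ∀ u < 292701, (fun u => chkFix tab mwordsA u) u = true := ext_range (a := 292658) (len := 43) h6806 m2_6806
  have h6808 : ∀ u < 292744, (fun u => chkFix tab mwordsA u) u = true := ext_range (a := 292701) (len := 43) h6807 m2_6807
  have h6809 : ∀ u < 292787, (fun u => chkFix tab mwordsA u) u = true := ext_range (a := 292744) (len := 43) h6808 m2_6808
  have h6810 : ∀ u < 292830, (fun u => chkFix tab mwordsA u) u = true := ext_range (a := 292787) (len := 43) h6809 m2_6809
  have h6811 : ∀ u < 292873, (fun u => chkFix tab mwordsA u) u = true := ext_range (a := 292830) (len := 43) h6810 m2_6810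
  have h6812 : ∀ u < 292916, (fun u => chkFix tab mwordsA u) u = true := ext_range (a := 292873) (len := 43) h6811 m2_6811
  have h6813 : ∀ u < 292959, (fun u => chkFix tab mwordsA u) u = true := ext_range (a := 292916) (len := 43) h6812 m2_6812
  have h6814 : ∀ u < 293002, (fun u => chkFix tab mwordsA u) u = true := ext_range (a := 292959) (len := 43) h6813 m2_6813
  have h6815 : ∀ u < 293045, (fun u => chkFix tab mwordsA u) u = true := ext_range (a := 293002) (len := 43) h6814 m2_6814
  have h6816 : ∀ u < 293088, (fun u => chkFix tab mwordsA u) u = true := ext_range (a := 293045) (len := 43) h6815 m2_6815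
  have h6817 : ∀ u < 293131, (fun u => chkFix tab mwordsA u) u = true := ext_range (a := 293088) (len := 43) h6816 m2_6816
  have h6818 : ∀ u < 293174, (fun u => chkFix tab mwordsA u) u = true := ext_range (a := 293131) (len := 43) h6817 m2_6817
  have h6819 : ∀ u < 293217, (fun u => chkFix tab mwordsA u) u = true := ext_range (a := 293174) (len := 43) h6818 m2_6818
  have h6820 : ∀ u < 293260, (fun u => chkFix tab mwordsA u) u = true := ext_range (a := 293217) (len := 43) h6819 m2_6819
  have h6821 : ∀ u < 293303, (fun u => chkFix tab mwordsA u) u = true := ext_range (a := 293260) (len := 43) h6820 m2_6820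
  have h6822 : ∀ u < 293346, (fun u => chkFix tab mwordsA u) u = true := ext_range (a := 293303) (len := 43) h6821 m2_6821
  have h6823 : ∀ u < 293389, (fun u => chkFix tab mwordsA u) u = true := ext_range (a := 293346) (len := 43) h6822 m2_6822
  have h6824 : ∀ u < 293432, (fun u => chkFix tab mwordsA u) u = true := ext_range (a := 293389) (len := 43) h6823 m2_6823
  have h6825 : ∀ u < 293475, (fun u => chkFix tab mwordsA u) u = true := ext_range (a := 293432) (len := 43) h6824 m2_6824
  have h6826 : ∀ u < 293518, (fun u => chkFix tab mwordsA u) u = true := ext_range (a := 293475) (len := 43) h6825 m2_6825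
  have h6827 : ∀ u < 293561, (fun u => chkFix tab mwordsA u) u = true := ext_range (a := 293518) (len := 43) h6826 m2_6826
  have h6828 : ∀ u < 293604, (fun u => chkFix tab mwordsA u) u = true := ext_range (a := 293561) (len := 43) h6827 m2_6827
  have h6829 : ∀ u < 293647, (fun u => chkFix tab mwordsA u) u = true := ext_range (a := 293604) (len := 43) h6828 m2_6828
  have h6830 : ∀ u < 293690, (fun u => chkFix tab mwordsA u) u = true := ext_range (a := 293647) (len := 43) h6829 m2_6829
  have h6831 : ∀ u < 293733, (fun u => chkFix tab mwordsA u) u = true := ext_range (a := 293690) (len := 43) h6830 m2_6830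
  have h6832 : ∀ u < 293776, (fun u => chkFix tab mwordsA u) u = true := ext_range (a := 293733) (len := 43) h6831 m2_6831
  have h6833 : ∀ u < 293819, (fun u => chkFix tab mwordsA u) u = true := ext_range (a := 293776) (len := 43) h6832 m2_6832
  have h6834 : ∀ u < 293862, (fun u => chkFix tab mwordsA u) u = true := ext_range (a := 293819) (len := 43) h6833 m2_6833
  have h6835 : ∀ u < 293905, (fun u => chkFix tab mwordsA u) u = true := ext_range (a := 293862) (len := 43) h6834 m2_6834
  have h6836 : ∀ u < 293948, (fun u => chkFix tab mwordsA u) u = true := ext_range (a := 293905) (len := 43) h6835 m2_6835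
  have h6837 : ∀ u < 293991, (fun u => chkFix tab mwordsA u) u = true := ext_range (a := 293948) (len := 43) h6836 m2_6836
  have h6838 : ∀ u < 294034, (fun u => chkFix tab mwordsA u) u = true := ext_range (a := 293991) (len := 43) h6837 m2_6837
  have h6839 : ∀ u < 294077, (fun u => chkFix tab mwordsA u) u = true := ext_range (a := 294034) (len := 43) h6838 m2_6838
  have h6840 : ∀ u < 294120, (fun u => chkFix tab mwordsA u) u = true := ext_range (a := 294077) (len := 43) h6839 m2_6839
  have h6841 : ∀ u < 294163, (fun u => chkFix tab mwordsA u) u = true := ext_range (a := 294120) (len := 43) h6840 m2_6840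
  have h6842 : ∀ u < 294206, (fun u => chkFix tab mwordsA u) u = true := ext_range (a := 294163) (len := 43) h6841 m2_6841
  have h6843 : ∀ u < 294249, (fun u => chkFix tab mwordsA u) u = true := ext_range (a := 294206) (len := 43) h6842 m2_6842
  have h6844 : ∀ u < 294292, (fun u => chkFix tab mwordsA u) u = true := ext_range (a := 294249) (len := 43) h6843 m2_6843
  have h6845 : ∀ u < 294335, (fun u => chkFix tab mwordsA u) u = true := ext_range (a := 294292) (len := 43) h6844 m2_6844
  have h6846 : ∀ u < 294378, (fun u => chkFix tab mwordsA u) u = true := ext_range (a := 294335) (len := 43) h6845 m2_6845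
  have h6847 : ∀ u < 294421, (fun u => chkFix tab mwordsA u) u = true := ext_range (a := 294378) (len := 43) h6846 m2_6846
  have h6848 : ∀ u < 294464, (fun u => chkFix tab mwordsA u) u = true := ext_range (a := 294421) (len := 43) h6847 m2_6847
  have h6849 : ∀ u < 294507, (fun u => chkFix tab mwordsA u) u = true := ext_range (a := 294464) (len := 43) h6848 m2_6848
  have h6850 : ∀ u < 294550, (fun u => chkFix tab mwordsA u) u = true := ext_range (a := 294507) (len := 43) h6849 m2_6849
  have h6851 : ∀ u < 294593, (fun u => chkFix tab mwordsA u) u = true := ext_range (a := 294550) (len := 43) h6850 m2_6850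
  have h6852 : ∀ u < 294636, (fun u => chkFix tab mwordsA u) u = true := ext_range (a := 294593) (len := 43) h6851 m2_6851
  have h6853 : ∀ u < 294679, (fun u => chkFix tab mwordsA u) u = true := ext_range (a := 294636) (len := 43) h6852 m2_6852
  have h6854 : ∀ u < 294722, (fun u => chkFix tab mwordsA u) u = true := ext_range (a := 294679) (len := 43) h6853 m2_6853
  have h6855 : ∀ u < 294765, (fun u => chkFix tab mwordsA u) u = true := ext_range (a := 294722) (len := 43) h6854 m2_6854
  have h6856 : ∀ u < 294808, (fun u => chkFix tab mwordsA u) u = true := ext_range (a := 294765) (len := 43) h6855 m2_6855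
  have h6857 : ∀ u < 294851, (fun u => chkFix tab mwordsA u) u = true := ext_range (a := 294808) (len := 43) h6856 m2_6856
  have h6858 : ∀ u < 294894, (fun u => chkFix tab mwordsA u) u = true := ext_range (a := 294851) (len := 43) h6857 m2_6857
  have h6859 : ∀ u < 294937, (fun u => chkFix tab mwordsA u) u = true := ext_range (a := 294894) (len := 43) h6858 m2_6858
  have h6860 : ∀ u < 294980, (fun u => chkFix tab mwordsA u) u = true := ext_range (a := 294937) (len := 43) h6859 m2_6859
  have h6861 : ∀ u < 295023, (fun u => chkFix tab mwordsA u) u = true := ext_range (a := 294980) (len := 43) h6860 m2_6860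
  have h6862 : ∀ u < 295066, (fun u => chkFix tab mwordsA u) u = true := ext_range (a := 295023) (len := 43) h6861 m2_6861
  have h6863 : ∀ u < 295109, (fun u => chkFix tab mwordsA u) u = true := ext_range (a := 295066) (len := 43) h6862 m2_6862
  have h6864 : ∀ u < 295152, (fun u => chkFix tab mwordsA u) u = true := ext_range (a := 295109) (len := 43) h6863 m2_6863
  have h6865 : ∀ u < 295195, (fun u => chkFix tab mwordsA u) u = true := ext_range (a := 295152) (len := 43) h6864 m2_6864
  have h6866 : ∀ u < 295238, (fun u => chkFix tab mwordsA u) u = true := ext_range (a := 295195) (len := 43) h6865 m2_6865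
  have h6867 : ∀ u < 295281, (fun u => chkFix tab mwordsA u) u = true := ext_range (a := 295238) (len := 43) h6866 m2_6866
  have h6868 : ∀ u < 295324, (fun u => chkFix tab mwordsA u) u = true := ext_range (a := 295281) (len := 43) h6867 m2_6867
  have h6869 : ∀ u < 295367, (fun u => chkFix tab mwordsA u) u = true := ext_range (a := 295324) (len := 43) h6868 m2_6868
  have h6870 : ∀ u < 295410, (fun u => chkFix tab mwordsA u) u = true := ext_range (a := 295367) (len := 43) h6869 m2_6869
  have h6871 : ∀ u < 295453, (fun u => chkFix tab mwordsA u) u = true := ext_range (a := 295410) (len := 43) h6870 m2_6870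
  have h6872 : ∀ u < 295496, (fun u => chkFix tab mwordsA u) u = true := ext_range (a := 295453) (len := 43) h6871 m2_6871
  have h6873 : ∀ u < 295539, (fun u => chkFix tab mwordsA u) u = true := ext_range (a := 295496) (len := 43) h6872 m2_6872
  have h6874 : ∀ u < 295582, (fun u => chkFix tab mwordsA u) u = true := ext_range (a := 295539) (len := 43) h6873 m2_6873
  have h6875 : ∀ u < 295625, (fun u => chkFix tab mwordsA u) u = true := ext_range (a := 295582) (len := 43) h6874 m2_6874
  have h6876 : ∀ u < 295668, (fun u => chkFix tab mwordsA u) u = true := ext_range (a := 295625) (len := 43) h6875 m2_6875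
  have h6877 : ∀ u < 295711, (fun u => chkFix tab mwordsA u) u = true := ext_range (a := 295668) (len := 43) h6876 m2_6876
  have h6878 : ∀ u < 295754, (fun u => chkFix tab mwordsA u) u = true := ext_range (a := 295711) (len := 43) h6877 m2_6877
  have h6879 : ∀ u < 295797, (fun u => chkFix tab mwordsA u) u = true := ext_range (a := 295754) (len := 43) h6878 m2_6878
  have h6880 : ∀ u < 295840, (fun u => chkFix tab mwordsA u) u = true := ext_range (a := 295797) (len := 43) h6879 m2_6879
  have h6881 : ∀ u < 295883, (fun u => chkFix tab mwordsA u) u = true := ext_range (a := 295840) (len := 43) h6880 m2_6880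
  have h6882 : ∀ u < 295926, (fun u => chkFix tab mwordsA u) u = true := ext_range (a := 295883) (len := 43) h6881 m2_6881
  have h6883 : ∀ u < 295969, (fun u => chkFix tab mwordsA u) u = true := ext_range (a := 295926) (len := 43) h6882 m2_6882
  have h6884 : ∀ u < 296012, (fun u => chkFix tab mwordsA u) u = true := ext_range (a := 295969) (len := 43) h6883 m2_6883
  have h6885 : ∀ u < 296055, (fun u => chkFix tab mwordsA u) u = true := ext_range (a := 296012) (len := 43) h6884 m2_6884
  have h6886 : ∀ u < 296098, (fun u => chkFix tab mwordsA u) u = true := ext_range (a := 296055) (len := 43) h6885 m2_6885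
  have h6887 : ∀ u < 296141, (fun u => chkFix tab mwordsA u) u = true := ext_range (a := 296098) (len := 43) h6886 m2_6886
  have h6888 : ∀ u < 296184, (fun u => chkFix tab mwordsA u) u = true := ext_range (a := 296141) (len := 43) h6887 m2_6887
  have h6889 : ∀ u < 296227, (fun u => chkFix tab mwordsA u) u = true := ext_range (a := 296184) (len := 43) h6888 m2_6888
  have h6890 : ∀ u < 296270, (fun u => chkFix tab mwordsA u) u = true := ext_range (a := 296227) (len := 43) h6889 m2_6889
  have h6891 : ∀ u < 296313, (fun u => chkFix tab mwordsA u) u = true := ext_range (a := 296270) (len := 43) h6890 m2_6890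
  have h6892 : ∀ u < 296356, (fun u => chkFix tab mwordsA u) u = true := ext_range (a := 296313) (len := 43) h6891 m2_6891
  have h6893 : ∀ u < 296399, (fun u => chkFix tab mwordsA u) u = true := ext_range (a := 296356) (len := 43) h6892 m2_6892
  have h6894 : ∀ u < 296442, (fun u => chkFix tab mwordsA u) u = true := ext_range (a := 296399) (len := 43) h6893 m2_6893
  have h6895 : ∀ u < 296485, (fun u => chkFix tab mwordsA u) u = true := ext_range (a := 296442) (len := 43) h6894 m2_6894
  have h6896 : ∀ u < 296528, (fun u => chkFix tab mwordsA u) u = true := ext_range (a := 296485) (len := 43) h6895 m2_6895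
  have h6897 : ∀ u < 296571, (fun u => chkFix tab mwordsA u) u = true := ext_range (a := 296528) (len := 43) h6896 m2_6896
  have h6898 : ∀ u < 296614, (fun u => chkFix tab mwordsA u) u = true := ext_range (a := 296571) (len := 43) h6897 m2_6897
  have h6899 : ∀ u < 296657, (fun u => chkFix tab mwordsA u) u = true := ext_range (a := 296614) (len := 43) h6898 m2_6898
  have h6900 : ∀ u < 296700, (fun u => chkFix tab mwordsA u) u = true := ext_range (a := 296657) (len := 43) h6899 m2_6899
  have h6901 : ∀ u < 296743, (fun u => chkFix tab mwordsA u) u = true := ext_range (a := 296700) (len := 43) h6900 m2_6900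
  have h6902 : ∀ u < 296786, (fun u => chkFix tab mwordsA u) u = true := ext_range (a := 296743) (len := 43) h6901 m2_6901
  have h6903 : ∀ u < 296829, (fun u => chkFix tab mwordsA u) u = true := ext_range (a := 296786) (len := 43) h6902 m2_6902
  have h6904 : ∀ u < 296872, (fun u => chkFix tab mwordsA u) u = true := ext_range (a := 296829) (len := 43) h6903 m2_6903
  have h6905 : ∀ u < 296915, (fun u => chkFix tab mwordsA u) u = true := ext_range (a := 296872) (len := 43) h6904 m2_6904
  have h6906 : ∀ u < 296958, (fun u => chkFix tab mwordsA u) u = true := ext_range (a := 296915) (len := 43) h6905 m2_6905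
  have h6907 : ∀ u < 297001, (fun u => chkFix tab mwordsA u) u = true := ext_range (a := 296958) (len := 43) h6906 m2_6906
  have h6908 : ∀ u < 297044, (fun u => chkFix tab mwordsA u) u = true := ext_range (a := 297001) (len := 43) h6907 m2_6907
  have h6909 : ∀ u < 297087, (fun u => chkFix tab mwordsA u) u = true := ext_range (a := 297044) (len := 43) h6908 m2_6908
  have h6910 : ∀ u < 297130, (fun u => chkFix tab mwordsA u) u = true := ext_range (a := 297087) (len := 43) h6909 m2_6909
  have h6911 : ∀ u < 297173, (fun u => chkFix tab mwordsA u) u = true := ext_range (a := 297130) (len := 43) h6910 m2_6910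
  have h6912 : ∀ u < 297216, (fun u => chkFix tab mwordsA u) u = true := ext_range (a := 297173) (len := 43) h6911 m2_6911
  have h6913 : ∀ u < 297259, (fun u => chkFix tab mwordsA u) u = true := ext_range (a := 297216) (len := 43) h6912 m2_6912
  have h6914 : ∀ u < 297302, (fun u => chkFix tab mwordsA u) u = true := ext_range (a := 297259) (len := 43) h6913 m2_6913
  have h6915 : ∀ u < 297345, (fun u => chkFix tab mwordsA u) u = true := ext_range (a := 297302) (len := 43) h6914 m2_6914
  have h6916 : ∀ u < 297388, (fun u => chkFix tab mwordsA u) u = true := ext_range (a := 297345) (len := 43) h6915 m2_6915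
  have h6917 : ∀ u < 297431, (fun u => chkFix tab mwordsA u) u = true := ext_range (a := 297388) (len := 43) h6916 m2_6916
  have h6918 : ∀ u < 297474, (fun u => chkFix tab mwordsA u) u = true := ext_range (a := 297431) (len := 43) h6917 m2_6917
  have h6919 : ∀ u < 297517, (fun u => chkFix tab mwordsA u) u = true := ext_range (a := 297474) (len := 43) h6918 m2_6918
  have h6920 : ∀ u < 297560, (fun u => chkFix tab mwordsA u) u = true := ext_range (a := 297517) (len := 43) h6919 m2_6919
  have h6921 : ∀ u < 297603, (fun u => chkFix tab mwordsA u) u = true := ext_range (a := 297560) (len := 43) h6920 m2_6920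
  have h6922 : ∀ u < 297646, (fun u => chkFix tab mwordsA u) u = true := ext_range (a := 297603) (len := 43) h6921 m2_6921
  have h6923 : ∀ u < 297689, (fun u => chkFix tab mwordsA u) u = true := ext_range (a := 297646) (len := 43) h6922 m2_6922
  have h6924 : ∀ u < 297732, (fun u => chkFix tab mwordsA u) u = true := ext_range (a := 297689) (len := 43) h6923 m2_6923
  have h6925 : ∀ u < 297775, (fun u => chkFix tab mwordsA u) u = true := ext_range (a := 297732) (len := 43) h6924 m2_6924
  have h6926 : ∀ u < 297818, (fun u => chkFix tab mwordsA u) u = true := ext_range (a := 297775) (len := 43) h6925 m2_6925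
  have h6927 : ∀ u < 297861, (fun u => chkFix tab mwordsA u) u = true := ext_range (a := 297818) (len := 43) h6926 m2_6926
  have h6928 : ∀ u < 297904, (fun u => chkFix tab mwordsA u) u = true := ext_range (a := 297861) (len := 43) h6927 m2_6927
  have h6929 : ∀ u < 297947, (fun u => chkFix tab mwordsA u) u = true := ext_range (a := 297904) (len := 43) h6928 m2_6928
  have h6930 : ∀ u < 297990, (fun u => chkFix tab mwordsA u) u = true := ext_range (a := 297947) (len := 43) h6929 m2_6929
  have h6931 : ∀ u < 298033, (fun u => chkFix tab mwordsA u) u = true := ext_range (a := 297990) (len := 43) h6930 m2_6930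
  have h6932 : ∀ u < 298076, (fun u => chkFix tab mwordsA u) u = true := ext_range (a := 298033) (len := 43) h6931 m2_6931
  have h6933 : ∀ u < 298119, (fun u => chkFix tab mwordsA u) u = true := ext_range (a := 298076) (len := 43) h6932 m2_6932
  have h6934 : ∀ u < 298162, (fun u => chkFix tab mwordsA u) u = true := ext_range (a := 298119) (len := 43) h6933 m2_6933
  have h6935 : ∀ u < 298205, (fun u => chkFix tab mwordsA u) u = true := ext_range (a := 298162) (len := 43) h6934 m2_6934
  have h6936 : ∀ u < 298248, (fun u => chkFix tab mwordsA u) u = true := ext_range (a := 298205) (len := 43) h6935 m2_6935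
  have h6937 : ∀ u < 298291, (fun u => chkFix tab mwordsA u) u = true := ext_range (a := 298248) (len := 43) h6936 m2_6936
  have h6938 : ∀ u < 298334, (fun u => chkFix tab mwordsA u) u = true := ext_range (a := 298291) (len := 43) h6937 m2_6937
  have h6939 : ∀ u < 298377, (fun u => chkFix tab mwordsA u) u = true := ext_range (a := 298334) (len := 43) h6938 m2_6938
  have h6940 : ∀ u < 298420, (fun u => chkFix tab mwordsA u) u = true := ext_range (a := 298377) (len := 43) h6939 m2_6939
  have h6941 : ∀ u < 298463, (fun u => chkFix tab mwordsA u) u = true := ext_range (a := 298420) (len := 43) h6940 m2_6940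
  have h6942 : ∀ u < 298506, (fun u => chkFix tab mwordsA u) u = true := ext_range (a := 298463) (len := 43) h6941 m2_6941
  have h6943 : ∀ u < 298549, (fun u => chkFix tab mwordsA u) u = true := ext_range (a := 298506) (len := 43) h6942 m2_6942
  have h6944 : ∀ u < 298592, (fun u => chkFix tab mwordsA u) u = true := ext_range (a := 298549) (len := 43) h6943 m2_6943
  have h6945 : ∀ u < 298635, (fun u => chkFix tab mwordsA u) u = true := ext_range (a := 298592) (len := 43) h6944 m2_6944
  have h6946 : ∀ u < 298678, (fun u => chkFix tab mwordsA u) u = true := ext_range (a := 298635) (len := 43) h6945 m2_6945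
  have h6947 : ∀ u < 298721, (fun u => chkFix tab mwordsA u) u = true := ext_range (a := 298678) (len := 43) h6946 m2_6946
  have h6948 : ∀ u < 298764, (fun u => chkFix tab mwordsA u) u = true := ext_range (a := 298721) (len := 43) h6947 m2_6947
  have h6949 : ∀ u < 298807, (fun u => chkFix tab mwordsA u) u = true := ext_range (a := 298764) (len := 43) h6948 m2_6948
  have h6950 : ∀ u < 298850, (fun u => chkFix tab mwordsA u) u = true := ext_range (a := 298807) (len := 43) h6949 m2_6949
  have h6951 : ∀ u < 298893, (fun u => chkFix tab mwordsA u) u = true := ext_range (a := 298850) (len := 43) h6950 m2_6950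
  have h6952 : ∀ u < 298936, (fun u => chkFix tab mwordsA u) u = true := ext_range (a := 298893) (len := 43) h6951 m2_6951
  have h6953 : ∀ u < 298979, (fun u => chkFix tab mwordsA u) u = true := ext_range (a := 298936) (len := 43) h6952 m2_6952
  have h6954 : ∀ u < 299022, (fun u => chkFix tab mwordsA u) u = true := ext_range (a := 298979) (len := 43) h6953 m2_6953
  have h6955 : ∀ u < 299065, (fun u => chkFix tab mwordsA u) u = true := ext_range (a := 299022) (len := 43) h6954 m2_6954
  have h6956 : ∀ u < 299108, (fun u => chkFix tab mwordsA u) u = true := ext_range (a := 299065) (len := 43) h6955 m2_6955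
  have h6957 : ∀ u < 299151, (fun u => chkFix tab mwordsA u) u = true := ext_range (a := 299108) (len := 43) h6956 m2_6956
  have h6958 : ∀ u < 299194, (fun u => chkFix tab mwordsA u) u = true := ext_range (a := 299151) (len := 43) h6957 m2_6957
  have h6959 : ∀ u < 299237, (fun u => chkFix tab mwordsA u) u = true := ext_range (a := 299194) (len := 43) h6958 m2_6958
  have h6960 : ∀ u < 299280, (fun u => chkFix tab mwordsA u) u = true := ext_range (a := 299237) (len := 43) h6959 m2_6959
  have h6961 : ∀ u < 299323, (fun u => chkFix tab mwordsA u) u = true := ext_range (a := 299280) (len := 43) h6960 m2_6960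
  have h6962 : ∀ u < 299366, (fun u => chkFix tab mwordsA u) u = true := ext_range (a := 299323) (len := 43) h6961 m2_6961
  have h6963 : ∀ u < 299409, (fun u => chkFix tab mwordsA u) u = true := ext_range (a := 299366) (len := 43) h6962 m2_6962
  have h6964 : ∀ u < 299452, (fun u => chkFix tab mwordsA u) u = true := ext_range (a := 299409) (len := 43) h6963 m2_6963
  have h6965 : ∀ u < 299495, (fun u => chkFix tab mwordsA u) u = true := ext_range (a := 299452) (len := 43) h6964 m2_6964
  have h6966 : ∀ u < 299538, (fun u => chkFix tab mwordsA u) u = true := ext_range (a := 299495) (len := 43) h6965 m2_6965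
  have h6967 : ∀ u < 299581, (fun u => chkFix tab mwordsA u) u = true := ext_range (a := 299538) (len := 43) h6966 m2_6966
  have h6968 : ∀ u < 299624, (fun u => chkFix tab mwordsA u) u = true := ext_range (a := 299581) (len := 43) h6967 m2_6967
  have h6969 : ∀ u < 299667, (fun u => chkFix tab mwordsA u) u = true := ext_range (a := 299624) (len := 43) h6968 m2_6968
  have h6970 : ∀ u < 299710, (fun u => chkFix tab mwordsA u) u = true := ext_range (a := 299667) (len := 43) h6969 m2_6969
  have h6971 : ∀ u < 299753, (fun u => chkFix tab mwordsA u) u = true := ext_range (a := 299710) (len := 43) h6970 m2_6970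
  have h6972 : ∀ u < 299796, (fun u => chkFix tab mwordsA u) u = true := ext_range (a := 299753) (len := 43) h6971 m2_6971
  have h6973 : ∀ u < 299839, (fun u => chkFix tab mwordsA u) u = true := ext_range (a := 299796) (len := 43) h6972 m2_6972
  have h6974 : ∀ u < 299882, (fun u => chkFix tab mwordsA u) u = true := ext_range (a := 299839) (len := 43) h6973 m2_6973
  have h6975 : ∀ u < 299925, (fun u => chkFix tab mwordsA u) u = true := ext_range (a := 299882) (len := 43) h6974 m2_6974
  have h6976 : ∀ u < 299968, (fun u => chkFix tab mwordsA u) u = true := ext_range (a := 299925) (len := 43) h6975 m2_6975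
  have h6977 : ∀ u < 300011, (fun u => chkFix tab mwordsA u) u = true := ext_range (a := 299968) (len := 43) h6976 m2_6976
  have h6978 : ∀ u < 300054, (fun u => chkFix tab mwordsA u) u = true := ext_range (a := 300011) (len := 43) h6977 m2_6977
  have h6979 : ∀ u < 300097, (fun u => chkFix tab mwordsA u) u = true := ext_range (a := 300054) (len := 43) h6978 m2_6978
  have h6980 : ∀ u < 300140, (fun u => chkFix tab mwordsA u) u = true := ext_range (a := 300097) (len := 43) h6979 m2_6979
  have h6981 : ∀ u < 300183, (fun u => chkFix tab mwordsA u) u = true := ext_range (a := 300140) (len := 43) h6980 m2_6980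
  have h6982 : ∀ u < 300226, (fun u => chkFix tab mwordsA u) u = true := ext_range (a := 300183) (len := 43) h6981 m2_6981
  have h6983 : ∀ u < 300269, (fun u => chkFix tab mwordsA u) u = true := ext_range (a := 300226) (len := 43) h6982 m2_6982
  have h6984 : ∀ u < 300312, (fun u => chkFix tab mwordsA u) u = true := ext_range (a := 300269) (len := 43) h6983 m2_6983
  have h6985 : ∀ u < 300355, (fun u => chkFix tab mwordsA u) u = true := ext_range (a := 300312) (len := 43) h6984 m2_6984
  have h6986 : ∀ u < 300398, (fun u => chkFix tab mwordsA u) u = true := ext_range (a := 300355) (len := 43) h6985 m2_6985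
  have h6987 : ∀ u < 300441, (fun u => chkFix tab mwordsA u) u = true := ext_range (a := 300398) (len := 43) h6986 m2_6986
  have h6988 : ∀ u < 300484, (fun u => chkFix tab mwordsA u) u = true := ext_range (a := 300441) (len := 43) h6987 m2_6987
  have h6989 : ∀ u < 300527, (fun u => chkFix tab mwordsA u) u = true := ext_range (a := 300484) (len := 43) h6988 m2_6988
  have h6990 : ∀ u < 300570, (fun u => chkFix tab mwordsA u) u = true := ext_range (a := 300527) (len := 43) h6989 m2_6989
  have h6991 : ∀ u < 300613, (fun u => chkFix tab mwordsA u) u = true := ext_range (a := 300570) (len := 43) h6990 m2_6990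
  have h6992 : ∀ u < 300656, (fun u => chkFix tab mwordsA u) u = true := ext_range (a := 300613) (len := 43) h6991 m2_6991
  have h6993 : ∀ u < 300699, (fun u => chkFix tab mwordsA u) u = true := ext_range (a := 300656) (len := 43) h6992 m2_6992
  have h6994 : ∀ u < 300742, (fun u => chkFix tab mwordsA u) u = true := ext_range (a := 300699) (len := 43) h6993 m2_6993
  have h6995 : ∀ u < 300785, (fun u => chkFix tab mwordsA u) u = true := ext_range (a := 300742) (len := 43) h6994 m2_6994
  have h6996 : ∀ u < 300828, (fun u => chkFix tab mwordsA u) u = true := ext_range (a := 300785) (len := 43) h6995 m2_6995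
  have h6997 : ∀ u < 300871, (fun u => chkFix tab mwordsA u) u = true := ext_range (a := 300828) (len := 43) h6996 m2_6996
  have h6998 : ∀ u < 300914, (fun u => chkFix tab mwordsA u) u = true := ext_range (a := 300871) (len := 43) h6997 m2_6997
  have h6999 : ∀ u < 300957, (fun u => chkFix tab mwordsA u) u = true := ext_range (a := 300914) (len := 43) h6998 m2_6998
  have h7000 : ∀ u < 301000, (fun u => chkFix tab mwordsA u) u = true := ext_range (a := 300957) (len := 43) h6999 m2_6999
  have h7001 : ∀ u < 301043, (fun u => chkFix tab mwordsA u) u = true := ext_range (a := 301000) (len := 43) h7000 m2_7000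
  have h7002 : ∀ u < 301086, (fun u => chkFix tab mwordsA u) u = true := ext_range (a := 301043) (len := 43) h7001 m2_7001
  have h7003 : ∀ u < 301129, (fun u => chkFix tab mwordsA u) u = true := ext_range (a := 301086) (len := 43) h7002 m2_7002
  have h7004 : ∀ u < 301172, (fun u => chkFix tab mwordsA u) u = true := ext_range (a := 301129) (len := 43) h7003 m2_7003
  have h7005 : ∀ u < 301215, (fun u => chkFix tab mwordsA u) u = true := ext_range (a := 301172) (len := 43) h7004 m2_7004
  have h7006 : ∀ u < 301258, (fun u => chkFix tab mwordsA u) u = true := ext_range (a := 301215) (len := 43) h7005 m2_7005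
  have h7007 : ∀ u < 301301, (fun u => chkFix tab mwordsA u) u = true := ext_range (a := 301258) (len := 43) h7006 m2_7006
  have h7008 : ∀ u < 301344, (fun u => chkFix tab mwordsA u) u = true := ext_range (a := 301301) (len := 43) h7007 m2_7007
  have h7009 : ∀ u < 301387, (fun u => chkFix tab mwordsA u) u = true := ext_range (a := 301344) (len := 43) h7008 m2_7008
  have h7010 : ∀ u < 301430, (fun u => chkFix tab mwordsA u) u = true := ext_range (a := 301387) (len := 43) h7009 m2_7009
  have h7011 : ∀ u < 301473, (fun u => chkFix tab mwordsA u) u = true := ext_range (a := 301430) (len := 43) h7010 m2_7010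
  have h7012 : ∀ u < 301516, (fun u => chkFix tab mwordsA u) u = true := ext_range (a := 301473) (len := 43) h7011 m2_7011
  have h7013 : ∀ u < 301559, (fun u => chkFix tab mwordsA u) u = true := ext_range (a := 301516) (len := 43) h7012 m2_7012
  have h7014 : ∀ u < 301602, (fun u => chkFix tab mwordsA u) u = true := ext_range (a := 301559) (len := 43) h7013 m2_7013
  have h7015 : ∀ u < 301645, (fun u => chkFix tab mwordsA u) u = true := ext_range (a := 301602) (len := 43) h7014 m2_7014
  have h7016 : ∀ u < 301688, (fun u => chkFix tab mwordsA u) u = true := ext_range (a := 301645) (len := 43) h7015 m2_7015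
  have h7017 : ∀ u < 301731, (fun u => chkFix tab mwordsA u) u = true := ext_range (a := 301688) (len := 43) h7016 m2_7016
  have h7018 : ∀ u < 301774, (fun u => chkFix tab mwordsA u) u = true := ext_range (a := 301731) (len := 43) h7017 m2_7017
  have h7019 : ∀ u < 301817, (fun u => chkFix tab mwordsA u) u = true := ext_range (a := 301774) (len := 43) h7018 m2_7018
  have h7020 : ∀ u < 301860, (fun u => chkFix tab mwordsA u) u = true := ext_range (a := 301817) (len := 43) h7019 m2_7019
  have h7021 : ∀ u < 301903, (fun u => chkFix tab mwordsA u) u = true := ext_range (a := 301860) (len := 43) h7020 m2_7020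
  have h7022 : ∀ u < 301946, (fun u => chkFix tab mwordsA u) u = true := ext_range (a := 301903) (len := 43) h7021 m2_7021
  have h7023 : ∀ u < 301989, (fun u => chkFix tab mwordsA u) u = true := ext_range (a := 301946) (len := 43) h7022 m2_7022
  have h7024 : ∀ u < 302032, (fun u => chkFix tab mwordsA u) u = true := ext_range (a := 301989) (len := 43) h7023 m2_7023
  have h7025 : ∀ u < 302075, (fun u => chkFix tab mwordsA u) u = true := ext_range (a := 302032) (len := 43) h7024 m2_7024
  have h7026 : ∀ u < 302118, (fun u => chkFix tab mwordsA u) u = true := ext_range (a := 302075) (len := 43) h7025 m2_7025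
  have h7027 : ∀ u < 302161, (fun u => chkFix tab mwordsA u) u = true := ext_range (a := 302118) (len := 43) h7026 m2_7026
  have h7028 : ∀ u < 302204, (fun u => chkFix tab mwordsA u) u = true := ext_range (a := 302161) (len := 43) h7027 m2_7027
  have h7029 : ∀ u < 302247, (fun u => chkFix tab mwordsA u) u = true := ext_range (a := 302204) (len := 43) h7028 m2_7028
  have h7030 : ∀ u < 302290, (fun u => chkFix tab mwordsA u) u = true := ext_range (a := 302247) (len := 43) h7029 m2_7029
  have h7031 : ∀ u < 302333, (fun u => chkFix tab mwordsA u) u = true := ext_range (a := 302290) (len := 43) h7030 m2_7030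
  have h7032 : ∀ u < 302376, (fun u => chkFix tab mwordsA u) u = true := ext_range (a := 302333) (len := 43) h7031 m2_7031
  have h7033 : ∀ u < 302419, (fun u => chkFix tab mwordsA u) u = true := ext_range (a := 302376) (len := 43) h7032 m2_7032
  have h7034 : ∀ u < 302462, (fun u => chkFix tab mwordsA u) u = true := ext_range (a := 302419) (len := 43) h7033 m2_7033
  have h7035 : ∀ u < 302505, (fun u => chkFix tab mwordsA u) u = true := ext_range (a := 302462) (len := 43) h7034 m2_7034
  have h7036 : ∀ u < 302548, (fun u => chkFix tab mwordsA u) u = true := ext_range (a := 302505) (len := 43) h7035 m2_7035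
  have h7037 : ∀ u < 302591, (fun u => chkFix tab mwordsA u) u = true := ext_range (a := 302548) (len := 43) h7036 m2_7036
  have h7038 : ∀ u < 302634, (fun u => chkFix tab mwordsA u) u = true := ext_range (a := 302591) (len := 43) h7037 m2_7037
  have h7039 : ∀ u < 302677, (fun u => chkFix tab mwordsA u) u = true := ext_range (a := 302634) (len := 43) h7038 m2_7038
  have h7040 : ∀ u < 302720, (fun u => chkFix tab mwordsA u) u = true := ext_range (a := 302677) (len := 43) h7039 m2_7039
  have h7041 : ∀ u < 302763, (fun u => chkFix tab mwordsA u) u = true := ext_range (a := 302720) (len := 43) h7040 m2_7040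
  have h7042 : ∀ u < 302806, (fun u => chkFix tab mwordsA u) u = true := ext_range (a := 302763) (len := 43) h7041 m2_7041
  have h7043 : ∀ u < 302849, (fun u => chkFix tab mwordsA u) u = true := ext_range (a := 302806) (len := 43) h7042 m2_7042
  have h7044 : ∀ u < 302892, (fun u => chkFix tab mwordsA u) u = true := ext_range (a := 302849) (len := 43) h7043 m2_7043
  have h7045 : ∀ u < 302935, (fun u => chkFix tab mwordsA u) u = true := ext_range (a := 302892) (len := 43) h7044 m2_7044
  have h7046 : ∀ u < 302978, (fun u => chkFix tab mwordsA u) u = true := ext_range (a := 302935) (len := 43) h7045 m2_7045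
  have h7047 : ∀ u < 303021, (fun u => chkFix tab mwordsA u) u = true := ext_range (a := 302978) (len := 43) h7046 m2_7046
  have h7048 : ∀ u < 303064, (fun u => chkFix tab mwordsA u) u = true := ext_range (a := 303021) (len := 43) h7047 m2_7047
  have h7049 : ∀ u < 303107, (fun u => chkFix tab mwordsA u) u = true := ext_range (a := 303064) (len := 43) h7048 m2_7048
  have h7050 : ∀ u < 303150, (fun u => chkFix tab mwordsA u) u = true := ext_range (a := 303107) (len := 43) h7049 m2_7049
  have h7051 : ∀ u < 303193, (fun u => chkFix tab mwordsA u) u = true := ext_range (a := 303150) (len := 43) h7050 m2_7050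
  have h7052 : ∀ u < 303236, (fun u => chkFix tab mwordsA u) u = true := ext_range (a := 303193) (len := 43) h7051 m2_7051
  have h7053 : ∀ u < 303279, (fun u => chkFix tab mwordsA u) u = true := ext_range (a := 303236) (len := 43) h7052 m2_7052
  have h7054 : ∀ u < 303322, (fun u => chkFix tab mwordsA u) u = true := ext_range (a := 303279) (len := 43) h7053 m2_7053
  have h7055 : ∀ u < 303365, (fun u => chkFix tab mwordsA u) u = true := ext_range (a := 303322) (len := 43) h7054 m2_7054
  have h7056 : ∀ u < 303408, (fun u => chkFix tab mwordsA u) u = true := ext_range (a := 303365) (len := 43) h7055 m2_7055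
  have h7057 : ∀ u < 303451, (fun u => chkFix tab mwordsA u) u = true := ext_range (a := 303408) (len := 43) h7056 m2_7056
  have h7058 : ∀ u < 303494, (fun u => chkFix tab mwordsA u) u = true := ext_range (a := 303451) (len := 43) h7057 m2_7057
  have h7059 : ∀ u < 303537, (fun u => chkFix tab mwordsA u) u = true := ext_range (a := 303494) (len := 43) h7058 m2_7058
  have h7060 : ∀ u < 303580, (fun u => chkFix tab mwordsA u) u = true := ext_range (a := 303537) (len := 43) h7059 m2_7059
  have h7061 : ∀ u < 303623, (fun u => chkFix tab mwordsA u) u = true := ext_range (a := 303580) (len := 43) h7060 m2_7060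
  have h7062 : ∀ u < 303666, (fun u => chkFix tab mwordsA u) u = true := ext_range (a := 303623) (len := 43) h7061 m2_7061
  have h7063 : ∀ u < 303709, (fun u => chkFix tab mwordsA u) u = true := ext_range (a := 303666) (len := 43) h7062 m2_7062
  have h7064 : ∀ u < 303752, (fun u => chkFix tab mwordsA u) u = true := ext_range (a := 303709) (len := 43) h7063 m2_7063
  have h7065 : ∀ u < 303795, (fun u => chkFix tab mwordsA u) u = true := ext_range (a := 303752) (len := 43) h7064 m2_7064
  have h7066 : ∀ u < 303838, (fun u => chkFix tab mwordsA u) u = true := ext_range (a := 303795) (len := 43) h7065 m2_7065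
  have h7067 : ∀ u < 303881, (fun u => chkFix tab mwordsA u) u = true := ext_range (a := 303838) (len := 43) h7066 m2_7066
  have h7068 : ∀ u < 303924, (fun u => chkFix tab mwordsA u) u = true := ext_range (a := 303881) (len := 43) h7067 m2_7067
  have h7069 : ∀ u < 303967, (fun u => chkFix tab mwordsA u) u = true := ext_range (a := 303924) (len := 43) h7068 m2_7068
  have h7070 : ∀ u < 304010, (fun u => chkFix tab mwordsA u) u = true := ext_range (a := 303967) (len := 43) h7069 m2_7069
  have h7071 : ∀ u < 304053, (fun u => chkFix tab mwordsA u) u = true := ext_range (a := 304010) (len := 43) h7070 m2_7070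
  have h7072 : ∀ u < 304096, (fun u => chkFix tab mwordsA u) u = true := ext_range (a := 304053) (len := 43) h7071 m2_7071
  have h7073 : ∀ u < 304139, (fun u => chkFix tab mwordsA u) u = true := ext_range (a := 304096) (len := 43) h7072 m2_7072
  have h7074 : ∀ u < 304182, (fun u => chkFix tab mwordsA u) u = true := ext_range (a := 304139) (len := 43) h7073 m2_7073
  have h7075 : ∀ u < 304225, (fun u => chkFix tab mwordsA u) u = true := ext_range (a := 304182) (len := 43) h7074 m2_7074
  have h7076 : ∀ u < 304268, (fun u => chkFix tab mwordsA u) u = true := ext_range (a := 304225) (len := 43) h7075 m2_7075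
  have h7077 : ∀ u < 304311, (fun u => chkFix tab mwordsA u) u = true := ext_range (a := 304268) (len := 43) h7076 m2_7076
  have h7078 : ∀ u < 304354, (fun u => chkFix tab mwordsA u) u = true := ext_range (a := 304311) (len := 43) h7077 m2_7077
  have h7079 : ∀ u < 304397, (fun u => chkFix tab mwordsA u) u = true := ext_range (a := 304354) (len := 43) h7078 m2_7078
  have h7080 : ∀ u < 304440, (fun u => chkFix tab mwordsA u) u = true := ext_range (a := 304397) (len := 43) h7079 m2_7079
  have h7081 : ∀ u < 304483, (fun u => chkFix tab mwordsA u) u = true := ext_range (a := 304440) (len := 43) h7080 m2_7080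
  have h7082 : ∀ u < 304526, (fun u => chkFix tab mwordsA u) u = true := ext_range (a := 304483) (len := 43) h7081 m2_7081
  have h7083 : ∀ u < 304569, (fun u => chkFix tab mwordsA u) u = true := ext_range (a := 304526) (len := 43) h7082 m2_7082
  have h7084 : ∀ u < 304612, (fun u => chkFix tab mwordsA u) u = true := ext_range (a := 304569) (len := 43) h7083 m2_7083
  have h7085 : ∀ u < 304655, (fun u => chkFix tab mwordsA u) u = true := ext_range (a := 304612) (len := 43) h7084 m2_7084
  have h7086 : ∀ u < 304698, (fun u => chkFix tab mwordsA u) u = true := ext_range (a := 304655) (len := 43) h7085 m2_7085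
  have h7087 : ∀ u < 304741, (fun u => chkFix tab mwordsA u) u = true := ext_range (a := 304698) (len := 43) h7086 m2_7086
  have h7088 : ∀ u < 304784, (fun u => chkFix tab mwordsA u) u = true := ext_range (a := 304741) (len := 43) h7087 m2_7087
  have h7089 : ∀ u < 304827, (fun u => chkFix tab mwordsA u) u = true := ext_range (a := 304784) (len := 43) h7088 m2_7088
  have h7090 : ∀ u < 304870, (fun u => chkFix tab mwordsA u) u = true := ext_range (a := 304827) (len := 43) h7089 m2_7089
  have h7091 : ∀ u < 304913, (fun u => chkFix tab mwordsA u) u = true := ext_range (a := 304870) (len := 43) h7090 m2_7090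
  have h7092 : ∀ u < 304956, (fun u => chkFix tab mwordsA u) u = true := ext_range (a := 304913) (len := 43) h7091 m2_7091
  have h7093 : ∀ u < 304999, (fun u => chkFix tab mwordsA u) u = true := ext_range (a := 304956) (len := 43) h7092 m2_7092
  have h7094 : ∀ u < 305042, (fun u => chkFix tab mwordsA u) u = true := ext_range (a := 304999) (len := 43) h7093 m2_7093
  have h7095 : ∀ u < 305085, (fun u => chkFix tab mwordsA u) u = true := ext_range (a := 305042) (len := 43) h7094 m2_7094
  have h7096 : ∀ u < 305128, (fun u => chkFix tab mwordsA u) u = true := ext_range (a := 305085) (len := 43) h7095 m2_7095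
  have h7097 : ∀ u < 305171, (fun u => chkFix tab mwordsA u) u = true := ext_range (a := 305128) (len := 43) h7096 m2_7096
  have h7098 : ∀ u < 305214, (fun u => chkFix tab mwordsA u) u = true := ext_range (a := 305171) (len := 43) h7097 m2_7097
  have h7099 : ∀ u < 305257, (fun u => chkFix tab mwordsA u) u = true := ext_range (a := 305214) (len := 43) h7098 m2_7098
  have h7100 : ∀ u < 305300, (fun u => chkFix tab mwordsA u) u = true := ext_range (a := 305257) (len := 43) h7099 m2_7099
  have h7101 : ∀ u < 305343, (fun u => chkFix tab mwordsA u) u = true := ext_range (a := 305300) (len := 43) h7100 m2_7100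
  have h7102 : ∀ u < 305386, (fun u => chkFix tab mwordsA u) u = true := ext_range (a := 305343) (len := 43) h7101 m2_7101
  have h7103 : ∀ u < 305429, (fun u => chkFix tab mwordsA u) u = true := ext_range (a := 305386) (len := 43) h7102 m2_7102
  have h7104 : ∀ u < 305472, (fun u => chkFix tab mwordsA u) u = true := ext_range (a := 305429) (len := 43) h7103 m2_7103
  have h7105 : ∀ u < 305515, (fun u => chkFix tab mwordsA u) u = true := ext_range (a := 305472) (len := 43) h7104 m2_7104
  have h7106 : ∀ u < 305558, (fun u => chkFix tab mwordsA u) u = true := ext_range (a := 305515) (len := 43) h7105 m2_7105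
  have h7107 : ∀ u < 305601, (fun u => chkFix tab mwordsA u) u = true := ext_range (a := 305558) (len := 43) h7106 m2_7106
  have h7108 : ∀ u < 305644, (fun u => chkFix tab mwordsA u) u = true := ext_range (a := 305601) (len := 43) h7107 m2_7107
  have h7109 : ∀ u < 305687, (fun u => chkFix tab mwordsA u) u = true := ext_range (a := 305644) (len := 43) h7108 m2_7108
  have h7110 : ∀ u < 305730, (fun u => chkFix tab mwordsA u) u = true := ext_range (a := 305687) (len := 43) h7109 m2_7109
  have h7111 : ∀ u < 305773, (fun u => chkFix tab mwordsA u) u = true := ext_range (a := 305730) (len := 43) h7110 m2_7110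
  have h7112 : ∀ u < 305816, (fun u => chkFix tab mwordsA u) u = true := ext_range (a := 305773) (len := 43) h7111 m2_7111
  have h7113 : ∀ u < 305859, (fun u => chkFix tab mwordsA u) u = true := ext_range (a := 305816) (len := 43) h7112 m2_7112
  have h7114 : ∀ u < 305902, (fun u => chkFix tab mwordsA u) u = true := ext_range (a := 305859) (len := 43) h7113 m2_7113
  have h7115 : ∀ u < 305945, (fun u => chkFix tab mwordsA u) u = true := ext_range (a := 305902) (len := 43) h7114 m2_7114
  have h7116 : ∀ u < 305988, (fun u => chkFix tab mwordsA u) u = true := ext_range (a := 305945) (len := 43) h7115 m2_7115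
  have h7117 : ∀ u < 306031, (fun u => chkFix tab mwordsA u) u = true := ext_range (a := 305988) (len := 43) h7116 m2_7116
  have h7118 : ∀ u < 306074, (fun u => chkFix tab mwordsA u) u = true := ext_range (a := 306031) (len := 43) h7117 m2_7117
  have h7119 : ∀ u < 306117, (fun u => chkFix tab mwordsA u) u = true := ext_range (a := 306074) (len := 43) h7118 m2_7118
  have h7120 : ∀ u < 306160, (fun u => chkFix tab mwordsA u) u = true := ext_range (a := 306117) (len := 43) h7119 m2_7119
  have h7121 : ∀ u < 306203, (fun u => chkFix tab mwordsA u) u = true := ext_range (a := 306160) (len := 43) h7120 m2_7120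
  have h7122 : ∀ u < 306246, (fun u => chkFix tab mwordsA u) u = true := ext_range (a := 306203) (len := 43) h7121 m2_7121
  have h7123 : ∀ u < 306289, (fun u => chkFix tab mwordsA u) u = true := ext_range (a := 306246) (len := 43) h7122 m2_7122
  have h7124 : ∀ u < 306332, (fun u => chkFix tab mwordsA u) u = true := ext_range (a := 306289) (len := 43) h7123 m2_7123
  have h7125 : ∀ u < 306375, (fun u => chkFix tab mwordsA u) u = true := ext_range (a := 306332) (len := 43) h7124 m2_7124
  have h7126 : ∀ u < 306418, (fun u => chkFix tab mwordsA u) u = true := ext_range (a := 306375) (len := 43) h7125 m2_7125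
  have h7127 : ∀ u < 306461, (fun u => chkFix tab mwordsA u) u = true := ext_range (a := 306418) (len := 43) h7126 m2_7126
  have h7128 : ∀ u < 306504, (fun u => chkFix tab mwordsA u) u = true := ext_range (a := 306461) (len := 43) h7127 m2_7127
  have h7129 : ∀ u < 306547, (fun u => chkFix tab mwordsA u) u = true := ext_range (a := 306504) (len := 43) h7128 m2_7128
  have h7130 : ∀ u < 306590, (fun u => chkFix tab mwordsA u) u = true := ext_range (a := 306547) (len := 43) h7129 m2_7129
  have h7131 : ∀ u < 306633, (fun u => chkFix tab mwordsA u) u = true := ext_range (a := 306590) (len := 43) h7130 m2_7130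
  have h7132 : ∀ u < 306676, (fun u => chkFix tab mwordsA u) u = true := ext_range (a := 306633) (len := 43) h7131 m2_7131
  have h7133 : ∀ u < 306719, (fun u => chkFix tab mwordsA u) u = true := ext_range (a := 306676) (len := 43) h7132 m2_7132
  have h7134 : ∀ u < 306762, (fun u => chkFix tab mwordsA u) u = true := ext_range (a := 306719) (len := 43) h7133 m2_7133
  have h7135 : ∀ u < 306805, (fun u => chkFix tab mwordsA u) u = true := ext_range (a := 306762) (len := 43) h7134 m2_7134
  have h7136 : ∀ u < 306848, (fun u => chkFix tab mwordsA u) u = true := ext_range (a := 306805) (len := 43) h7135 m2_7135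
  have h7137 : ∀ u < 306891, (fun u => chkFix tab mwordsA u) u = true := ext_range (a := 306848) (len := 43) h7136 m2_7136
  have h7138 : ∀ u < 306934, (fun u => chkFix tab mwordsA u) u = true := ext_range (a := 306891) (len := 43) h7137 m2_7137
  have h7139 : ∀ u < 306936, (fun u => chkFix tab mwordsA u) u = true := ext_range (a := 306934) (len := 2) h7138 m2_7138
  exact h7139

theorem hE : ∀ c < 12, ∀ u < 394454, chkE tab c u = true := by
  intro c hc
  interval_cases c
  · exact hE0
  · exact hE1
  · exact hE2
  · exact hE3
  · exact hE4
  · exact hE5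
  · exact hE6
  · exact hE7
  · exact hE8
  · exact hE9
  · exact hE10
  · exact hE11

end Cfsg.Agent.Helper9.TCData.X1690
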