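import Cfsg.Agent.Lib.Helper9.TC2Cox
import Cfsg.Agent.Lib.Helper9.TC2Aux
import Cfsg.Agent.Lib.Helper9.TC2Pack
import Cfsg.Agent.Lib.Helper9.TCData.X1690.P0
import Cfsg.Agent.Lib.Helper9.TCData.X1690.P1
import Cfsg.Agent.Lib.Helper9.TCData.X1690.P2
import Cfsg.Agent.Lib.Helper9.TCData.X1690.P3
import Cfsg.Agent.Lib.Helper9.TCData.X1690.P4
import Cfsg.Agent.Lib.Helper9.TCData.X1690.P5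
import Cfsg.Agent.Lib.Helper9.TCData.X1690.P6
import Cfsg.Agent.Lib.Helper9.TCData.X1690.P7
import Cfsg.Agent.Lib.Helper9.TCData.X1690.P8
import Cfsg.Agent.Lib.Helper9.TCData.X1690.P9
import Cfsg.Agent.Lib.Helper9.TCData.X1690.P10
import Cfsg.Agent.Lib.Helper9.TCData.X1690.P11
import Cfsg.Agent.Lib.Helper9.TCData.X1690.P12
import Cfsg.Agent.Lib.Helper9.TCData.X1690.P13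
import Cfsg.Agent.Lib.Helper9.TCData.X1690.P14
import Cfsg.Agent.Lib.Helper9.TCData.X1690.P15
import Cfsg.Agent.Lib.Helper9.TCData.X1690.P16
import Cfsg.Agent.Lib.Helper9.TCData.X1690.P17
import Cfsg.Agent.Lib.Helper9.TCData.X1690.P18
import Cfsg.Agent.Lib.Helper9.TCData.X1690.P19

set_option autoImplicit false
set_option maxRecDepth 100000

namespace Cfsg.Agent.Helper9.TCData.X1690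
open Cfsg.Agent.Helper9.TC2
/-- The rotated relators. -/
noncomputable def rotT : WT := (WT.node 87 (WT.node 43 (WT.node 21 (WT.node 10 (WT.node 5 (WT.node 2 (WT.node 1 (WT.leaf [0, 2, 0, 2]) (WT.leaf [0, 3, 0, 3])) (WT.node 3 (WT.leaf [0, 1, 0, 1, 0, 1]) (WT.node 4 (WT.leaf [0, 4, 0, 4]) (WT.leaf [0, 5, 0, 5])))) (WT.node 7 (WT.node 6 (WT.leaf [0, 6, 0, 6]) (WT.leaf [0, 10, 0, 10])) (WT.node 8 (WT.leaf [0, 7, 0, 7]) (WT.node 9 (WT.leaf [0, 11, 0, 11]) (WT.leaf [0, 8, 0, 8]))))) (WT.node 15 (WT.node 12 (WT.node 11 (WT.leaf [0, 9, 0, 9]) (WT.leaf [0, 10, 7, 6, 5, 4, 3, 2, 10, 7, 6, 5, 4, 3, 2, 10, 7, 6, 5, 4, 3, 2, 10, 7, 6, 5, 4, 3, 2, 10, 7, 6, 5, 4, 3, 2, 10, 7, 6, 5, 4, 3, 2, 10, 7, 6, 5, 4, 3, 2, 10, 7, 6,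 5, 4, 3, 2, 10, 7, 6, 5, 4, 3, 2])) (WT.node 13 (WT.leaf [0, 5, 6, 7, 8, 9, 5, 10, 11, 5, 4, 3, 2, 1, 0, 5, 6, 7, 8, 9, 5, 10, 11, 5, 4, 3, 2, 1, 0, 5, 6, 7, 8, 9, 5, 10, 11, 5, 4, 3, 2, 1, 0, 5, 6, 7, 8, 9, 5, 10, 11, 5, 4, 3, 2, 1, 0, 5, 6, 7, 8, 9, 5, 10, 11, 5, 4, 3, 2, 1, 0, 5, 6, 7, 8, 9, 5, 10, 11, 5, 4, 3, 2, 1, 0, 5, 6, 7, 8, 9, 5, 10, 11, 5, 4, 3, 2, 1, 0, 5, 6, 7, 8, 9, 5, 10, 11, 5, 4, 3, 2, 1, 0, 5, 6, 7, 8, 9, 5, 10, 11, 5, 4, 3, 2, 1, 0, 5, 6, 7, 8, 9, 5, 10, 11, 5, 4, 3, 2, 1, 0, 5, 6, 7, 8, 9, 5, 10, 11, 5, 4, 3, 2, 1, 0, 5, 6, 7, 8, 9, 5, 10, 11, 5, 4, 3, 2, 1, 0, 5, 6, 7, 8, 9, 5, 10, 11, 5, 4, 3, 2, 1, 0, 5, 6, 7, 8, 9, 5, 10, 11, 5, 4, 3, 2, 1, 0, 5, 6, 7, 8, 9, 5, 10, 11, 5, 4, 3, 2, 1, 0,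 5, 6, 7, 8, 9, 5, 10, 11, 5, 4, 3, 2, 1, 0, 5, 6, 7, 8, 9, 5, 10, 11, 5, 4, 3, 2, 1]) (WT.node 14 (WT.leaf [1, 0, 1, 0, 1, 0]) (WT.leaf [1, 2, 1, 2, 1, 2])))) (WT.node 18 (WT.node 16 (WT.leaf [1, 3, 1, 3]) (WT.node 17 (WT.leaf [1, 4, 1, 4]) (WT.leaf [1, 5, 1, 5]))) (WT.node 19 (WT.leaf [1, 6, 1, 6]) (WT.node 20 (WT.leaf [1, 10, 1, 10]) (WT.leaf [1, 7, 1, 7])))))) (WT.node 32 (WT.node 26 (WT.node 23 (WT.node 22 (WT.leaf [1, 11, 1, 11]) (WT.leaf [1, 8, 1, 8])) (WT.node 24 (WT.leaf [1, 9, 1, 9]) (WT.node 25 (WT.leaf [1, 0, 5, 6, 7, 8, 9, 5, 10, 11, 5, 4, 3, 2, 1, 0, 5, 6, 7, 8, 9, 5, 10, 11, 5, 4, 3, 2, 1, 0, 5, 6, 7, 8, 9, 5, 10, 11, 5, 4, 3, 2, 1, 0, 5, 6, 7, 8, 9, 5, 10, 11, 5, 4, 3, 2, 1, 0, 5, 6, 7, 8, 9, 5,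 10, 11, 5, 4, 3, 2, 1, 0, 5, 6, 7, 8, 9, 5, 10, 11, 5, 4, 3, 2, 1, 0, 5, 6, 7, 8, 9, 5, 10, 11, 5, 4, 3, 2, 1, 0, 5, 6, 7, 8, 9, 5, 10, 11, 5, 4, 3, 2, 1, 0, 5, 6, 7, 8, 9, 5, 10, 11, 5, 4, 3, 2, 1, 0, 5, 6, 7, 8, 9, 5, 10, 11, 5, 4, 3, 2, 1, 0, 5, 6, 7, 8, 9, 5, 10, 11, 5, 4, 3, 2, 1, 0, 5, 6, 7, 8, 9, 5, 10, 11, 5, 4, 3, 2, 1, 0, 5, 6, 7, 8, 9, 5, 10, 11, 5, 4, 3, 2, 1, 0, 5, 6, 7, 8, 9, 5, 10, 11, 5, 4, 3, 2, 1, 0, 5, 6, 7, 8, 9, 5, 10, 11, 5, 4, 3, 2, 1, 0, 5, 6, 7, 8, 9, 5, 10, 11, 5, 4, 3, 2, 1, 0, 5, 6, 7, 8, 9, 5, 10, 11, 5, 4, 3, 2]) (WT.leaf [2, 3, 2, 3, 2, 3])))) (WT.node 29 (WT.node 27 (WT.leaf [2, 1, 2, 1, 2, 1]) (WT.node 28 (WT.leaf [2, 4, 2, 4]) (WT.leaf [2, 5, 2, 5]))) (WT.node 30 (WT.leaf [2, 6,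 2, 6]) (WT.node 31 (WT.leaf [2, 10, 2, 10]) (WT.leaf [2, 7, 2, 7]))))) (WT.node 37 (WT.node 34 (WT.node 33 (WT.leaf [2, 11, 2, 11]) (WT.leaf [2, 8, 2, 8])) (WT.node 35 (WT.leaf [2, 9, 2, 9]) (WT.node 36 (WT.leaf [2, 0, 2, 0]) (WT.leaf [2, 10, 7, 6, 5, 4, 3, 2, 10, 7, 6, 5, 4, 3, 2, 10, 7, 6, 5, 4, 3, 2, 10, 7, 6, 5, 4, 3, 2, 10, 7, 6, 5, 4, 3, 2, 10, 7, 6, 5, 4, 3, 2, 10, 7, 6, 5, 4, 3, 2, 10, 7, 6, 5, 4, 3, 2, 0, 10, 7, 6, 5, 4, 3])))) (WT.node 40 (WT.node 38 (WT.leaf [2, 0, 10, 7, 6, 5, 4, 3, 2, 10, 7, 6, 5, 4, 3, 2, 10, 7, 6, 5, 4, 3, 2, 10, 7, 6, 5, 4, 3, 2, 10, 7, 6, 5, 4, 3, 2, 10, 7, 6, 5, 4, 3, 2, 10, 7, 6, 5, 4, 3, 2, 10, 7, 6, 5, 4, 3, 2, 10, 7, 6, 5, 4, 3]) (WT.node 39 (WT.leaf [2, 10, 7, 6, 5, 4, 3,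 2, 10, 7, 6, 5, 4, 3, 2, 0, 10, 7, 6, 5, 4, 3, 2, 10, 7, 6, 5, 4, 3, 2, 10, 7, 6, 5, 4, 3, 2, 10, 7, 6, 5, 4, 3, 2, 10, 7, 6, 5, 4, 3, 2, 10, 7, 6, 5, 4, 3, 2, 10, 7, 6, 5, 4, 3]) (WT.leaf [2, 10, 7, 6, 5, 4, 3, 2, 10, 7, 6, 5, 4, 3, 2, 10, 7, 6, 5, 4, 3, 2, 10, 7, 6, 5, 4, 3, 2, 10, 7, 6, 5, 4, 3, 2, 10, 7, 6, 5, 4, 3, 2, 0, 10, 7, 6, 5, 4, 3, 2, 10, 7, 6, 5, 4, 3, 2, 10, 7, 6, 5, 4, 3]))) (WT.node 41 (WT.leaf [2, 1, 0, 5, 6, 7, 8, 9, 5, 10, 11, 5, 4, 3, 2, 1, 0, 5, 6, 7, 8, 9, 5, 10, 11, 5, 4, 3, 2, 1, 0, 5, 6, 7, 8, 9, 5, 10, 11, 5, 4, 3, 2, 1, 0, 5, 6, 7, 8, 9, 5, 10, 11, 5, 4, 3, 2, 1, 0, 5, 6, 7, 8, 9, 5, 10, 11, 5, 4, 3, 2, 1, 0, 5, 6, 7, 8, 9, 5, 10, 11, 5, 4, 3, 2, 1, 0, 5, 6, 7, 8, 9, 5, 10, 11, 5, 4,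 3, 2, 1, 0, 5, 6, 7, 8, 9, 5, 10, 11, 5, 4, 3, 2, 1, 0, 5, 6, 7, 8, 9, 5, 10, 11, 5, 4, 3, 2, 1, 0, 5, 6, 7, 8, 9, 5, 10, 11, 5, 4, 3, 2, 1, 0, 5, 6, 7, 8, 9, 5, 10, 11, 5, 4, 3, 2, 1, 0, 5, 6, 7, 8, 9, 5, 10, 11, 5, 4, 3, 2, 1, 0, 5, 6, 7, 8, 9, 5, 10, 11, 5, 4, 3, 2, 1, 0, 5, 6, 7, 8, 9, 5, 10, 11, 5, 4, 3, 2, 1, 0, 5, 6, 7, 8, 9, 5, 10, 11, 5, 4, 3, 2, 1, 0, 5, 6, 7, 8, 9, 5, 10, 11, 5, 4, 3, 2, 1, 0, 5, 6, 7, 8, 9, 5, 10, 11, 5, 4, 3]) (WT.node 42 (WT.leaf [2, 10, 7, 6, 5, 4, 3, 2, 10, 7, 6, 5, 4, 3, 2, 10, 7, 6, 5, 4, 3, 2, 10, 7, 6, 5, 4, 3, 2, 10, 7, 6, 5, 4, 3, 2, 0, 10, 7, 6, 5, 4, 3, 2, 10, 7, 6, 5, 4, 3, 2, 10, 7, 6, 5, 4, 3, 2, 10, 7, 6, 5, 4, 3]) (WT.leaf [3, 1, 3, 1]))))))) (WT.node 65 (WT.node 54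 (WT.node 48 (WT.node 45 (WT.node 44 (WT.leaf [3, 0, 3, 0]) (WT.leaf [3, 4, 3, 4, 3, 4])) (WT.node 46 (WT.leaf [3, 5, 3, 5]) (WT.node 47 (WT.leaf [3, 2, 3, 2, 3, 2]) (WT.leaf [3, 6, 3, 6])))) (WT.node 51 (WT.node 49 (WT.leaf [3, 10, 3, 10]) (WT.node 50 (WT.leaf [3, 7, 3, 7]) (WT.leaf [3, 11, 3, 11]))) (WT.node 52 (WT.leaf [3, 8, 3, 8]) (WT.node 53 (WT.leaf [3, 9, 3, 9]) (WT.leaf [3, 2, 10, 7, 6, 5, 4, 3, 2, 10, 7, 6, 5, 4, 3, 2, 10, 7, 6, 5, 4, 3, 2, 10, 7, 6, 5, 4, 3, 2, 10, 7, 6, 5, 4, 3, 2, 10, 7, 6, 5, 4, 3, 2, 10, 7, 6, 5, 4, 3, 2, 10, 7, 6, 5, 4, 3, 2, 0, 10, 7, 6, 5, 4]))))) (WT.node 59 (WT.node 56 (WT.node 55 (WT.leaf [3, 2, 10, 7, 6, 5, 4, 3, 2, 10, 7, 6, 5, 4, 3, 2, 10, 7, 6, 5, 4, 3, 2, 10, 7, 6, 5, 4,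 3, 2, 10, 7, 6, 5, 4, 3, 2, 10, 7, 6, 5, 4, 3, 2, 0, 10, 7, 6, 5, 4, 3, 2, 10, 7, 6, 5, 4, 3, 2, 10, 7, 6, 5, 4]) (WT.leaf [3, 2, 10, 7, 6, 5, 4, 3, 2, 10, 7, 6, 5, 4, 3, 2, 10, 7, 6, 5, 4, 3, 2, 10, 7, 6, 5, 4, 3, 2, 10, 7, 6, 5, 4, 3, 2, 0, 10, 7, 6, 5, 4, 3, 2, 10, 7, 6, 5, 4, 3, 2, 10, 7, 6, 5, 4, 3, 2, 10, 7, 6, 5, 4])) (WT.node 57 (WT.leaf [3, 2, 10, 7, 6, 5, 4, 3, 2, 10, 7, 6, 5, 4, 3, 2, 0, 10, 7, 6, 5, 4, 3, 2, 10, 7, 6, 5, 4, 3, 2, 10, 7, 6, 5, 4, 3, 2, 10, 7, 6, 5, 4, 3, 2, 10, 7, 6, 5, 4, 3, 2, 10, 7, 6, 5, 4, 3, 2, 10, 7, 6, 5, 4]) (WT.node 58 (WT.leaf [3, 2, 0, 10, 7, 6, 5, 4, 3, 2, 10, 7, 6, 5, 4, 3, 2, 10, 7, 6, 5, 4, 3, 2, 10, 7, 6, 5, 4, 3, 2, 10, 7, 6, 5, 4, 3, 2, 10, 7, 6, 5, 4, 3, 2, 10, 7,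 6, 5, 4, 3, 2, 10, 7, 6, 5, 4, 3, 2, 10, 7, 6, 5, 4]) (WT.leaf [3, 2, 10, 7, 6, 5, 4, 3, 2, 10, 7, 6, 5, 4, 3, 2, 10, 7, 6, 5, 4, 3, 2, 10, 7, 6, 5, 4, 3, 2, 10, 7, 6, 5, 4, 3, 2, 10, 7, 6, 5, 4, 3, 2, 10, 7, 6, 5, 4, 3, 2, 0, 10, 7, 6, 5, 4, 3, 2, 10, 7, 6, 5, 4])))) (WT.node 62 (WT.node 60 (WT.leaf [4, 1, 4, 1]) (WT.node 61 (WT.leaf [4, 0, 4, 0]) (WT.leaf [4, 2, 4, 2]))) (WT.node 63 (WT.leaf [4, 5, 4, 5, 4, 5]) (WT.node 64 (WT.leaf [4, 6, 4, 6]) (WT.leaf [4, 10, 4, 10])))))) (WT.node 76 (WT.node 70 (WT.node 67 (WT.node 66 (WT.leaf [4, 7, 4, 7]) (WT.leaf [4, 11, 4, 11])) (WT.node 68 (WT.leaf [4, 3, 4, 3, 4, 3]) (WT.node 69 (WT.leaf [4, 8, 4, 8]) (WT.leaf [4, 9, 4, 9])))) (WT.node 73 (WT.node 71 (WT.leaf [4, 3,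 2, 10, 7, 6, 5, 4, 3, 2, 10, 7, 6, 5, 4, 3, 2, 10, 7, 6, 5, 4, 3, 2, 10, 7, 6, 5, 4, 3, 2, 10, 7, 6, 5, 4, 3, 2, 10, 7, 6, 5, 4, 3, 2, 10, 7, 6, 5, 4, 3, 2, 10, 7, 6, 5, 4, 3, 2, 0, 10, 7, 6, 5]) (WT.node 72 (WT.leaf [4, 3, 2, 0, 10, 7, 6, 5, 4, 3, 2, 10, 7, 6, 5, 4, 3, 2, 10, 7, 6, 5, 4, 3, 2, 10, 7, 6, 5, 4, 3, 2, 10, 7, 6, 5, 4, 3, 2, 10, 7, 6, 5, 4, 3, 2, 10, 7, 6, 5, 4, 3, 2, 10, 7, 6, 5, 4, 3, 2, 10, 7, 6, 5]) (WT.leaf [4, 3, 2, 1, 0, 5, 6, 7, 8, 9, 5, 10, 11, 5, 4, 3, 2, 1, 0, 5, 6, 7, 8, 9, 5, 10, 11, 5, 4, 3, 2, 1, 0, 5, 6, 7, 8, 9, 5, 10, 11, 5, 4, 3, 2, 1, 0, 5, 6, 7, 8, 9, 5, 10, 11, 5, 4, 3, 2, 1, 0, 5, 6, 7, 8, 9, 5, 10, 11, 5, 4, 3, 2, 1, 0, 5, 6, 7, 8, 9, 5, 10, 11, 5, 4, 3, 2, 1, 0, 5, 6, 7, 8,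 9, 5, 10, 11, 5, 4, 3, 2, 1, 0, 5, 6, 7, 8, 9, 5, 10, 11, 5, 4, 3, 2, 1, 0, 5, 6, 7, 8, 9, 5, 10, 11, 5, 4, 3, 2, 1, 0, 5, 6, 7, 8, 9, 5, 10, 11, 5, 4, 3, 2, 1, 0, 5, 6, 7, 8, 9, 5, 10, 11, 5, 4, 3, 2, 1, 0, 5, 6, 7, 8, 9, 5, 10, 11, 5, 4, 3, 2, 1, 0, 5, 6, 7, 8, 9, 5, 10, 11, 5, 4, 3, 2, 1, 0, 5, 6, 7, 8, 9, 5, 10, 11, 5, 4, 3, 2, 1, 0, 5, 6, 7, 8, 9, 5, 10, 11, 5, 4, 3, 2, 1, 0, 5, 6, 7, 8, 9, 5, 10, 11, 5, 4, 3, 2, 1, 0, 5, 6, 7, 8, 9, 5, 10, 11, 5]))) (WT.node 74 (WT.leaf [4, 3, 2, 10, 7, 6, 5, 4, 3, 2, 10, 7, 6, 5, 4, 3, 2, 10, 7, 6, 5, 4, 3, 2, 10, 7, 6, 5, 4, 3, 2, 10, 7, 6, 5, 4, 3, 2, 10, 7, 6, 5, 4, 3, 2, 10, 7, 6, 5, 4, 3, 2, 0, 10, 7, 6, 5, 4, 3, 2, 10, 7, 6, 5]) (WT.node 75 (WT.leaf [5, 1, 5, 1]) (WT.leaf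 [5, 0, 5, 0]))))) (WT.node 81 (WT.node 78 (WT.node 77 (WT.leaf [5, 2, 5, 2]) (WT.leaf [5, 3, 5, 3])) (WT.node 79 (WT.leaf [5, 6, 5, 6, 5, 6]) (WT.node 80 (WT.leaf [5, 10, 5, 10, 5, 10]) (WT.leaf [5, 7, 5, 7])))) (WT.node 84 (WT.node 82 (WT.leaf [5, 11, 5, 11]) (WT.node 83 (WT.leaf [5, 8, 5, 8]) (WT.leaf [5, 9, 5, 9]))) (WT.node 85 (WT.leaf [5, 4, 5, 4, 5, 4]) (WT.node 86 (WT.leaf [5, 4, 3, 2, 10, 7, 6, 5, 4, 3, 2, 10, 7, 6, 5, 4, 3, 2, 10, 7, 6, 5, 4, 3, 2, 10, 7, 6, 5, 4, 3, 2, 10, 7, 6, 5, 4, 3, 2, 10, 7, 6, 5, 4, 3, 2, 10, 7, 6, 5, 4, 3, 2, 10, 7, 6, 5, 4, 3, 2, 0, 10, 7, 6]) (WT.leaf [5, 4, 3, 2, 10, 7, 6, 5, 4, 3, 2, 10, 7, 6, 5, 4, 3, 2, 10, 7, 6, 5, 4, 3, 2, 10, 7, 6, 5, 4, 3, 2, 10, 7, 6, 5, 4, 3, 2, 10,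 7, 6, 5, 4, 3, 2, 10, 7, 6, 5, 4, 3, 2, 0, 10, 7, 6, 5, 4, 3, 2, 10, 7, 6])))))))) (WT.node 130 (WT.node 108 (WT.node 97 (WT.node 92 (WT.node 89 (WT.node 88 (WT.leaf [5, 4, 3, 2, 10, 7, 6, 5, 4, 3, 2, 10, 7, 6, 5, 4, 3, 2, 10, 7, 6, 5, 4, 3, 2, 10, 7, 6, 5, 4, 3, 2, 0, 10, 7, 6, 5, 4, 3, 2, 10, 7, 6, 5, 4, 3, 2, 10, 7, 6, 5, 4, 3, 2, 10, 7, 6, 5, 4, 3, 2, 10, 7, 6]) (WT.leaf [5, 4, 3, 2, 1, 0, 5, 6, 7, 8, 9, 5, 10, 11, 5, 4, 3, 2, 1, 0, 5, 6, 7, 8, 9, 5, 10, 11, 5, 4, 3, 2, 1, 0, 5, 6, 7, 8, 9, 5, 10, 11, 5, 4, 3, 2, 1, 0, 5, 6, 7, 8, 9, 5, 10, 11, 5, 4, 3, 2, 1, 0, 5, 6, 7, 8, 9, 5, 10, 11, 5, 4, 3, 2, 1, 0, 5, 6, 7, 8, 9, 5, 10, 11, 5, 4, 3, 2, 1, 0, 5, 6, 7, 8, 9, 5, 10, 11, 5, 4, 3, 2, 1, 0, 5, 6, 7, 8, 9,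 5, 10, 11, 5, 4, 3, 2, 1, 0, 5, 6, 7, 8, 9, 5, 10, 11, 5, 4, 3, 2, 1, 0, 5, 6, 7, 8, 9, 5, 10, 11, 5, 4, 3, 2, 1, 0, 5, 6, 7, 8, 9, 5, 10, 11, 5, 4, 3, 2, 1, 0, 5, 6, 7, 8, 9, 5, 10, 11, 5, 4, 3, 2, 1, 0, 5, 6, 7, 8, 9, 5, 10, 11, 5, 4, 3, 2, 1, 0, 5, 6, 7, 8, 9, 5, 10, 11, 5, 4, 3, 2, 1, 0, 5, 6, 7, 8, 9, 5, 10, 11, 5, 4, 3, 2, 1, 0, 5, 6, 7, 8, 9, 5, 10, 11, 5, 4, 3, 2, 1, 0, 5, 6, 7, 8, 9, 5, 10, 11])) (WT.node 90 (WT.leaf [6, 1, 6, 1]) (WT.node 91 (WT.leaf [6, 0, 6, 0]) (WT.leaf [6, 2, 6, 2])))) (WT.node 94 (WT.node 93 (WT.leaf [6, 3, 6, 3]) (WT.leaf [6, 4, 6, 4])) (WT.node 95 (WT.leaf [6, 10, 6, 10]) (WT.node 96 (WT.leaf [6, 7, 6, 7, 6, 7]) (WT.leaf [6, 11, 6, 11]))))) (WT.node 102 (WT.node 99 (WT.node 98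 (WT.leaf [6, 8, 6, 8]) (WT.leaf [6, 5, 6, 5, 6, 5])) (WT.node 100 (WT.leaf [6, 9, 6, 9]) (WT.node 101 (WT.leaf [6, 5, 4, 3, 2, 10, 7, 6, 5, 4, 3, 2, 10, 7, 6, 5, 4, 3, 2, 10, 7, 6, 5, 4, 3, 2, 10, 7, 6, 5, 4, 3, 2, 10, 7, 6, 5, 4, 3, 2, 10, 7, 6, 5, 4, 3, 2, 10, 7, 6, 5, 4, 3, 2, 0, 10, 7, 6, 5, 4, 3, 2, 10, 7]) (WT.leaf [6, 5, 4, 3, 2, 10, 7, 6, 5, 4, 3, 2, 10, 7, 6, 5, 4, 3, 2, 10, 7, 6, 5, 4, 3, 2, 10, 7, 6, 5, 4, 3, 2, 10, 7, 6, 5, 4, 3, 2, 10, 7, 6, 5, 4, 3, 2, 10, 7, 6, 5, 4, 3, 2, 10, 7, 6, 5, 4, 3, 2, 0, 10, 7])))) (WT.node 105 (WT.node 103 (WT.leaf [6, 5, 4, 3, 2, 10, 7, 6, 5, 4, 3, 2, 10, 7, 6, 5, 4, 3, 2, 10, 7, 6, 5, 4, 3, 2, 0, 10, 7, 6, 5, 4, 3, 2, 10, 7, 6, 5, 4, 3, 2, 10, 7, 6, 5, 4, 3, 2, 10, 7,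 6, 5, 4, 3, 2, 10, 7, 6, 5, 4, 3, 2, 10, 7]) (WT.node 104 (WT.leaf [6, 5, 4, 3, 2, 10, 7, 6, 5, 4, 3, 2, 10, 7, 6, 5, 4, 3, 2, 0, 10, 7, 6, 5, 4, 3, 2, 10, 7, 6, 5, 4, 3, 2, 10, 7, 6, 5, 4, 3, 2, 10, 7, 6, 5, 4, 3, 2, 10, 7, 6, 5, 4, 3, 2, 10, 7, 6, 5, 4, 3, 2, 10, 7]) (WT.leaf [6, 5, 4, 3, 2, 0, 10, 7, 6, 5, 4, 3, 2, 10, 7, 6, 5, 4, 3, 2, 10, 7, 6, 5, 4, 3, 2, 10, 7, 6, 5, 4, 3, 2, 10, 7, 6, 5, 4, 3, 2, 10, 7, 6, 5, 4, 3, 2, 10, 7, 6, 5, 4, 3, 2, 10, 7, 6, 5, 4, 3, 2, 10, 7]))) (WT.node 106 (WT.leaf [6, 7, 8, 9, 5, 10, 11, 5, 4, 3, 2, 1, 0, 5, 6, 7, 8, 9, 5, 10, 11, 5, 4, 3, 2, 1, 0, 5, 6, 7, 8, 9, 5, 10, 11, 5, 4, 3, 2, 1, 0, 5, 6, 7, 8, 9, 5, 10, 11, 5, 4, 3, 2, 1, 0, 5, 6, 7, 8, 9, 5, 10, 11, 5, 4, 3, 2, 1,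 0, 5, 6, 7, 8, 9, 5, 10, 11, 5, 4, 3, 2, 1, 0, 5, 6, 7, 8, 9, 5, 10, 11, 5, 4, 3, 2, 1, 0, 5, 6, 7, 8, 9, 5, 10, 11, 5, 4, 3, 2, 1, 0, 5, 6, 7, 8, 9, 5, 10, 11, 5, 4, 3, 2, 1, 0, 5, 6, 7, 8, 9, 5, 10, 11, 5, 4, 3, 2, 1, 0, 5, 6, 7, 8, 9, 5, 10, 11, 5, 4, 3, 2, 1, 0, 5, 6, 7, 8, 9, 5, 10, 11, 5, 4, 3, 2, 1, 0, 5, 6, 7, 8, 9, 5, 10, 11, 5, 4, 3, 2, 1, 0, 5, 6, 7, 8, 9, 5, 10, 11, 5, 4, 3, 2, 1, 0, 5, 6, 7, 8, 9, 5, 10, 11, 5, 4, 3, 2, 1, 0, 5, 6, 7, 8, 9, 5, 10, 11, 5, 4, 3, 2, 1, 0, 5, 6, 7, 8, 9, 5, 10, 11, 5, 4, 3, 2, 1, 0, 5]) (WT.node 107 (WT.leaf [7, 1, 7, 1]) (WT.leaf [7, 0, 7, 0])))))) (WT.node 119 (WT.node 113 (WT.node 110 (WT.node 109 (WT.leaf [7, 2, 7, 2]) (WT.leaf [7, 3, 7, 3])) (WT.node 111 (WT.leaf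 [7, 4, 7, 4]) (WT.node 112 (WT.leaf [7, 5, 7, 5]) (WT.leaf [7, 10, 7, 10])))) (WT.node 116 (WT.node 114 (WT.leaf [7, 11, 7, 11]) (WT.node 115 (WT.leaf [7, 8, 7, 8, 7, 8]) (WT.leaf [7, 9, 7, 9]))) (WT.node 117 (WT.leaf [7, 6, 7, 6, 7, 6]) (WT.node 118 (WT.leaf [7, 6, 5, 4, 3, 2, 10, 7, 6, 5, 4, 3, 2, 10, 7, 6, 5, 4, 3, 2, 10, 7, 6, 5, 4, 3, 2, 10, 7, 6, 5, 4, 3, 2, 10, 7, 6, 5, 4, 3, 2, 10, 7, 6, 5, 4, 3, 2, 10, 7, 6, 5, 4, 3, 2, 10, 7, 6, 5, 4, 3, 2, 0, 10]) (WT.leaf [7, 6, 5, 4, 3, 2, 10, 7, 6, 5, 4, 3, 2, 10, 7, 6, 5, 4, 3, 2, 10, 7, 6, 5, 4, 3, 2, 10, 7, 6, 5, 4, 3, 2, 10, 7, 6, 5, 4, 3, 2, 10, 7, 6, 5, 4, 3, 2, 10, 7, 6, 5, 4, 3, 2, 0, 10, 7, 6, 5, 4, 3, 2, 10]))))) (WT.node 124 (WT.node 121 (WT.node 120 (WT.leaf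 [7, 6, 5, 4, 3, 2, 10, 7, 6, 5, 4, 3, 2, 0, 10, 7, 6, 5, 4, 3, 2, 10, 7, 6, 5, 4, 3, 2, 10, 7, 6, 5, 4, 3, 2, 10, 7, 6, 5, 4, 3, 2, 10, 7, 6, 5, 4, 3, 2, 10, 7, 6, 5, 4, 3, 2, 10, 7, 6, 5, 4, 3, 2, 10]) (WT.leaf [7, 6, 5, 4, 3, 2, 10, 7, 6, 5, 4, 3, 2, 10, 7, 6, 5, 4, 3, 2, 10, 7, 6, 5, 4, 3, 2, 0, 10, 7, 6, 5, 4, 3, 2, 10, 7, 6, 5, 4, 3, 2, 10, 7, 6, 5, 4, 3, 2, 10, 7, 6, 5, 4, 3, 2, 10, 7, 6, 5, 4, 3, 2, 10])) (WT.node 122 (WT.leaf [7, 8, 9, 5, 10, 11, 5, 4, 3, 2, 1, 0, 5, 6, 7, 8, 9, 5, 10, 11, 5, 4, 3, 2, 1, 0, 5, 6, 7, 8, 9, 5, 10, 11, 5, 4, 3, 2, 1, 0, 5, 6, 7, 8, 9, 5, 10, 11, 5, 4, 3, 2, 1, 0, 5, 6, 7, 8, 9, 5, 10, 11, 5, 4, 3, 2, 1, 0, 5, 6, 7, 8, 9, 5, 10, 11, 5, 4, 3, 2, 1, 0, 5, 6, 7, 8, 9, 5, 10, 11,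 5, 4, 3, 2, 1, 0, 5, 6, 7, 8, 9, 5, 10, 11, 5, 4, 3, 2, 1, 0, 5, 6, 7, 8, 9, 5, 10, 11, 5, 4, 3, 2, 1, 0, 5, 6, 7, 8, 9, 5, 10, 11, 5, 4, 3, 2, 1, 0, 5, 6, 7, 8, 9, 5, 10, 11, 5, 4, 3, 2, 1, 0, 5, 6, 7, 8, 9, 5, 10, 11, 5, 4, 3, 2, 1, 0, 5, 6, 7, 8, 9, 5, 10, 11, 5, 4, 3, 2, 1, 0, 5, 6, 7, 8, 9, 5, 10, 11, 5, 4, 3, 2, 1, 0, 5, 6, 7, 8, 9, 5, 10, 11, 5, 4, 3, 2, 1, 0, 5, 6, 7, 8, 9, 5, 10, 11, 5, 4, 3, 2, 1, 0, 5, 6, 7, 8, 9, 5, 10, 11, 5, 4, 3, 2, 1, 0, 5, 6]) (WT.node 123 (WT.leaf [8, 1, 8, 1]) (WT.leaf [8, 0, 8, 0])))) (WT.node 127 (WT.node 125 (WT.leaf [8, 2, 8, 2]) (WT.node 126 (WT.leaf [8, 3, 8, 3]) (WT.leaf [8, 4, 8, 4]))) (WT.node 128 (WT.leaf [8, 5, 8, 5]) (WT.node 129 (WT.leaf [8, 6, 8, 6]) (WT.leaf [8,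 10, 8, 10]))))))) (WT.node 152 (WT.node 141 (WT.node 135 (WT.node 132 (WT.node 131 (WT.leaf [8, 11, 8, 11]) (WT.leaf [8, 9, 8, 9, 8, 9])) (WT.node 133 (WT.leaf [8, 7, 8, 7, 8, 7]) (WT.node 134 (WT.leaf [8, 9, 5, 10, 11, 5, 4, 3, 2, 1, 0, 5, 6, 7, 8, 9, 5, 10, 11, 5, 4, 3, 2, 1, 0, 5, 6, 7, 8, 9, 5, 10, 11, 5, 4, 3, 2, 1, 0, 5, 6, 7, 8, 9, 5, 10, 11, 5, 4, 3, 2, 1, 0, 5, 6, 7, 8, 9, 5, 10, 11, 5, 4, 3, 2, 1, 0, 5, 6, 7, 8, 9, 5, 10, 11, 5, 4, 3, 2, 1, 0, 5, 6, 7, 8, 9, 5, 10, 11, 5, 4, 3, 2, 1, 0, 5, 6, 7, 8, 9, 5, 10, 11, 5, 4, 3, 2, 1, 0, 5, 6, 7, 8, 9, 5, 10, 11, 5, 4, 3, 2, 1, 0, 5, 6, 7, 8, 9, 5, 10, 11, 5, 4, 3, 2, 1, 0, 5, 6, 7, 8, 9, 5, 10, 11, 5, 4, 3, 2, 1, 0, 5, 6, 7, 8, 9, 5, 10, 11, 5, 4, 3, 2, 1, 0,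 5, 6, 7, 8, 9, 5, 10, 11, 5, 4, 3, 2, 1, 0, 5, 6, 7, 8, 9, 5, 10, 11, 5, 4, 3, 2, 1, 0, 5, 6, 7, 8, 9, 5, 10, 11, 5, 4, 3, 2, 1, 0, 5, 6, 7, 8, 9, 5, 10, 11, 5, 4, 3, 2, 1, 0, 5, 6, 7, 8, 9, 5, 10, 11, 5, 4, 3, 2, 1, 0, 5, 6, 7]) (WT.leaf [9, 1, 9, 1])))) (WT.node 138 (WT.node 136 (WT.leaf [9, 0, 9, 0]) (WT.node 137 (WT.leaf [9, 2, 9, 2]) (WT.leaf [9, 3, 9, 3]))) (WT.node 139 (WT.leaf [9, 4, 9, 4]) (WT.node 140 (WT.leaf [9, 5, 9, 5]) (WT.leaf [9, 6, 9, 6]))))) (WT.node 146 (WT.node 143 (WT.node 142 (WT.leaf [9, 10, 9, 10]) (WT.leaf [9, 7, 9, 7])) (WT.node 144 (WT.leaf [9, 11, 9, 11]) (WT.node 145 (WT.leaf [9, 8, 9, 8, 9, 8]) (WT.leaf [9, 5, 10, 11, 5, 4, 3, 2, 1, 0, 5, 6, 7, 8, 9, 5, 10, 11, 5, 4, 3, 2, 1, 0, 5,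 6, 7, 8, 9, 5, 10, 11, 5, 4, 3, 2, 1, 0, 5, 6, 7, 8, 9, 5, 10, 11, 5, 4, 3, 2, 1, 0, 5, 6, 7, 8, 9, 5, 10, 11, 5, 4, 3, 2, 1, 0, 5, 6, 7, 8, 9, 5, 10, 11, 5, 4, 3, 2, 1, 0, 5, 6, 7, 8, 9, 5, 10, 11, 5, 4, 3, 2, 1, 0, 5, 6, 7, 8, 9, 5, 10, 11, 5, 4, 3, 2, 1, 0, 5, 6, 7, 8, 9, 5, 10, 11, 5, 4, 3, 2, 1, 0, 5, 6, 7, 8, 9, 5, 10, 11, 5, 4, 3, 2, 1, 0, 5, 6, 7, 8, 9, 5, 10, 11, 5, 4, 3, 2, 1, 0, 5, 6, 7, 8, 9, 5, 10, 11, 5, 4, 3, 2, 1, 0, 5, 6, 7, 8, 9, 5, 10, 11, 5, 4, 3, 2, 1, 0, 5, 6, 7, 8, 9, 5, 10, 11, 5, 4, 3, 2, 1, 0, 5, 6, 7, 8, 9, 5, 10, 11, 5, 4, 3, 2, 1, 0, 5, 6, 7, 8, 9, 5, 10, 11, 5, 4, 3, 2, 1, 0, 5, 6, 7, 8, 9, 5, 10, 11, 5, 4, 3, 2, 1, 0, 5, 6, 7, 8])))) (WT.node 149 (WT.node 147 (WT.leaf [10, 1, 10,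 1]) (WT.node 148 (WT.leaf [10, 0, 10, 0]) (WT.leaf [10, 2, 10, 2]))) (WT.node 150 (WT.leaf [10, 3, 10, 3]) (WT.node 151 (WT.leaf [10, 4, 10, 4]) (WT.leaf [10, 11, 10, 11, 10, 11])))))) (WT.node 163 (WT.node 157 (WT.node 154 (WT.node 153 (WT.leaf [10, 5, 10, 5, 10, 5]) (WT.leaf [10, 6, 10, 6])) (WT.node 155 (WT.leaf [10, 7, 10, 7]) (WT.node 156 (WT.leaf [10, 8, 10, 8]) (WT.leaf [10, 9, 10, 9])))) (WT.node 160 (WT.node 158 (WT.leaf [10, 7, 6, 5, 4, 3, 2, 10, 7, 6, 5, 4, 3, 2, 10, 7, 6, 5, 4, 3, 2, 10, 7, 6, 5, 4, 3, 2, 10, 7, 6, 5, 4, 3, 2, 10, 7, 6, 5, 4, 3, 2, 10, 7, 6, 5, 4, 3, 2, 10, 7, 6, 5, 4, 3, 2, 0, 10, 7, 6, 5, 4, 3, 2]) (WT.node 159 (WT.leaf [10, 7, 6, 5, 4, 3, 2, 10, 7, 6, 5, 4, 3, 2, 10, 7, 6, 5, 4,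 3, 2, 10, 7, 6, 5, 4, 3, 2, 10, 7, 6, 5, 4, 3, 2, 10, 7, 6, 5, 4, 3, 2, 10, 7, 6, 5, 4, 3, 2, 10, 7, 6, 5, 4, 3, 2, 10, 7, 6, 5, 4, 3, 2, 0]) (WT.leaf [10, 7, 6, 5, 4, 3, 2, 10, 7, 6, 5, 4, 3, 2, 0, 10, 7, 6, 5, 4, 3, 2, 10, 7, 6, 5, 4, 3, 2, 10, 7, 6, 5, 4, 3, 2, 10, 7, 6, 5, 4, 3, 2, 10, 7, 6, 5, 4, 3, 2, 10, 7, 6, 5, 4, 3, 2, 10, 7, 6, 5, 4, 3, 2]))) (WT.node 161 (WT.leaf [10, 11, 5, 4, 3, 2, 1, 0, 5, 6, 7, 8, 9, 5, 10, 11, 5, 4, 3, 2, 1, 0, 5, 6, 7, 8, 9, 5, 10, 11, 5, 4, 3, 2, 1, 0, 5, 6, 7, 8, 9, 5, 10, 11, 5, 4, 3, 2, 1, 0, 5, 6, 7, 8, 9, 5, 10, 11, 5, 4, 3, 2, 1, 0, 5, 6, 7, 8, 9, 5, 10, 11, 5, 4, 3, 2, 1, 0, 5, 6, 7, 8, 9, 5, 10, 11, 5, 4, 3, 2, 1, 0, 5, 6, 7, 8, 9, 5, 10, 11, 5, 4, 3, 2, 1, 0, 5, 6, 7,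 8, 9, 5, 10, 11, 5, 4, 3, 2, 1, 0, 5, 6, 7, 8, 9, 5, 10, 11, 5, 4, 3, 2, 1, 0, 5, 6, 7, 8, 9, 5, 10, 11, 5, 4, 3, 2, 1, 0, 5, 6, 7, 8, 9, 5, 10, 11, 5, 4, 3, 2, 1, 0, 5, 6, 7, 8, 9, 5, 10, 11, 5, 4, 3, 2, 1, 0, 5, 6, 7, 8, 9, 5, 10, 11, 5, 4, 3, 2, 1, 0, 5, 6, 7, 8, 9, 5, 10, 11, 5, 4, 3, 2, 1, 0, 5, 6, 7, 8, 9, 5, 10, 11, 5, 4, 3, 2, 1, 0, 5, 6, 7, 8, 9, 5, 10, 11, 5, 4, 3, 2, 1, 0, 5, 6, 7, 8, 9, 5]) (WT.node 162 (WT.leaf [11, 1, 11, 1]) (WT.leaf [11, 0, 11, 0]))))) (WT.node 168 (WT.node 165 (WT.node 164 (WT.leaf [11, 2, 11, 2]) (WT.leaf [11, 3, 11, 3])) (WT.node 166 (WT.leaf [11, 4, 11, 4]) (WT.node 167 (WT.leaf [11, 5, 11, 5]) (WT.leaf [11, 6, 11, 6])))) (WT.node 171 (WT.node 169 (WT.leaf [11, 7, 11, 7]) (WT.node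 170 (WT.leaf [11, 8, 11, 8]) (WT.leaf [11, 9, 11, 9]))) (WT.node 172 (WT.leaf [11, 10, 11, 10, 11, 10]) (WT.node 173 (WT.leaf [11, 5, 4, 3, 2, 1, 0, 5, 6, 7, 8, 9, 5, 10, 11, 5, 4, 3, 2, 1, 0, 5, 6, 7, 8, 9, 5, 10, 11, 5, 4, 3, 2, 1, 0, 5, 6, 7, 8, 9, 5, 10, 11, 5, 4, 3, 2, 1, 0, 5, 6, 7, 8, 9, 5, 10, 11, 5, 4, 3, 2, 1, 0, 5, 6, 7, 8, 9, 5, 10, 11, 5, 4, 3, 2, 1, 0, 5, 6, 7, 8, 9, 5, 10, 11, 5, 4, 3, 2, 1, 0, 5, 6, 7, 8, 9, 5, 10, 11, 5, 4, 3, 2, 1, 0, 5, 6, 7, 8, 9, 5, 10, 11, 5, 4, 3, 2, 1, 0, 5, 6, 7, 8, 9, 5, 10, 11, 5, 4, 3, 2, 1, 0, 5, 6, 7, 8, 9, 5, 10, 11, 5, 4, 3, 2, 1, 0, 5, 6, 7, 8, 9, 5, 10, 11, 5, 4, 3, 2, 1, 0, 5, 6, 7, 8, 9, 5, 10, 11, 5, 4, 3, 2, 1, 0, 5, 6, 7, 8, 9, 5, 10, 11, 5, 4, 3, 2, 1, 0,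 5, 6, 7, 8, 9, 5, 10, 11, 5, 4, 3, 2, 1, 0, 5, 6, 7, 8, 9, 5, 10, 11, 5, 4, 3, 2, 1, 0, 5, 6, 7, 8, 9, 5, 10, 11, 5, 4, 3, 2, 1, 0, 5, 6, 7, 8, 9, 5, 10]) (WT.leaf [4, 3, 2, 10, 7, 6, 5, 4, 3, 2, 10, 7, 6, 5, 4, 3, 2, 10, 7, 6, 5, 4, 3, 2, 10, 7, 6, 5, 4, 3, 2, 10, 7, 6, 5, 4, 3, 2, 10, 7, 6, 5, 4, 3, 2, 0, 10, 7, 6, 5, 4, 3, 2, 10, 7, 6, 5, 4, 3, 2, 10, 7, 6, 5])))))))))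

/-- The sources of the rotated relators: relator and rotation. -/
def rotSrc : List (ℕ × ℕ) := [(2, 2), (3, 2), (1, 2), (4, 2), (5, 2), (6, 2), (10, 2), (7, 2), (11, 2), (8, 2), (9, 2), (144, 0), (145, 5), (1, 1), (14, 2), (15, 2), (16, 2), (17, 2), (18, 2), (22, 2), (19, 2), (23, 2), (20, 2), (21, 2), (145, 4), (27, 2), (14, 1), (28, 2), (29, 2), (30, 2), (34, 2), (31, 2), (35, 2), (32, 2), (33, 2), (2, 1), (144, 7), (144, 63), (144, 49), (144, 21), (145, 3), (144, 28), (15, 1), (3, 1), (40, 2), (41, 2), (27, 1), (42, 2), (46, 2), (43, 2), (47, 2), (44, 2), (45, 2), (144, 6), (144, 20), (144, 27), (144, 48), (144, 62), (144, 13), (16, 1), (4, 1), (28, 1), (53, 2), (54, 2), (58, 2), (55, 2), (59, 2), (40, 1),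 (56, 2), (57, 2), (144, 5), (144, 61), (145, 1), (144, 12), (17, 1), (5, 1), (29, 1), (41, 1), (66, 2), (70, 2), (67, 2), (71, 2), (68, 2), (69, 2), (53, 1), (144, 4), (144, 11), (144, 32), (145, 14), (18, 1), (6, 1), (30, 1), (42, 1), (54, 1), (82, 2), (79, 2), (83, 2), (80, 2), (66, 1), (81, 2), (144, 10), (144, 3), (144, 38), (144, 45), (144, 59), (145, 7), (19, 1), (7, 1), (31, 1), (43, 1), (55, 1), (67, 1), (94, 2), (95, 2), (92, 2), (93, 2), (79, 1), (144, 2), (144, 9), (144, 51), (144, 37), (145, 8), (20, 1), (8, 1), (32, 1), (44, 1), (56, 1), (68, 1), (80, 1), (106, 2), (107, 2), (105, 2), (92, 1), (145, 9), (21, 1), (9, 1), (33, 1), (45, 1), (57, 1), (69, 1), (81, 1), (118, 2), (93, 1), (119, 2), (105,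 1), (145, 10), (22, 1), (10, 1), (34, 1), (46, 1), (58, 1), (131, 2), (70, 1), (82, 1), (94, 1), (106, 1), (118, 3), (144, 8), (144, 1), (144, 50), (145, 12), (23, 1), (11, 1), (35, 1), (47, 1), (59, 1), (71, 1), (83, 1), (95, 1), (107, 1), (119, 1), (131, 1), (145, 13), (144, 19)]

/-- The relators, as words of columns. -/
def relWords : List (List ℕ) := [[0, 0], [0, 1, 0, 1, 0, 1], [0, 2, 0, 2], [0, 3, 0, 3], [0, 4, 0, 4], [0, 5, 0, 5], [0, 6, 0, 6], [0, 7, 0, 7], [0, 8, 0, 8], [0, 9, 0, 9], [0, 10, 0, 10], [0, 11, 0, 11], [1, 0, 1, 0, 1, 0], [1, 1], [1, 2, 1, 2, 1, 2], [1, 3, 1, 3], [1, 4, 1, 4], [1, 5, 1, 5], [1, 6, 1, 6], [1, 7, 1, 7], [1, 8, 1, 8], [1, 9, 1, 9], [1, 10, 1, 10], [1, 11, 1, 11], [2, 0, 2, 0],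 [2, 1, 2, 1, 2, 1], [2, 2], [2, 3, 2, 3, 2, 3], [2, 4, 2, 4], [2, 5, 2, 5], [2, 6, 2, 6], [2, 7, 2, 7], [2, 8, 2, 8], [2, 9, 2, 9], [2, 10, 2, 10], [2, 11, 2, 11], [3, 0, 3, 0], [3, 1, 3, 1], [3, 2, 3, 2, 3, 2], [3, 3], [3, 4, 3, 4, 3, 4], [3, 5, 3, 5], [3, 6, 3, 6], [3, 7, 3, 7], [3, 8, 3, 8], [3, 9, 3, 9], [3, 10, 3, 10], [3, 11, 3, 11], [4, 0, 4, 0], [4, 1, 4, 1], [4, 2, 4, 2], [4, 3, 4, 3, 4, 3], [4, 4], [4, 5, 4, 5, 4, 5], [4, 6, 4, 6], [4, 7, 4, 7], [4, 8, 4, 8], [4, 9, 4, 9], [4, 10, 4, 10], [4, 11, 4, 11], [5, 0, 5, 0], [5, 1, 5, 1], [5, 2, 5, 2], [5, 3, 5, 3], [5, 4, 5, 4, 5, 4], [5, 5], [5, 6, 5, 6, 5, 6], [5, 7, 5, 7], [5, 8, 5, 8], [5, 9, 5, 9], [5, 10, 5, 10, 5, 10], [5, 11, 5, 11], [6, 0, 6, 0], [6,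 1, 6, 1], [6, 2, 6, 2], [6, 3, 6, 3], [6, 4, 6, 4], [6, 5, 6, 5, 6, 5], [6, 6], [6, 7, 6, 7, 6, 7], [6, 8, 6, 8], [6, 9, 6, 9], [6, 10, 6, 10], [6, 11, 6, 11], [7, 0, 7, 0], [7, 1, 7, 1], [7, 2, 7, 2], [7, 3, 7, 3], [7, 4, 7, 4], [7, 5, 7, 5], [7, 6, 7, 6, 7, 6], [7, 7], [7, 8, 7, 8, 7, 8], [7, 9, 7, 9], [7, 10, 7, 10], [7, 11, 7, 11], [8, 0, 8, 0], [8, 1, 8, 1], [8, 2, 8, 2], [8, 3, 8, 3], [8, 4, 8, 4], [8, 5, 8, 5], [8, 6, 8, 6], [8, 7, 8, 7, 8, 7], [8, 8], [8, 9, 8, 9, 8, 9], [8, 10, 8, 10], [8, 11, 8, 11], [9, 0, 9, 0], [9, 1, 9, 1], [9, 2, 9, 2], [9, 3, 9, 3], [9, 4, 9, 4], [9, 5, 9, 5], [9, 6, 9, 6], [9, 7, 9, 7], [9, 8, 9, 8, 9, 8], [9, 9], [9, 10, 9, 10], [9, 11, 9, 11], [10, 0, 10, 0], [10, 1, 10, 1],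 [10, 2, 10, 2], [10, 3, 10, 3], [10, 4, 10, 4], [10, 5, 10, 5, 10, 5], [10, 6, 10, 6], [10, 7, 10, 7], [10, 8, 10, 8], [10, 9, 10, 9], [10, 10], [10, 11, 10, 11, 10, 11], [11, 0, 11, 0], [11, 1, 11, 1], [11, 2, 11, 2], [11, 3, 11, 3], [11, 4, 11, 4], [11, 5, 11, 5], [11, 6, 11, 6], [11, 7, 11, 7], [11, 8, 11, 8], [11, 9, 11, 9], [11, 10, 11, 10, 11, 10], [11, 11], [0, 10, 7, 6, 5, 4, 3, 2, 10, 7, 6, 5, 4, 3, 2, 10, 7, 6, 5, 4, 3, 2, 10, 7, 6, 5, 4, 3, 2, 10, 7, 6, 5, 4, 3, 2, 10, 7, 6, 5, 4, 3, 2, 10, 7, 6, 5, 4, 3, 2, 10, 7, 6, 5, 4, 3, 2, 10, 7, 6, 5, 4, 3, 2], [5, 4, 3, 2, 1, 0, 5, 6, 7, 8, 9, 5, 10, 11, 5, 4, 3, 2, 1, 0, 5, 6, 7, 8, 9, 5, 10, 11, 5, 4, 3, 2, 1, 0, 5, 6, 7, 8, 9, 5, 10, 11, 5, 4, 3, 2, 1, 0,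 5, 6, 7, 8, 9, 5, 10, 11, 5, 4, 3, 2, 1, 0, 5, 6, 7, 8, 9, 5, 10, 11, 5, 4, 3, 2, 1, 0, 5, 6, 7, 8, 9, 5, 10, 11, 5, 4, 3, 2, 1, 0, 5, 6, 7, 8, 9, 5, 10, 11, 5, 4, 3, 2, 1, 0, 5, 6, 7, 8, 9, 5, 10, 11, 5, 4, 3, 2, 1, 0, 5, 6, 7, 8, 9, 5, 10, 11, 5, 4, 3, 2, 1, 0, 5, 6, 7, 8, 9, 5, 10, 11, 5, 4, 3, 2, 1, 0, 5, 6, 7, 8, 9, 5, 10, 11, 5, 4, 3, 2, 1, 0, 5, 6, 7, 8, 9, 5, 10, 11, 5, 4, 3, 2, 1, 0, 5, 6, 7, 8, 9, 5, 10, 11, 5, 4, 3, 2, 1, 0, 5, 6, 7, 8, 9, 5, 10, 11, 5, 4, 3, 2, 1, 0, 5, 6, 7, 8, 9, 5, 10, 11, 5, 4, 3, 2, 1, 0, 5, 6, 7, 8, 9, 5, 10, 11, 5, 4, 3, 2, 1, 0, 5, 6, 7, 8, 9, 5, 10, 11]]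

/-- The words of the auxiliary columns. -/
def aux : List (List ℕ) := [[10, 7, 6, 5, 4, 3, 2], [5, 4, 3, 2, 1, 0, 5, 6, 7, 8, 9, 5, 10, 11]]

/-- The words checked on the permutation model, with auxiliary columns. -/
def mwordsA : List (List ℕ) := [[0, 1, 0, 1, 0, 1], [0, 2, 0, 2], [0, 3, 0, 3], [0, 4, 0, 4], [0, 5, 0, 5], [0, 6, 0, 6], [0, 7, 0, 7], [0, 8, 0, 8], [0, 9, 0, 9], [0, 10, 0, 10], [0, 11, 0, 11], [1, 2, 1, 2, 1, 2], [1, 3, 1, 3], [1, 4, 1, 4], [1, 5, 1, 5], [1, 6, 1, 6], [1, 7, 1, 7], [1, 8, 1, 8], [1, 9, 1, 9], [1, 10, 1, 10], [1, 11, 1, 11], [2, 3, 2, 3, 2, 3], [2, 4, 2, 4], [2, 5, 2, 5], [2, 6, 2, 6], [2, 7, 2, 7], [2, 8, 2, 8], [2, 9, 2, 9], [2, 10, 2, 10], [2, 11, 2, 11], [3, 4, 3, 4, 3, 4],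 [3, 5, 3, 5], [3, 6, 3, 6], [3, 7, 3, 7], [3, 8, 3, 8], [3, 9, 3, 9], [3, 10, 3, 10], [3, 11, 3, 11], [4, 5, 4, 5, 4, 5], [4, 6, 4, 6], [4, 7, 4, 7], [4, 8, 4, 8], [4, 9, 4, 9], [4, 10, 4, 10], [4, 11, 4, 11], [5, 6, 5, 6, 5, 6], [5, 7, 5, 7], [5, 8, 5, 8], [5, 9, 5, 9], [5, 10, 5, 10, 5, 10], [5, 11, 5, 11], [6, 7, 6, 7, 6, 7], [6, 8, 6, 8], [6, 9, 6, 9], [6, 10, 6, 10], [6, 11, 6, 11], [7, 8, 7, 8, 7, 8], [7, 9, 7, 9], [7, 10, 7, 10], [7, 11, 7, 11], [8, 9, 8, 9, 8, 9], [8, 10, 8, 10], [8, 11, 8, 11], [9, 10, 9, 10], [9, 11, 9, 11], [10, 11, 10, 11, 10, 11], [0, 12, 12, 12, 12, 12, 12, 12, 12, 12], [13, 13, 13, 13, 13, 13, 13, 13, 13, 13, 13, 13, 13, 13, 13, 13, 13]]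

/-- The table. -/
noncomputable def tab : Tab where
  k := 12
  inv := fun c => c
  N := 394454
  n := 306936
  Tmax := 4655117
  wn := 19
  mn := 0x7ffff
  subs := [[2], [3], [4], [5], [6], [7], [8], [10], [11], [9], [0]]
  rot := fun i => rotT.getF i
  ent := fun c i => bget2 (BT.node 12288 (BT.node 6144 (BT.node 2818 (BT.node 1155 (BT.node 577 (BT.node 288 entT_0 entT_1) (BT.node 866 entT_2 entT_3)) (BT.node 2240 (BT.node 1444 entT_4 entT_5) (BT.node 2529 entT_6 entT_7))) (BT.node 4481 (BT.node 3396 (BT.node 3107 entT_8 entT_9) (BT.node 4192 entT_10 entT_11)) (BT.node 5059 (BT.node 4770 entT_12 entT_13) (BT.node 5348 entT_14 entT_15)))) (BT.node 8962 (BT.node 7299 (BT.node 6721 (BT.node 6432 entT_16 entT_17)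 (BT.node 7010 entT_18 entT_19)) (BT.node 8384 (BT.node 7588 entT_20 entT_21) (BT.node 8673 entT_22 entT_23))) (BT.node 10625 (BT.node 9540 (BT.node 9251 entT_24 entT_25) (BT.node 10336 entT_26 entT_27)) (BT.node 11203 (BT.node 10914 entT_28 entT_29) (BT.node 11492 entT_30 entT_31))))) (BT.node 18432 (BT.node 15106 (BT.node 13443 (BT.node 12865 (BT.node 12576 entT_32 entT_33) (BT.node 13154 entT_34 entT_35)) (BT.node 14528 (BT.node 13732 entT_36 entT_37) (BT.node 14817 entT_38 entT_39))) (BT.node 16769 (BT.node 15684 (BT.node 15395 entT_40 entT_41) (BT.node 16480 entT_42 entT_43)) (BT.node 17347 (BT.node 17058 entT_44 entT_45) (BT.node 17636 entT_46 entT_47)))) (BT.node 21250 (BT.node 19587 (BT.node 19009 (BT.node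 18720 entT_48 entT_49) (BT.node 19298 entT_50 entT_51)) (BT.node 20672 (BT.node 19876 entT_52 entT_53) (BT.node 20961 entT_54 entT_55))) (BT.node 22913 (BT.node 21828 (BT.node 21539 entT_56 entT_57) (BT.node 22624 entT_58 entT_59)) (BT.node 23491 (BT.node 23202 entT_60 entT_61) (BT.node 23780 entT_62 entT_63)))))) 11 8 42 0x3ffffffffff 255 c i
  cer := fun c i => bget2 (BT.node 6144 (BT.node 3072 (BT.node 1409 (BT.node 578 (BT.node 289 cerT_0 cerT_1) (BT.node 1120 cerT_2 cerT_3)) (BT.node 2240 (BT.node 1698 cerT_4 cerT_5) (BT.node 2529 cerT_6 cerT_7))) (BT.node 4481 (BT.node 3650 (BT.node 3361 cerT_8 cerT_9) (BT.node 4192 cerT_10 cerT_11)) (BT.node 5312 (BT.node 4770 cerT_12 cerT_13) (BT.node 5601 cerT_14 cerT_15))))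 (BT.node 9216 (BT.node 7553 (BT.node 6722 (BT.node 6433 cerT_16 cerT_17) (BT.node 7264 cerT_18 cerT_19)) (BT.node 8384 (BT.node 7842 cerT_20 cerT_21) (BT.node 8673 cerT_22 cerT_23))) (BT.node 10625 (BT.node 9794 (BT.node 9505 cerT_24 cerT_25) (BT.node 10336 cerT_26 cerT_27)) (BT.node 11456 (BT.node 10914 cerT_28 cerT_29) (BT.node 11745 cerT_30 cerT_31))))) 10 9 21 0x1fffff 511 c i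
  tau := fun c i => bget2 (BT.node 7168 (BT.node 3372 (BT.node 1474 (BT.node 525 tauT_0 tauT_1) (BT.node 2423 tauT_2 tauT_3)) (BT.node 5270 (BT.node 4321 tauT_4 tauT_5) (BT.node 6219 tauT_6 tauT_7))) (BT.node 10540 (BT.node 8642 (BT.node 7693 tauT_8 tauT_9) (BT.node 9591 tauT_10 tauT_11)) (BT.node 12438 (BT.node 11489 tauT_12 tauT_13) (BT.node 13387 tauT_14 tauT_15)))) 10 9 19 0x7ffff 511 c i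
  lk := fun i => bget (BT.node 770 (BT.node 385 lkT_0 lkT_1) lkT_2) 8 41 0x1ffffffffff 255 i
  lc := fun i => bget (BT.node 770 (BT.node 385 lcT_0 lcT_1) lcT_2) 8 44 0xfffffffffff 255 i
  pn := fun i => bget (BT.node 385 pnT_0 pnT_1) 9 23 0x7fffff 511 i
  cls := fun i => bget (BT.node 385 clsT_0 clsT_1) 9 19 0x7ffff 511 i
  rep := fun i => bget repT_0 9 19 0x7ffff 511 i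

end Cfsg.Agent.Helper9.TCData.X1690
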