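import Cfsg.Agent.Lib.Helper9.TCData.X1690.Main

set_option autoImplicit false
set_option maxRecDepth 1000000

namespace Cfsg.Agent.Helper9.TCData.X1690
open Cfsg.Agent.Helper9.TC2

theorem m2_5397 : allRange 232071 43 (fun u => chkFix tab mwordsA u) = true := by decide +kernel

theorem m2_5398 : allRange 232114 43 (fun u => chkFix tab mwordsA u) = true := by decide +kernel

theorem m2_5399 : allRange 232157 43 (fun u => chkFix tab mwordsA u) = true := by decide +kernel

theorem m2_5400 : allRange 232200 43 (fun u => chkFix tab mwordsA u) = true := by decide +kernel

theorem m2_5401 : allRange 232243 43 (fun u => chkFix tab mwordsA u) = true := by decide +kernel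

theorem m2_5402 : allRange 232286 43 (fun u => chkFix tab mwordsA u) = true := by decide +kernel

theorem m2_5403 : allRange 232329 43 (fun u => chkFix tab mwordsA u) = true := by decide +kernel

theorem m2_5404 : allRange 232372 43 (fun u => chkFix tab mwordsA u) = true := by decide +kernel

theorem m2_5405 : allRange 232415 43 (fun u => chkFix tab mwordsA u) = true := by decide +kernel

theorem m2_5406 : allRange 232458 43 (fun u => chkFix tab mwordsA u) = true := by decide +kernel


end Cfsg.Agent.Helper9.TCData.X1690
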