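import Cfsg.Agent.Lib.Helper9.TCData.X1690.Main

set_option autoImplicit false
set_option maxRecDepth 1000000

namespace Cfsg.Agent.Helper9.TCData.X1690
open Cfsg.Agent.Helper9.TC2

theorem m2_5517 : allRange 237231 43 (fun u => chkFix tab mwordsA u) = true := by decide +kernel

theorem m2_5518 : allRange 237274 43 (fun u => chkFix tab mwordsA u) = true := by decide +kernel

theorem m2_5519 : allRange 237317 43 (fun u => chkFix tab mwordsA u) = true := by decide +kernel

theorem m2_5520 : allRange 237360 43 (fun u => chkFix tab mwordsA u) = true := by decide +kernel

theorem m2_5521 : allRange 237403 43 (fun u => chkFix tab mwordsA u) = true := by decide +kernel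

theorem m2_5522 : allRange 237446 43 (fun u => chkFix tab mwordsA u) = true := by decide +kernel

theorem m2_5523 : allRange 237489 43 (fun u => chkFix tab mwordsA u) = true := by decide +kernel

theorem m2_5524 : allRange 237532 43 (fun u => chkFix tab mwordsA u) = true := by decide +kernel

theorem m2_5525 : allRange 237575 43 (fun u => chkFix tab mwordsA u) = true := by decide +kernel

theorem m2_5526 : allRange 237618 43 (fun u => chkFix tab mwordsA u) = true := by decide +kernel


end Cfsg.Agent.Helper9.TCData.X1690
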