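import Cfsg.Agent.Lib.Helper9.TCData.X1690.Main

set_option autoImplicit false
set_option maxRecDepth 1000000

namespace Cfsg.Agent.Helper9.TCData.X1690
open Cfsg.Agent.Helper9.TC2

theorem m2_5637 : allRange 242391 43 (fun u => chkFix tab mwordsA u) = true := by decide +kernel

theorem m2_5638 : allRange 242434 43 (fun u => chkFix tab mwordsA u) = true := by decide +kernel

theorem m2_5639 : allRange 242477 43 (fun u => chkFix tab mwordsA u) = true := by decide +kernel

theorem m2_5640 : allRange 242520 43 (fun u => chkFix tab mwordsA u) = true := by decide +kernel

theorem m2_5641 : allRange 242563 43 (fun u => chkFix tab mwordsA u) = true := by decide +kernel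

theorem m2_5642 : allRange 242606 43 (fun u => chkFix tab mwordsA u) = true := by decide +kernel

theorem m2_5643 : allRange 242649 43 (fun u => chkFix tab mwordsA u) = true := by decide +kernel

theorem m2_5644 : allRange 242692 43 (fun u => chkFix tab mwordsA u) = true := by decide +kernel

theorem m2_5645 : allRange 242735 43 (fun u => chkFix tab mwordsA u) = true := by decide +kernel

theorem m2_5646 : allRange 242778 43 (fun u => chkFix tab mwordsA u) = true := by decide +kernel


end Cfsg.Agent.Helper9.TCData.X1690
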