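import Cfsg.Agent.Lib.Helper9.TCData.X1690.Main

set_option autoImplicit false
set_option maxRecDepth 1000000

namespace Cfsg.Agent.Helper9.TCData.X1690
open Cfsg.Agent.Helper9.TC2

theorem m2_5757 : allRange 247551 43 (fun u => chkFix tab mwordsA u) = true := by decide +kernel

theorem m2_5758 : allRange 247594 43 (fun u => chkFix tab mwordsA u) = true := by decide +kernel

theorem m2_5759 : allRange 247637 43 (fun u => chkFix tab mwordsA u) = true := by decide +kernel

theorem m2_5760 : allRange 247680 43 (fun u => chkFix tab mwordsA u) = true := by decide +kernel

theorem m2_5761 : allRange 247723 43 (fun u => chkFix tab mwordsA u) = true := by decide +kernel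

theorem m2_5762 : allRange 247766 43 (fun u => chkFix tab mwordsA u) = true := by decide +kernel

theorem m2_5763 : allRange 247809 43 (fun u => chkFix tab mwordsA u) = true := by decide +kernel

theorem m2_5764 : allRange 247852 43 (fun u => chkFix tab mwordsA u) = true := by decide +kernel

theorem m2_5765 : allRange 247895 43 (fun u => chkFix tab mwordsA u) = true := by decide +kernel

theorem m2_5766 : allRange 247938 43 (fun u => chkFix tab mwordsA u) = true := by decide +kernel


end Cfsg.Agent.Helper9.TCData.X1690
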