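import Cfsg.Agent.Lib.Helper9.TCData.X1690.Main

set_option autoImplicit false
set_option maxRecDepth 1000000

namespace Cfsg.Agent.Helper9.TCData.X1690
open Cfsg.Agent.Helper9.TC2

theorem m2_5877 : allRange 252711 43 (fun u => chkFix tab mwordsA u) = true := by decide +kernel

theorem m2_5878 : allRange 252754 43 (fun u => chkFix tab mwordsA u) = true := by decide +kernel

theorem m2_5879 : allRange 252797 43 (fun u => chkFix tab mwordsA u) = true := by decide +kernel

theorem m2_5880 : allRange 252840 43 (fun u => chkFix tab mwordsA u) = true := by decide +kernel

theorem m2_5881 : allRange 252883 43 (fun u => chkFix tab mwordsA u) = true := by decide +kernel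

theorem m2_5882 : allRange 252926 43 (fun u => chkFix tab mwordsA u) = true := by decide +kernel

theorem m2_5883 : allRange 252969 43 (fun u => chkFix tab mwordsA u) = true := by decide +kernel

theorem m2_5884 : allRange 253012 43 (fun u => chkFix tab mwordsA u) = true := by decide +kernel

theorem m2_5885 : allRange 253055 43 (fun u => chkFix tab mwordsA u) = true := by decide +kernel

theorem m2_5886 : allRange 253098 43 (fun u => chkFix tab mwordsA u) = true := by decide +kernel


end Cfsg.Agent.Helper9.TCData.X1690
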