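import Cfsg.Agent.Lib.Helper9.TCData.X1690.Main

set_option autoImplicit false
set_option maxRecDepth 1000000

namespace Cfsg.Agent.Helper9.TCData.X1690
open Cfsg.Agent.Helper9.TC2

theorem m2_5997 : allRange 257871 43 (fun u => chkFix tab mwordsA u) = true := by decide +kernel

theorem m2_5998 : allRange 257914 43 (fun u => chkFix tab mwordsA u) = true := by decide +kernel

theorem m2_5999 : allRange 257957 43 (fun u => chkFix tab mwordsA u) = true := by decide +kernel

theorem m2_6000 : allRange 258000 43 (fun u => chkFix tab mwordsA u) = true := by decide +kernel

theorem m2_6001 : allRange 258043 43 (fun u => chkFix tab mwordsA u) = true := by decide +kernel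

theorem m2_6002 : allRange 258086 43 (fun u => chkFix tab mwordsA u) = true := by decide +kernel

theorem m2_6003 : allRange 258129 43 (fun u => chkFix tab mwordsA u) = true := by decide +kernel

theorem m2_6004 : allRange 258172 43 (fun u => chkFix tab mwordsA u) = true := by decide +kernel

theorem m2_6005 : allRange 258215 43 (fun u => chkFix tab mwordsA u) = true := by decide +kernel

theorem m2_6006 : allRange 258258 43 (fun u => chkFix tab mwordsA u) = true := by decide +kernel


end Cfsg.Agent.Helper9.TCData.X1690
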