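import Cfsg.Agent.Lib.Helper9.TCData.X1690.Main

set_option autoImplicit false
set_option maxRecDepth 1000000

namespace Cfsg.Agent.Helper9.TCData.X1690
open Cfsg.Agent.Helper9.TC2

theorem e6_96 : allRange 250705 2590 (fun u => chkE tab 6 u) = true := by decide +kernel

theorem e6_97 : allRange 253295 2518 (fun u => chkE tab 6 u) = true := by decide +kernel

theorem e6_98 : allRange 255813 2492 (fun u => chkE tab 6 u) = true := by decide +kernel

theorem e6_99 : allRange 258305 3291 (fun u => chkE tab 6 u) = true := by decide +kernel

theorem e6_100 : allRange 261596 3264 (fun u => chkE tab 6 u) = true := by decide +kernel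

theorem e6_101 : allRange 264860 2853 (fun u => chkE tab 6 u) = true := by decide +kernel

theorem e6_102 : allRange 267713 2901 (fun u => chkE tab 6 u) = true := by decide +kernel

theorem e6_103 : allRange 270614 2896 (fun u => chkE tab 6 u) = true := by decide +kernel

theorem e6_104 : allRange 273510 2760 (fun u => chkE tab 6 u) = true := by decide +kernel

theorem e6_105 : allRange 276270 2572 (fun u => chkE tab 6 u) = true := by decide +kernel


end Cfsg.Agent.Helper9.TCData.X1690
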