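import Cfsg.Agent.Lib.Helper9.TCData.X1690.Main

set_option autoImplicit false
set_option maxRecDepth 1000000

namespace Cfsg.Agent.Helper9.TCData.X1690
open Cfsg.Agent.Helper9.TC2

theorem m2_6117 : allRange 263031 43 (fun u => chkFix tab mwordsA u) = true := by decide +kernel

theorem m2_6118 : allRange 263074 43 (fun u => chkFix tab mwordsA u) = true := by decide +kernel

theorem m2_6119 : allRange 263117 43 (fun u => chkFix tab mwordsA u) = true := by decide +kernel

theorem m2_6120 : allRange 263160 43 (fun u => chkFix tab mwordsA u) = true := by decide +kernel

theorem m2_6121 : allRange 263203 43 (fun u => chkFix tab mwordsA u) = true := by decide +kernel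

theorem m2_6122 : allRange 263246 43 (fun u => chkFix tab mwordsA u) = true := by decide +kernel

theorem m2_6123 : allRange 263289 43 (fun u => chkFix tab mwordsA u) = true := by decide +kernel

theorem m2_6124 : allRange 263332 43 (fun u => chkFix tab mwordsA u) = true := by decide +kernel

theorem m2_6125 : allRange 263375 43 (fun u => chkFix tab mwordsA u) = true := by decide +kernel

theorem m2_6126 : allRange 263418 43 (fun u => chkFix tab mwordsA u) = true := by decide +kernel


end Cfsg.Agent.Helper9.TCData.X1690
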