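import Cfsg.Agent.Lib.Helper9.TCData.X1690.Main

set_option autoImplicit false
set_option maxRecDepth 1000000

namespace Cfsg.Agent.Helper9.TCData.X1690
open Cfsg.Agent.Helper9.TC2

theorem m2_6237 : allRange 268191 43 (fun u => chkFix tab mwordsA u) = true := by decide +kernel

theorem m2_6238 : allRange 268234 43 (fun u => chkFix tab mwordsA u) = true := by decide +kernel

theorem m2_6239 : allRange 268277 43 (fun u => chkFix tab mwordsA u) = true := by decide +kernel

theorem m2_6240 : allRange 268320 43 (fun u => chkFix tab mwordsA u) = true := by decide +kernel

theorem m2_6241 : allRange 268363 43 (fun u => chkFix tab mwordsA u) = true := by decide +kernel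

theorem m2_6242 : allRange 268406 43 (fun u => chkFix tab mwordsA u) = true := by decide +kernel

theorem m2_6243 : allRange 268449 43 (fun u => chkFix tab mwordsA u) = true := by decide +kernel

theorem m2_6244 : allRange 268492 43 (fun u => chkFix tab mwordsA u) = true := by decide +kernel

theorem m2_6245 : allRange 268535 43 (fun u => chkFix tab mwordsA u) = true := by decide +kernel

theorem m2_6246 : allRange 268578 43 (fun u => chkFix tab mwordsA u) = true := by decide +kernel


end Cfsg.Agent.Helper9.TCData.X1690
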