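import Cfsg.Agent.Lib.Helper9.TCData.X1690.Main

set_option autoImplicit false
set_option maxRecDepth 1000000

namespace Cfsg.Agent.Helper9.TCData.X1690
open Cfsg.Agent.Helper9.TC2

theorem m2_6357 : allRange 273351 43 (fun u => chkFix tab mwordsA u) = true := by decide +kernel

theorem m2_6358 : allRange 273394 43 (fun u => chkFix tab mwordsA u) = true := by decide +kernel

theorem m2_6359 : allRange 273437 43 (fun u => chkFix tab mwordsA u) = true := by decide +kernel

theorem m2_6360 : allRange 273480 43 (fun u => chkFix tab mwordsA u) = true := by decide +kernel

theorem m2_6361 : allRange 273523 43 (fun u => chkFix tab mwordsA u) = true := by decide +kernel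

theorem m2_6362 : allRange 273566 43 (fun u => chkFix tab mwordsA u) = true := by decide +kernel

theorem m2_6363 : allRange 273609 43 (fun u => chkFix tab mwordsA u) = true := by decide +kernel

theorem m2_6364 : allRange 273652 43 (fun u => chkFix tab mwordsA u) = true := by decide +kernel

theorem m2_6365 : allRange 273695 43 (fun u => chkFix tab mwordsA u) = true := by decide +kernel

theorem m2_6366 : allRange 273738 43 (fun u => chkFix tab mwordsA u) = true := by decide +kernel


end Cfsg.Agent.Helper9.TCData.X1690
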