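import Cfsg.Agent.Lib.Helper9.TCData.X1690.Main

set_option autoImplicit false
set_option maxRecDepth 1000000

namespace Cfsg.Agent.Helper9.TCData.X1690
open Cfsg.Agent.Helper9.TC2

theorem m2_6477 : allRange 278511 43 (fun u => chkFix tab mwordsA u) = true := by decide +kernel

theorem m2_6478 : allRange 278554 43 (fun u => chkFix tab mwordsA u) = true := by decide +kernel

theorem m2_6479 : allRange 278597 43 (fun u => chkFix tab mwordsA u) = true := by decide +kernel

theorem m2_6480 : allRange 278640 43 (fun u => chkFix tab mwordsA u) = true := by decide +kernel

theorem m2_6481 : allRange 278683 43 (fun u => chkFix tab mwordsA u) = true := by decide +kernel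

theorem m2_6482 : allRange 278726 43 (fun u => chkFix tab mwordsA u) = true := by decide +kernel

theorem m2_6483 : allRange 278769 43 (fun u => chkFix tab mwordsA u) = true := by decide +kernel

theorem m2_6484 : allRange 278812 43 (fun u => chkFix tab mwordsA u) = true := by decide +kernel

theorem m2_6485 : allRange 278855 43 (fun u => chkFix tab mwordsA u) = true := by decide +kernel

theorem m2_6486 : allRange 278898 43 (fun u => chkFix tab mwordsA u) = true := by decide +kernel


end Cfsg.Agent.Helper9.TCData.X1690
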