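import Cfsg.Agent.Lib.Helper9.TCData.X1690.Main

set_option autoImplicit false
set_option maxRecDepth 1000000

namespace Cfsg.Agent.Helper9.TCData.X1690
open Cfsg.Agent.Helper9.TC2

theorem m2_6597 : allRange 283671 43 (fun u => chkFix tab mwordsA u) = true := by decide +kernel

theorem m2_6598 : allRange 283714 43 (fun u => chkFix tab mwordsA u) = true := by decide +kernel

theorem m2_6599 : allRange 283757 43 (fun u => chkFix tab mwordsA u) = true := by decide +kernel

theorem m2_6600 : allRange 283800 43 (fun u => chkFix tab mwordsA u) = true := by decide +kernel

theorem m2_6601 : allRange 283843 43 (fun u => chkFix tab mwordsA u) = true := by decide +kernel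

theorem m2_6602 : allRange 283886 43 (fun u => chkFix tab mwordsA u) = true := by decide +kernel

theorem m2_6603 : allRange 283929 43 (fun u => chkFix tab mwordsA u) = true := by decide +kernel

theorem m2_6604 : allRange 283972 43 (fun u => chkFix tab mwordsA u) = true := by decide +kernel

theorem m2_6605 : allRange 284015 43 (fun u => chkFix tab mwordsA u) = true := by decide +kernel

theorem m2_6606 : allRange 284058 43 (fun u => chkFix tab mwordsA u) = true := by decide +kernel


end Cfsg.Agent.Helper9.TCData.X1690
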