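import Cfsg.Agent.Lib.Helper9.TCData.X1690.Main

set_option autoImplicit false
set_option maxRecDepth 1000000

namespace Cfsg.Agent.Helper9.TCData.X1690
open Cfsg.Agent.Helper9.TC2

theorem m2_6717 : allRange 288831 43 (fun u => chkFix tab mwordsA u) = true := by decide +kernel

theorem m2_6718 : allRange 288874 43 (fun u => chkFix tab mwordsA u) = true := by decide +kernel

theorem m2_6719 : allRange 288917 43 (fun u => chkFix tab mwordsA u) = true := by decide +kernel

theorem m2_6720 : allRange 288960 43 (fun u => chkFix tab mwordsA u) = true := by decide +kernel

theorem m2_6721 : allRange 289003 43 (fun u => chkFix tab mwordsA u) = true := by decide +kernel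

theorem m2_6722 : allRange 289046 43 (fun u => chkFix tab mwordsA u) = true := by decide +kernel

theorem m2_6723 : allRange 289089 43 (fun u => chkFix tab mwordsA u) = true := by decide +kernel

theorem m2_6724 : allRange 289132 43 (fun u => chkFix tab mwordsA u) = true := by decide +kernel

theorem m2_6725 : allRange 289175 43 (fun u => chkFix tab mwordsA u) = true := by decide +kernel

theorem m2_6726 : allRange 289218 43 (fun u => chkFix tab mwordsA u) = true := by decide +kernel


end Cfsg.Agent.Helper9.TCData.X1690
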