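import Cfsg.Agent.Lib.Helper9.TCData.X1690.Main

set_option autoImplicit false
set_option maxRecDepth 1000000

namespace Cfsg.Agent.Helper9.TCData.X1690
open Cfsg.Agent.Helper9.TC2

theorem m2_6837 : allRange 293991 43 (fun u => chkFix tab mwordsA u) = true := by decide +kernel

theorem m2_6838 : allRange 294034 43 (fun u => chkFix tab mwordsA u) = true := by decide +kernel

theorem m2_6839 : allRange 294077 43 (fun u => chkFix tab mwordsA u) = true := by decide +kernel

theorem m2_6840 : allRange 294120 43 (fun u => chkFix tab mwordsA u) = true := by decide +kernel

theorem m2_6841 : allRange 294163 43 (fun u => chkFix tab mwordsA u) = true := by decide +kernel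

theorem m2_6842 : allRange 294206 43 (fun u => chkFix tab mwordsA u) = true := by decide +kernel

theorem m2_6843 : allRange 294249 43 (fun u => chkFix tab mwordsA u) = true := by decide +kernel

theorem m2_6844 : allRange 294292 43 (fun u => chkFix tab mwordsA u) = true := by decide +kernel

theorem m2_6845 : allRange 294335 43 (fun u => chkFix tab mwordsA u) = true := by decide +kernel

theorem m2_6846 : allRange 294378 43 (fun u => chkFix tab mwordsA u) = true := by decide +kernel


end Cfsg.Agent.Helper9.TCData.X1690
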