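import Cfsg.Agent.Lib.Helper9.TCData.X1690.Main

set_option autoImplicit false
set_option maxRecDepth 1000000

namespace Cfsg.Agent.Helper9.TCData.X1690
open Cfsg.Agent.Helper9.TC2

theorem m2_6957 : allRange 299151 43 (fun u => chkFix tab mwordsA u) = true := by decide +kernel

theorem m2_6958 : allRange 299194 43 (fun u => chkFix tab mwordsA u) = true := by decide +kernel

theorem m2_6959 : allRange 299237 43 (fun u => chkFix tab mwordsA u) = true := by decide +kernel

theorem m2_6960 : allRange 299280 43 (fun u => chkFix tab mwordsA u) = true := by decide +kernel

theorem m2_6961 : allRange 299323 43 (fun u => chkFix tab mwordsA u) = true := by decide +kernel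

theorem m2_6962 : allRange 299366 43 (fun u => chkFix tab mwordsA u) = true := by decide +kernel

theorem m2_6963 : allRange 299409 43 (fun u => chkFix tab mwordsA u) = true := by decide +kernel

theorem m2_6964 : allRange 299452 43 (fun u => chkFix tab mwordsA u) = true := by decide +kernel

theorem m2_6965 : allRange 299495 43 (fun u => chkFix tab mwordsA u) = true := by decide +kernel

theorem m2_6966 : allRange 299538 43 (fun u => chkFix tab mwordsA u) = true := by decide +kernel


end Cfsg.Agent.Helper9.TCData.X1690
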