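import Cfsg.Agent.Lib.Helper9.TCData.X1690.Main

set_option autoImplicit false
set_option maxRecDepth 1000000

namespace Cfsg.Agent.Helper9.TCData.X1690
open Cfsg.Agent.Helper9.TC2

theorem m2_7077 : allRange 304311 43 (fun u => chkFix tab mwordsA u) = true := by decide +kernel

theorem m2_7078 : allRange 304354 43 (fun u => chkFix tab mwordsA u) = true := by decide +kernel

theorem m2_7079 : allRange 304397 43 (fun u => chkFix tab mwordsA u) = true := by decide +kernel

theorem m2_7080 : allRange 304440 43 (fun u => chkFix tab mwordsA u) = true := by decide +kernel

theorem m2_7081 : allRange 304483 43 (fun u => chkFix tab mwordsA u) = true := by decide +kernel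

theorem m2_7082 : allRange 304526 43 (fun u => chkFix tab mwordsA u) = true := by decide +kernel

theorem m2_7083 : allRange 304569 43 (fun u => chkFix tab mwordsA u) = true := by decide +kernel

theorem m2_7084 : allRange 304612 43 (fun u => chkFix tab mwordsA u) = true := by decide +kernel

theorem m2_7085 : allRange 304655 43 (fun u => chkFix tab mwordsA u) = true := by decide +kernel

theorem m2_7086 : allRange 304698 43 (fun u => chkFix tab mwordsA u) = true := by decide +kernel


end Cfsg.Agent.Helper9.TCData.X1690
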