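import Cfsg.Agent.Lib.Helper9.TCData.X1690.Main

set_option autoImplicit false
set_option maxRecDepth 1000000

namespace Cfsg.Agent.Helper9.TCData.X1690
open Cfsg.Agent.Helper9.TC2

theorem e0_120 : allRange 274379 1917 (fun u => chkE tab 0 u) = true := by decide +kernel

theorem e0_121 : allRange 276296 1681 (fun u => chkE tab 0 u) = true := by decide +kernel

theorem e0_122 : allRange 277977 1695 (fun u => chkE tab 0 u) = true := by decide +kernel

theorem e0_123 : allRange 279672 1525 (fun u => chkE tab 0 u) = true := by decide +kernel

theorem e0_124 : allRange 281197 1562 (fun u => chkE tab 0 u) = true := by decide +kernel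

theorem e0_125 : allRange 282759 2578 (fun u => chkE tab 0 u) = true := by decide +kernel

theorem e0_126 : allRange 285337 6280 (fun u => chkE tab 0 u) = true := by decide +kernel

theorem e0_127 : allRange 291617 3564 (fun u => chkE tab 0 u) = true := by decide +kernel

theorem e0_128 : allRange 295181 1595 (fun u => chkE tab 0 u) = true := by decide +kernel

theorem e0_129 : allRange 296776 1674 (fun u => chkE tab 0 u) = true := by decide +kernel


end Cfsg.Agent.Helper9.TCData.X1690
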