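import Cfsg.Agent.Lib.Helper9.TCData.X1690.Main

set_option autoImplicit false
set_option maxRecDepth 1000000

namespace Cfsg.Agent.Helper9.TCData.X1690
open Cfsg.Agent.Helper9.TC2

theorem e7_68 : allRange 171896 2297 (fun u => chkE tab 7 u) = true := by decide +kernel

theorem e7_69 : allRange 174193 2169 (fun u => chkE tab 7 u) = true := by decide +kernel

theorem e7_70 : allRange 176362 2558 (fun u => chkE tab 7 u) = true := by decide +kernel

theorem e7_71 : allRange 178920 2594 (fun u => chkE tab 7 u) = true := by decide +kernel

theorem e7_72 : allRange 181514 2379 (fun u => chkE tab 7 u) = true := by decide +kernel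

theorem e7_73 : allRange 183893 2422 (fun u => chkE tab 7 u) = true := by decide +kernel

theorem e7_74 : allRange 186315 2435 (fun u => chkE tab 7 u) = true := by decide +kernel

theorem e7_75 : allRange 188750 2264 (fun u => chkE tab 7 u) = true := by decide +kernel

theorem e7_76 : allRange 191014 2251 (fun u => chkE tab 7 u) = true := by decide +kernel

theorem e7_77 : allRange 193265 2317 (fun u => chkE tab 7 u) = true := by decide +kernel


end Cfsg.Agent.Helper9.TCData.X1690
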