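import Cfsg.Agent.Lib.Helper9.TCData.X1690.Main

set_option autoImplicit false
set_option maxRecDepth 1000000

namespace Cfsg.Agent.Helper9.TCData.X1690
open Cfsg.Agent.Helper9.TC2

theorem e8_32 : allRange 72034 2223 (fun u => chkE tab 8 u) = true := by decide +kernel

theorem e8_33 : allRange 74257 1949 (fun u => chkE tab 8 u) = true := by decide +kernel

theorem e8_34 : allRange 76206 1941 (fun u => chkE tab 8 u) = true := by decide +kernel

theorem e8_35 : allRange 78147 2255 (fun u => chkE tab 8 u) = true := by decide +kernel

theorem e8_36 : allRange 80402 2225 (fun u => chkE tab 8 u) = true := by decide +kernel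

theorem e8_37 : allRange 82627 2166 (fun u => chkE tab 8 u) = true := by decide +kernel

theorem e8_38 : allRange 84793 2449 (fun u => chkE tab 8 u) = true := by decide +kernel

theorem e8_39 : allRange 87242 2135 (fun u => chkE tab 8 u) = true := by decide +kernel

theorem e8_40 : allRange 89377 2260 (fun u => chkE tab 8 u) = true := by decide +kernel

theorem e8_41 : allRange 91637 2156 (fun u => chkE tab 8 u) = true := by decide +kernel


end Cfsg.Agent.Helper9.TCData.X1690
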