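import Cfsg.Agent.Lib.Helper9.TCData.X1690.Main

set_option autoImplicit false
set_option maxRecDepth 1000000

namespace Cfsg.Agent.Helper9.TCData.X1690
open Cfsg.Agent.Helper9.TC2

theorem e8_152 : allRange 371527 3103 (fun u => chkE tab 8 u) = true := by decide +kernel

theorem e8_153 : allRange 374630 3088 (fun u => chkE tab 8 u) = true := by decide +kernel

theorem e8_154 : allRange 377718 2564 (fun u => chkE tab 8 u) = true := by decide +kernel

theorem e8_155 : allRange 380282 2265 (fun u => chkE tab 8 u) = true := by decide +kernel

theorem e8_156 : allRange 382547 2866 (fun u => chkE tab 8 u) = true := by decide +kernel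

theorem e8_157 : allRange 385413 2434 (fun u => chkE tab 8 u) = true := by decide +kernel

theorem e8_158 : allRange 387847 2232 (fun u => chkE tab 8 u) = true := by decide +kernel

theorem e8_159 : allRange 390079 2672 (fun u => chkE tab 8 u) = true := by decide +kernel

theorem e8_160 : allRange 392751 1703 (fun u => chkE tab 8 u) = true := by decide +kernel

theorem e9_0 : allRange 0 1878 (fun u => chkE tab 9 u) = true := by decide +kernel


end Cfsg.Agent.Helper9.TCData.X1690
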