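import Cfsg.Agent.Lib.Helper9.TCData.X1690.Main

set_option autoImplicit false
set_option maxRecDepth 1000000

namespace Cfsg.Agent.Helper9.TCData.X1690
open Cfsg.Agent.Helper9.TC2

theorem e9_111 : allRange 259830 3590 (fun u => chkE tab 9 u) = true := by decide +kernel

theorem e9_112 : allRange 263420 2725 (fun u => chkE tab 9 u) = true := by decide +kernel

theorem e9_113 : allRange 266145 2880 (fun u => chkE tab 9 u) = true := by decide +kernel

theorem e9_114 : allRange 269025 1581 (fun u => chkE tab 9 u) = true := by decide +kernel

theorem e9_115 : allRange 270606 2248 (fun u => chkE tab 9 u) = true := by decide +kernel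

theorem e9_116 : allRange 272854 2473 (fun u => chkE tab 9 u) = true := by decide +kernel

theorem e9_117 : allRange 275327 2246 (fun u => chkE tab 9 u) = true := by decide +kernel

theorem e9_118 : allRange 277573 1993 (fun u => chkE tab 9 u) = true := by decide +kernel

theorem e9_119 : allRange 279566 1801 (fun u => chkE tab 9 u) = true := by decide +kernel

theorem e9_120 : allRange 281367 1647 (fun u => chkE tab 9 u) = true := by decide +kernel


end Cfsg.Agent.Helper9.TCData.X1690
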