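import Cfsg.Agent.Lib.Helper9.TCData.X1690.Main

set_option autoImplicit false
set_option maxRecDepth 1000000

namespace Cfsg.Agent.Helper9.TCData.X1690
open Cfsg.Agent.Helper9.TC2

theorem e10_65 : allRange 200862 3366 (fun u => chkE tab 10 u) = true := by decide +kernel

theorem e10_66 : allRange 204228 3205 (fun u => chkE tab 10 u) = true := by decide +kernel

theorem e10_67 : allRange 207433 3207 (fun u => chkE tab 10 u) = true := by decide +kernel

theorem e10_68 : allRange 210640 2924 (fun u => chkE tab 10 u) = true := by decide +kernel

theorem e10_69 : allRange 213564 3502 (fun u => chkE tab 10 u) = true := by decide +kernel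

theorem e10_70 : allRange 217066 3664 (fun u => chkE tab 10 u) = true := by decide +kernel

theorem e10_71 : allRange 220730 3435 (fun u => chkE tab 10 u) = true := by decide +kernel

theorem e10_72 : allRange 224165 3266 (fun u => chkE tab 10 u) = true := by decide +kernel

theorem e10_73 : allRange 227431 3288 (fun u => chkE tab 10 u) = true := by decide +kernel

theorem e10_74 : allRange 230719 3129 (fun u => chkE tab 10 u) = true := by decide +kernel


end Cfsg.Agent.Helper9.TCData.X1690
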