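import Cfsg.Agent.Lib.Helper9.TCData.X1690.Main

set_option autoImplicit false
set_option maxRecDepth 1000000

namespace Cfsg.Agent.Helper9.TCData.X1690
open Cfsg.Agent.Helper9.TC2

theorem e11_52 : allRange 189083 3385 (fun u => chkE tab 11 u) = true := by decide +kernel

theorem e11_53 : allRange 192468 2894 (fun u => chkE tab 11 u) = true := by decide +kernel

theorem e11_54 : allRange 195362 3342 (fun u => chkE tab 11 u) = true := by decide +kernel

theorem e11_55 : allRange 198704 3547 (fun u => chkE tab 11 u) = true := by decide +kernel

theorem e11_56 : allRange 202251 2783 (fun u => chkE tab 11 u) = true := by decide +kernel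

theorem e11_57 : allRange 205034 3450 (fun u => chkE tab 11 u) = true := by decide +kernel

theorem e11_58 : allRange 208484 3282 (fun u => chkE tab 11 u) = true := by decide +kernel

theorem e11_59 : allRange 211766 2486 (fun u => chkE tab 11 u) = true := by decide +kernel

theorem e11_60 : allRange 214252 3252 (fun u => chkE tab 11 u) = true := by decide +kernel

theorem e11_61 : allRange 217504 3407 (fun u => chkE tab 11 u) = true := by decide +kernel


end Cfsg.Agent.Helper9.TCData.X1690
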