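import Cfsg.Agent.Lib.Helper9.TCData.X1690.Main

set_option autoImplicit false
set_option maxRecDepth 1000000

namespace Cfsg.Agent.Helper9.TCData.X1690
open Cfsg.Agent.Helper9.TC2

theorem l_40 : allRange 126681 2449 (fun u => chkL tab u) = true := by decide +kernel

theorem l_41 : allRange 129130 2221 (fun u => chkL tab u) = true := by decide +kernel

theorem l_42 : allRange 131351 5102 (fun u => chkL tab u) = true := by decide +kernel

theorem l_43 : allRange 136453 2886 (fun u => chkL tab u) = true := by decide +kernel

theorem l_44 : allRange 139339 1797 (fun u => chkL tab u) = true := by decide +kernel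

theorem l_45 : allRange 141136 2213 (fun u => chkL tab u) = true := by decide +kernel

theorem l_46 : allRange 143349 1701 (fun u => chkL tab u) = true := by decide +kernel

theorem l_47 : allRange 145050 2690 (fun u => chkL tab u) = true := by decide +kernel

theorem l_48 : allRange 147740 1633 (fun u => chkL tab u) = true := by decide +kernel

theorem l_49 : allRange 149373 1591 (fun u => chkL tab u) = true := by decide +kernel


end Cfsg.Agent.Helper9.TCData.X1690
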