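import Cfsg.Agent.Lib.Helper9.TCData.X1690.Main

set_option autoImplicit false
set_option maxRecDepth 1000000

namespace Cfsg.Agent.Helper9.TCData.X1690
open Cfsg.Agent.Helper9.TC2

theorem f_100 : allRange 21100 211 (fun u => chkFin tab u) = true := by decide +kernel

theorem f_101 : allRange 21311 211 (fun u => chkFin tab u) = true := by decide +kernel

theorem f_102 : allRange 21522 211 (fun u => chkFin tab u) = true := by decide +kernel

theorem f_103 : allRange 21733 211 (fun u => chkFin tab u) = true := by decide +kernel

theorem f_104 : allRange 21944 211 (fun u => chkFin tab u) = true := by decide +kernel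

theorem f_105 : allRange 22155 211 (fun u => chkFin tab u) = true := by decide +kernel

theorem f_106 : allRange 22366 211 (fun u => chkFin tab u) = true := by decide +kernel

theorem f_107 : allRange 22577 211 (fun u => chkFin tab u) = true := by decide +kernel

theorem f_108 : allRange 22788 211 (fun u => chkFin tab u) = true := by decide +kernel

theorem f_109 : allRange 22999 211 (fun u => chkFin tab u) = true := by decide +kernel


end Cfsg.Agent.Helper9.TCData.X1690
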