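import Cfsg.Agent.Lib.Helper9.TCData.X1690.Main

set_option autoImplicit false
set_option maxRecDepth 1000000

namespace Cfsg.Agent.Helper9.TCData.X1690
open Cfsg.Agent.Helper9.TC2

theorem f_220 : allRange 46420 211 (fun u => chkFin tab u) = true := by decide +kernel

theorem f_221 : allRange 46631 211 (fun u => chkFin tab u) = true := by decide +kernel

theorem f_222 : allRange 46842 211 (fun u => chkFin tab u) = true := by decide +kernel

theorem f_223 : allRange 47053 211 (fun u => chkFin tab u) = true := by decide +kernel

theorem f_224 : allRange 47264 211 (fun u => chkFin tab u) = true := by decide +kernel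

theorem f_225 : allRange 47475 211 (fun u => chkFin tab u) = true := by decide +kernel

theorem f_226 : allRange 47686 211 (fun u => chkFin tab u) = true := by decide +kernel

theorem f_227 : allRange 47897 211 (fun u => chkFin tab u) = true := by decide +kernel

theorem f_228 : allRange 48108 211 (fun u => chkFin tab u) = true := by decide +kernel

theorem f_229 : allRange 48319 211 (fun u => chkFin tab u) = true := by decide +kernel


end Cfsg.Agent.Helper9.TCData.X1690
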