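import Cfsg.Agent.Lib.Helper9.TCData.X1690.Main

set_option autoImplicit false
set_option maxRecDepth 1000000

namespace Cfsg.Agent.Helper9.TCData.X1690
open Cfsg.Agent.Helper9.TC2

theorem f_340 : allRange 71740 211 (fun u => chkFin tab u) = true := by decide +kernel

theorem f_341 : allRange 71951 211 (fun u => chkFin tab u) = true := by decide +kernel

theorem f_342 : allRange 72162 211 (fun u => chkFin tab u) = true := by decide +kernel

theorem f_343 : allRange 72373 211 (fun u => chkFin tab u) = true := by decide +kernel

theorem f_344 : allRange 72584 211 (fun u => chkFin tab u) = true := by decide +kernel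

theorem f_345 : allRange 72795 211 (fun u => chkFin tab u) = true := by decide +kernel

theorem f_346 : allRange 73006 211 (fun u => chkFin tab u) = true := by decide +kernel

theorem f_347 : allRange 73217 211 (fun u => chkFin tab u) = true := by decide +kernel

theorem f_348 : allRange 73428 211 (fun u => chkFin tab u) = true := by decide +kernel

theorem f_349 : allRange 73639 211 (fun u => chkFin tab u) = true := by decide +kernel


end Cfsg.Agent.Helper9.TCData.X1690
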