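import Cfsg.Agent.Lib.Helper9.TCData.X1690.Main

set_option autoImplicit false
set_option maxRecDepth 1000000

namespace Cfsg.Agent.Helper9.TCData.X1690
open Cfsg.Agent.Helper9.TC2

theorem e1_70 : allRange 152038 4564 (fun u => chkE tab 1 u) = true := by decide +kernel

theorem e1_71 : allRange 156602 5175 (fun u => chkE tab 1 u) = true := by decide +kernel

theorem e1_72 : allRange 161777 2153 (fun u => chkE tab 1 u) = true := by decide +kernel

theorem e1_73 : allRange 163930 2141 (fun u => chkE tab 1 u) = true := by decide +kernel

theorem e1_74 : allRange 166071 2299 (fun u => chkE tab 1 u) = true := by decide +kernel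

theorem e1_75 : allRange 168370 1784 (fun u => chkE tab 1 u) = true := by decide +kernel

theorem e1_76 : allRange 170154 2012 (fun u => chkE tab 1 u) = true := by decide +kernel

theorem e1_77 : allRange 172166 1924 (fun u => chkE tab 1 u) = true := by decide +kernel

theorem e1_78 : allRange 174090 1999 (fun u => chkE tab 1 u) = true := by decide +kernel

theorem e1_79 : allRange 176089 3468 (fun u => chkE tab 1 u) = true := by decide +kernel


end Cfsg.Agent.Helper9.TCData.X1690
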