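import Cfsg.Agent.Lib.Helper9.TCData.X1690.Main

set_option autoImplicit false
set_option maxRecDepth 1000000

namespace Cfsg.Agent.Helper9.TCData.X1690
open Cfsg.Agent.Helper9.TC2

theorem f_460 : allRange 97060 211 (fun u => chkFin tab u) = true := by decide +kernel

theorem f_461 : allRange 97271 211 (fun u => chkFin tab u) = true := by decide +kernel

theorem f_462 : allRange 97482 211 (fun u => chkFin tab u) = true := by decide +kernel

theorem f_463 : allRange 97693 211 (fun u => chkFin tab u) = true := by decide +kernel

theorem f_464 : allRange 97904 211 (fun u => chkFin tab u) = true := by decide +kernel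

theorem f_465 : allRange 98115 211 (fun u => chkFin tab u) = true := by decide +kernel

theorem f_466 : allRange 98326 211 (fun u => chkFin tab u) = true := by decide +kernel

theorem f_467 : allRange 98537 211 (fun u => chkFin tab u) = true := by decide +kernel

theorem f_468 : allRange 98748 211 (fun u => chkFin tab u) = true := by decide +kernel

theorem f_469 : allRange 98959 211 (fun u => chkFin tab u) = true := by decide +kernel


end Cfsg.Agent.Helper9.TCData.X1690
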