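import Cfsg.Agent.Lib.Helper9.TCData.X1690.Main

set_option autoImplicit false
set_option maxRecDepth 1000000

namespace Cfsg.Agent.Helper9.TCData.X1690
open Cfsg.Agent.Helper9.TC2

theorem f_580 : allRange 122380 211 (fun u => chkFin tab u) = true := by decide +kernel

theorem f_581 : allRange 122591 211 (fun u => chkFin tab u) = true := by decide +kernel

theorem f_582 : allRange 122802 211 (fun u => chkFin tab u) = true := by decide +kernel

theorem f_583 : allRange 123013 211 (fun u => chkFin tab u) = true := by decide +kernel

theorem f_584 : allRange 123224 211 (fun u => chkFin tab u) = true := by decide +kernel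

theorem f_585 : allRange 123435 211 (fun u => chkFin tab u) = true := by decide +kernel

theorem f_586 : allRange 123646 211 (fun u => chkFin tab u) = true := by decide +kernel

theorem f_587 : allRange 123857 211 (fun u => chkFin tab u) = true := by decide +kernel

theorem f_588 : allRange 124068 211 (fun u => chkFin tab u) = true := by decide +kernel

theorem f_589 : allRange 124279 211 (fun u => chkFin tab u) = true := by decide +kernel


end Cfsg.Agent.Helper9.TCData.X1690
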