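import Cfsg.Agent.Lib.Helper9.TCData.X1690.Main

set_option autoImplicit false
set_option maxRecDepth 1000000

namespace Cfsg.Agent.Helper9.TCData.X1690
open Cfsg.Agent.Helper9.TC2

theorem f_700 : allRange 147700 211 (fun u => chkFin tab u) = true := by decide +kernel

theorem f_701 : allRange 147911 211 (fun u => chkFin tab u) = true := by decide +kernel

theorem f_702 : allRange 148122 211 (fun u => chkFin tab u) = true := by decide +kernel

theorem f_703 : allRange 148333 211 (fun u => chkFin tab u) = true := by decide +kernel

theorem f_704 : allRange 148544 211 (fun u => chkFin tab u) = true := by decide +kernel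

theorem f_705 : allRange 148755 211 (fun u => chkFin tab u) = true := by decide +kernel

theorem f_706 : allRange 148966 211 (fun u => chkFin tab u) = true := by decide +kernel

theorem f_707 : allRange 149177 211 (fun u => chkFin tab u) = true := by decide +kernel

theorem f_708 : allRange 149388 211 (fun u => chkFin tab u) = true := by decide +kernel

theorem f_709 : allRange 149599 211 (fun u => chkFin tab u) = true := by decide +kernel


end Cfsg.Agent.Helper9.TCData.X1690
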