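import Cfsg.Agent.Lib.Helper9.TCData.X1690.Main

set_option autoImplicit false
set_option maxRecDepth 1000000

namespace Cfsg.Agent.Helper9.TCData.X1690
open Cfsg.Agent.Helper9.TC2

theorem f_820 : allRange 173020 211 (fun u => chkFin tab u) = true := by decide +kernel

theorem f_821 : allRange 173231 211 (fun u => chkFin tab u) = true := by decide +kernel

theorem f_822 : allRange 173442 211 (fun u => chkFin tab u) = true := by decide +kernel

theorem f_823 : allRange 173653 211 (fun u => chkFin tab u) = true := by decide +kernel

theorem f_824 : allRange 173864 211 (fun u => chkFin tab u) = true := by decide +kernel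

theorem f_825 : allRange 174075 211 (fun u => chkFin tab u) = true := by decide +kernel

theorem f_826 : allRange 174286 211 (fun u => chkFin tab u) = true := by decide +kernel

theorem f_827 : allRange 174497 211 (fun u => chkFin tab u) = true := by decide +kernel

theorem f_828 : allRange 174708 211 (fun u => chkFin tab u) = true := by decide +kernel

theorem f_829 : allRange 174919 211 (fun u => chkFin tab u) = true := by decide +kernel


end Cfsg.Agent.Helper9.TCData.X1690
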