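import Cfsg.Agent.Lib.Helper9.TCData.X1690.Main

set_option autoImplicit false
set_option maxRecDepth 1000000

namespace Cfsg.Agent.Helper9.TCData.X1690
open Cfsg.Agent.Helper9.TC2

theorem f_940 : allRange 198340 211 (fun u => chkFin tab u) = true := by decide +kernel

theorem f_941 : allRange 198551 211 (fun u => chkFin tab u) = true := by decide +kernel

theorem f_942 : allRange 198762 211 (fun u => chkFin tab u) = true := by decide +kernel

theorem f_943 : allRange 198973 211 (fun u => chkFin tab u) = true := by decide +kernel

theorem f_944 : allRange 199184 211 (fun u => chkFin tab u) = true := by decide +kernel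

theorem f_945 : allRange 199395 211 (fun u => chkFin tab u) = true := by decide +kernel

theorem f_946 : allRange 199606 211 (fun u => chkFin tab u) = true := by decide +kernel

theorem f_947 : allRange 199817 211 (fun u => chkFin tab u) = true := by decide +kernel

theorem f_948 : allRange 200028 211 (fun u => chkFin tab u) = true := by decide +kernel

theorem f_949 : allRange 200239 211 (fun u => chkFin tab u) = true := by decide +kernel


end Cfsg.Agent.Helper9.TCData.X1690
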