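import Cfsg.Agent.Lib.Helper9.TCData.X1690.Main

set_option autoImplicit false
set_option maxRecDepth 1000000

namespace Cfsg.Agent.Helper9.TCData.X1690
open Cfsg.Agent.Helper9.TC2

theorem f_1060 : allRange 223660 211 (fun u => chkFin tab u) = true := by decide +kernel

theorem f_1061 : allRange 223871 211 (fun u => chkFin tab u) = true := by decide +kernel

theorem f_1062 : allRange 224082 211 (fun u => chkFin tab u) = true := by decide +kernel

theorem f_1063 : allRange 224293 211 (fun u => chkFin tab u) = true := by decide +kernel

theorem f_1064 : allRange 224504 211 (fun u => chkFin tab u) = true := by decide +kernel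

theorem f_1065 : allRange 224715 211 (fun u => chkFin tab u) = true := by decide +kernel

theorem f_1066 : allRange 224926 211 (fun u => chkFin tab u) = true := by decide +kernel

theorem f_1067 : allRange 225137 211 (fun u => chkFin tab u) = true := by decide +kernel

theorem f_1068 : allRange 225348 211 (fun u => chkFin tab u) = true := by decide +kernel

theorem f_1069 : allRange 225559 211 (fun u => chkFin tab u) = true := by decide +kernel


end Cfsg.Agent.Helper9.TCData.X1690
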