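import Cfsg.Agent.Lib.Helper9.TCData.X1690.Main

set_option autoImplicit false
set_option maxRecDepth 1000000

namespace Cfsg.Agent.Helper9.TCData.X1690
open Cfsg.Agent.Helper9.TC2

theorem f_1180 : allRange 248980 211 (fun u => chkFin tab u) = true := by decide +kernel

theorem f_1181 : allRange 249191 211 (fun u => chkFin tab u) = true := by decide +kernel

theorem f_1182 : allRange 249402 211 (fun u => chkFin tab u) = true := by decide +kernel

theorem f_1183 : allRange 249613 211 (fun u => chkFin tab u) = true := by decide +kernel

theorem f_1184 : allRange 249824 211 (fun u => chkFin tab u) = true := by decide +kernel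

theorem f_1185 : allRange 250035 211 (fun u => chkFin tab u) = true := by decide +kernel

theorem f_1186 : allRange 250246 211 (fun u => chkFin tab u) = true := by decide +kernel

theorem f_1187 : allRange 250457 211 (fun u => chkFin tab u) = true := by decide +kernel

theorem f_1188 : allRange 250668 211 (fun u => chkFin tab u) = true := by decide +kernel

theorem f_1189 : allRange 250879 211 (fun u => chkFin tab u) = true := by decide +kernel


end Cfsg.Agent.Helper9.TCData.X1690
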