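import Cfsg.Agent.Lib.Helper9.TCData.X1690.Main

set_option autoImplicit false
set_option maxRecDepth 1000000

namespace Cfsg.Agent.Helper9.TCData.X1690
open Cfsg.Agent.Helper9.TC2

theorem f_1300 : allRange 274300 211 (fun u => chkFin tab u) = true := by decide +kernel

theorem f_1301 : allRange 274511 211 (fun u => chkFin tab u) = true := by decide +kernel

theorem f_1302 : allRange 274722 211 (fun u => chkFin tab u) = true := by decide +kernel

theorem f_1303 : allRange 274933 211 (fun u => chkFin tab u) = true := by decide +kernel

theorem f_1304 : allRange 275144 211 (fun u => chkFin tab u) = true := by decide +kernel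

theorem f_1305 : allRange 275355 211 (fun u => chkFin tab u) = true := by decide +kernel

theorem f_1306 : allRange 275566 211 (fun u => chkFin tab u) = true := by decide +kernel

theorem f_1307 : allRange 275777 211 (fun u => chkFin tab u) = true := by decide +kernel

theorem f_1308 : allRange 275988 211 (fun u => chkFin tab u) = true := by decide +kernel

theorem f_1309 : allRange 276199 211 (fun u => chkFin tab u) = true := by decide +kernel


end Cfsg.Agent.Helper9.TCData.X1690
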