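import Cfsg.Agent.Lib.Helper9.TCData.X1690.Main

set_option autoImplicit false
set_option maxRecDepth 1000000

namespace Cfsg.Agent.Helper9.TCData.X1690
open Cfsg.Agent.Helper9.TC2

theorem f_1420 : allRange 299620 211 (fun u => chkFin tab u) = true := by decide +kernel

theorem f_1421 : allRange 299831 211 (fun u => chkFin tab u) = true := by decide +kernel

theorem f_1422 : allRange 300042 211 (fun u => chkFin tab u) = true := by decide +kernel

theorem f_1423 : allRange 300253 211 (fun u => chkFin tab u) = true := by decide +kernel

theorem f_1424 : allRange 300464 211 (fun u => chkFin tab u) = true := by decide +kernel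

theorem f_1425 : allRange 300675 211 (fun u => chkFin tab u) = true := by decide +kernel

theorem f_1426 : allRange 300886 211 (fun u => chkFin tab u) = true := by decide +kernel

theorem f_1427 : allRange 301097 211 (fun u => chkFin tab u) = true := by decide +kernel

theorem f_1428 : allRange 301308 211 (fun u => chkFin tab u) = true := by decide +kernel

theorem f_1429 : allRange 301519 211 (fun u => chkFin tab u) = true := by decide +kernel


end Cfsg.Agent.Helper9.TCData.X1690
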