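import Cfsg.Agent.Lib.Helper9.TCData.X1690.Main

set_option autoImplicit false
set_option maxRecDepth 1000000

namespace Cfsg.Agent.Helper9.TCData.X1690
open Cfsg.Agent.Helper9.TC2

theorem e2_20 : allRange 40549 2023 (fun u => chkE tab 2 u) = true := by decide +kernel

theorem e2_21 : allRange 42572 2384 (fun u => chkE tab 2 u) = true := by decide +kernel

theorem e2_22 : allRange 44956 2077 (fun u => chkE tab 2 u) = true := by decide +kernel

theorem e2_23 : allRange 47033 2020 (fun u => chkE tab 2 u) = true := by decide +kernel

theorem e2_24 : allRange 49053 1978 (fun u => chkE tab 2 u) = true := by decide +kernel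

theorem e2_25 : allRange 51031 1889 (fun u => chkE tab 2 u) = true := by decide +kernel

theorem e2_26 : allRange 52920 1909 (fun u => chkE tab 2 u) = true := by decide +kernel

theorem e2_27 : allRange 54829 1952 (fun u => chkE tab 2 u) = true := by decide +kernel

theorem e2_28 : allRange 56781 2223 (fun u => chkE tab 2 u) = true := by decide +kernel

theorem e2_29 : allRange 59004 2423 (fun u => chkE tab 2 u) = true := by decide +kernel


end Cfsg.Agent.Helper9.TCData.X1690
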