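import Cfsg.Agent.Lib.Helper9.TCData.X1690.Main

set_option autoImplicit false
set_option maxRecDepth 1000000

namespace Cfsg.Agent.Helper9.TCData.X1690
open Cfsg.Agent.Helper9.TC2

theorem m1_50 : allRange 26850 537 (fun u => chkM1 tab u) = true := by decide +kernel

theorem m1_51 : allRange 27387 537 (fun u => chkM1 tab u) = true := by decide +kernel

theorem m1_52 : allRange 27924 537 (fun u => chkM1 tab u) = true := by decide +kernel

theorem m1_53 : allRange 28461 537 (fun u => chkM1 tab u) = true := by decide +kernel

theorem m1_54 : allRange 28998 537 (fun u => chkM1 tab u) = true := by decide +kernel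

theorem m1_55 : allRange 29535 537 (fun u => chkM1 tab u) = true := by decide +kernel

theorem m1_56 : allRange 30072 537 (fun u => chkM1 tab u) = true := by decide +kernel

theorem m1_57 : allRange 30609 537 (fun u => chkM1 tab u) = true := by decide +kernel

theorem m1_58 : allRange 31146 537 (fun u => chkM1 tab u) = true := by decide +kernel

theorem m1_59 : allRange 31683 537 (fun u => chkM1 tab u) = true := by decide +kernel


end Cfsg.Agent.Helper9.TCData.X1690
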