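import Cfsg.Agent.Lib.Helper9.TCData.X1690.Main

set_option autoImplicit false
set_option maxRecDepth 1000000

namespace Cfsg.Agent.Helper9.TCData.X1690
open Cfsg.Agent.Helper9.TC2

theorem m1_170 : allRange 91290 537 (fun u => chkM1 tab u) = true := by decide +kernel

theorem m1_171 : allRange 91827 537 (fun u => chkM1 tab u) = true := by decide +kernel

theorem m1_172 : allRange 92364 537 (fun u => chkM1 tab u) = true := by decide +kernel

theorem m1_173 : allRange 92901 537 (fun u => chkM1 tab u) = true := by decide +kernel

theorem m1_174 : allRange 93438 537 (fun u => chkM1 tab u) = true := by decide +kernel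

theorem m1_175 : allRange 93975 537 (fun u => chkM1 tab u) = true := by decide +kernel

theorem m1_176 : allRange 94512 537 (fun u => chkM1 tab u) = true := by decide +kernel

theorem m1_177 : allRange 95049 537 (fun u => chkM1 tab u) = true := by decide +kernel

theorem m1_178 : allRange 95586 537 (fun u => chkM1 tab u) = true := by decide +kernel

theorem m1_179 : allRange 96123 537 (fun u => chkM1 tab u) = true := by decide +kernel


end Cfsg.Agent.Helper9.TCData.X1690
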