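import Cfsg.Agent.Lib.Helper9.TCData.X1690.Main

set_option autoImplicit false
set_option maxRecDepth 1000000

namespace Cfsg.Agent.Helper9.TCData.X1690
open Cfsg.Agent.Helper9.TC2

theorem m1_290 : allRange 155730 537 (fun u => chkM1 tab u) = true := by decide +kernel

theorem m1_291 : allRange 156267 537 (fun u => chkM1 tab u) = true := by decide +kernel

theorem m1_292 : allRange 156804 537 (fun u => chkM1 tab u) = true := by decide +kernel

theorem m1_293 : allRange 157341 537 (fun u => chkM1 tab u) = true := by decide +kernel

theorem m1_294 : allRange 157878 537 (fun u => chkM1 tab u) = true := by decide +kernel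

theorem m1_295 : allRange 158415 537 (fun u => chkM1 tab u) = true := by decide +kernel

theorem m1_296 : allRange 158952 537 (fun u => chkM1 tab u) = true := by decide +kernel

theorem m1_297 : allRange 159489 537 (fun u => chkM1 tab u) = true := by decide +kernel

theorem m1_298 : allRange 160026 537 (fun u => chkM1 tab u) = true := by decide +kernel

theorem m1_299 : allRange 160563 537 (fun u => chkM1 tab u) = true := by decide +kernel


end Cfsg.Agent.Helper9.TCData.X1690
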