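import Cfsg.Agent.Lib.Helper9.TCData.X1690.Main

set_option autoImplicit false
set_option maxRecDepth 1000000

namespace Cfsg.Agent.Helper9.TCData.X1690
open Cfsg.Agent.Helper9.TC2

theorem m1_410 : allRange 220170 537 (fun u => chkM1 tab u) = true := by decide +kernel

theorem m1_411 : allRange 220707 537 (fun u => chkM1 tab u) = true := by decide +kernel

theorem m1_412 : allRange 221244 537 (fun u => chkM1 tab u) = true := by decide +kernel

theorem m1_413 : allRange 221781 537 (fun u => chkM1 tab u) = true := by decide +kernel

theorem m1_414 : allRange 222318 537 (fun u => chkM1 tab u) = true := by decide +kernel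

theorem m1_415 : allRange 222855 537 (fun u => chkM1 tab u) = true := by decide +kernel

theorem m1_416 : allRange 223392 537 (fun u => chkM1 tab u) = true := by decide +kernel

theorem m1_417 : allRange 223929 537 (fun u => chkM1 tab u) = true := by decide +kernel

theorem m1_418 : allRange 224466 537 (fun u => chkM1 tab u) = true := by decide +kernel

theorem m1_419 : allRange 225003 537 (fun u => chkM1 tab u) = true := by decide +kernel


end Cfsg.Agent.Helper9.TCData.X1690
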