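import Cfsg.Agent.Lib.Helper9.TCData.X1690.Main

set_option autoImplicit false
set_option maxRecDepth 1000000

namespace Cfsg.Agent.Helper9.TCData.X1690
open Cfsg.Agent.Helper9.TC2

theorem m1_530 : allRange 284610 537 (fun u => chkM1 tab u) = true := by decide +kernel

theorem m1_531 : allRange 285147 537 (fun u => chkM1 tab u) = true := by decide +kernel

theorem m1_532 : allRange 285684 537 (fun u => chkM1 tab u) = true := by decide +kernel

theorem m1_533 : allRange 286221 537 (fun u => chkM1 tab u) = true := by decide +kernel

theorem m1_534 : allRange 286758 537 (fun u => chkM1 tab u) = true := by decide +kernel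

theorem m1_535 : allRange 287295 537 (fun u => chkM1 tab u) = true := by decide +kernel

theorem m1_536 : allRange 287832 537 (fun u => chkM1 tab u) = true := by decide +kernel

theorem m1_537 : allRange 288369 537 (fun u => chkM1 tab u) = true := by decide +kernel

theorem m1_538 : allRange 288906 537 (fun u => chkM1 tab u) = true := by decide +kernel

theorem m1_539 : allRange 289443 537 (fun u => chkM1 tab u) = true := by decide +kernel


end Cfsg.Agent.Helper9.TCData.X1690
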