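import Cfsg.Agent.Lib.Helper9.TCData.X1690.Main

set_option autoImplicit false
set_option maxRecDepth 1000000

namespace Cfsg.Agent.Helper9.TCData.X1690
open Cfsg.Agent.Helper9.TC2

theorem ma_78 : allRange 42744 548 (fun u => chkAux tab aux u) = true := by decide +kernel

theorem ma_79 : allRange 43292 548 (fun u => chkAux tab aux u) = true := by decide +kernel

theorem ma_80 : allRange 43840 548 (fun u => chkAux tab aux u) = true := by decide +kernel

theorem ma_81 : allRange 44388 548 (fun u => chkAux tab aux u) = true := by decide +kernel

theorem ma_82 : allRange 44936 548 (fun u => chkAux tab aux u) = true := by decide +kernel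

theorem ma_83 : allRange 45484 548 (fun u => chkAux tab aux u) = true := by decide +kernel

theorem ma_84 : allRange 46032 548 (fun u => chkAux tab aux u) = true := by decide +kernel

theorem ma_85 : allRange 46580 548 (fun u => chkAux tab aux u) = true := by decide +kernel

theorem ma_86 : allRange 47128 548 (fun u => chkAux tab aux u) = true := by decide +kernel

theorem ma_87 : allRange 47676 548 (fun u => chkAux tab aux u) = true := by decide +kernel


end Cfsg.Agent.Helper9.TCData.X1690
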