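import Cfsg.Agent.Lib.Helper9.TCData.X1690.Main

set_option autoImplicit false
set_option maxRecDepth 1000000

namespace Cfsg.Agent.Helper9.TCData.X1690
open Cfsg.Agent.Helper9.TC2

theorem ma_198 : allRange 108504 548 (fun u => chkAux tab aux u) = true := by decide +kernel

theorem ma_199 : allRange 109052 548 (fun u => chkAux tab aux u) = true := by decide +kernel

theorem ma_200 : allRange 109600 548 (fun u => chkAux tab aux u) = true := by decide +kernel

theorem ma_201 : allRange 110148 548 (fun u => chkAux tab aux u) = true := by decide +kernel

theorem ma_202 : allRange 110696 548 (fun u => chkAux tab aux u) = true := by decide +kernel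

theorem ma_203 : allRange 111244 548 (fun u => chkAux tab aux u) = true := by decide +kernel

theorem ma_204 : allRange 111792 548 (fun u => chkAux tab aux u) = true := by decide +kernel

theorem ma_205 : allRange 112340 548 (fun u => chkAux tab aux u) = true := by decide +kernel

theorem ma_206 : allRange 112888 548 (fun u => chkAux tab aux u) = true := by decide +kernel

theorem ma_207 : allRange 113436 548 (fun u => chkAux tab aux u) = true := by decide +kernel


end Cfsg.Agent.Helper9.TCData.X1690
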