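import Cfsg.Agent.Lib.Helper9.TCData.X1690.Main

set_option autoImplicit false
set_option maxRecDepth 1000000

namespace Cfsg.Agent.Helper9.TCData.X1690
open Cfsg.Agent.Helper9.TC2

theorem ma_318 : allRange 174264 548 (fun u => chkAux tab aux u) = true := by decide +kernel

theorem ma_319 : allRange 174812 548 (fun u => chkAux tab aux u) = true := by decide +kernel

theorem ma_320 : allRange 175360 548 (fun u => chkAux tab aux u) = true := by decide +kernel

theorem ma_321 : allRange 175908 548 (fun u => chkAux tab aux u) = true := by decide +kernel

theorem ma_322 : allRange 176456 548 (fun u => chkAux tab aux u) = true := by decide +kernel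

theorem ma_323 : allRange 177004 548 (fun u => chkAux tab aux u) = true := by decide +kernel

theorem ma_324 : allRange 177552 548 (fun u => chkAux tab aux u) = true := by decide +kernel

theorem ma_325 : allRange 178100 548 (fun u => chkAux tab aux u) = true := by decide +kernel

theorem ma_326 : allRange 178648 548 (fun u => chkAux tab aux u) = true := by decide +kernel

theorem ma_327 : allRange 179196 548 (fun u => chkAux tab aux u) = true := by decide +kernel


end Cfsg.Agent.Helper9.TCData.X1690
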