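import Cfsg.Agent.Lib.Helper9.TCData.X1690.Main

set_option autoImplicit false
set_option maxRecDepth 1000000

namespace Cfsg.Agent.Helper9.TCData.X1690
open Cfsg.Agent.Helper9.TC2

theorem ma_438 : allRange 240024 548 (fun u => chkAux tab aux u) = true := by decide +kernel

theorem ma_439 : allRange 240572 548 (fun u => chkAux tab aux u) = true := by decide +kernel

theorem ma_440 : allRange 241120 548 (fun u => chkAux tab aux u) = true := by decide +kernel

theorem ma_441 : allRange 241668 548 (fun u => chkAux tab aux u) = true := by decide +kernel

theorem ma_442 : allRange 242216 548 (fun u => chkAux tab aux u) = true := by decide +kernel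

theorem ma_443 : allRange 242764 548 (fun u => chkAux tab aux u) = true := by decide +kernel

theorem ma_444 : allRange 243312 548 (fun u => chkAux tab aux u) = true := by decide +kernel

theorem ma_445 : allRange 243860 548 (fun u => chkAux tab aux u) = true := by decide +kernel

theorem ma_446 : allRange 244408 548 (fun u => chkAux tab aux u) = true := by decide +kernel

theorem ma_447 : allRange 244956 548 (fun u => chkAux tab aux u) = true := by decide +kernel


end Cfsg.Agent.Helper9.TCData.X1690
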