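import Cfsg.Agent.Lib.Helper9.TCData.X1690.Main

set_option autoImplicit false
set_option maxRecDepth 1000000

namespace Cfsg.Agent.Helper9.TCData.X1690
open Cfsg.Agent.Helper9.TC2

theorem e2_140 : allRange 323708 2203 (fun u => chkE tab 2 u) = true := by decide +kernel

theorem e2_141 : allRange 325911 2340 (fun u => chkE tab 2 u) = true := by decide +kernel

theorem e2_142 : allRange 328251 2026 (fun u => chkE tab 2 u) = true := by decide +kernel

theorem e2_143 : allRange 330277 1931 (fun u => chkE tab 2 u) = true := by decide +kernel

theorem e2_144 : allRange 332208 2803 (fun u => chkE tab 2 u) = true := by decide +kernel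

theorem e2_145 : allRange 335011 3166 (fun u => chkE tab 2 u) = true := by decide +kernel

theorem e2_146 : allRange 338177 2775 (fun u => chkE tab 2 u) = true := by decide +kernel

theorem e2_147 : allRange 340952 2522 (fun u => chkE tab 2 u) = true := by decide +kernel

theorem e2_148 : allRange 343474 2526 (fun u => chkE tab 2 u) = true := by decide +kernel

theorem e2_149 : allRange 346000 2400 (fun u => chkE tab 2 u) = true := by decide +kernel


end Cfsg.Agent.Helper9.TCData.X1690
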