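import Cfsg.Agent.Lib.Helper9.TCData.X1690.Main

set_option autoImplicit false
set_option maxRecDepth 1000000

namespace Cfsg.Agent.Helper9.TCData.X1690
open Cfsg.Agent.Helper9.TC2

theorem m2_117 : allRange 5031 43 (fun u => chkFix tab mwordsA u) = true := by decide +kernel

theorem m2_118 : allRange 5074 43 (fun u => chkFix tab mwordsA u) = true := by decide +kernel

theorem m2_119 : allRange 5117 43 (fun u => chkFix tab mwordsA u) = true := by decide +kernel

theorem m2_120 : allRange 5160 43 (fun u => chkFix tab mwordsA u) = true := by decide +kernel

theorem m2_121 : allRange 5203 43 (fun u => chkFix tab mwordsA u) = true := by decide +kernel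

theorem m2_122 : allRange 5246 43 (fun u => chkFix tab mwordsA u) = true := by decide +kernel

theorem m2_123 : allRange 5289 43 (fun u => chkFix tab mwordsA u) = true := by decide +kernel

theorem m2_124 : allRange 5332 43 (fun u => chkFix tab mwordsA u) = true := by decide +kernel

theorem m2_125 : allRange 5375 43 (fun u => chkFix tab mwordsA u) = true := by decide +kernel

theorem m2_126 : allRange 5418 43 (fun u => chkFix tab mwordsA u) = true := by decide +kernel


end Cfsg.Agent.Helper9.TCData.X1690
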