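import Cfsg.Agent.Lib.Helper9.TCData.X1690.Main

set_option autoImplicit false
set_option maxRecDepth 1000000

namespace Cfsg.Agent.Helper9.TCData.X1690
open Cfsg.Agent.Helper9.TC2

theorem m2_597 : allRange 25671 43 (fun u => chkFix tab mwordsA u) = true := by decide +kernel

theorem m2_598 : allRange 25714 43 (fun u => chkFix tab mwordsA u) = true := by decide +kernel

theorem m2_599 : allRange 25757 43 (fun u => chkFix tab mwordsA u) = true := by decide +kernel

theorem m2_600 : allRange 25800 43 (fun u => chkFix tab mwordsA u) = true := by decide +kernel

theorem m2_601 : allRange 25843 43 (fun u => chkFix tab mwordsA u) = true := by decide +kernel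

theorem m2_602 : allRange 25886 43 (fun u => chkFix tab mwordsA u) = true := by decide +kernel

theorem m2_603 : allRange 25929 43 (fun u => chkFix tab mwordsA u) = true := by decide +kernel

theorem m2_604 : allRange 25972 43 (fun u => chkFix tab mwordsA u) = true := by decide +kernel

theorem m2_605 : allRange 26015 43 (fun u => chkFix tab mwordsA u) = true := by decide +kernel

theorem m2_606 : allRange 26058 43 (fun u => chkFix tab mwordsA u) = true := by decide +kernel


end Cfsg.Agent.Helper9.TCData.X1690
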