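import Cfsg.Agent.Lib.Helper9.TCData.X1690.Main

set_option autoImplicit false
set_option maxRecDepth 1000000

namespace Cfsg.Agent.Helper9.TCData.X1690
open Cfsg.Agent.Helper9.TC2

theorem e3_92 : allRange 216684 2635 (fun u => chkE tab 3 u) = true := by decide +kernel

theorem e3_93 : allRange 219319 2451 (fun u => chkE tab 3 u) = true := by decide +kernel

theorem e3_94 : allRange 221770 2417 (fun u => chkE tab 3 u) = true := by decide +kernel

theorem e3_95 : allRange 224187 2348 (fun u => chkE tab 3 u) = true := by decide +kernel

theorem e3_96 : allRange 226535 2234 (fun u => chkE tab 3 u) = true := by decide +kernel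

theorem e3_97 : allRange 228769 2172 (fun u => chkE tab 3 u) = true := by decide +kernel

theorem e3_98 : allRange 230941 2110 (fun u => chkE tab 3 u) = true := by decide +kernel

theorem e3_99 : allRange 233051 2158 (fun u => chkE tab 3 u) = true := by decide +kernel

theorem e3_100 : allRange 235209 2596 (fun u => chkE tab 3 u) = true := by decide +kernel

theorem e3_101 : allRange 237805 2685 (fun u => chkE tab 3 u) = true := by decide +kernel


end Cfsg.Agent.Helper9.TCData.X1690
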