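import Cfsg.Agent.Lib.Helper9.TCData.X1690.Main

set_option autoImplicit false
set_option maxRecDepth 1000000

namespace Cfsg.Agent.Helper9.TCData.X1690
open Cfsg.Agent.Helper9.TC2

theorem m2_1557 : allRange 66951 43 (fun u => chkFix tab mwordsA u) = true := by decide +kernel

theorem m2_1558 : allRange 66994 43 (fun u => chkFix tab mwordsA u) = true := by decide +kernel

theorem m2_1559 : allRange 67037 43 (fun u => chkFix tab mwordsA u) = true := by decide +kernel

theorem m2_1560 : allRange 67080 43 (fun u => chkFix tab mwordsA u) = true := by decide +kernel

theorem m2_1561 : allRange 67123 43 (fun u => chkFix tab mwordsA u) = true := by decide +kernel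

theorem m2_1562 : allRange 67166 43 (fun u => chkFix tab mwordsA u) = true := by decide +kernel

theorem m2_1563 : allRange 67209 43 (fun u => chkFix tab mwordsA u) = true := by decide +kernel

theorem m2_1564 : allRange 67252 43 (fun u => chkFix tab mwordsA u) = true := by decide +kernel

theorem m2_1565 : allRange 67295 43 (fun u => chkFix tab mwordsA u) = true := by decide +kernel

theorem m2_1566 : allRange 67338 43 (fun u => chkFix tab mwordsA u) = true := by decide +kernel


end Cfsg.Agent.Helper9.TCData.X1690
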