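import Cfsg.Agent.Lib.Helper9.TCData.X1690.Main

set_option autoImplicit false
set_option maxRecDepth 1000000

namespace Cfsg.Agent.Helper9.TCData.X1690
open Cfsg.Agent.Helper9.TC2

theorem m2_1677 : allRange 72111 43 (fun u => chkFix tab mwordsA u) = true := by decide +kernel

theorem m2_1678 : allRange 72154 43 (fun u => chkFix tab mwordsA u) = true := by decide +kernel

theorem m2_1679 : allRange 72197 43 (fun u => chkFix tab mwordsA u) = true := by decide +kernel

theorem m2_1680 : allRange 72240 43 (fun u => chkFix tab mwordsA u) = true := by decide +kernel

theorem m2_1681 : allRange 72283 43 (fun u => chkFix tab mwordsA u) = true := by decide +kernel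

theorem m2_1682 : allRange 72326 43 (fun u => chkFix tab mwordsA u) = true := by decide +kernel

theorem m2_1683 : allRange 72369 43 (fun u => chkFix tab mwordsA u) = true := by decide +kernel

theorem m2_1684 : allRange 72412 43 (fun u => chkFix tab mwordsA u) = true := by decide +kernel

theorem m2_1685 : allRange 72455 43 (fun u => chkFix tab mwordsA u) = true := by decide +kernel

theorem m2_1686 : allRange 72498 43 (fun u => chkFix tab mwordsA u) = true := by decide +kernel


end Cfsg.Agent.Helper9.TCData.X1690
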