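import Cfsg.Agent.Lib.Helper9.TCData.X1690.Main

set_option autoImplicit false
set_option maxRecDepth 1000000

namespace Cfsg.Agent.Helper9.TCData.X1690
open Cfsg.Agent.Helper9.TC2

theorem m2_1797 : allRange 77271 43 (fun u => chkFix tab mwordsA u) = true := by decide +kernel

theorem m2_1798 : allRange 77314 43 (fun u => chkFix tab mwordsA u) = true := by decide +kernel

theorem m2_1799 : allRange 77357 43 (fun u => chkFix tab mwordsA u) = true := by decide +kernel

theorem m2_1800 : allRange 77400 43 (fun u => chkFix tab mwordsA u) = true := by decide +kernel

theorem m2_1801 : allRange 77443 43 (fun u => chkFix tab mwordsA u) = true := by decide +kernel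

theorem m2_1802 : allRange 77486 43 (fun u => chkFix tab mwordsA u) = true := by decide +kernel

theorem m2_1803 : allRange 77529 43 (fun u => chkFix tab mwordsA u) = true := by decide +kernel

theorem m2_1804 : allRange 77572 43 (fun u => chkFix tab mwordsA u) = true := by decide +kernel

theorem m2_1805 : allRange 77615 43 (fun u => chkFix tab mwordsA u) = true := by decide +kernel

theorem m2_1806 : allRange 77658 43 (fun u => chkFix tab mwordsA u) = true := by decide +kernel


end Cfsg.Agent.Helper9.TCData.X1690
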