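import Cfsg.Agent.Lib.Helper9.TCData.X1690.Main

set_option autoImplicit false
set_option maxRecDepth 1000000

namespace Cfsg.Agent.Helper9.TCData.X1690
open Cfsg.Agent.Helper9.TC2

theorem m2_2037 : allRange 87591 43 (fun u => chkFix tab mwordsA u) = true := by decide +kernel

theorem m2_2038 : allRange 87634 43 (fun u => chkFix tab mwordsA u) = true := by decide +kernel

theorem m2_2039 : allRange 87677 43 (fun u => chkFix tab mwordsA u) = true := by decide +kernel

theorem m2_2040 : allRange 87720 43 (fun u => chkFix tab mwordsA u) = true := by decide +kernel

theorem m2_2041 : allRange 87763 43 (fun u => chkFix tab mwordsA u) = true := by decide +kernel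

theorem m2_2042 : allRange 87806 43 (fun u => chkFix tab mwordsA u) = true := by decide +kernel

theorem m2_2043 : allRange 87849 43 (fun u => chkFix tab mwordsA u) = true := by decide +kernel

theorem m2_2044 : allRange 87892 43 (fun u => chkFix tab mwordsA u) = true := by decide +kernel

theorem m2_2045 : allRange 87935 43 (fun u => chkFix tab mwordsA u) = true := by decide +kernel

theorem m2_2046 : allRange 87978 43 (fun u => chkFix tab mwordsA u) = true := by decide +kernel


end Cfsg.Agent.Helper9.TCData.X1690
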