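import Cfsg.Agent.Lib.Helper9.TCData.X1690.Main

set_option autoImplicit false
set_option maxRecDepth 1000000

namespace Cfsg.Agent.Helper9.TCData.X1690
open Cfsg.Agent.Helper9.TC2

theorem m2_2157 : allRange 92751 43 (fun u => chkFix tab mwordsA u) = true := by decide +kernel

theorem m2_2158 : allRange 92794 43 (fun u => chkFix tab mwordsA u) = true := by decide +kernel

theorem m2_2159 : allRange 92837 43 (fun u => chkFix tab mwordsA u) = true := by decide +kernel

theorem m2_2160 : allRange 92880 43 (fun u => chkFix tab mwordsA u) = true := by decide +kernel

theorem m2_2161 : allRange 92923 43 (fun u => chkFix tab mwordsA u) = true := by decide +kernel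

theorem m2_2162 : allRange 92966 43 (fun u => chkFix tab mwordsA u) = true := by decide +kernel

theorem m2_2163 : allRange 93009 43 (fun u => chkFix tab mwordsA u) = true := by decide +kernel

theorem m2_2164 : allRange 93052 43 (fun u => chkFix tab mwordsA u) = true := by decide +kernel

theorem m2_2165 : allRange 93095 43 (fun u => chkFix tab mwordsA u) = true := by decide +kernel

theorem m2_2166 : allRange 93138 43 (fun u => chkFix tab mwordsA u) = true := by decide +kernel


end Cfsg.Agent.Helper9.TCData.X1690
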