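import Cfsg.Agent.Lib.Helper9.TCData.X1690.Main

set_option autoImplicit false
set_option maxRecDepth 1000000

namespace Cfsg.Agent.Helper9.TCData.X1690
open Cfsg.Agent.Helper9.TC2

theorem m2_2277 : allRange 97911 43 (fun u => chkFix tab mwordsA u) = true := by decide +kernel

theorem m2_2278 : allRange 97954 43 (fun u => chkFix tab mwordsA u) = true := by decide +kernel

theorem m2_2279 : allRange 97997 43 (fun u => chkFix tab mwordsA u) = true := by decide +kernel

theorem m2_2280 : allRange 98040 43 (fun u => chkFix tab mwordsA u) = true := by decide +kernel

theorem m2_2281 : allRange 98083 43 (fun u => chkFix tab mwordsA u) = true := by decide +kernel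

theorem m2_2282 : allRange 98126 43 (fun u => chkFix tab mwordsA u) = true := by decide +kernel

theorem m2_2283 : allRange 98169 43 (fun u => chkFix tab mwordsA u) = true := by decide +kernel

theorem m2_2284 : allRange 98212 43 (fun u => chkFix tab mwordsA u) = true := by decide +kernel

theorem m2_2285 : allRange 98255 43 (fun u => chkFix tab mwordsA u) = true := by decide +kernel

theorem m2_2286 : allRange 98298 43 (fun u => chkFix tab mwordsA u) = true := by decide +kernel


end Cfsg.Agent.Helper9.TCData.X1690
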