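import Cfsg.Agent.Lib.Helper9.TCData.X1690.Main

set_option autoImplicit false
set_option maxRecDepth 1000000

namespace Cfsg.Agent.Helper9.TCData.X1690
open Cfsg.Agent.Helper9.TC2

theorem m2_2397 : allRange 103071 43 (fun u => chkFix tab mwordsA u) = true := by decide +kernel

theorem m2_2398 : allRange 103114 43 (fun u => chkFix tab mwordsA u) = true := by decide +kernel

theorem m2_2399 : allRange 103157 43 (fun u => chkFix tab mwordsA u) = true := by decide +kernel

theorem m2_2400 : allRange 103200 43 (fun u => chkFix tab mwordsA u) = true := by decide +kernel

theorem m2_2401 : allRange 103243 43 (fun u => chkFix tab mwordsA u) = true := by decide +kernel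

theorem m2_2402 : allRange 103286 43 (fun u => chkFix tab mwordsA u) = true := by decide +kernel

theorem m2_2403 : allRange 103329 43 (fun u => chkFix tab mwordsA u) = true := by decide +kernel

theorem m2_2404 : allRange 103372 43 (fun u => chkFix tab mwordsA u) = true := by decide +kernel

theorem m2_2405 : allRange 103415 43 (fun u => chkFix tab mwordsA u) = true := by decide +kernel

theorem m2_2406 : allRange 103458 43 (fun u => chkFix tab mwordsA u) = true := by decide +kernel


end Cfsg.Agent.Helper9.TCData.X1690
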