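import Cfsg.Agent.Lib.Helper9.TCData.X1690.Main

set_option autoImplicit false
set_option maxRecDepth 1000000

namespace Cfsg.Agent.Helper9.TCData.X1690
open Cfsg.Agent.Helper9.TC2

theorem e4_47 : allRange 100979 2103 (fun u => chkE tab 4 u) = true := by decide +kernel

theorem e4_48 : allRange 103082 2112 (fun u => chkE tab 4 u) = true := by decide +kernel

theorem e4_49 : allRange 105194 2127 (fun u => chkE tab 4 u) = true := by decide +kernel

theorem e4_50 : allRange 107321 2203 (fun u => chkE tab 4 u) = true := by decide +kernel

theorem e4_51 : allRange 109524 2143 (fun u => chkE tab 4 u) = true := by decide +kernel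

theorem e4_52 : allRange 111667 2113 (fun u => chkE tab 4 u) = true := by decide +kernel

theorem e4_53 : allRange 113780 2211 (fun u => chkE tab 4 u) = true := by decide +kernel

theorem e4_54 : allRange 115991 2688 (fun u => chkE tab 4 u) = true := by decide +kernel

theorem e4_55 : allRange 118679 3017 (fun u => chkE tab 4 u) = true := by decide +kernel

theorem e4_56 : allRange 121696 3793 (fun u => chkE tab 4 u) = true := by decide +kernel


end Cfsg.Agent.Helper9.TCData.X1690
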