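import Cfsg.Agent.Lib.Helper9.TCData.X1690.Main

set_option autoImplicit false
set_option maxRecDepth 1000000

namespace Cfsg.Agent.Helper9.TCData.X1690
open Cfsg.Agent.Helper9.TC2

theorem m2_2517 : allRange 108231 43 (fun u => chkFix tab mwordsA u) = true := by decide +kernel

theorem m2_2518 : allRange 108274 43 (fun u => chkFix tab mwordsA u) = true := by decide +kernel

theorem m2_2519 : allRange 108317 43 (fun u => chkFix tab mwordsA u) = true := by decide +kernel

theorem m2_2520 : allRange 108360 43 (fun u => chkFix tab mwordsA u) = true := by decide +kernel

theorem m2_2521 : allRange 108403 43 (fun u => chkFix tab mwordsA u) = true := by decide +kernel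

theorem m2_2522 : allRange 108446 43 (fun u => chkFix tab mwordsA u) = true := by decide +kernel

theorem m2_2523 : allRange 108489 43 (fun u => chkFix tab mwordsA u) = true := by decide +kernel

theorem m2_2524 : allRange 108532 43 (fun u => chkFix tab mwordsA u) = true := by decide +kernel

theorem m2_2525 : allRange 108575 43 (fun u => chkFix tab mwordsA u) = true := by decide +kernel

theorem m2_2526 : allRange 108618 43 (fun u => chkFix tab mwordsA u) = true := by decide +kernel


end Cfsg.Agent.Helper9.TCData.X1690
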