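import Cfsg.Agent.Lib.Helper9.TCData.X1690.Main

set_option autoImplicit false
set_option maxRecDepth 1000000

namespace Cfsg.Agent.Helper9.TCData.X1690
open Cfsg.Agent.Helper9.TC2

theorem m2_2637 : allRange 113391 43 (fun u => chkFix tab mwordsA u) = true := by decide +kernel

theorem m2_2638 : allRange 113434 43 (fun u => chkFix tab mwordsA u) = true := by decide +kernel

theorem m2_2639 : allRange 113477 43 (fun u => chkFix tab mwordsA u) = true := by decide +kernel

theorem m2_2640 : allRange 113520 43 (fun u => chkFix tab mwordsA u) = true := by decide +kernel

theorem m2_2641 : allRange 113563 43 (fun u => chkFix tab mwordsA u) = true := by decide +kernel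

theorem m2_2642 : allRange 113606 43 (fun u => chkFix tab mwordsA u) = true := by decide +kernel

theorem m2_2643 : allRange 113649 43 (fun u => chkFix tab mwordsA u) = true := by decide +kernel

theorem m2_2644 : allRange 113692 43 (fun u => chkFix tab mwordsA u) = true := by decide +kernel

theorem m2_2645 : allRange 113735 43 (fun u => chkFix tab mwordsA u) = true := by decide +kernel

theorem m2_2646 : allRange 113778 43 (fun u => chkFix tab mwordsA u) = true := by decide +kernel


end Cfsg.Agent.Helper9.TCData.X1690
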