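import Cfsg.Agent.Lib.Helper9.TCData.X1690.Main

set_option autoImplicit false
set_option maxRecDepth 1000000

namespace Cfsg.Agent.Helper9.TCData.X1690
open Cfsg.Agent.Helper9.TC2

theorem m2_2757 : allRange 118551 43 (fun u => chkFix tab mwordsA u) = true := by decide +kernel

theorem m2_2758 : allRange 118594 43 (fun u => chkFix tab mwordsA u) = true := by decide +kernel

theorem m2_2759 : allRange 118637 43 (fun u => chkFix tab mwordsA u) = true := by decide +kernel

theorem m2_2760 : allRange 118680 43 (fun u => chkFix tab mwordsA u) = true := by decide +kernel

theorem m2_2761 : allRange 118723 43 (fun u => chkFix tab mwordsA u) = true := by decide +kernel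

theorem m2_2762 : allRange 118766 43 (fun u => chkFix tab mwordsA u) = true := by decide +kernel

theorem m2_2763 : allRange 118809 43 (fun u => chkFix tab mwordsA u) = true := by decide +kernel

theorem m2_2764 : allRange 118852 43 (fun u => chkFix tab mwordsA u) = true := by decide +kernel

theorem m2_2765 : allRange 118895 43 (fun u => chkFix tab mwordsA u) = true := by decide +kernel

theorem m2_2766 : allRange 118938 43 (fun u => chkFix tab mwordsA u) = true := by decide +kernel


end Cfsg.Agent.Helper9.TCData.X1690
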