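import Cfsg.Agent.Lib.Helper9.TCData.X1690.Main

set_option autoImplicit false
set_option maxRecDepth 1000000

namespace Cfsg.Agent.Helper9.TCData.X1690
open Cfsg.Agent.Helper9.TC2

theorem m2_2877 : allRange 123711 43 (fun u => chkFix tab mwordsA u) = true := by decide +kernel

theorem m2_2878 : allRange 123754 43 (fun u => chkFix tab mwordsA u) = true := by decide +kernel

theorem m2_2879 : allRange 123797 43 (fun u => chkFix tab mwordsA u) = true := by decide +kernel

theorem m2_2880 : allRange 123840 43 (fun u => chkFix tab mwordsA u) = true := by decide +kernel

theorem m2_2881 : allRange 123883 43 (fun u => chkFix tab mwordsA u) = true := by decide +kernel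

theorem m2_2882 : allRange 123926 43 (fun u => chkFix tab mwordsA u) = true := by decide +kernel

theorem m2_2883 : allRange 123969 43 (fun u => chkFix tab mwordsA u) = true := by decide +kernel

theorem m2_2884 : allRange 124012 43 (fun u => chkFix tab mwordsA u) = true := by decide +kernel

theorem m2_2885 : allRange 124055 43 (fun u => chkFix tab mwordsA u) = true := by decide +kernel

theorem m2_2886 : allRange 124098 43 (fun u => chkFix tab mwordsA u) = true := by decide +kernel


end Cfsg.Agent.Helper9.TCData.X1690
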