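import Cfsg.Agent.Lib.Helper9.TCData.X1690.Main

set_option autoImplicit false
set_option maxRecDepth 1000000

namespace Cfsg.Agent.Helper9.TCData.X1690
open Cfsg.Agent.Helper9.TC2

theorem m2_2997 : allRange 128871 43 (fun u => chkFix tab mwordsA u) = true := by decide +kernel

theorem m2_2998 : allRange 128914 43 (fun u => chkFix tab mwordsA u) = true := by decide +kernel

theorem m2_2999 : allRange 128957 43 (fun u => chkFix tab mwordsA u) = true := by decide +kernel

theorem m2_3000 : allRange 129000 43 (fun u => chkFix tab mwordsA u) = true := by decide +kernel

theorem m2_3001 : allRange 129043 43 (fun u => chkFix tab mwordsA u) = true := by decide +kernel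

theorem m2_3002 : allRange 129086 43 (fun u => chkFix tab mwordsA u) = true := by decide +kernel

theorem m2_3003 : allRange 129129 43 (fun u => chkFix tab mwordsA u) = true := by decide +kernel

theorem m2_3004 : allRange 129172 43 (fun u => chkFix tab mwordsA u) = true := by decide +kernel

theorem m2_3005 : allRange 129215 43 (fun u => chkFix tab mwordsA u) = true := by decide +kernel

theorem m2_3006 : allRange 129258 43 (fun u => chkFix tab mwordsA u) = true := by decide +kernel


end Cfsg.Agent.Helper9.TCData.X1690
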