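import Cfsg.Agent.Lib.Helper9.TCData.X1690.Main

set_option autoImplicit false
set_option maxRecDepth 1000000

namespace Cfsg.Agent.Helper9.TCData.X1690
open Cfsg.Agent.Helper9.TC2

theorem m2_3117 : allRange 134031 43 (fun u => chkFix tab mwordsA u) = true := by decide +kernel

theorem m2_3118 : allRange 134074 43 (fun u => chkFix tab mwordsA u) = true := by decide +kernel

theorem m2_3119 : allRange 134117 43 (fun u => chkFix tab mwordsA u) = true := by decide +kernel

theorem m2_3120 : allRange 134160 43 (fun u => chkFix tab mwordsA u) = true := by decide +kernel

theorem m2_3121 : allRange 134203 43 (fun u => chkFix tab mwordsA u) = true := by decide +kernel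

theorem m2_3122 : allRange 134246 43 (fun u => chkFix tab mwordsA u) = true := by decide +kernel

theorem m2_3123 : allRange 134289 43 (fun u => chkFix tab mwordsA u) = true := by decide +kernel

theorem m2_3124 : allRange 134332 43 (fun u => chkFix tab mwordsA u) = true := by decide +kernel

theorem m2_3125 : allRange 134375 43 (fun u => chkFix tab mwordsA u) = true := by decide +kernel

theorem m2_3126 : allRange 134418 43 (fun u => chkFix tab mwordsA u) = true := by decide +kernel


end Cfsg.Agent.Helper9.TCData.X1690
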