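import Cfsg.Agent.Lib.Helper9.TCData.X1690.Main

set_option autoImplicit false
set_option maxRecDepth 1000000

namespace Cfsg.Agent.Helper9.TCData.X1690
open Cfsg.Agent.Helper9.TC2

theorem m2_3237 : allRange 139191 43 (fun u => chkFix tab mwordsA u) = true := by decide +kernel

theorem m2_3238 : allRange 139234 43 (fun u => chkFix tab mwordsA u) = true := by decide +kernel

theorem m2_3239 : allRange 139277 43 (fun u => chkFix tab mwordsA u) = true := by decide +kernel

theorem m2_3240 : allRange 139320 43 (fun u => chkFix tab mwordsA u) = true := by decide +kernel

theorem m2_3241 : allRange 139363 43 (fun u => chkFix tab mwordsA u) = true := by decide +kernel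

theorem m2_3242 : allRange 139406 43 (fun u => chkFix tab mwordsA u) = true := by decide +kernel

theorem m2_3243 : allRange 139449 43 (fun u => chkFix tab mwordsA u) = true := by decide +kernel

theorem m2_3244 : allRange 139492 43 (fun u => chkFix tab mwordsA u) = true := by decide +kernel

theorem m2_3245 : allRange 139535 43 (fun u => chkFix tab mwordsA u) = true := by decide +kernel

theorem m2_3246 : allRange 139578 43 (fun u => chkFix tab mwordsA u) = true := by decide +kernel


end Cfsg.Agent.Helper9.TCData.X1690
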