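import Cfsg.Agent.Lib.Helper9.TCData.X1690.Main

set_option autoImplicit false
set_option maxRecDepth 1000000

namespace Cfsg.Agent.Helper9.TCData.X1690
open Cfsg.Agent.Helper9.TC2

theorem m2_3357 : allRange 144351 43 (fun u => chkFix tab mwordsA u) = true := by decide +kernel

theorem m2_3358 : allRange 144394 43 (fun u => chkFix tab mwordsA u) = true := by decide +kernel

theorem m2_3359 : allRange 144437 43 (fun u => chkFix tab mwordsA u) = true := by decide +kernel

theorem m2_3360 : allRange 144480 43 (fun u => chkFix tab mwordsA u) = true := by decide +kernel

theorem m2_3361 : allRange 144523 43 (fun u => chkFix tab mwordsA u) = true := by decide +kernel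

theorem m2_3362 : allRange 144566 43 (fun u => chkFix tab mwordsA u) = true := by decide +kernel

theorem m2_3363 : allRange 144609 43 (fun u => chkFix tab mwordsA u) = true := by decide +kernel

theorem m2_3364 : allRange 144652 43 (fun u => chkFix tab mwordsA u) = true := by decide +kernel

theorem m2_3365 : allRange 144695 43 (fun u => chkFix tab mwordsA u) = true := by decide +kernel

theorem m2_3366 : allRange 144738 43 (fun u => chkFix tab mwordsA u) = true := by decide +kernel


end Cfsg.Agent.Helper9.TCData.X1690
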