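import Cfsg.Agent.Lib.Helper9.TCData.X1690.Main

set_option autoImplicit false
set_option maxRecDepth 1000000

namespace Cfsg.Agent.Helper9.TCData.X1690
open Cfsg.Agent.Helper9.TC2

theorem m2_3477 : allRange 149511 43 (fun u => chkFix tab mwordsA u) = true := by decide +kernel

theorem m2_3478 : allRange 149554 43 (fun u => chkFix tab mwordsA u) = true := by decide +kernel

theorem m2_3479 : allRange 149597 43 (fun u => chkFix tab mwordsA u) = true := by decide +kernel

theorem m2_3480 : allRange 149640 43 (fun u => chkFix tab mwordsA u) = true := by decide +kernel

theorem m2_3481 : allRange 149683 43 (fun u => chkFix tab mwordsA u) = true := by decide +kernel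

theorem m2_3482 : allRange 149726 43 (fun u => chkFix tab mwordsA u) = true := by decide +kernel

theorem m2_3483 : allRange 149769 43 (fun u => chkFix tab mwordsA u) = true := by decide +kernel

theorem m2_3484 : allRange 149812 43 (fun u => chkFix tab mwordsA u) = true := by decide +kernel

theorem m2_3485 : allRange 149855 43 (fun u => chkFix tab mwordsA u) = true := by decide +kernel

theorem m2_3486 : allRange 149898 43 (fun u => chkFix tab mwordsA u) = true := by decide +kernel


end Cfsg.Agent.Helper9.TCData.X1690
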