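import Cfsg.Agent.Lib.Helper9.TCData.X1690.Main

set_option autoImplicit false
set_option maxRecDepth 1000000

namespace Cfsg.Agent.Helper9.TCData.X1690
open Cfsg.Agent.Helper9.TC2

theorem m2_3597 : allRange 154671 43 (fun u => chkFix tab mwordsA u) = true := by decide +kernel

theorem m2_3598 : allRange 154714 43 (fun u => chkFix tab mwordsA u) = true := by decide +kernel

theorem m2_3599 : allRange 154757 43 (fun u => chkFix tab mwordsA u) = true := by decide +kernel

theorem m2_3600 : allRange 154800 43 (fun u => chkFix tab mwordsA u) = true := by decide +kernel

theorem m2_3601 : allRange 154843 43 (fun u => chkFix tab mwordsA u) = true := by decide +kernel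

theorem m2_3602 : allRange 154886 43 (fun u => chkFix tab mwordsA u) = true := by decide +kernel

theorem m2_3603 : allRange 154929 43 (fun u => chkFix tab mwordsA u) = true := by decide +kernel

theorem m2_3604 : allRange 154972 43 (fun u => chkFix tab mwordsA u) = true := by decide +kernel

theorem m2_3605 : allRange 155015 43 (fun u => chkFix tab mwordsA u) = true := by decide +kernel

theorem m2_3606 : allRange 155058 43 (fun u => chkFix tab mwordsA u) = true := by decide +kernel


end Cfsg.Agent.Helper9.TCData.X1690
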