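import Cfsg.Agent.Lib.Helper9.TCData.X1690.Main

set_option autoImplicit false
set_option maxRecDepth 1000000

namespace Cfsg.Agent.Helper9.TCData.X1690
open Cfsg.Agent.Helper9.TC2

theorem e5_7 : allRange 15672 2205 (fun u => chkE tab 5 u) = true := by decide +kernel

theorem e5_8 : allRange 17877 2201 (fun u => chkE tab 5 u) = true := by decide +kernel

theorem e5_9 : allRange 20078 2230 (fun u => chkE tab 5 u) = true := by decide +kernel

theorem e5_10 : allRange 22308 2221 (fun u => chkE tab 5 u) = true := by decide +kernel

theorem e5_11 : allRange 24529 2311 (fun u => chkE tab 5 u) = true := by decide +kernel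

theorem e5_12 : allRange 26840 2252 (fun u => chkE tab 5 u) = true := by decide +kernel

theorem e5_13 : allRange 29092 2231 (fun u => chkE tab 5 u) = true := by decide +kernel

theorem e5_14 : allRange 31323 2290 (fun u => chkE tab 5 u) = true := by decide +kernel

theorem e5_15 : allRange 33613 2363 (fun u => chkE tab 5 u) = true := by decide +kernel

theorem e5_16 : allRange 35976 2300 (fun u => chkE tab 5 u) = true := by decide +kernel


end Cfsg.Agent.Helper9.TCData.X1690
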