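import Cfsg.Agent.Lib.Helper9.TCData.X1690.Main

set_option autoImplicit false
set_option maxRecDepth 1000000

namespace Cfsg.Agent.Helper9.TCData.X1690
open Cfsg.Agent.Helper9.TC2

theorem m2_3717 : allRange 159831 43 (fun u => chkFix tab mwordsA u) = true := by decide +kernel

theorem m2_3718 : allRange 159874 43 (fun u => chkFix tab mwordsA u) = true := by decide +kernel

theorem m2_3719 : allRange 159917 43 (fun u => chkFix tab mwordsA u) = true := by decide +kernel

theorem m2_3720 : allRange 159960 43 (fun u => chkFix tab mwordsA u) = true := by decide +kernel

theorem m2_3721 : allRange 160003 43 (fun u => chkFix tab mwordsA u) = true := by decide +kernel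

theorem m2_3722 : allRange 160046 43 (fun u => chkFix tab mwordsA u) = true := by decide +kernel

theorem m2_3723 : allRange 160089 43 (fun u => chkFix tab mwordsA u) = true := by decide +kernel

theorem m2_3724 : allRange 160132 43 (fun u => chkFix tab mwordsA u) = true := by decide +kernel

theorem m2_3725 : allRange 160175 43 (fun u => chkFix tab mwordsA u) = true := by decide +kernel

theorem m2_3726 : allRange 160218 43 (fun u => chkFix tab mwordsA u) = true := by decide +kernel


end Cfsg.Agent.Helper9.TCData.X1690
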