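import Cfsg.Agent.Lib.Helper9.TCData.X1690.Main

set_option autoImplicit false
set_option maxRecDepth 1000000

namespace Cfsg.Agent.Helper9.TCData.X1690
open Cfsg.Agent.Helper9.TC2

theorem m2_3837 : allRange 164991 43 (fun u => chkFix tab mwordsA u) = true := by decide +kernel

theorem m2_3838 : allRange 165034 43 (fun u => chkFix tab mwordsA u) = true := by decide +kernel

theorem m2_3839 : allRange 165077 43 (fun u => chkFix tab mwordsA u) = true := by decide +kernel

theorem m2_3840 : allRange 165120 43 (fun u => chkFix tab mwordsA u) = true := by decide +kernel

theorem m2_3841 : allRange 165163 43 (fun u => chkFix tab mwordsA u) = true := by decide +kernel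

theorem m2_3842 : allRange 165206 43 (fun u => chkFix tab mwordsA u) = true := by decide +kernel

theorem m2_3843 : allRange 165249 43 (fun u => chkFix tab mwordsA u) = true := by decide +kernel

theorem m2_3844 : allRange 165292 43 (fun u => chkFix tab mwordsA u) = true := by decide +kernel

theorem m2_3845 : allRange 165335 43 (fun u => chkFix tab mwordsA u) = true := by decide +kernel

theorem m2_3846 : allRange 165378 43 (fun u => chkFix tab mwordsA u) = true := by decide +kernel


end Cfsg.Agent.Helper9.TCData.X1690
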