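import Cfsg.Agent.Lib.Helper9.TCData.X1690.Main

set_option autoImplicit false
set_option maxRecDepth 1000000

namespace Cfsg.Agent.Helper9.TCData.X1690
open Cfsg.Agent.Helper9.TC2

theorem m2_4077 : allRange 175311 43 (fun u => chkFix tab mwordsA u) = true := by decide +kernel

theorem m2_4078 : allRange 175354 43 (fun u => chkFix tab mwordsA u) = true := by decide +kernel

theorem m2_4079 : allRange 175397 43 (fun u => chkFix tab mwordsA u) = true := by decide +kernel

theorem m2_4080 : allRange 175440 43 (fun u => chkFix tab mwordsA u) = true := by decide +kernel

theorem m2_4081 : allRange 175483 43 (fun u => chkFix tab mwordsA u) = true := by decide +kernel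

theorem m2_4082 : allRange 175526 43 (fun u => chkFix tab mwordsA u) = true := by decide +kernel

theorem m2_4083 : allRange 175569 43 (fun u => chkFix tab mwordsA u) = true := by decide +kernel

theorem m2_4084 : allRange 175612 43 (fun u => chkFix tab mwordsA u) = true := by decide +kernel

theorem m2_4085 : allRange 175655 43 (fun u => chkFix tab mwordsA u) = true := by decide +kernel

theorem m2_4086 : allRange 175698 43 (fun u => chkFix tab mwordsA u) = true := by decide +kernel


end Cfsg.Agent.Helper9.TCData.X1690
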