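import Cfsg.Agent.Lib.Helper9.TCData.X1690.Main

set_option autoImplicit false
set_option maxRecDepth 1000000

namespace Cfsg.Agent.Helper9.TCData.X1690
open Cfsg.Agent.Helper9.TC2

theorem m2_4197 : allRange 180471 43 (fun u => chkFix tab mwordsA u) = true := by decide +kernel

theorem m2_4198 : allRange 180514 43 (fun u => chkFix tab mwordsA u) = true := by decide +kernel

theorem m2_4199 : allRange 180557 43 (fun u => chkFix tab mwordsA u) = true := by decide +kernel

theorem m2_4200 : allRange 180600 43 (fun u => chkFix tab mwordsA u) = true := by decide +kernel

theorem m2_4201 : allRange 180643 43 (fun u => chkFix tab mwordsA u) = true := by decide +kernel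

theorem m2_4202 : allRange 180686 43 (fun u => chkFix tab mwordsA u) = true := by decide +kernel

theorem m2_4203 : allRange 180729 43 (fun u => chkFix tab mwordsA u) = true := by decide +kernel

theorem m2_4204 : allRange 180772 43 (fun u => chkFix tab mwordsA u) = true := by decide +kernel

theorem m2_4205 : allRange 180815 43 (fun u => chkFix tab mwordsA u) = true := by decide +kernel

theorem m2_4206 : allRange 180858 43 (fun u => chkFix tab mwordsA u) = true := by decide +kernel


end Cfsg.Agent.Helper9.TCData.X1690
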