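import Cfsg.Agent.Lib.Helper9.TCData.X1690.Main

set_option autoImplicit false
set_option maxRecDepth 1000000

namespace Cfsg.Agent.Helper9.TCData.X1690
open Cfsg.Agent.Helper9.TC2

theorem m2_4317 : allRange 185631 43 (fun u => chkFix tab mwordsA u) = true := by decide +kernel

theorem m2_4318 : allRange 185674 43 (fun u => chkFix tab mwordsA u) = true := by decide +kernel

theorem m2_4319 : allRange 185717 43 (fun u => chkFix tab mwordsA u) = true := by decide +kernel

theorem m2_4320 : allRange 185760 43 (fun u => chkFix tab mwordsA u) = true := by decide +kernel

theorem m2_4321 : allRange 185803 43 (fun u => chkFix tab mwordsA u) = true := by decide +kernel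

theorem m2_4322 : allRange 185846 43 (fun u => chkFix tab mwordsA u) = true := by decide +kernel

theorem m2_4323 : allRange 185889 43 (fun u => chkFix tab mwordsA u) = true := by decide +kernel

theorem m2_4324 : allRange 185932 43 (fun u => chkFix tab mwordsA u) = true := by decide +kernel

theorem m2_4325 : allRange 185975 43 (fun u => chkFix tab mwordsA u) = true := by decide +kernel

theorem m2_4326 : allRange 186018 43 (fun u => chkFix tab mwordsA u) = true := by decide +kernel


end Cfsg.Agent.Helper9.TCData.X1690
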