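import Cfsg.Agent.Lib.Helper9.TCData.X1690.Main

set_option autoImplicit false
set_option maxRecDepth 1000000

namespace Cfsg.Agent.Helper9.TCData.X1690
open Cfsg.Agent.Helper9.TC2

theorem m2_4437 : allRange 190791 43 (fun u => chkFix tab mwordsA u) = true := by decide +kernel

theorem m2_4438 : allRange 190834 43 (fun u => chkFix tab mwordsA u) = true := by decide +kernel

theorem m2_4439 : allRange 190877 43 (fun u => chkFix tab mwordsA u) = true := by decide +kernel

theorem m2_4440 : allRange 190920 43 (fun u => chkFix tab mwordsA u) = true := by decide +kernel

theorem m2_4441 : allRange 190963 43 (fun u => chkFix tab mwordsA u) = true := by decide +kernel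

theorem m2_4442 : allRange 191006 43 (fun u => chkFix tab mwordsA u) = true := by decide +kernel

theorem m2_4443 : allRange 191049 43 (fun u => chkFix tab mwordsA u) = true := by decide +kernel

theorem m2_4444 : allRange 191092 43 (fun u => chkFix tab mwordsA u) = true := by decide +kernel

theorem m2_4445 : allRange 191135 43 (fun u => chkFix tab mwordsA u) = true := by decide +kernel

theorem m2_4446 : allRange 191178 43 (fun u => chkFix tab mwordsA u) = true := by decide +kernel


end Cfsg.Agent.Helper9.TCData.X1690
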