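import Cfsg.Agent.Lib.Helper9.TCData.X1690.Main

set_option autoImplicit false
set_option maxRecDepth 1000000

namespace Cfsg.Agent.Helper9.TCData.X1690
open Cfsg.Agent.Helper9.TC2

theorem m2_4557 : allRange 195951 43 (fun u => chkFix tab mwordsA u) = true := by decide +kernel

theorem m2_4558 : allRange 195994 43 (fun u => chkFix tab mwordsA u) = true := by decide +kernel

theorem m2_4559 : allRange 196037 43 (fun u => chkFix tab mwordsA u) = true := by decide +kernel

theorem m2_4560 : allRange 196080 43 (fun u => chkFix tab mwordsA u) = true := by decide +kernel

theorem m2_4561 : allRange 196123 43 (fun u => chkFix tab mwordsA u) = true := by decide +kernel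

theorem m2_4562 : allRange 196166 43 (fun u => chkFix tab mwordsA u) = true := by decide +kernel

theorem m2_4563 : allRange 196209 43 (fun u => chkFix tab mwordsA u) = true := by decide +kernel

theorem m2_4564 : allRange 196252 43 (fun u => chkFix tab mwordsA u) = true := by decide +kernel

theorem m2_4565 : allRange 196295 43 (fun u => chkFix tab mwordsA u) = true := by decide +kernel

theorem m2_4566 : allRange 196338 43 (fun u => chkFix tab mwordsA u) = true := by decide +kernel


end Cfsg.Agent.Helper9.TCData.X1690
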