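import Cfsg.Agent.Lib.Helper9.TCData.X1690.Main

set_option autoImplicit false
set_option maxRecDepth 1000000

namespace Cfsg.Agent.Helper9.TCData.X1690
open Cfsg.Agent.Helper9.TC2

theorem m2_4677 : allRange 201111 43 (fun u => chkFix tab mwordsA u) = true := by decide +kernel

theorem m2_4678 : allRange 201154 43 (fun u => chkFix tab mwordsA u) = true := by decide +kernel

theorem m2_4679 : allRange 201197 43 (fun u => chkFix tab mwordsA u) = true := by decide +kernel

theorem m2_4680 : allRange 201240 43 (fun u => chkFix tab mwordsA u) = true := by decide +kernel

theorem m2_4681 : allRange 201283 43 (fun u => chkFix tab mwordsA u) = true := by decide +kernel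

theorem m2_4682 : allRange 201326 43 (fun u => chkFix tab mwordsA u) = true := by decide +kernel

theorem m2_4683 : allRange 201369 43 (fun u => chkFix tab mwordsA u) = true := by decide +kernel

theorem m2_4684 : allRange 201412 43 (fun u => chkFix tab mwordsA u) = true := by decide +kernel

theorem m2_4685 : allRange 201455 43 (fun u => chkFix tab mwordsA u) = true := by decide +kernel

theorem m2_4686 : allRange 201498 43 (fun u => chkFix tab mwordsA u) = true := by decide +kernel


end Cfsg.Agent.Helper9.TCData.X1690
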