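import Cfsg.Agent.Lib.Helper9.TCData.X1690.Main

set_option autoImplicit false
set_option maxRecDepth 1000000

namespace Cfsg.Agent.Helper9.TCData.X1690
open Cfsg.Agent.Helper9.TC2

theorem m2_4797 : allRange 206271 43 (fun u => chkFix tab mwordsA u) = true := by decide +kernel

theorem m2_4798 : allRange 206314 43 (fun u => chkFix tab mwordsA u) = true := by decide +kernel

theorem m2_4799 : allRange 206357 43 (fun u => chkFix tab mwordsA u) = true := by decide +kernel

theorem m2_4800 : allRange 206400 43 (fun u => chkFix tab mwordsA u) = true := by decide +kernel

theorem m2_4801 : allRange 206443 43 (fun u => chkFix tab mwordsA u) = true := by decide +kernel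

theorem m2_4802 : allRange 206486 43 (fun u => chkFix tab mwordsA u) = true := by decide +kernel

theorem m2_4803 : allRange 206529 43 (fun u => chkFix tab mwordsA u) = true := by decide +kernel

theorem m2_4804 : allRange 206572 43 (fun u => chkFix tab mwordsA u) = true := by decide +kernel

theorem m2_4805 : allRange 206615 43 (fun u => chkFix tab mwordsA u) = true := by decide +kernel

theorem m2_4806 : allRange 206658 43 (fun u => chkFix tab mwordsA u) = true := by decide +kernel


end Cfsg.Agent.Helper9.TCData.X1690
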