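import Cfsg.Agent.Lib.Helper9.TCData.X1690.Main

set_option autoImplicit false
set_option maxRecDepth 1000000

namespace Cfsg.Agent.Helper9.TCData.X1690
open Cfsg.Agent.Helper9.TC2

theorem e5_127 : allRange 334953 3038 (fun u => chkE tab 5 u) = true := by decide +kernel

theorem e5_128 : allRange 337991 2712 (fun u => chkE tab 5 u) = true := by decide +kernel

theorem e5_129 : allRange 340703 2586 (fun u => chkE tab 5 u) = true := by decide +kernel

theorem e5_130 : allRange 343289 2531 (fun u => chkE tab 5 u) = true := by decide +kernel

theorem e5_131 : allRange 345820 2528 (fun u => chkE tab 5 u) = true := by decide +kernel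

theorem e5_132 : allRange 348348 2524 (fun u => chkE tab 5 u) = true := by decide +kernel

theorem e5_133 : allRange 350872 2272 (fun u => chkE tab 5 u) = true := by decide +kernel

theorem e5_134 : allRange 353144 2328 (fun u => chkE tab 5 u) = true := by decide +kernel

theorem e5_135 : allRange 355472 2790 (fun u => chkE tab 5 u) = true := by decide +kernel

theorem e5_136 : allRange 358262 2753 (fun u => chkE tab 5 u) = true := by decide +kernel


end Cfsg.Agent.Helper9.TCData.X1690
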