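import Cfsg.Agent.Lib.Helper9.TCData.X1690.Main

set_option autoImplicit false
set_option maxRecDepth 1000000

namespace Cfsg.Agent.Helper9.TCData.X1690
open Cfsg.Agent.Helper9.TC2

theorem m2_5037 : allRange 216591 43 (fun u => chkFix tab mwordsA u) = true := by decide +kernel

theorem m2_5038 : allRange 216634 43 (fun u => chkFix tab mwordsA u) = true := by decide +kernel

theorem m2_5039 : allRange 216677 43 (fun u => chkFix tab mwordsA u) = true := by decide +kernel

theorem m2_5040 : allRange 216720 43 (fun u => chkFix tab mwordsA u) = true := by decide +kernel

theorem m2_5041 : allRange 216763 43 (fun u => chkFix tab mwordsA u) = true := by decide +kernel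

theorem m2_5042 : allRange 216806 43 (fun u => chkFix tab mwordsA u) = true := by decide +kernel

theorem m2_5043 : allRange 216849 43 (fun u => chkFix tab mwordsA u) = true := by decide +kernel

theorem m2_5044 : allRange 216892 43 (fun u => chkFix tab mwordsA u) = true := by decide +kernel

theorem m2_5045 : allRange 216935 43 (fun u => chkFix tab mwordsA u) = true := by decide +kernel

theorem m2_5046 : allRange 216978 43 (fun u => chkFix tab mwordsA u) = true := by decide +kernel


end Cfsg.Agent.Helper9.TCData.X1690
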