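import Cfsg.Agent.Lib.Helper9.TCData.X1690.Main

set_option autoImplicit false
set_option maxRecDepth 1000000

namespace Cfsg.Agent.Helper9.TCData.X1690
open Cfsg.Agent.Helper9.TC2

theorem m2_5157 : allRange 221751 43 (fun u => chkFix tab mwordsA u) = true := by decide +kernel

theorem m2_5158 : allRange 221794 43 (fun u => chkFix tab mwordsA u) = true := by decide +kernel

theorem m2_5159 : allRange 221837 43 (fun u => chkFix tab mwordsA u) = true := by decide +kernel

theorem m2_5160 : allRange 221880 43 (fun u => chkFix tab mwordsA u) = true := by decide +kernel

theorem m2_5161 : allRange 221923 43 (fun u => chkFix tab mwordsA u) = true := by decide +kernel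

theorem m2_5162 : allRange 221966 43 (fun u => chkFix tab mwordsA u) = true := by decide +kernel

theorem m2_5163 : allRange 222009 43 (fun u => chkFix tab mwordsA u) = true := by decide +kernel

theorem m2_5164 : allRange 222052 43 (fun u => chkFix tab mwordsA u) = true := by decide +kernel

theorem m2_5165 : allRange 222095 43 (fun u => chkFix tab mwordsA u) = true := by decide +kernel

theorem m2_5166 : allRange 222138 43 (fun u => chkFix tab mwordsA u) = true := by decide +kernel


end Cfsg.Agent.Helper9.TCData.X1690
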