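import Cfsg.Agent.Lib.Helper9.TCData.X1690.Main

set_option autoImplicit false
set_option maxRecDepth 1000000

namespace Cfsg.Agent.Helper9.TCData.X1690
open Cfsg.Agent.Helper9.TC2

theorem m2_5277 : allRange 226911 43 (fun u => chkFix tab mwordsA u) = true := by decide +kernel

theorem m2_5278 : allRange 226954 43 (fun u => chkFix tab mwordsA u) = true := by decide +kernel

theorem m2_5279 : allRange 226997 43 (fun u => chkFix tab mwordsA u) = true := by decide +kernel

theorem m2_5280 : allRange 227040 43 (fun u => chkFix tab mwordsA u) = true := by decide +kernel

theorem m2_5281 : allRange 227083 43 (fun u => chkFix tab mwordsA u) = true := by decide +kernel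

theorem m2_5282 : allRange 227126 43 (fun u => chkFix tab mwordsA u) = true := by decide +kernel

theorem m2_5283 : allRange 227169 43 (fun u => chkFix tab mwordsA u) = true := by decide +kernel

theorem m2_5284 : allRange 227212 43 (fun u => chkFix tab mwordsA u) = true := by decide +kernel

theorem m2_5285 : allRange 227255 43 (fun u => chkFix tab mwordsA u) = true := by decide +kernel

theorem m2_5286 : allRange 227298 43 (fun u => chkFix tab mwordsA u) = true := by decide +kernel


end Cfsg.Agent.Helper9.TCData.X1690
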